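import Cfsg.Agent.Classical.Aschbacher.Intertwine

/-! The restriction of an irreducible group to a normalised subgroup: blocks and types. -/

set_option autoImplicit false
set_option linter.unusedSimpArgs false
set_option linter.unusedSectionVars false
set_option linter.style.haveILetI false

namespace Cfsg.Lib.Classical.Aschbacher

open Matrix Cfsg.Geo
open scoped MatrixGroups Kronecker
open Cfsg.Lib.Classical.PrimeDim (Normalises Invariant irreducible_iff finrank_pi_card inv_mulVec_mulVec
  mulVec_inv_mulVec)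

universe u

variable {ι : Type} [Fintype ι] [DecidableEq ι] {F : Type u} [Field F]

/-- Mutually inverse matrices between two coordinate systems. -/
structure Coords {κ : Type} [Fintype κ] [DecidableEq κ] (Φ : Matrix ι κ F) (Ψ : Matrix κ ι F) : Prop where
  left : Φ * Ψ = 1
  right : Ψ * Φ = 1

namespace Coords

variable {κ : Type} [Fintype κ] [DecidableEq κ] {Φ : Matrix ι κ F} {Ψ : Matrix κ ι F}

/-- The linear equivalence of a change of coordinates. -/
noncomputable def equiv (hc : Coords Φ Ψ) : (κ → F) ≃ₗ[F] (ι → F) :=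
  LinearEquiv.ofLinearMap (Matrix.toLin' Φ) (Matrix.toLin' Ψ) (by rw [← Matrix.toLin'_mul, hc.left, Matrix.toLin'_one])
    (by rw [← Matrix.toLin'_mul, hc.right, Matrix.toLin'_one])

theorem card_eq (hc : Coords Φ Ψ) : Fintype.card κ = Fintype.card ι := by simpa using hc.equiv.finrank_eq

/-- Composition with an invertible matrix. -/
theorem comp {κ' : Type} [Fintype κ'] [DecidableEq κ'] (hc : Coords Φ Ψ) {A : Matrix κ κ' F} {B : Matrix κ' κ F}
    (hab : Coords A B) : Coords (Φ * A) (B * Ψ) where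
  left := by rw [Matrix.mul_assoc, ← Matrix.mul_assoc A B Ψ, hab.left, Matrix.one_mul, hc.left]
  right := by rw [Matrix.mul_assoc, ← Matrix.mul_assoc Ψ Φ A, hc.right, Matrix.one_mul, hab.right]

theorem of_injective {Φ : Matrix ι κ F} (hinj : Function.Injective fun v => Φ *ᵥ v)
    (hcard : Fintype.card κ = Fintype.card ι) : ∃ Ψ, Coords Φ Ψ := by
  have hrange : LinearMap.range (Matrix.toLin' Φ) = ⊤ := by
    refine Submodule.eq_top_of_finrank_eq ?_
    rw [LinearMap.finrank_range_of_inj fun a b h => hinj (by simpa [Matrix.toLin'_apply] using h)]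
    simp [hcard]
  let e : (κ → F) ≃ₗ[F] (ι → F) := LinearEquiv.ofBijective (Matrix.toLin' Φ)
    ⟨fun a b h => hinj (by simpa [Matrix.toLin'_apply] using h), LinearMap.range_eq_top.mp hrange⟩
  refine ⟨LinearMap.toMatrix' e.symm.toLinearMap, ?_, ?_⟩
  · apply Matrix.toLin'.injective
    refine LinearMap.ext fun v => ?_
    rw [Matrix.toLin'_mul, Matrix.toLin'_toMatrix', Matrix.toLin'_one, LinearMap.comp_apply, LinearMap.id_apply]
    exact e.apply_symm_apply v
  · apply Matrix.toLin'.injective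
    refine LinearMap.ext fun v => ?_
    rw [Matrix.toLin'_mul, Matrix.toLin'_toMatrix', Matrix.toLin'_one, LinearMap.comp_apply, LinearMap.id_apply]
    exact e.symm_apply_apply v

end Coords

/-- Blocks for a normalised subgroup: the space is a sum of irreducible translates. -/
structure Blocks (N H : Subgroup (GL ι F)) (d k : ℕ) (Φ : Matrix ι (Fin d × Fin k) F)
    (Ψ : Matrix (Fin d × Fin k) ι F) (ρ : Fin k → N → Matrix (Fin d) (Fin d) F) : Prop where
  coords : Coords Φ Ψ
  acts : ∀ g : N, ((g : GL ι F) : Matrix ι ι F) * Φ = Φ * Matrix.blockDiagonal fun a => ρ a g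
  irr : ∀ a, Irr (ρ a)
  pos : 0 < k

theorem exists_blocks {H N : Subgroup (GL ι F)} [Finite F] [Nonempty ι] (hH : ActsIrreducibly (matrixSet H))
    (hn : Normalises H N) :
    ∃ (d k : ℕ) (Φ : Matrix ι (Fin d × Fin k) F) (Ψ : Matrix (Fin d × Fin k) ι F)
      (ρ : Fin k → N → Matrix (Fin d) (Fin d) F), Blocks N H d k Φ Ψ ρ := by
  classical
  haveI : Finite (Submodule F (ι → F)) := Finite.of_injective _ SetLike.coe_injective
  obtain ⟨U, ⟨hUinv, hU0⟩, hUmin⟩ := (Set.toFinite {W : Submodule F (ι → F) | Invariant N W ∧ W ≠ ⊥}).exists_minimal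
    ⟨⊤, fun _ _ _ _ => Submodule.mem_top, top_ne_bot⟩
  set d := Module.finrank F U with hd
  let b := Module.finBasis F U
  let B : Matrix ι (Fin d) F := Matrix.of fun x i => (b i : ι → F) x
  have hBv : ∀ v, B *ᵥ v = ((b.equivFun.symm v : U) : ι → F) := fun v => by
    funext x
    rw [Module.Basis.equivFun_symm_apply]
    simp [B, Matrix.mulVec, dotProduct, Finset.sum_apply, mul_comm]
    rfl
  have hBU : ∀ v, B *ᵥ v ∈ U := fun v => by rw [hBv]; exact Subtype.coe_prop _
  have hBinj : ∀ v, B *ᵥ v = 0 → v = 0 := fun v hv => by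
    rw [hBv] at hv
    exact b.equivFun.symm.map_eq_zero_iff.mp (Subtype.ext hv)
  have hBsurj : ∀ u ∈ U, ∃ v, B *ᵥ v = u := fun u hu => ⟨b.equivFun ⟨u, hu⟩, by
    rw [hBv, LinearEquiv.symm_apply_apply]⟩
  have hrho : ∀ g : N, ∃ R : Matrix (Fin d) (Fin d) F, ((g : GL ι F) : Matrix ι ι F) * B = B * R := by
    intro g
    choose r hr using fun i => hBsurj _ (hUinv _ g.2 _ (hBU (Pi.single i 1)))
    refine ⟨Matrix.of fun l i => r i l, Matrix.ext fun x i => ?_⟩
    have h := congrFun (hr i) x
    rw [Matrix.mulVec_mulVec, Matrix.mulVec_single_one] at h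
    exact h.symm
  choose ρ₀ hρ₀ using hrho
  have hirr : Irr ρ₀ := by
    refine ⟨⟨⟨0, ?_⟩⟩, fun W hW => ?_⟩
    · rw [hd]; exact Nat.pos_of_ne_zero fun e => hU0 (Submodule.finrank_eq_zero.mp e)
    by_cases h0 : W.map (Matrix.toLin' B) = ⊥
    · refine Or.inl ((Submodule.eq_bot_iff W).mpr fun w hw => hBinj w ?_)
      have := (Submodule.eq_bot_iff _).mp h0 (Matrix.toLin' B w) ⟨w, hw, rfl⟩
      rwa [Matrix.toLin'_apply] at this
    · have hinvW : Invariant N (W.map (Matrix.toLin' B)) := fun g hg x hx => by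
        obtain ⟨w, hw, rfl⟩ := hx
        refine ⟨ρ₀ ⟨g, hg⟩ *ᵥ w, hW _ w hw, ?_⟩
        rw [Matrix.toLin'_apply, Matrix.toLin'_apply, Matrix.mulVec_mulVec, Matrix.mulVec_mulVec,
          ← hρ₀ ⟨g, hg⟩]
      refine Or.inr (Submodule.eq_top_iff'.mpr fun v => ?_)
      obtain ⟨w, hw, he⟩ := hUmin ⟨hinvW, h0⟩ (by
        rintro _ ⟨w, -, rfl⟩; rw [Matrix.toLin'_apply]; exact hBU w) (hBU v)
      rw [Matrix.toLin'_apply] at he
      rwa [← sub_eq_zero.mp (hBinj (w - v) (by rw [Matrix.mulVec_sub, he, sub_self]))]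
  have hρh : ∀ (h : H) (g : N), ∃ R : Matrix (Fin d) (Fin d) F, ((g : GL ι F) : Matrix ι ι F) * (((h : GL ι F) : Matrix ι ι F) * B) =
      (((h : GL ι F) : Matrix ι ι F) * B) * R := fun h g => by
    refine ⟨ρ₀ ⟨(h : GL ι F)⁻¹ * g * h, hn.inv h.2 g.2⟩, ?_⟩
    rw [Matrix.mul_assoc ((h : GL ι F) : Matrix ι ι F) B, ← hρ₀, ← Matrix.mul_assoc, ← Matrix.mul_assoc]
    congr 1
    rw [← Units.val_mul, ← Units.val_mul]
    congr 1
    simp [mul_assoc]
  let Φof : ∀ {k : ℕ}, (Fin k → H) → Matrix ι (Fin d × Fin k) F := fun hs =>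
    Matrix.of fun x p => ((((hs p.2 : H) : GL ι F) : Matrix ι ι F) * B) x p.1
  have hΦv : ∀ {k : ℕ} (hs : Fin k → H) (v : Fin d × Fin k → F),
      Φof hs *ᵥ v = ∑ a, (((hs a : H) : GL ι F) : Matrix ι ι F) *ᵥ (B *ᵥ fun i => v (i, a)) := by
    intro k hs v
    funext x
    simp only [Matrix.mulVec_mulVec, Finset.sum_apply, Φof, Matrix.mulVec, dotProduct, Matrix.of_apply,
      Fintype.sum_prod_type_right]
  have key : ∀ j : ℕ, ∃ (k : ℕ) (hs : Fin k → H), Function.Injective (fun v => Φof hs *ᵥ v) ∧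
      (j ≤ k ∨ LinearMap.range (Matrix.toLin' (Φof hs)) = ⊤) := by
    intro j
    induction j with
    | zero =>
      exact ⟨0, Fin.elim0, fun v w _ => funext fun p => p.2.elim0, Or.inl le_rfl⟩
    | succ j ih =>
      obtain ⟨k, hs, hinj, hk⟩ := ih
      by_cases htop : LinearMap.range (Matrix.toLin' (Φof hs)) = ⊤
      · exact ⟨k, hs, hinj, Or.inr htop⟩
      replace hk := hk.resolve_right htop
      set W := LinearMap.range (Matrix.toLin' (Φof hs))
      have hWinv : Invariant N W := by
        rintro g hg _ ⟨v, rfl⟩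
        rw [Matrix.toLin'_apply, hΦv, Matrix.mulVec_sum]
        refine W.sum_mem fun a _ => ?_
        obtain ⟨R, hR⟩ := hρh (hs a) ⟨g, hg⟩
        simp only [Matrix.mulVec_mulVec] at hR ⊢
        rw [hR]
        refine ⟨fun p => if p.2 = a then (R *ᵥ fun i => v (i, a)) p.1 else 0, ?_⟩
        rw [Matrix.toLin'_apply, hΦv, Finset.sum_eq_single a]
        · simp [Matrix.mulVec_mulVec, Matrix.mul_assoc]
        · intro c _ hc
          rw [show (fun i => (if (i, c).2 = a then (R *ᵥ fun i => v (i, a)) (i, c).1 else 0)) = 0 from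
            funext fun i => if_neg hc]
          simp
        · simp
      obtain ⟨h, hnot⟩ : ∃ h : H, ¬ ∀ u ∈ U, ((h : GL ι F) : Matrix ι ι F) *ᵥ u ∈ W := by
        by_contra hc
        push Not at hc
        let S : Submodule F (ι → F) := ⨆ h : H, U.map (Matrix.toLin' ((h : GL ι F) : Matrix ι ι F))
        have hSW : S ≤ W := iSup_le fun h => by
          rintro _ ⟨u, hu, rfl⟩
          rw [Matrix.toLin'_apply]
          exact hc h u hu
        rcases (irreducible_iff H).mp hH S (fun a ha v hv => by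
            induction hv using Submodule.iSup_induction' with
            | mem i x hx =>
              obtain ⟨y, hy, rfl⟩ := hx
              refine Submodule.mem_iSup_of_mem (⟨a, ha⟩ * i) ⟨y, hy, ?_⟩
              simp [Matrix.toLin'_apply, Matrix.mulVec_mulVec]
            | zero => rw [Matrix.mulVec_zero]; exact zero_mem _
            | add x y _ _ hx hy => rw [Matrix.mulVec_add]; exact add_mem hx hy) with h | h
        · apply hU0
          have h1 := le_iSup (fun h : H => U.map (Matrix.toLin' ((h : GL ι F) : Matrix ι ι F))) 1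
          simp only [OneMemClass.coe_one, Units.val_one, Matrix.toLin'_one, Submodule.map_id] at h1
          exact le_bot_iff.mp (h ▸ h1)
        · exact htop (top_le_iff.mp (h ▸ hSW))
      have hmeet : ∀ u ∈ U, ((h : GL ι F) : Matrix ι ι F) *ᵥ u ∈ W → u = 0 := by
        intro u hu huW
        by_contra hu0
        let X : Submodule F (ι → F) := U ⊓ W.comap (Matrix.toLin' ((h : GL ι F) : Matrix ι ι F))
        have hX : Invariant N X := fun g hg x hx => ⟨hUinv g hg x hx.1, by
          have hgx := hWinv _ (hn h h.2 g hg) _ hx.2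
          simp only [Submodule.mem_comap, SetLike.mem_coe, Matrix.toLin'_apply, Matrix.mulVec_mulVec,
            ← Units.val_mul, inv_mul_cancel_right] at hgx ⊢
          exact hgx⟩
        have hX0 : X ≠ ⊥ := fun e => hu0 ((Submodule.eq_bot_iff X).mp e u ⟨hu, by
          rw [SetLike.mem_coe, Submodule.mem_comap, Matrix.toLin'_apply]; exact huW⟩)
        exact hnot fun w hw => by
          have := (hUmin ⟨hX, hX0⟩ inf_le_left hw).2
          rwa [SetLike.mem_coe, Submodule.mem_comap, Matrix.toLin'_apply] at this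
      refine ⟨k + 1, Fin.cons h hs, fun v w hvw => sub_eq_zero.mp ?_, Or.inl (by omega)⟩
      set z := v - w
      have hz : Φof (Fin.cons h hs) *ᵥ z = 0 := by rw [Matrix.mulVec_sub, sub_eq_zero]; exact hvw
      rw [hΦv, Fin.sum_univ_succ, Fin.cons_zero] at hz
      simp only [Fin.cons_succ] at hz
      rw [← hΦv hs fun p => z (p.1, p.2.succ)] at hz
      have h0 : (fun i => z (i, 0)) = 0 := hBinj _ (hmeet _ (hBU _) (by
        rw [eq_neg_of_add_eq_zero_left hz]
        exact W.neg_mem ⟨_, Matrix.toLin'_apply _ _⟩))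
      rw [h0, Matrix.mulVec_zero, Matrix.mulVec_zero, zero_add] at hz
      have h1 := hinj (hz.trans (Matrix.mulVec_zero _).symm)
      funext p
      obtain ⟨i, a⟩ := p
      refine Fin.cases ?_ (fun a => ?_) a
      · exact congrFun h0 i
      · exact congrFun h1 (i, a)
  obtain ⟨k, hs, hinj, hk⟩ := key (Fintype.card ι + 1)
  have hd0 : 0 < d := by rw [hd]; exact Nat.pos_of_ne_zero fun e => hU0 (Submodule.finrank_eq_zero.mp e)
  have hinj' : Function.Injective (Matrix.toLin' (Φof hs)) := fun a b h =>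
    hinj (by simpa [Matrix.toLin'_apply] using h)
  have hrk := LinearMap.finrank_range_of_inj hinj'
  rw [show Module.finrank F (Fin d × Fin k → F) = d * k by simp] at hrk
  have htop : LinearMap.range (Matrix.toLin' (Φof hs)) = ⊤ := hk.resolve_left fun hle => by
    have h1 := Submodule.finrank_le (LinearMap.range (Matrix.toLin' (Φof hs)))
    rw [hrk, finrank_pi_card] at h1
    have h2 := Nat.le_mul_of_pos_left k hd0
    omega
  rw [htop, finrank_top, finrank_pi_card] at hrk
  obtain ⟨Ψ, hΨ⟩ := Coords.of_injective hinj (by simp [hrk])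
  choose R hR using hρh
  refine ⟨d, k, Φof hs, Ψ, fun a g => R (hs a) g, ⟨hΨ, fun g => Matrix.ext fun x p => ?_, fun a => ?_, ?_⟩⟩
  · obtain ⟨i, a⟩ := p
    have h := congrFun (congrFun (hR (hs a) g) x) i
    simp only [Matrix.mul_apply, Φof, Matrix.of_apply] at h ⊢
    rw [h, Fintype.sum_prod_type]
    simp [Matrix.blockDiagonal_apply, mul_ite]
  · refine ⟨hirr.nonempty, fun W hW => hirr.irr W fun g v hv => ?_⟩
    have h := hW ⟨(hs a : GL ι F) * g * (hs a : GL ι F)⁻¹, hn _ (hs a).2 g g.2⟩ v hv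
    suffices R (hs a) ⟨(hs a : GL ι F) * g * (hs a : GL ι F)⁻¹, hn _ (hs a).2 g g.2⟩ = ρ₀ g by rwa [this] at h
    have e := hR (hs a) ⟨(hs a : GL ι F) * g * (hs a : GL ι F)⁻¹, hn _ (hs a).2 g g.2⟩
    simp only at e
    rw [← Matrix.mul_assoc, ← Units.val_mul, inv_mul_cancel_right, Units.val_mul, Matrix.mul_assoc, hρ₀,
      ← Matrix.mul_assoc] at e
    have e' := congrArg (fun X => (((hs a : GL ι F)⁻¹ : GL ι F) : Matrix ι ι F) * X) e
    simp only [← Matrix.mul_assoc, ← Units.val_mul, inv_mul_cancel, Units.val_one, Matrix.one_mul] at e'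
    refine (Matrix.ext fun l i => ?_)
    have e2 : B *ᵥ (fun l => R (hs a) _ l i) = B *ᵥ (fun l => ρ₀ g l i) := funext fun x =>
      (congrFun (congrFun e' x) i).symm
    exact congrFun (sub_eq_zero.mp (hBinj _ ((Matrix.mulVec_sub _ _ _).trans (sub_eq_zero.mpr e2)))) l
  · rcases Nat.eq_zero_or_pos k with rfl | h
    · exact absurd hrk.symm (by rw [mul_zero]; exact (Fintype.card_ne_zero).symm)
    · exact h

end Cfsg.Lib.Classical.Aschbacher
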