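import Cfsg.Agent.Classical.Aschbacher.Forms

/-! Galois descent along a power of Frobenius. -/

set_option autoImplicit false
set_option linter.unusedSimpArgs false
set_option linter.unusedSectionVars false
set_option linter.style.haveILetI false

namespace Cfsg.Lib.Classical.Aschbacher

open Matrix Cfsg.Geo
open scoped MatrixGroups
open Cfsg.Lib.Classical.PrimeDim (Normalises forall_matrixSet mem_matrixSet powField mem_powField gl_det_ne_zero)

universe u

variable {ι : Type} [Fintype ι] [DecidableEq ι] {F : Type u} [Field F] [Fintype F]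

theorem geom_pred (q : ℕ) (hq : 1 ≤ q) (s : ℕ) : (∑ i ∈ Finset.range s, q ^ i) * (q - 1) = q ^ s - 1 := by
  obtain ⟨r, rfl⟩ : ∃ r, q = r + 1 := ⟨q - 1, by omega⟩
  rw [Nat.add_sub_cancel]
  induction s with
  | zero => simp
  | succ s ih =>
    rw [Finset.sum_range_succ, add_mul, ih, pow_succ]
    have : 1 ≤ (r + 1) ^ s := Nat.one_le_pow _ _ (by omega)
    rw [Nat.mul_succ]
    omega

/-- The norm to a subfield is surjective. -/
theorem exists_norm_eq {q s : ℕ} (hq : 2 ≤ q) (hcard : Fintype.card F = q ^ s) {c : F} (hc : c ≠ 0)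
    (hfix : c ^ q = c) : ∃ a : F, a ^ (∑ i ∈ Finset.range s, q ^ i) = c := by
  obtain ⟨γ, hγ⟩ := IsCyclic.exists_generator (α := Fˣ)
  obtain ⟨k, hk⟩ := mem_powers_iff_mem_zpowers.mpr (hγ (Units.mk0 c hc))
  have hord : orderOf γ = q ^ s - 1 := by
    rw [orderOf_eq_card_of_forall_mem_zpowers hγ, Nat.card_units, Nat.card_eq_fintype_card, hcard]
  have h1 : γ ^ (k * (q - 1)) = 1 := by
    rw [pow_mul]
    refine Units.ext ?_
    show ((γ ^ k) ^ (q - 1) : Fˣ).1 = 1
    rw [show γ ^ k = Units.mk0 c hc from hk, Units.val_pow_eq_pow_val, Units.val_mk0]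
    refine (mul_eq_right₀ hc).mp ?_
    rw [← pow_succ, Nat.sub_add_cancel (by omega : 1 ≤ q), hfix]
  have h2 := orderOf_dvd_of_pow_eq_one h1
  rw [hord, ← geom_pred q (by omega) s] at h2
  obtain ⟨j, hj⟩ := Nat.dvd_of_mul_dvd_mul_right (by omega : 0 < q - 1) h2
  refine ⟨((γ ^ j : Fˣ) : F), ?_⟩
  rw [← Units.val_pow_eq_pow_val, ← pow_mul, mul_comm, ← hj, show γ ^ k = Units.mk0 c hc from hk, Units.val_mk0]

/-- A semilinear map whose `s`-th iterate is the identity has a spanning set of fixed vectors. -/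
theorem mem_span_fixed {p e s : ℕ} [Fact p.Prime] [CharP F p] (he : 0 < e) (hs : 0 < s)
    (hcard : Fintype.card F = p ^ (e * s))
    (T : (ι → F) → (ι → F)) (hadd : ∀ v w, T (v + w) = T v + T w)
    (hsmul : ∀ (a : F) v, T (a • v) = a ^ p ^ e • T v) (hT : ∀ v, T^[s] v = v) (v : ι → F) :
    v ∈ Submodule.span F {w | T w = w} := by
  by_contra hv
  obtain ⟨φ, hφv, hφ⟩ := Submodule.exists_dual_map_eq_bot_of_notMem hv inferInstance
  let u : F → (ι → F) := fun a => ∑ i ∈ Finset.range s, a ^ (p ^ e) ^ i • T^[i] v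
  have hTsum : ∀ (n : ℕ) (f : ℕ → ι → F), T (∑ i ∈ Finset.range n, f i) = ∑ i ∈ Finset.range n, T (f i) := by
    intro n f
    induction n with
    | zero =>
      have := hsmul 0 0
      rw [zero_smul, zero_pow (pow_ne_zero _ (Fact.out : p.Prime).ne_zero), zero_smul] at this
      simpa using this
    | succ n ih => rw [Finset.sum_range_succ, Finset.sum_range_succ, hadd, ih]
  have hfix : ∀ a, T (u a) = u a := fun a => by
    rw [hTsum]
    have h1 : ∀ i, T (a ^ (p ^ e) ^ i • T^[i] v) = a ^ (p ^ e) ^ (i + 1) • T^[i + 1] v := fun i => by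
      rw [hsmul, Function.iterate_succ_apply', ← pow_mul, ← pow_succ]
    simp only [h1]
    obtain ⟨s', rfl⟩ : ∃ s', s = s' + 1 := ⟨s - 1, by omega⟩
    show _ = ∑ i ∈ Finset.range (s' + 1), a ^ (p ^ e) ^ i • T^[i] v
    rw [Finset.sum_range_succ, Finset.sum_range_succ' (fun i => a ^ (p ^ e) ^ i • T^[i] v)]
    congr 1
    rw [pow_zero, pow_one, hT, ← pow_mul, ← hcard, FiniteField.pow_card]
    rfl
  have hzero : ∀ a : F, ∑ i ∈ Finset.range s, φ (T^[i] v) * a ^ (p ^ e) ^ i = 0 := fun a => by
    have : φ (u a) ∈ (Submodule.span F {w | T w = w}).map φ :=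
      Submodule.mem_map_of_mem (Submodule.subset_span (hfix a))
    rw [hφ, Submodule.mem_bot] at this
    rw [← this]
    simp only [u, map_sum, map_smul, smul_eq_mul, mul_comm]
  let P : Polynomial F := ∑ i ∈ Finset.range s, Polynomial.C (φ (T^[i] v)) * Polynomial.X ^ (p ^ e) ^ i
  have hp2 : 2 ≤ p ^ e := le_trans (Fact.out : p.Prime).two_le (Nat.le_self_pow he.ne' p)
  have hdeg : P.natDegree < Fintype.card F := by
    refine lt_of_le_of_lt (Polynomial.natDegree_sum_le_of_forall_le _ _ (n := (p ^ e) ^ (s - 1)) fun i hi =>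
      (Polynomial.natDegree_C_mul_X_pow_le _ _).trans (Nat.pow_le_pow_right (by omega)
        (by rw [Finset.mem_range] at hi; omega))) ?_
    rw [hcard, pow_mul]
    exact Nat.pow_lt_pow_right (by omega) (by omega)
  have hP : P = 0 := Polynomial.eq_zero_of_natDegree_lt_card_of_eval_eq_zero P (f := id) Function.injective_id
    (fun a => by simpa [P, Polynomial.eval_finsetSum] using hzero a) hdeg
  have h0 := congrArg (fun Q => Polynomial.coeff Q 1) hP
  simp only [P, Polynomial.finsetSum_coeff, Polynomial.coeff_C_mul, Polynomial.coeff_X_pow, Polynomial.coeff_zero] at h0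
  rw [Finset.sum_eq_single 0 (fun i _ hi => by
    rw [if_neg (fun e' => by
      have := Nat.one_lt_pow hi (show 1 < p ^ e by omega)
      omega), mul_zero]) (fun h => absurd (Finset.mem_range.mpr hs) h)] at h0
  exact hφv (by simpa using h0)

/-- An absolutely irreducible group equivalent to its Frobenius twist is realisable over the fixed field. -/
theorem realisable_of_twist [Nonempty ι] {p e s : ℕ} [Fact p.Prime] [CharP F p] (he : 0 < e) (hs : 0 < s)
    (hcard : Fintype.card F = p ^ (e * s)) {R : Subgroup (GL ι F)} (hai : ActsAbsolutelyIrreducibly (matrixSet R))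
    (X : GL ι F) (hX : ∀ g ∈ R, (g : Matrix ι ι F).map (· ^ p ^ e) * (X : Matrix ι ι F) =
      (X : Matrix ι ι F) * (g : Matrix ι ι F)) :
    RealisableOver (powField F p e) (matrixSet R) := by
  classical
  let τ : F →+* F := iterateFrobenius F p e
  have hτ : ∀ a, τ a = a ^ p ^ e := fun a => iterateFrobenius_def p e a
  set Xi : Matrix ι ι F := ((X⁻¹ : GL ι F) : Matrix ι ι F) with hXi
  let T : (ι → F) → (ι → F) := fun v => Xi *ᵥ (τ ∘ v)
  have hTadd : ∀ v w, T (v + w) = T v + T w := fun v w => by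
    show Xi *ᵥ (τ ∘ (v + w)) = _
    rw [show τ ∘ (v + w) = τ ∘ v + τ ∘ w from funext fun i => map_add τ _ _, Matrix.mulVec_add]
  have hTsmul : ∀ (a : F) v, T (a • v) = a ^ p ^ e • T v := fun a v => by
    show Xi *ᵥ (τ ∘ (a • v)) = _
    rw [show τ ∘ (a • v) = τ a • (τ ∘ v) from funext fun i => map_mul τ _ _, Matrix.mulVec_smul, hτ]
  have hTg : ∀ g ∈ R, ∀ v, T ((g : Matrix ι ι F) *ᵥ v) = (g : Matrix ι ι F) *ᵥ T v := fun g hg v => by
    show Xi *ᵥ (τ ∘ ((g : Matrix ι ι F) *ᵥ v)) = (g : Matrix ι ι F) *ᵥ (Xi *ᵥ (τ ∘ v))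
    rw [show τ ∘ ((g : Matrix ι ι F) *ᵥ v) = (g : Matrix ι ι F).map τ *ᵥ (τ ∘ v) from
      funext fun i => RingHom.map_mulVec τ _ v i, Matrix.mulVec_mulVec, Matrix.mulVec_mulVec]
    congr 1
    have h := hX g hg
    rw [show (g : Matrix ι ι F).map (fun a => a ^ p ^ e) = (g : Matrix ι ι F).map τ from
      Matrix.ext fun i j => (hτ _).symm] at h
    calc Xi * (g : Matrix ι ι F).map τ
        = Xi * (g : Matrix ι ι F).map τ * ((X : Matrix ι ι F) * Xi) := by
          rw [hXi, Cfsg.Lib.Classical.PrimeDim.val_mul_inv, mul_one]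
      _ = Xi * ((g : Matrix ι ι F).map τ * (X : Matrix ι ι F)) * Xi := by simp only [mul_assoc]
      _ = (Xi * (X : Matrix ι ι F)) * (g : Matrix ι ι F) * Xi := by rw [h]; simp only [mul_assoc]
      _ = (g : Matrix ι ι F) * Xi := by rw [hXi, Cfsg.Lib.Classical.PrimeDim.val_inv_mul, one_mul]
  have hTinj : Function.Injective T := fun v w h => by
    have h1 := congrArg (fun z => (X : Matrix ι ι F) *ᵥ z) h
    simp only [T, hXi, Matrix.mulVec_mulVec, ← Units.val_mul, mul_inv_cancel, Units.val_one, Matrix.one_mulVec] at h1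
    exact funext fun i => τ.injective (congrFun h1 i)
  have hiter_add : ∀ n v w, T^[n] (v + w) = T^[n] v + T^[n] w := fun n => by
    induction n with
    | zero => exact fun v w => rfl
    | succ n ih => intro v w; simp only [Function.iterate_succ_apply', ih, hTadd]
  have hiter_smul : ∀ n (a : F) v, T^[n] (a • v) = a ^ (p ^ e) ^ n • T^[n] v := fun n => by
    induction n with
    | zero => intro a v; simp
    | succ n ih => intro a v; simp only [Function.iterate_succ_apply', ih, hTsmul, ← pow_mul, pow_succ]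
  let L : (ι → F) →ₗ[F] (ι → F) :=
    { toFun := T^[s]
      map_add' := hiter_add s
      map_smul' := fun a v => by rw [hiter_smul, ← pow_mul, ← hcard, FiniteField.pow_card]; rfl }
  obtain ⟨c, hc⟩ := hai.2 (LinearMap.toMatrix' L) (forall_matrixSet.mpr fun g hg => by
    apply Matrix.toLin'.injective
    refine LinearMap.ext fun v => ?_
    rw [Matrix.toLin'_mul, Matrix.toLin'_mul, Matrix.toLin'_toMatrix', LinearMap.comp_apply, LinearMap.comp_apply,
      Matrix.toLin'_apply, Matrix.toLin'_apply]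
    show T^[s] _ = (g : Matrix ι ι F) *ᵥ T^[s] v
    have hgen : ∀ n v, T^[n] ((g : Matrix ι ι F) *ᵥ v) = (g : Matrix ι ι F) *ᵥ T^[n] v := fun n => by
      induction n with
      | zero => exact fun v => rfl
      | succ n ih => intro v; rw [Function.iterate_succ_apply', Function.iterate_succ_apply', ih, hTg g hg]
    exact hgen s v)
  have hL : ∀ v, T^[s] v = c • v := fun v => by
    have : Matrix.toLin' (LinearMap.toMatrix' L) v = Matrix.toLin' (c • (1 : Matrix ι ι F)) v := by rw [hc]
    rwa [Matrix.toLin'_toMatrix', Matrix.toLin'_apply, Matrix.smul_mulVec, Matrix.one_mulVec] at this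
  let v₀ : ι → F := Pi.single (Classical.arbitrary ι) 1
  have hv₀ : v₀ ≠ 0 := fun h => one_ne_zero (α := F) (by simpa [v₀] using congrFun h (Classical.arbitrary ι))
  have hc0 : c ≠ 0 := fun h => hv₀ (hTinj.iterate s (by rw [hL, hL, h, zero_smul, zero_smul]))
  have hcfix : c ^ p ^ e = c := by
    have h1 : T^[s] (T v₀) = T (T^[s] v₀) :=
      (Function.iterate_succ_apply T s v₀).symm.trans (Function.iterate_succ_apply' T s v₀)
    rw [hL, hL, hTsmul] at h1
    have hTv : T v₀ ≠ 0 := fun h => hv₀ (hTinj (h.trans (by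
      have := hTsmul 0 0
      rw [zero_smul, zero_pow (pow_ne_zero _ (Fact.out : p.Prime).ne_zero), zero_smul] at this
      exact this.symm)))
    exact (smul_left_injective F hTv h1).symm
  obtain ⟨a, ha⟩ := exists_norm_eq (le_trans (Fact.out : p.Prime).two_le (Nat.le_self_pow he.ne' p))
    (by rw [hcard, pow_mul]) (inv_ne_zero hc0) (by rw [inv_pow, hcfix])
  let T' : (ι → F) → (ι → F) := fun v => a • T v
  have hT'iter : ∀ n v, T'^[n] v = a ^ (∑ i ∈ Finset.range n, (p ^ e) ^ i) • T^[n] v := fun n => by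
    induction n with
    | zero => intro v; simp
    | succ n ih =>
      intro v
      rw [Function.iterate_succ_apply', ih, Function.iterate_succ_apply' T, Finset.sum_range_succ']
      show a • T (_ • _) = _
      rw [hTsmul, smul_smul, ← pow_mul, pow_zero, pow_succ, mul_comm a, Finset.sum_mul]
      simp only [← pow_succ]
  have hspan : ∀ v, v ∈ Submodule.span F {w | T' w = w} := fun v =>
    mem_span_fixed he hs hcard T' (fun v w => by simp only [T', hTadd, smul_add])
      (fun b v => by simp only [T', hTsmul, smul_smul, mul_comm])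
      (fun v => by rw [hT'iter, ha, hL, smul_smul, inv_mul_cancel₀ hc0, one_smul]) v
  obtain ⟨b, hb, hbspan, hbind⟩ := exists_linearIndependent F {w : ι → F | T' w = w}
  let B0 := Module.Basis.mk hbind (by rw [Subtype.range_coe, hbspan]; exact fun v _ => hspan v)
  haveI : Fintype b := Module.Finite.finite_basis B0 |> fun _ => Fintype.ofFinite b
  let ε : b ≃ ι := Fintype.equivOfCardEq (by
    rw [← Module.finrank_eq_card_basis B0, Module.finrank_pi])
  let B := B0.reindex ε
  have hBfix : ∀ i, T' (B i) = B i := fun i => by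
    have : (B i : ι → F) = ((ε.symm i : b) : ι → F) := by
      simp [B, B0]
    rw [this]
    exact hb (ε.symm i).2
  let M : Matrix ι ι F := Matrix.of fun i j => B j i
  have hM : ∀ w, M *ᵥ w = ∑ j, w j • B j := fun w => funext fun i => by
    simp [M, Matrix.mulVec, dotProduct, mul_comm]
  have hMdet : M.det ≠ 0 := fun h => by
    obtain ⟨w, hw, hw'⟩ := Matrix.exists_mulVec_eq_zero_iff.mpr h
    rw [hM] at hw'
    exact hw (funext fun j => Fintype.linearIndependent_iff.mp B.linearIndependent w hw' j)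
  let G : GL ι F := Matrix.GeneralLinearGroup.mkOfDetNeZero M hMdet
  refine ⟨G⁻¹, forall_matrixSet.mpr fun g hg i j => mem_powField.mpr ?_⟩
  rw [inv_inv]
  set N := ((G⁻¹ : GL ι F) : Matrix ι ι F) * (g : Matrix ι ι F) * (G : Matrix ι ι F)
  have hcol : (g : Matrix ι ι F) *ᵥ B j = ∑ k, N k j • B k := by
    have h1 : M *ᵥ (N *ᵥ Pi.single j 1) = (g : Matrix ι ι F) *ᵥ (M *ᵥ Pi.single j 1) := by
      rw [Matrix.mulVec_mulVec, Matrix.mulVec_mulVec]
      congr 1
      show (G : Matrix ι ι F) * N = _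
      simp only [N, ← mul_assoc, ← Units.val_mul, mul_inv_cancel, one_mul]
      rfl
    rw [Matrix.mulVec_single_one, hM, Matrix.mulVec_single_one] at h1
    exact h1.symm
  have h2 := congrArg T' hcol
  rw [show T' ((g : Matrix ι ι F) *ᵥ B j) = (g : Matrix ι ι F) *ᵥ B j by
    show a • T _ = _
    rw [hTg g hg, ← Matrix.mulVec_smul]; exact congrArg _ (hBfix j)] at h2
  have hT'sum : ∀ (S : Finset ι) (w : ι → F), T' (∑ k ∈ S, w k • B k) = ∑ k ∈ S, w k ^ p ^ e • B k := by
    intro S w
    induction S using Finset.induction_on with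
    | empty =>
      show a • T _ = _
      rw [Finset.sum_empty, Finset.sum_empty, show (0 : ι → F) = (0 : F) • 0 from (zero_smul F _).symm, hTsmul,
        zero_pow (pow_ne_zero _ (Fact.out : p.Prime).ne_zero)]
      simp
    | insert k S hk ih =>
      rw [Finset.sum_insert hk, Finset.sum_insert hk]
      show a • T _ = _
      rw [hTadd, smul_add, hTsmul, smul_comm a, show a • T (B k) = B k from hBfix k]
      congr 1
  rw [hT'sum, hcol] at h2
  have := Fintype.linearIndependent_iff.mp B.linearIndependent (fun k => N k j ^ p ^ e - N k j)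
    (by simp only [sub_smul, Finset.sum_sub_distrib, ← h2, sub_self]) i
  exact sub_eq_zero.mp this

/-- The trace criterion. -/
theorem realisable_of_sum [Nonempty ι] {p e s : ℕ} [Fact p.Prime] [CharP F p] (he : 0 < e) (hs : 0 < s)
    (hcard : Fintype.card F = p ^ (e * s)) {R : Subgroup (GL ι F)} [Fintype R]
    (hai : ActsAbsolutelyIrreducibly (matrixSet R))
    (hsum : ∑ g : R, ((g : GL ι F) : Matrix ι ι F).trace ^ p ^ e *
      (((g : GL ι F)⁻¹ : GL ι F) : Matrix ι ι F).trace ≠ 0) :
    RealisableOver (powField F p e) (matrixSet R) := by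
  classical
  let τ : F →+* F := iterateFrobenius F p e
  have hτ : ∀ a, τ a = a ^ p ^ e := fun a => iterateFrobenius_def p e a
  let avg : Matrix ι ι F → Matrix ι ι F := fun M =>
    ∑ g : R, ((g : GL ι F) : Matrix ι ι F).map τ * M * (((g : GL ι F)⁻¹ : GL ι F) : Matrix ι ι F)
  have hint : ∀ M, ∀ g ∈ R, (g : Matrix ι ι F).map τ * avg M = avg M * (g : Matrix ι ι F) := fun M g hg => by
    simp only [avg, Matrix.mul_sum, Matrix.sum_mul]
    refine Fintype.sum_equiv (Equiv.mulLeft (⟨g, hg⟩ : R)) _ _ fun k => ?_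
    simp only [Equiv.coe_mulLeft, Subgroup.coe_mul, _root_.mul_inv_rev, Units.val_mul, Matrix.map_mul, mul_assoc,
      ← Units.val_mul g⁻¹, inv_mul_cancel, Units.val_one, mul_one]
  obtain ⟨M, hM⟩ : ∃ M, avg M ≠ 0 := by
    by_contra hc
    push Not at hc
    apply hsum
    calc _ = ∑ g : R, ∑ i, ∑ j, τ (((g : GL ι F) : Matrix ι ι F) i i) *
          (((g : GL ι F)⁻¹ : GL ι F) : Matrix ι ι F) j j := Finset.sum_congr rfl fun g _ => by
            rw [← hτ]
            simp only [Matrix.trace, Matrix.diag_apply, map_sum, Finset.sum_mul_sum]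
      _ = ∑ i, ∑ j, avg (Matrix.single i j 1) i j := by
          rw [Finset.sum_comm]
          refine Finset.sum_congr rfl fun i _ => ?_
          rw [Finset.sum_comm]
          refine Finset.sum_congr rfl fun j _ => ?_
          simp only [avg, Matrix.sum_apply]
          refine Finset.sum_congr rfl fun g _ => ?_
          simp [Matrix.mul_apply, Matrix.single_apply, ite_and]
      _ = 0 := by simp [hc]
  have hdet : (avg M).det ≠ 0 := fun h0 => by
    let W : Submodule F (ι → F) := LinearMap.ker (Matrix.toLin' (avg M))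
    rcases hai.1 W (by
      rintro _ ⟨g, hg, rfl⟩ _ ⟨v, hv, rfl⟩
      rw [SetLike.mem_coe, LinearMap.mem_ker, Matrix.toLin'_apply] at hv
      rw [LinearMap.mem_ker, Matrix.toLin'_apply, Matrix.toLin'_apply, Matrix.mulVec_mulVec, ← hint M g hg,
        ← Matrix.mulVec_mulVec, hv, Matrix.mulVec_zero]) with e | e
    · obtain ⟨v, hv, hv'⟩ := Matrix.exists_mulVec_eq_zero_iff.mpr h0
      exact hv ((Submodule.eq_bot_iff W).mp e v (by rw [LinearMap.mem_ker, Matrix.toLin'_apply]; exact hv'))
    · exact hM (Matrix.toLin'.injective (by rw [map_zero]; exact LinearMap.ker_eq_top.mp e))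
  refine realisable_of_twist he hs hcard hai (Matrix.GeneralLinearGroup.mkOfDetNeZero _ hdet) fun g hg => ?_
  rw [show (g : Matrix ι ι F).map (fun a => a ^ p ^ e) = (g : Matrix ι ι F).map τ from
    Matrix.ext fun i j => (hτ _).symm]
  exact hint M g hg

end Cfsg.Lib.Classical.Aschbacher
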