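import Cfsg.Agent.Classical.Aschbacher.Types
import Cfsg.Agent.Classical.PrimeDim.Forms

/-! Groups of isometries of a reflexive sesquilinear form: perpendiculars and Gram matrices in coordinates. -/

set_option autoImplicit false
set_option linter.unusedSimpArgs false
set_option linter.unusedSectionVars false
set_option linter.style.haveILetI false

namespace Cfsg.Lib.Classical.Aschbacher

open Matrix Cfsg.Geo
open scoped MatrixGroups Kronecker
open Cfsg.Lib.Classical.PrimeDim (IsSesq comp_mulVec mem_matrixSet gl_det_ne_zero finrank_pi_card Invariant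
  irreducible_iff mulVec_inv_mulVec inv_mulVec_mulVec val_inv_mul val_mul_inv)

universe u

variable {ι : Type} [Fintype ι] [DecidableEq ι] {F : Type u} [Field F]

/-- A non-degenerate reflexive sesquilinear form: `f v u = ε σ(f u v)`. -/
structure ReflForm (σ : F ≃+* F) (ε : F) (f : (ι → F) → (ι → F) → F) : Prop extends IsSesq σ f where
  inv : ∀ a, σ (σ a) = a
  herm : ∀ u v, f v u = ε * σ (f u v)

/-- The group consists of isometries of the form. -/
def Fixes (f : (ι → F) → (ι → F) → F) (H : Subgroup (GL ι F)) : Prop :=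
  ∀ g ∈ H, ∀ u v, f ((g : Matrix ι ι F) *ᵥ u) ((g : Matrix ι ι F) *ᵥ v) = f u v

theorem Fixes.mono {f : (ι → F) → (ι → F) → F} {H N : Subgroup (GL ι F)} (h : Fixes f H) (hle : N ≤ H) :
    Fixes f N := fun g hg => h g (hle hg)

theorem Fixes.fixesForm {f : (ι → F) → (ι → F) → F} {H : Subgroup (GL ι F)} (h : Fixes f H) :
    FixesForm (matrixSet H) f := Cfsg.Lib.Classical.PrimeDim.forall_matrixSet.mpr h

namespace ReflForm

variable {σ : F ≃+* F} {ε : F} {f : (ι → F) → (ι → F) → F}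

theorem zero_left (hf : ReflForm σ ε f) (v : ι → F) : f 0 v = 0 := by
  simpa using hf.smul_left 0 0 v

theorem zero_right (hf : ReflForm σ ε f) (v : ι → F) : f v 0 = 0 := by
  simpa using hf.smul_right 0 v 0

theorem eq_zero_symm (hf : ReflForm σ ε f) {u v : ι → F} (h : f u v = 0) : f v u = 0 := by
  rw [hf.herm u v, h, map_zero, mul_zero]

theorem left_add (hf : ReflForm σ ε f) (x y v : ι → F) : f (x + y) v = f x v + f y v := hf.add_left x y v

/-- The vectors orthogonal to all of `W`. -/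
def perp (hf : ReflForm σ ε f) (W : Submodule F (ι → F)) : Submodule F (ι → F) where
  carrier := {x | ∀ w ∈ W, f x w = 0}
  add_mem' {x y} hx hy w hw := by rw [hf.add_left, hx w hw, hy w hw, add_zero]
  zero_mem' w _ := hf.zero_left w
  smul_mem' c x hx w hw := by rw [hf.smul_left, hx w hw, mul_zero]

theorem mem_perp (hf : ReflForm σ ε f) {W : Submodule F (ι → F)} {x : ι → F} :
    x ∈ hf.perp W ↔ ∀ w ∈ W, f x w = 0 := Iff.rfl

theorem finrank_perp (hf : ReflForm σ ε f) (W : Submodule F (ι → F)) :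
    Module.finrank F (hf.perp W) + Module.finrank F W = Fintype.card ι := by
  classical
  let d := Module.finrank F W
  let b := Module.finBasis F W
  let L : (ι → F) →ₗ[F] (Fin d → F) :=
    { toFun := fun x i => f x (b i : ι → F)
      map_add' := fun x y => funext fun i => hf.add_left x y _
      map_smul' := fun c x => funext fun i => hf.smul_left c x _ }
  have hker : LinearMap.ker L = hf.perp W := by
    ext x
    rw [LinearMap.mem_ker, mem_perp]
    refine ⟨fun h w hw => ?_, fun h => funext fun i => h _ (b i).2⟩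
    have e : w = ∑ i, b.repr ⟨w, hw⟩ i • (b i : ι → F) :=
      (congrArg Subtype.val (b.sum_repr ⟨w, hw⟩)).symm.trans (by simp only [AddSubmonoidClass.coe_finsetSum, SetLike.val_smul])
    rw [e, hf.toIsSesq.sum_right]
    exact Finset.sum_eq_zero fun i _ => by rw [hf.smul_right, show f x (b i : ι → F) = 0 from congrFun h i, mul_zero]
  have hsurj : LinearMap.range L = ⊤ := by
    by_contra hne
    obtain ⟨φ, hφ0, hφ⟩ := Submodule.exists_dual_map_eq_bot_of_lt_top (lt_top_iff_ne_top.mpr hne) inferInstance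
    let c : Fin d → F := fun i => φ (Pi.single i 1)
    have hφc : ∀ y : Fin d → F, φ y = ∑ i, y i * c i := fun y => by
      conv_lhs => rw [pi_eq_sum_univ' y]
      simp [map_sum, c]
    have h0 : ∀ x, f x (∑ i, σ (c i) • (b i : ι → F)) = 0 := fun x => by
      have h1 : φ (L x) ∈ (LinearMap.range L).map φ := Submodule.mem_map_of_mem ⟨x, rfl⟩
      rw [hφ, Submodule.mem_bot, hφc] at h1
      rw [hf.toIsSesq.sum_right, ← h1]
      exact Finset.sum_congr rfl fun i _ => by rw [hf.smul_right, hf.inv, mul_comm]; rfl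
    have hv : ∑ i, σ (c i) • (b i : ι → F) = 0 := by
      by_contra hv
      obtain ⟨x, hx⟩ := (hf.nondegenerate _ hv).1
      exact hx (h0 x)
    have hc : ∀ i, σ (c i) = 0 := Fintype.linearIndependent_iff.mp
      (b.linearIndependent.map' W.subtype W.ker_subtype) _ hv
    refine hφ0 (LinearMap.ext fun y => ?_)
    rw [hφc, LinearMap.zero_apply]
    exact Finset.sum_eq_zero fun i _ => by rw [(map_eq_zero σ).mp (hc i), mul_zero]
  have h := LinearMap.finrank_range_add_finrank_ker L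
  rw [hker, hsurj, finrank_top, finrank_pi_card, finrank_pi_card, Fintype.card_fin] at h
  omega

theorem perp_invariant (hf : ReflForm σ ε f) {H : Subgroup (GL ι F)} (hH : Fixes f H) {W : Submodule F (ι → F)}
    (hW : Invariant H W) : Invariant H (hf.perp W) := fun g hg x hx w hw => by
  rw [← mulVec_inv_mulVec g w, hH g hg]
  exact hx _ (hW _ (H.inv_mem hg) w hw)

theorem nondegenerateOn (hf : ReflForm σ ε f) {W : Submodule F (ι → F)} (h : W ⊓ hf.perp W = ⊥) :
    IsNondegenerateOn f W := by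
  intro w hw hw0
  have key : ∃ x ∈ W, f w x ≠ 0 := by
    by_contra hc
    push Not at hc
    exact hw0 ((Submodule.eq_bot_iff _).mp h w ⟨hw, hc⟩)
  obtain ⟨x, hx, hne⟩ := key
  exact ⟨⟨x, hx, fun e => hne (hf.eq_zero_symm e)⟩, x, hx, hne⟩

theorem inf_perp_of_nondegenerateOn (hf : ReflForm σ ε f) {W : Submodule F (ι → F)} (h : IsNondegenerateOn f W) :
    W ⊓ hf.perp W = ⊥ := (Submodule.eq_bot_iff _).mpr fun w hw => by
  by_contra hw0
  obtain ⟨x, hx, hne⟩ := (h w hw.1 hw0).2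
  exact hne (hw.2 x hx)

theorem isCompl_perp (hf : ReflForm σ ε f) {W : Submodule F (ι → F)} (h : W ⊓ hf.perp W = ⊥) :
    IsCompl W (hf.perp W) := by
  refine ⟨disjoint_iff.mpr h, codisjoint_iff.mpr (Submodule.eq_top_of_finrank_eq ?_)⟩
  have h1 := Submodule.finrank_sup_add_finrank_inf_eq W (hf.perp W)
  rw [h, finrank_bot, add_zero] at h1
  rw [h1, finrank_pi_card, add_comm, hf.finrank_perp]

theorem perp_inf_perp_perp (hf : ReflForm σ ε f) {W : Submodule F (ι → F)} (h : W ⊓ hf.perp W = ⊥) :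
    hf.perp W ⊓ hf.perp (hf.perp W) = ⊥ := (Submodule.eq_bot_iff _).mpr fun x hx => by
  by_contra hx0
  obtain ⟨y, hy⟩ := (hf.nondegenerate x hx0).2
  obtain ⟨a, ha, b, hb, rfl⟩ := Submodule.mem_sup.mp ((hf.isCompl_perp h).sup_eq_top.symm ▸ Submodule.mem_top : y ∈ W ⊔ hf.perp W)
  apply hy
  rw [hf.add_right, hx.1 a ha, hx.2 b hb, add_zero]

/-- An invariant proper subspace yields a totally singular one or a non-degenerate one of at most half dimension. -/
theorem reducible (hf : ReflForm σ ε f) {H : Subgroup (GL ι F)} (hH : Fixes f H) {W : Submodule F (ι → F)}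
    (h0 : W ≠ ⊥) (h1 : W ≠ ⊤) (hW : Invariant H W) :
    ∃ U : Submodule F (ι → F), U ≠ ⊥ ∧ U ≠ ⊤ ∧ Invariant H U ∧
      (IsTotallySingularFor f U ∨ (U ⊓ hf.perp U = ⊥ ∧ 2 * Module.finrank F U ≤ Fintype.card ι)) := by
  have hperp := hf.perp_invariant hH hW
  by_cases hrad : W ⊓ hf.perp W = ⊥
  swap
  · exact ⟨W ⊓ hf.perp W, hrad, fun e => h1 (top_le_iff.mp (e ▸ inf_le_left)),
      fun g hg v hv => ⟨hW g hg v hv.1, hperp g hg v hv.2⟩, Or.inl fun u hu v hv => hu.2 v hv.1⟩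
  have hdim := hf.finrank_perp W
  by_cases hle : 2 * Module.finrank F W ≤ Fintype.card ι
  · exact ⟨W, h0, h1, hW, Or.inr ⟨hrad, hle⟩⟩
  · have hlt : Module.finrank F W < Fintype.card ι := by
      rw [← finrank_pi_card (F := F)]; exact Submodule.finrank_lt h1
    refine ⟨hf.perp W, fun e => ?_, fun e => ?_, hperp, Or.inr ⟨hf.perp_inf_perp_perp hrad, by omega⟩⟩
    · rw [e, finrank_bot] at hdim; omega
    · rw [e, finrank_top, finrank_pi_card] at hdim; omega

/-- The Gram matrix of an isometry. -/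
theorem gram_fix (hf : ReflForm σ ε f) {H : Subgroup (GL ι F)} (hH : Fixes f H) {g : GL ι F} (hg : g ∈ H) :
    (g : Matrix ι ι F)ᵀ * gramMatrix f * (g : Matrix ι ι F).map σ = gramMatrix f := by
  have := (hf.toIsSesq.fixes_iff (1 : F)).mp (fun u v => by rw [one_mul]; exact hH g hg u v)
  rwa [one_smul] at this

theorem gram_transpose (hf : ReflForm σ ε f) : (gramMatrix f)ᵀ = ε • (gramMatrix f).map σ := by
  ext i j
  exact hf.herm _ _

/-- The Gram matrix in other coordinates. -/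
noncomputable def gramIn {κ : Type} (_hf : ReflForm σ ε f) (Φ : Matrix ι κ F) : Matrix κ κ F :=
  Φᵀ * gramMatrix f * Φ.map σ

theorem apply_coords {κ : Type} [Fintype κ] (hf : ReflForm σ ε f) (Φ : Matrix ι κ F) (x y : κ → F) :
    f (Φ *ᵥ x) (Φ *ᵥ y) = x ⬝ᵥ (hf.gramIn Φ *ᵥ (σ ∘ y)) := by
  rw [hf.toIsSesq.apply_eq, show σ ∘ (Φ *ᵥ y) = Φ.map σ *ᵥ (σ ∘ y) from
    funext fun i => RingHom.map_mulVec (σ : F →+* F) Φ y i, gramIn, ← Matrix.mulVec_mulVec, ← Matrix.mulVec_mulVec,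
    Matrix.dotProduct_mulVec x Φᵀ, Matrix.vecMul_transpose]

theorem gramIn_transpose {κ : Type} (hf : ReflForm σ ε f) (Φ : Matrix ι κ F) :
    (hf.gramIn Φ)ᵀ = ε • (hf.gramIn Φ).map σ := by
  rw [gramIn, Matrix.transpose_mul, Matrix.transpose_mul, hf.gram_transpose, Matrix.transpose_transpose,
    Matrix.map_mul, Matrix.map_mul, Matrix.map_map, show (⇑σ ∘ ⇑σ) = id from funext hf.inv, Matrix.map_id,
    ← Matrix.transpose_map, Matrix.smul_mul, Matrix.mul_smul, Matrix.mul_assoc]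

theorem gramIn_fix {κ : Type} [Fintype κ] [DecidableEq κ] (hf : ReflForm σ ε f) {H : Subgroup (GL ι F)}
    (hH : Fixes f H) {Φ : Matrix ι κ F} {g : GL ι F} (hg : g ∈ H) {T : Matrix κ κ F}
    (hT : (g : Matrix ι ι F) * Φ = Φ * T) : Tᵀ * hf.gramIn Φ * T.map σ = hf.gramIn Φ := by
  calc Tᵀ * hf.gramIn Φ * T.map σ = (Φ * T)ᵀ * gramMatrix f * (Φ * T).map σ := by
        rw [gramIn, Matrix.transpose_mul, Matrix.map_mul]; simp only [Matrix.mul_assoc]
    _ = Φᵀ * ((g : Matrix ι ι F)ᵀ * gramMatrix f * (g : Matrix ι ι F).map σ) * Φ.map σ := by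
        rw [← hT, Matrix.transpose_mul, Matrix.map_mul]; simp only [Matrix.mul_assoc]
    _ = _ := by rw [hf.gram_fix hH hg, gramIn]

theorem gramIn_ne_zero {κ : Type} [Fintype κ] [DecidableEq κ] [Nonempty ι] (hf : ReflForm σ ε f)
    {Φ : Matrix ι κ F} {Ψ : Matrix κ ι F} (hc : Coords Φ Ψ) : hf.gramIn Φ ≠ 0 := by
  intro h0
  let v : ι → F := Pi.single (Classical.arbitrary ι) 1
  obtain ⟨x, hx⟩ := (hf.nondegenerate v fun e => by simpa [v] using congrFun e (Classical.arbitrary ι)).1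
  apply hx
  rw [show x = Φ *ᵥ (Ψ *ᵥ x) by rw [Matrix.mulVec_mulVec, hc.left, Matrix.one_mulVec],
    show v = Φ *ᵥ (Ψ *ᵥ v) by rw [Matrix.mulVec_mulVec, hc.left, Matrix.one_mulVec], hf.apply_coords, h0,
    Matrix.zero_mulVec, dotProduct_zero]

theorem gramIn_det_ne_zero {κ : Type} [Fintype κ] [DecidableEq κ] (hf : ReflForm σ ε f)
    {Φ : Matrix ι κ F} {Ψ : Matrix κ ι F} (hc : Coords Φ Ψ) : (hf.gramIn Φ).det ≠ 0 := by
  intro h0
  obtain ⟨x, hx0, hx⟩ := Matrix.exists_vecMul_eq_zero_iff.mpr h0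
  have hne : Φ *ᵥ x ≠ 0 := fun e => hx0 (by
    rw [← Matrix.one_mulVec x, ← hc.right, ← Matrix.mulVec_mulVec, e, Matrix.mulVec_zero])
  obtain ⟨y, hy⟩ := (hf.nondegenerate _ hne).2
  apply hy
  rw [show y = Φ *ᵥ (Ψ *ᵥ y) by rw [Matrix.mulVec_mulVec, hc.left, Matrix.one_mulVec], hf.apply_coords,
    Matrix.dotProduct_mulVec, hx, zero_dotProduct]

end ReflForm

/-- A non-zero invariant pairing between irreducible families is invertible. -/
theorem det_ne_zero_of_pairing {α : Type*} {κ : Type} [Fintype κ] [DecidableEq κ] {σ : F ≃+* F}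
    {ρ ρ' : α → Matrix κ κ F} (hρ : Irr ρ) (hd : ∀ s, (ρ' s).det ≠ 0) {X : Matrix κ κ F}
    (hX : ∀ s, (ρ s)ᵀ * X * (ρ' s).map σ = X) (h0 : X ≠ 0) : X.det ≠ 0 := by
  intro hdet
  rcases hρ.irr (LinearMap.ker (Matrix.vecMulLinear X)) (fun s v hv => by
    rw [LinearMap.mem_ker, Matrix.vecMulLinear_apply] at hv ⊢
    have e : ((ρ s *ᵥ v) ᵥ* X) ᵥ* (ρ' s).map σ = 0 := by
      rw [Matrix.vecMul_vecMul, ← Matrix.vecMul_transpose, Matrix.vecMul_vecMul, ← Matrix.mul_assoc, hX, hv]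
    by_contra hne
    have h1 := Matrix.exists_vecMul_eq_zero_iff.mp ⟨_, hne, e⟩
    rw [show ((ρ' s).map σ).det = σ (ρ' s).det from ((σ : F →+* F).map_det _).symm, map_eq_zero] at h1
    exact hd s h1) with e | e
  · obtain ⟨v, hv0, hv⟩ := Matrix.exists_vecMul_eq_zero_iff.mpr hdet
    exact hv0 ((Submodule.eq_bot_iff _).mp e v (by rw [LinearMap.mem_ker, Matrix.vecMulLinear_apply]; exact hv))
  · refine h0 (Matrix.ext fun i j => ?_)
    have h1 : Pi.single i (1 : F) ∈ LinearMap.ker (Matrix.vecMulLinear X) := e ▸ Submodule.mem_top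
    rw [LinearMap.mem_ker, Matrix.vecMulLinear_apply, Matrix.single_one_vecMul] at h1
    exact congrFun h1 j

/-- Two invertible invariant pairings with the same left family make the right families equivalent. -/
theorem equivalent_of_pairings {α : Type*} {κ : Type} [Fintype κ] [DecidableEq κ] {σ : F ≃+* F}
    (hinv : ∀ a, σ (σ a) = a) {ρ ρ₁ ρ₂ : α → Matrix κ κ F} (hd : ∀ s, (ρ s).det ≠ 0) {X₁ X₂ : Matrix κ κ F}
    (h1 : ∀ s, (ρ s)ᵀ * X₁ * (ρ₁ s).map σ = X₁) (h2 : ∀ s, (ρ s)ᵀ * X₂ * (ρ₂ s).map σ = X₂) (hd1 : X₁.det ≠ 0)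
    (hd2 : X₂.det ≠ 0) : Equivalent ρ₁ ρ₂ := by
  have hu2 : IsUnit X₂.det := isUnit_iff_ne_zero.mpr hd2
  have hσσ : ∀ A : Matrix κ κ F, (A.map σ).map σ = A := fun A => Matrix.ext fun i j => hinv _
  have hdet : ((X₂⁻¹ * X₁).map σ).det ≠ 0 := by
    rw [show ((X₂⁻¹ * X₁).map σ).det = σ (X₂⁻¹ * X₁).det from ((σ : F →+* F).map_det _).symm]
    refine fun e => mul_ne_zero ?_ hd1 ((Matrix.det_mul _ _).symm.trans ((map_eq_zero σ).mp e))
    rw [Matrix.det_nonsing_inv, Ring.inverse_eq_inv']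
    exact inv_ne_zero hd2
  refine ⟨Matrix.GeneralLinearGroup.mkOfDetNeZero _ hdet, fun s => ?_⟩
  show (X₂⁻¹ * X₁).map σ * ρ₁ s = ρ₂ s * (X₂⁻¹ * X₁).map σ
  have key : (X₂⁻¹ * X₁) * (ρ₁ s).map σ = (ρ₂ s).map σ * (X₂⁻¹ * X₁) := by
    apply ((Matrix.isUnit_iff_isUnit_det ((ρ s)ᵀ * X₂)).mpr (isUnit_iff_ne_zero.mpr (by
      rw [Matrix.det_mul, Matrix.det_transpose]; exact mul_ne_zero (hd s) hd2))).mul_left_cancel
    calc (ρ s)ᵀ * X₂ * ((X₂⁻¹ * X₁) * (ρ₁ s).map σ)
        = (ρ s)ᵀ * (X₂ * X₂⁻¹) * X₁ * (ρ₁ s).map σ := by simp only [Matrix.mul_assoc]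
      _ = X₁ := by rw [Matrix.mul_nonsing_inv _ hu2, Matrix.mul_one, h1]
      _ = ((ρ s)ᵀ * X₂ * (ρ₂ s).map σ) * (X₂⁻¹ * X₁) := by
          rw [h2, ← Matrix.mul_assoc, Matrix.mul_nonsing_inv _ hu2, Matrix.one_mul]
      _ = _ := by simp only [Matrix.mul_assoc]
  have := congrArg (fun A : Matrix κ κ F => A.map σ) key
  simpa only [Matrix.map_mul, hσσ] using this

theorem Blocks.det_ne_zero {N H : Subgroup (GL ι F)} {d k : ℕ} {Φ : Matrix ι (Fin d × Fin k) F}
    {Ψ : Matrix (Fin d × Fin k) ι F} {ρ : Fin k → N → Matrix (Fin d) (Fin d) F} (hB : Blocks N H d k Φ Ψ ρ)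
    (a : Fin k) (g : N) : (ρ a g).det ≠ 0 := by
  intro h0
  obtain ⟨v, hv0, hv⟩ := Matrix.exists_mulVec_eq_zero_iff.mpr h0
  obtain ⟨i, hi⟩ := Function.ne_iff.mp hv0
  let w : Fin d × Fin k → F := fun p => if p.2 = a then v p.1 else 0
  have h1 : Matrix.blockDiagonal (fun b => ρ b g) *ᵥ w = 0 := by
    funext p
    obtain ⟨j, b⟩ := p
    by_cases hb : b = a
    · subst hb
      have := congrFun hv j
      simpa [w, Matrix.mulVec, dotProduct, Fintype.sum_prod_type, Matrix.blockDiagonal_apply, ite_mul] using this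
    · simp [w, Matrix.mulVec, dotProduct, Fintype.sum_prod_type, Matrix.blockDiagonal_apply, hb, ite_mul]
  have h2 : ((g : GL ι F) : Matrix ι ι F) *ᵥ (Φ *ᵥ w) = 0 := by
    rw [Matrix.mulVec_mulVec, hB.acts, ← Matrix.mulVec_mulVec, h1, Matrix.mulVec_zero]
  have h3 := congrArg (fun z => Ψ *ᵥ ((((g : GL ι F))⁻¹ : GL ι F) : Matrix ι ι F) *ᵥ z) h2
  simp only [inv_mulVec_mulVec, Matrix.mulVec_zero, Matrix.mulVec_mulVec _ Ψ Φ, hB.coords.right,
    Matrix.one_mulVec] at h3
  exact hi (by simpa [w] using congrFun h3 (i, a))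

/-- An invariant matrix in block coordinates has invariant blocks. -/
theorem block_pairing {d k : ℕ} {σ : F ≃+* F} {R R' : Fin k → Matrix (Fin d) (Fin d) F}
    {G : Matrix (Fin d × Fin k) (Fin d × Fin k) F}
    (h : (Matrix.blockDiagonal R)ᵀ * G * (Matrix.blockDiagonal R').map σ = G) (a b : Fin k) :
    (R a)ᵀ * block G a b * (R' b).map σ = block G a b := by
  ext i j
  have h1 := congrFun (congrFun h (i, a)) (j, b)
  simp only [Matrix.mul_apply, Matrix.transpose_apply, Matrix.map_apply, Fintype.sum_prod_type,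
    Matrix.blockDiagonal_apply, apply_ite σ, map_zero, ite_mul, mul_ite, mul_zero, zero_mul, Finset.sum_ite_eq,
    Finset.sum_ite_eq', Finset.mem_univ, if_true] at h1
  simpa [Matrix.mul_apply, block] using h1

/-- The blocks of the Gram matrix are invariant pairings. -/
theorem Blocks.gram_pairing {N H : Subgroup (GL ι F)} {d k : ℕ} {Φ : Matrix ι (Fin d × Fin k) F}
    {Ψ : Matrix (Fin d × Fin k) ι F} {ρ : Fin k → N → Matrix (Fin d) (Fin d) F} (hB : Blocks N H d k Φ Ψ ρ)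
    {σ : F ≃+* F} {ε : F} {f : (ι → F) → (ι → F) → F} (hf : ReflForm σ ε f) (hN : Fixes f N) (a b : Fin k)
    (g : N) : (ρ a g)ᵀ * block (hf.gramIn Φ) a b * (ρ b g).map σ = block (hf.gramIn Φ) a b :=
  block_pairing (hf.gramIn_fix hN g.2 (hB.acts g)) a b

end Cfsg.Lib.Classical.Aschbacher
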