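import Cfsg.Agent.Classical.Aschbacher.LinearMain
import Cfsg.Agent.Classical.Aschbacher.FormBase

/-! The three cases for an irreducible group all of whose normal subgroups are absolutely irreducible. -/

set_option autoImplicit false
set_option linter.unusedSimpArgs false
set_option linter.unusedSectionVars false
set_option linter.style.haveILetI false

namespace Cfsg.Lib.Classical.Aschbacher

open Matrix Cfsg.Geo
open scoped MatrixGroups Kronecker commutatorElement
open Cfsg.Lib.Classical.PrimeDim (Normalises IsPreCore quotient_simple commute_of_perfect commutator_normalises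
  mem_map_conj forall_matrixSet mem_matrixSet irreducible_iff Invariant finrank_pi_card mem_scalars_of_val_eq
  scalar_commute exists_char_card powField mem_powField card_powField gl_det_ne_zero IsSesq)

universe u

variable {ι : Type} [Fintype ι] [DecidableEq ι] {F : Type u} [Field F] [Fintype F] {H : Subgroup (GL ι F)}

set_option maxHeartbeats 1000000 in
theorem aschbacher_cases (h2 : 2 ≤ Fintype.card ι) (hirr : ActsIrreducibly (matrixSet H))
    (habs : ∀ K : Subgroup (GL ι F), K ≤ H → Normalises H K → ¬ K ≤ scalars ι F →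
      ActsAbsolutelyIrreducibly (matrixSet K)) :
    (∃ (N : Subgroup (GL ι F)) (r : ℕ), N ≤ H ∧ SympN r N ∧ Normalises H N ∧ SympN.Minimal H N) ∨
    (∃ (t k : ℕ) (M : Fin t → Subgroup (GL ι F)) (Φ : Matrix ι (Fin t → Fin k) F) (Ψ : Matrix (Fin t → Fin k) ι F)
      (ρ : ∀ i, M i → Matrix (Fin k) (Fin k) F), 2 ≤ t ∧ Factored (d := fun _ => k) M Φ Ψ ρ ∧ (⨆ i, M i) ≤ H ∧
        ActsAbsolutelyIrreducibly (matrixSet (⨆ i, M i : Subgroup (GL ι F))) ∧
        (∀ h ∈ H, ∃ π : Equiv.Perm (Fin t), (∀ i, ∀ g ∈ M i, h * g * h⁻¹ ∈ M (π i)) ∧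
          ∀ i, ∀ g ∈ M (π i), h⁻¹ * g * h ∈ M i) ∧
        (∀ i j, ∃ h ∈ H, (∀ g ∈ M i, h * g * h⁻¹ ∈ M j) ∧ ∀ g ∈ M j, h⁻¹ * g * h ∈ M i)) ∨
    (∃ P : Subgroup (GL ι F), IsPreCore H P) := by
  classical
  haveI : Nonempty ι := Fintype.card_pos_iff.mp (by omega)
  set Z := scalars ι F with hZ_def
  have hHns : ¬ H ≤ Z := fun hle => by
    let e₀ : ι → F := Pi.single (Classical.arbitrary ι) 1
    have h0 : e₀ ≠ 0 := fun e => one_ne_zero (α := F) (by simpa [e₀] using congrFun e (Classical.arbitrary ι))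
    rcases (irreducible_iff H).mp hirr (Submodule.span F {e₀}) (fun g hg v hv => by
      obtain ⟨c, hc⟩ := (mem_scalars_iff g).mp (hle hg)
      rw [hc, Matrix.smul_mulVec, Matrix.one_mulVec]
      exact Submodule.smul_mem _ _ hv) with e | e
    · exact h0 (Submodule.span_singleton_eq_bot.mp e)
    · have := finrank_span_singleton (K := F) h0
      rw [e, finrank_top, finrank_pi_card] at this
      omega
  obtain ⟨N, ⟨hNH, hNn, hNs⟩, hNmin⟩ := exists_minimal_of_wellFoundedLT
    (fun K : Subgroup (GL ι F) => K ≤ H ∧ Normalises H K ∧ ¬ K ≤ Z)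
    ⟨H, le_rfl, fun h hh g hg => mul_mem (mul_mem hh hg) (inv_mem hh), hHns⟩
  have hmin : SympN.Minimal H N := fun K hKN hKn hKs => le_antisymm hKN (hNmin ⟨hKN.trans hNH, hKn, hKs⟩ hKN)
  have haiN := habs N hNH hNn hNs
  by_cases hD : ⁅N, N⁆ ≤ Z
  · -- symplectic type
    obtain ⟨g, hg, hgZ⟩ := SetLike.not_le_iff_exists.mp hNs
    let π := QuotientGroup.mk' Z
    have hπ : ∀ x, π x = 1 ↔ x ∈ Z := fun x => QuotientGroup.eq_one_iff x
    have hcomm : ∀ a ∈ N, ∀ b ∈ N, ⁅a, b⁆ ∈ Z := fun a ha b hb => hD (Subgroup.commutator_mem_commutator ha hb)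
    have hπc : ∀ a ∈ N, ∀ b ∈ N, π a * π b = π b * π a := fun a ha b hb => by
      rw [← commutatorElement_eq_one_iff_mul_comm, ← map_commutatorElement, hπ]
      exact hcomm a ha b hb
    haveI : Finite (GL ι F ⧸ Z) := Quotient.finite _
    have hk1 : orderOf (π g) ≠ 1 := fun e => hgZ ((hπ g).mp (orderOf_eq_one_iff.mp e))
    obtain ⟨r, hr, k, hk⟩ := Nat.exists_prime_and_dvd hk1
    let K : Subgroup (GL ι F) :=
      { carrier := {x | x ∈ N ∧ π x ^ r = 1}
        one_mem' := ⟨one_mem N, by rw [map_one, one_pow]⟩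
        inv_mem' := fun {x} hx => ⟨inv_mem hx.1, by rw [map_inv, inv_pow, hx.2, inv_one]⟩
        mul_mem' := fun {x y} hx hy => ⟨mul_mem hx.1 hy.1, by
          rw [map_mul, (show Commute (π x) (π y) from hπc x hx.1 y hy.1).mul_pow, hx.2, hy.2, one_mul]⟩ }
    have hKn : Normalises H K := fun h hh x hx => ⟨hNn h hh x hx.1, by
      rw [map_mul, map_mul, map_inv, conj_pow, hx.2, mul_one, mul_inv_cancel]⟩
    have hKs : ¬ K ≤ Z := fun hle => by
      have hmem : g ^ k ∈ K := ⟨pow_mem hg k, by rw [map_pow, ← pow_mul, mul_comm, ← hk, pow_orderOf_eq_one]⟩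
      have h1 := (hπ _).mpr (hle hmem)
      rw [map_pow] at h1
      have h2 := Nat.le_of_dvd (Nat.pos_of_ne_zero fun e => by rw [e, mul_zero] at hk; exact (orderOf_pos _).ne' hk)
        (orderOf_dvd_of_pow_eq_one h1)
      have h3 := hr.two_le
      have h4 : 0 < orderOf (π g) := orderOf_pos _
      nlinarith
    have hKN := hmin K (fun x hx => hx.1) hKn hKs
    refine Or.inl ⟨N, r, hNH, ⟨haiN, hcomm, hNs, hr, fun x hx => ?_⟩, hNn, hmin⟩
    rw [← hKN] at hx
    rw [← hπ, map_pow]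
    exact hx.2
  -- perfect
  have hperf : ⁅N, N⁆ = N := hmin _ (Subgroup.commutator_le_self N) (commutator_normalises hNn) hD
  have hNN : Normalises N N := fun h hh g hg => mul_mem (mul_mem hh hg) (inv_mem hh)
  obtain ⟨M, ⟨hMN, hMn, hMs⟩, hMmin⟩ := exists_minimal_of_wellFoundedLT
    (fun K : Subgroup (GL ι F) => K ≤ N ∧ Normalises N K ∧ ¬ K ≤ Z) ⟨N, le_rfl, hNN, hNs⟩
  have hMmin' : ∀ K, K ≤ M → Normalises N K → ¬ K ≤ Z → K = M := fun K hKM hKn hKs =>
    le_antisymm hKM (hMmin ⟨hKM.trans hMN, hKn, hKs⟩ hKM)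
  by_cases hMH : Normalises H M
  · have hMN' : M = N := hmin M hMN hMH hMs
    subst hMN'
    have hsimple := quotient_simple (Z := scalars ι F) hNs hD fun K hKM hKn hKs =>
      (hMmin' K hKM (fun h hh g hg => hKn h hh g hg) hKs).ge
    refine Or.inr (Or.inr ⟨M, hNH, hNn, hperf, hsimple.1, hsimple.2, fun h _ hc => ?_, haiN⟩)
    obtain ⟨c, hc'⟩ := haiN.2 (h : Matrix ι ι F) (forall_matrixSet.mpr fun x hx => by
      rw [← Units.val_mul, ← Units.val_mul]
      refine congrArg Units.val (commute_of_perfect hperf (b := h) (fun a ha => ?_) x hx).symm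
      have := inv_mem (hc a ha)
      simpa [mul_assoc] using this)
    exact mem_scalars_of_val_eq hc'
  -- several factors
  let cj : GL ι F → Subgroup (GL ι F) := fun h => M.map (MulAut.conj h).toMonoidHom
  have hcj : ∀ h x, x ∈ cj h ↔ h⁻¹ * x * h ∈ M := fun h x => by
    rw [mem_map_conj]
    refine ⟨?_, fun hx => ⟨_, hx, by simp [mul_assoc]⟩⟩
    rintro ⟨m, hm, rfl⟩
    simpa [mul_assoc] using hm
  have hcjN : ∀ h ∈ H, cj h ≤ N := fun h hh x hx => by
    have h1 := hNn h hh _ (hMN ((hcj h x).mp hx))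
    simpa [mul_assoc] using h1
  have hcjn : ∀ h ∈ H, Normalises N (cj h) := fun h hh a ha x hx => by
    rw [hcj] at hx ⊢
    have := hMn (h⁻¹ * a * h) (hNn.inv hh ha) _ hx
    simpa [mul_assoc] using this
  have hcjs : ∀ h, ¬ cj h ≤ Z := fun h hle => hMs fun x hx => by
    have h1 : h⁻¹ * (h * x * h⁻¹) * h⁻¹⁻¹ ∈ Z :=
      scalars_normal.conj_mem _ (hle ((hcj h (h * x * h⁻¹)).mpr (by simpa [mul_assoc] using hx))) h⁻¹
    simpa [mul_assoc] using h1
  have hcjmin : ∀ h ∈ H, ∀ K, K ≤ cj h → Normalises N K → ¬ K ≤ Z → K = cj h := by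
    intro h hh K hK hKn hKs
    let K' := K.map (MulAut.conj h⁻¹).toMonoidHom
    have hmem : ∀ x, x ∈ K' ↔ h * x * h⁻¹ ∈ K := fun x => by
      rw [mem_map_conj]
      refine ⟨?_, fun hx => ⟨_, hx, by simp [mul_assoc]⟩⟩
      rintro ⟨m, hm, rfl⟩
      simpa [mul_assoc] using hm
    have hK' : K' = M := hMmin' K' (fun x hx => by
        have := (hcj h _).mp (hK ((hmem x).mp hx))
        simpa [mul_assoc] using this)
      (fun a ha x hx => by
        rw [hmem] at hx ⊢
        have := hKn (h * a * h⁻¹) (hNn h hh a ha) _ hx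
        simpa [mul_assoc] using this)
      (fun hle => hKs fun x hx => by
        have h1 := scalars_normal.conj_mem _ (hle ((hmem (h⁻¹ * x * h)).mpr (by simpa [mul_assoc] using hx))) h
        simpa [mul_assoc] using h1)
    refine le_antisymm hK fun x hx => ?_
    have := (hmem _).mp (hK'.symm ▸ (hcj h x).mp hx)
    simpa [mul_assoc] using this
  have hmeet : ∀ h ∈ H, ∀ h' ∈ H, cj h ≠ cj h' → ∀ a ∈ cj h, ∀ b ∈ cj h', ⁅a, b⁆ ∈ Z := by
    intro h hh h' hh' hne a ha b hb
    have hle : cj h ⊓ cj h' ≤ Z := by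
      by_contra hs
      have hn' : Normalises N (cj h ⊓ cj h') := fun x hx y hy => ⟨hcjn h hh x hx y hy.1, hcjn h' hh' x hx y hy.2⟩
      exact hne ((hcjmin h hh _ inf_le_left hn' hs).symm.trans (hcjmin h' hh' _ inf_le_right hn' hs))
    refine hle ⟨?_, ?_⟩
    · show ⁅a, b⁆ ∈ cj h
      rw [commutatorElement_def, show a * b * a⁻¹ * b⁻¹ = a * (b * a⁻¹ * b⁻¹) by group]
      exact mul_mem ha (hcjn h hh b (hcjN h' hh' hb) _ (inv_mem ha))
    · show ⁅a, b⁆ ∈ cj h'
      rw [commutatorElement_def]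
      exact mul_mem (hcjn h' hh' a (hcjN h hh ha) _ hb) (inv_mem hb)
  let S := Set.range fun h : H => cj h
  haveI : Finite S := Set.finite_range _ |>.to_subtype
  letI : Fintype S := Fintype.ofFinite S
  set t := Fintype.card S
  let en : S ≃ Fin t := Fintype.equivFin S
  let Ms : Fin t → Subgroup (GL ι F) := fun i => (en.symm i : Subgroup (GL ι F))
  have hMs' : ∀ i, ∃ h ∈ H, Ms i = cj h := fun i => by
    obtain ⟨h, hh⟩ := (en.symm i).2
    exact ⟨h, h.2, hh.symm⟩
  have hidx : ∀ h ∈ H, ∃ i, Ms i = cj h := fun h hh => ⟨en ⟨cj h, ⟨h, hh⟩, rfl⟩, by simp [Ms]⟩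
  have hinj : Function.Injective Ms := fun i j h => en.symm.injective (Subtype.ext h)
  have hsup : (⨆ i, Ms i) = N := by
    refine hmin _ (iSup_le fun i => ?_) (fun h hh x hx => ?_) fun hle => ?_
    · obtain ⟨h, hh, e⟩ := hMs' i
      exact e ▸ hcjN h hh
    · have hle : (⨆ i, Ms i) ≤ (⨆ i, Ms i).comap (MulAut.conj h).toMonoidHom := by
        refine iSup_le fun i y hy => ?_
        obtain ⟨h₁, hh₁, e⟩ := hMs' i
        rw [e, hcj] at hy
        obtain ⟨j, hj⟩ := hidx (h * h₁) (mul_mem hh hh₁)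
        refine le_iSup Ms j ?_
        rw [hj, hcj, MulEquiv.coe_toMonoidHom, MulAut.conj_apply]
        simpa [mul_assoc] using hy
      exact hle hx
    · obtain ⟨i, hi⟩ := hidx 1 (one_mem H)
      exact hcjs 1 (hi ▸ le_trans (le_iSup Ms i) hle)
  have hMperf : ⁅M, M⁆ = M := by
    refine hMmin' _ (Subgroup.commutator_le_self M) (commutator_normalises hMn) fun hle => hD ?_
    have hpair : ∀ i j, ∀ a ∈ Ms i, ∀ b ∈ Ms j, ⁅a, b⁆ ∈ Z := by
      intro i j a ha b hb
      obtain ⟨h, hh, e⟩ := hMs' i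
      obtain ⟨h', hh', e'⟩ := hMs' j
      rw [e] at ha
      rw [e'] at hb
      by_cases hne : cj h = cj h'
      · rw [← hne] at hb
        have h1 := scalars_normal.conj_mem _ (hle (Subgroup.commutator_mem_commutator ((hcj h a).mp ha) ((hcj h b).mp hb))) h
        simpa [commutatorElement_def, mul_assoc] using h1
      · exact hmeet h hh h' hh' hne a ha b hb
    let π := QuotientGroup.mk' Z
    let A : Fin t → Subgroup (GL ι F ⧸ Z) := fun i => (Ms i).map π
    have hA : ∀ i j, A i ≤ Subgroup.centralizer (A j : Set (GL ι F ⧸ Z)) := by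
      rintro i j _ ⟨a, ha, rfl⟩
      refine Subgroup.mem_centralizer_iff.mpr ?_
      rintro _ ⟨b, hb, rfl⟩
      rw [← commutatorElement_eq_one_iff_mul_comm, ← map_commutatorElement]
      exact (QuotientGroup.eq_one_iff _).mpr (hpair j i b hb a ha)
    have hall : (⨆ i, A i) ≤ Subgroup.centralizer ((⨆ i, A i : Subgroup _) : Set (GL ι F ⧸ Z)) :=
      iSup_le fun i => Subgroup.le_centralizer_iff.mp (iSup_le fun j => hA j i)
    rw [Subgroup.commutator_le]
    intro a ha b hb
    rw [← hsup] at ha hb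
    have ha' : π a ∈ ⨆ i, A i := by rw [← Subgroup.map_iSup]; exact ⟨a, ha, rfl⟩
    have hb' : π b ∈ ⨆ i, A i := by rw [← Subgroup.map_iSup]; exact ⟨b, hb, rfl⟩
    refine (QuotientGroup.eq_one_iff _).mp ?_
    show π ⁅a, b⁆ = 1
    rw [map_commutatorElement, commutatorElement_eq_one_iff_mul_comm]
    exact Subgroup.mem_centralizer_iff.mp (hall hb') _ ha'
  have hcomm : ∀ i j, i ≠ j → ∀ a ∈ Ms i, ∀ b ∈ Ms j, a * b = b * a := by
    intro i j hij a ha b hb
    obtain ⟨h, hh, e⟩ := hMs' i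
    obtain ⟨h', hh', e'⟩ := hMs' j
    have hne : cj h ≠ cj h' := fun e'' => hij (hinj (e.trans (e''.trans e'.symm)))
    rw [e] at ha
    rw [e'] at hb
    refine commute_of_perfect (M := cj h) ?_ (b := b) (fun x hx => ?_) a ha
    · show ⁅M.map _, M.map _⁆ = _
      rw [← Subgroup.map_commutator, hMperf]
    · have := hmeet h hh h' hh' hne x hx b hb
      rwa [commutatorElement_def] at this
  have hns : ∀ i, ¬ Ms i ≤ Z := fun i => by
    obtain ⟨h, -, e⟩ := hMs' i
    exact e ▸ hcjs h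
  obtain ⟨d, Φ, Ψ, ρ, hF⟩ := tensor_factors t Ms hcomm (hsup ▸ haiN) hns
  have hperm : ∀ h ∈ H, ∃ π : Equiv.Perm (Fin t), (∀ i, ∀ g ∈ Ms i, h * g * h⁻¹ ∈ Ms (π i)) ∧
      ∀ i, ∀ g ∈ Ms (π i), h⁻¹ * g * h ∈ Ms i := by
    intro h hh
    have hex : ∀ i, ∃ j, ∀ x, x ∈ Ms j ↔ h⁻¹ * x * h ∈ Ms i := fun i => by
      obtain ⟨h₁, hh₁, e⟩ := hMs' i
      obtain ⟨j, hj⟩ := hidx (h * h₁) (mul_mem hh hh₁)
      exact ⟨j, fun x => by rw [hj, e, hcj, hcj]; simp [mul_assoc]⟩
    choose π hπ using hex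
    have hπi : Function.Injective π := fun i j e => hinj (SetLike.ext fun x => by
      have h1 := hπ i (h * x * h⁻¹)
      rw [e, hπ j] at h1
      simpa [mul_assoc] using h1.symm)
    exact ⟨Equiv.ofBijective π (Finite.injective_iff_bijective.mp hπi),
      fun i g hg => (hπ i _).mpr (by simpa [mul_assoc] using hg), fun i g hg => (hπ i g).mp hg⟩
  obtain ⟨i₀, hi₀⟩ := hidx 1 (one_mem H)
  have hdim : d = fun _ => d i₀ := funext fun i => by
    obtain ⟨h, hh, e⟩ := hMs' i
    have h1 : ∀ g ∈ Ms i₀, h * g * h⁻¹ ∈ Ms i := fun g hg => by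
      rw [e, hcj]
      rw [hi₀, hcj] at hg
      simpa [mul_assoc] using hg
    have h2 : ∀ g ∈ Ms i, h⁻¹ * g * h ∈ Ms i₀ := fun g hg => by
      rw [e, hcj] at hg
      rw [hi₀, hcj]
      simpa [mul_assoc] using hg
    simpa using (hF.exists_equiv h1 h2).1.symm
  obtain ⟨m, rfl⟩ : ∃ m, d = fun _ => m := ⟨_, hdim⟩
  have ht : 2 ≤ t := by
    by_contra hlt
    refine hMH fun h hh x hx => ?_
    obtain ⟨j, hj⟩ := hidx h hh
    have e : cj h = cj 1 := by rw [← hj, ← hi₀, show j = i₀ from Fin.ext (by omega)]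
    have h1 : h * x * h⁻¹ ∈ cj h := (hcj h _).mpr (by simpa [mul_assoc] using hx)
    rw [e, hcj] at h1
    simpa using h1
  refine Or.inr (Or.inl ⟨t, m, Ms, Φ, Ψ, ρ, ht, hF, hsup.le.trans hNH, hsup ▸ haiN, hperm, fun i j => ?_⟩)
  obtain ⟨h₁, hh₁, e₁⟩ := hMs' i
  obtain ⟨h₂, hh₂, e₂⟩ := hMs' j
  refine ⟨h₂ * h₁⁻¹, mul_mem hh₂ (inv_mem hh₁), fun g hg => ?_, fun g hg => ?_⟩
  · rw [e₂, hcj]
    rw [e₁, hcj] at hg
    simpa [mul_assoc] using hg
  · rw [e₁, hcj]
    rw [e₂, hcj] at hg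
    simpa [mul_assoc] using hg

/-- An involutive automorphism of a finite field is the power map of the square root of the order. -/
theorem involution_eq_pow {σ : F ≃+* F} (hne : σ ≠ RingEquiv.refl F) (hinv : ∀ a, σ (σ a) = a) :
    ∃ p e : ℕ, p.Prime ∧ CharP F p ∧ 0 < e ∧ Fintype.card F = p ^ (e * 2) ∧ ∀ a, σ a = a ^ p ^ e := by
  classical
  have hord : orderOf σ = 2 := by
    haveI := Fact.mk Nat.prime_two
    exact orderOf_eq_prime (RingEquiv.ext fun a => by rw [sq]; exact hinv a) hne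
  haveI : Finite (RingAut F) := Finite.of_injective (fun g : RingAut F => (g : F → F)) DFunLike.coe_injective
  let G : Subgroup (RingAut F) := Subgroup.zpowers σ
  haveI : Fintype G := Fintype.ofFinite _
  set K := FixedPoints.subfield G F
  have hdim : Module.finrank K F = 2 := by
    rw [FixedPoints.finrank_eq_card G F, ← Nat.card_eq_fintype_card, Nat.card_zpowers, hord]
  have hK : ∀ x, x ∈ K ↔ σ x = x := fun x => by
    refine ⟨fun h => h ⟨σ, Subgroup.mem_zpowers σ⟩, fun h g => ?_⟩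
    obtain ⟨_, hg⟩ := g
    obtain ⟨k, rfl⟩ := Subgroup.mem_zpowers_iff.mp hg
    exact (MulAction.mem_stabilizer_iff.mp
      ((MulAction.stabilizer (RingAut F) x).zpow_mem (MulAction.mem_stabilizer_iff.mpr h) k))
  obtain ⟨p, f, hp, hchar, hf0, hf⟩ := exists_char_card F
  haveI : Fintype K := Fintype.ofFinite _
  have hcard : Fintype.card F = Fintype.card K ^ 2 := by rw [Module.card_eq_pow_finrank (K := K), hdim]
  obtain ⟨e, -, he⟩ := (Nat.dvd_prime_pow hp).mp
    (by rw [← hf, Nat.card_eq_fintype_card, hcard]; exact dvd_pow_self _ two_ne_zero : Fintype.card K ∣ p ^ f)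
  have he0 : 0 < e := Nat.pos_of_ne_zero fun e0 => by
    rw [e0, pow_zero] at he
    exact absurd he (Fintype.one_lt_card (α := K)).ne'
  have hF : Fintype.card F = p ^ (e * 2) := by rw [hcard, he, pow_mul]
  refine ⟨p, e, hp, hchar, he0, hF, fun a => ?_⟩
  haveI := Fact.mk hp
  have hpow : ∀ x ∈ K, x ^ p ^ e = x := fun x hx => by
    have := congrArg (fun y : K => (y : F)) (FiniteField.pow_card (⟨x, hx⟩ : K))
    simpa [he] using this
  have hKeq : ∀ x : F, x ^ p ^ e = x → x ∈ K := by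
    intro x hx
    have hsub : (Finset.univ.filter fun y : F => y ∈ K) = Finset.univ.filter fun y : F => y ∈ powField F p e := by
      refine Finset.eq_of_subset_of_card_le (fun y hy => ?_) (le_of_eq ?_)
      · simp only [Finset.mem_filter, Finset.mem_univ, true_and] at hy ⊢
        exact mem_powField.mpr (hpow y hy)
      · rw [← Fintype.card_subtype, ← Fintype.card_subtype, ← Nat.card_eq_fintype_card, ← Nat.card_eq_fintype_card]
        calc _ = p ^ e := card_powField he0 (by rw [Nat.card_eq_fintype_card, hF]) (dvd_mul_right e 2)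
          _ = _ := by rw [← he, Nat.card_eq_fintype_card]
    have : x ∈ Finset.univ.filter fun y : F => y ∈ K := by rw [hsub]; simpa using mem_powField.mpr hx
    simpa using this
  have ht : a + σ a ∈ K := (hK _).mpr (by rw [map_add, hinv, add_comm])
  have hn : a * σ a ∈ K := (hK _).mpr (by rw [map_mul, hinv, mul_comm])
  have h1 : a * a - (a + σ a) * a + a * σ a = 0 := by ring
  have h2 := congrArg (iterateFrobenius F p e) h1
  rw [map_add, map_sub, map_mul, map_mul, map_zero, iterateFrobenius_def, iterateFrobenius_def, iterateFrobenius_def,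
    hpow _ ht, hpow _ hn] at h2
  rcases mul_eq_zero.mp (show (a ^ p ^ e - a) * (a ^ p ^ e - σ a) = 0 by linear_combination h2) with h | h
  · rw [sub_eq_zero] at h
    rw [h]
    exact (hK a).mp (hKeq a h)
  · exact (sub_eq_zero.mp h).symm

/-- An absolutely irreducible group fixing a bilinear and a unitary form is realisable over a proper subfield. -/
theorem realisable_of_two_forms [Nonempty ι] {P : Subgroup (GL ι F)} (hai : ActsAbsolutelyIrreducibly (matrixSet P))
    {σ : F ≃+* F} (hne : σ ≠ RingEquiv.refl F) (hinv : ∀ a, σ (σ a) = a) {b : (ι → F) → (ι → F) → F}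
    (hb : IsSesq (RingEquiv.refl F) b) (hbP : FixesForm (matrixSet P) b) {f : (ι → F) → (ι → F) → F}
    (hf : IsSesq σ f) (hfP : FixesForm (matrixSet P) f) :
    ∃ F₀ : Subfield F, F₀ ≠ ⊤ ∧ RealisableOver F₀ (matrixSet P) := by
  classical
  obtain ⟨p, e, hp, hchar, he, hF, hσ⟩ := involution_eq_pow hne hinv
  haveI := Fact.mk hp
  set B := gramMatrix b
  set X := gramMatrix f
  have hXu : IsUnit X.det := isUnit_iff_ne_zero.mpr hf.det_gram_ne_zero
  have hA : (X⁻¹ * B).det ≠ 0 := by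
    rw [Matrix.det_mul, Matrix.det_nonsing_inv, Ring.inverse_eq_inv']
    exact mul_ne_zero (inv_ne_zero hf.det_gram_ne_zero) hb.det_gram_ne_zero
  refine ⟨powField F p e, fun h => ?_, realisable_of_twist (s := 2) he two_pos hF hai
    (Matrix.GeneralLinearGroup.mkOfDetNeZero _ hA) fun g hg => ?_⟩
  · have h1 := card_powField (F := F) (p := p) he (by rw [Nat.card_eq_fintype_card, hF]) (dvd_mul_right e 2)
    rw [h, Nat.card_congr Subfield.topEquiv.toEquiv, Nat.card_eq_fintype_card, hF] at h1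
    have := Nat.pow_right_injective hp.two_le h1
    omega
  show (g : Matrix ι ι F).map (· ^ p ^ e) * (X⁻¹ * B) = (X⁻¹ * B) * (g : Matrix ι ι F)
  rw [show (fun a : F => a ^ p ^ e) = σ from funext fun a => (hσ a).symm]
  have h1 := (hb.fixes_iff (1 : F)).mp (fun u v => by rw [one_mul]; exact hbP _ (mem_matrixSet hg) u v)
  have h2 := (hf.fixes_iff (1 : F)).mp (fun u v => by rw [one_mul]; exact hfP _ (mem_matrixSet hg) u v)
  rw [one_smul] at h1 h2
  rw [RingEquiv.coe_refl, Matrix.map_id] at h1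
  apply ((Matrix.isUnit_iff_isUnit_det ((g : Matrix ι ι F)ᵀ * X)).mpr (isUnit_iff_ne_zero.mpr (by
    rw [Matrix.det_mul, Matrix.det_transpose]; exact mul_ne_zero (gl_det_ne_zero g) hf.det_gram_ne_zero))).mul_left_cancel
  calc (g : Matrix ι ι F)ᵀ * X * ((g : Matrix ι ι F).map σ * (X⁻¹ * B))
      = ((g : Matrix ι ι F)ᵀ * X * (g : Matrix ι ι F).map σ) * X⁻¹ * B := by simp only [Matrix.mul_assoc]
    _ = B := by rw [h2, Matrix.mul_nonsing_inv _ hXu, Matrix.one_mul]
    _ = (g : Matrix ι ι F)ᵀ * B * (g : Matrix ι ι F) := h1.symm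
    _ = (g : Matrix ι ι F)ᵀ * (X * X⁻¹) * B * (g : Matrix ι ι F) := by rw [Matrix.mul_nonsing_inv _ hXu, Matrix.mul_one]
    _ = _ := by simp only [Matrix.mul_assoc]

end Cfsg.Lib.Classical.Aschbacher
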