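import Cfsg.Agent.Classical.Aschbacher.FormBase

/-! Systems of imprimitivity of groups of isometries. -/

set_option autoImplicit false
set_option linter.unusedSimpArgs false
set_option linter.unusedSectionVars false
set_option linter.style.haveILetI false

namespace Cfsg.Lib.Classical.Aschbacher

open Matrix Cfsg.Geo
open scoped MatrixGroups Kronecker
open Cfsg.Lib.Classical.PrimeDim (irreducible_iff finrank_pi_card Invariant)

universe u

variable {ι : Type} [Fintype ι] [DecidableEq ι] {F : Type u} [Field F]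
variable {σ : F ≃+* F} {ε : F} {f : (ι → F) → (ι → F) → F}

/-- Each component is orthogonal to all but one component. -/
theorem Components.partner_unique {N H : Subgroup (GL ι F)} {d k t : ℕ} {Φ : Matrix ι (Fin d × Fin k) F}
    {Ψ : Matrix (Fin d × Fin k) ι F} {ρ : Fin k → N → Matrix (Fin d) (Fin d) F} {cls : Fin k → Fin t}
    {D : Fin t → Submodule F (ι → F)} (hC : Components N H Φ Ψ ρ cls D) (hf : ReflForm σ ε f) (hN : Fixes f N)
    (c c₁ c₂ : Fin t) (h₁ : ¬ AreOrthogonalFor f (D c) (D c₁)) (h₂ : ¬ AreOrthogonalFor f (D c) (D c₂)) :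
    c₁ = c₂ := by
  classical
  set G := hf.gramIn Φ with hG
  have key : ∀ c', ¬ AreOrthogonalFor f (D c) (D c') → ∃ a b, cls a = c ∧ cls b = c' ∧ (block G a b).det ≠ 0 := by
    intro c' hne
    simp only [AreOrthogonalFor, not_forall] at hne
    obtain ⟨x, hx, y, hy, hxy⟩ := hne
    rw [show x = Φ *ᵥ (Ψ *ᵥ x) by rw [Matrix.mulVec_mulVec, hC.blocks.coords.left, Matrix.one_mulVec],
      show y = Φ *ᵥ (Ψ *ᵥ y) by rw [Matrix.mulVec_mulVec, hC.blocks.coords.left, Matrix.one_mulVec],
      hf.apply_coords] at hxy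
    obtain ⟨p, -, hp⟩ := Finset.exists_ne_zero_of_sum_ne_zero hxy
    obtain ⟨p', -, hp'⟩ := Finset.exists_ne_zero_of_sum_ne_zero (right_ne_zero_of_mul hp)
    refine ⟨p.2, p'.2, ?_, ?_, ?_⟩
    · by_contra hpc
      exact left_ne_zero_of_mul hp (((hC.mem_iff c x).mp hx) p hpc)
    · by_contra hpc
      exact right_ne_zero_of_mul hp' (by
        rw [Function.comp_apply, ((hC.mem_iff c' y).mp hy) p' hpc, map_zero])
    · refine det_ne_zero_of_pairing (σ := σ) (hC.blocks.irr p.2) (hC.blocks.det_ne_zero p'.2)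
        (fun g => hC.blocks.gram_pairing hf hN p.2 p'.2 g) fun e => left_ne_zero_of_mul hp' ?_
      exact congrFun (congrFun e p.1) p'.1
  obtain ⟨a, b, rfl, rfl, hab⟩ := key c₁ h₁
  obtain ⟨a', b', haa, rfl, hab'⟩ := key c₂ h₂
  obtain ⟨A, hA⟩ := (hC.cls_iff a a').mp haa.symm
  -- the pairing of the second block transported to the first
  refine (hC.cls_iff b b').mpr (equivalent_of_pairings (σ := σ) hf.inv (fun g => hC.blocks.det_ne_zero a g)
    (X₁ := block G a b) (X₂ := (A : Matrix (Fin d) (Fin d) F)ᵀ * block G a' b')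
    (fun g => hC.blocks.gram_pairing hf hN a b g) (fun g => ?_) hab (by
      rw [Matrix.det_mul, Matrix.det_transpose]
      exact mul_ne_zero (Cfsg.Lib.Classical.PrimeDim.gl_det_ne_zero A) hab'))
  have h1 := hC.blocks.gram_pairing hf hN a' b' g
  calc (ρ a g)ᵀ * ((A : Matrix (Fin d) (Fin d) F)ᵀ * block G a' b') * (ρ b' g).map σ
      = ((A : Matrix (Fin d) (Fin d) F) * ρ a g)ᵀ * block G a' b' * (ρ b' g).map σ := by
        rw [Matrix.transpose_mul]; simp only [Matrix.mul_assoc]
    _ = (A : Matrix (Fin d) (Fin d) F)ᵀ * ((ρ a' g)ᵀ * block G a' b' * (ρ b' g).map σ) := by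
        rw [hA, Matrix.transpose_mul]; simp only [Matrix.mul_assoc]
    _ = _ := by rw [h1]

/-- The translates of a member span an invariant subspace. -/
theorem exists_translate {H : Subgroup (GL ι F)} (hirr : ActsIrreducibly (matrixSet H)) {t m : ℕ}
    {D : Fin t → Submodule F (ι → F)} (hD : IsMDecomposition m D) (hle : H ≤ decompositionStabilizer D)
    (i j : Fin t) : ∃ h ∈ H, (D i).map (Matrix.toLin' (h : Matrix ι ι F)) = D j := by
  classical
  by_contra hc
  push Not at hc
  let S : Submodule F (ι → F) := ⨆ h : H, (D i).map (Matrix.toLin' ((h : GL ι F) : Matrix ι ι F))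
  have hinv : ∀ g ∈ H, ∀ v ∈ S, (g : Matrix ι ι F) *ᵥ v ∈ S := by
    intro g hg v hv
    induction hv using Submodule.iSup_induction' with
    | mem h x hx =>
      obtain ⟨y, hy, rfl⟩ := hx
      refine Submodule.mem_iSup_of_mem (⟨g, hg⟩ * h) ⟨y, hy, ?_⟩
      simp [Matrix.toLin'_apply, Matrix.mulVec_mulVec]
    | zero => rw [Matrix.mulVec_zero]; exact zero_mem _
    | add x y _ _ hx hy => rw [Matrix.mulVec_add]; exact add_mem hx hy
  have hnei : D i ≠ ⊥ := fun e => by
    have := hD.finrank_eq i; rw [e, finrank_bot] at this; exact hD.pos.ne this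
  have hnej : D j ≠ ⊥ := fun e => by
    have := hD.finrank_eq j; rw [e, finrank_bot] at this; exact hD.pos.ne this
  rcases (irreducible_iff H).mp hirr S hinv with e | e
  · refine hnei (le_bot_iff.mp (e ▸ ?_))
    refine le_trans (le_of_eq ?_) (le_iSup _ (1 : H))
    simp
  · have hle' : S ≤ ⨆ (l : Fin t) (_ : l ≠ j), D l := iSup_le fun h => by
      obtain ⟨π, hπ⟩ := hle h.2
      rw [hπ]
      exact le_iSup₂ (f := fun l (_ : l ≠ j) => D l) (π i) (fun e' => hc h h.2 (by rw [hπ, e']))
    rw [e] at hle'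
    exact hnej (disjoint_top.mp ((hD.indep j).mono_right hle'))

/-- The shapes of systems of imprimitivity compatible with a form. -/
inductive FormDecomp (H : Subgroup (GL ι F)) (f : (ι → F) → (ι → F) → F) : Prop
  | nondeg (t m : ℕ) (D : Fin t → Submodule F (ι → F)) (hD : IsNondegenerateMDecomposition f m D)
      (hle : H ≤ decompositionStabilizer D)
  | pair (m : ℕ) (D : Fin 2 → Submodule F (ι → F)) (hm : 2 * m = Fintype.card ι) (hD : IsMDecomposition m D)
      (hts : ∀ i, IsTotallySingularFor f (D i)) (hle : H ≤ decompositionStabilizer D)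

/-- A system of imprimitivity whose members pair uniquely gives one of the two shapes. -/
theorem formDecomp_of_partner (hf : ReflForm σ ε f) {H : Subgroup (GL ι F)} (hH : Fixes f H)
    (hirr : ActsIrreducibly (matrixSet H)) {t m : ℕ} {D : Fin t → Submodule F (ι → F)} (hD : IsMDecomposition m D)
    (hle : H ≤ decompositionStabilizer D)
    (huniq : ∀ c c₁ c₂, ¬ AreOrthogonalFor f (D c) (D c₁) → ¬ AreOrthogonalFor f (D c) (D c₂) → c₁ = c₂) :
    FormDecomp H f := by
  classical
  have hne : ∀ c, D c ≠ ⊥ := fun c e => by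
    have := hD.finrank_eq c; rw [e, finrank_bot] at this; exact hD.pos.ne this
  have hex : ∀ c, ∃ c', ¬ AreOrthogonalFor f (D c) (D c') := by
    intro c
    by_contra hc
    push Not at hc
    obtain ⟨w, hw, hw0⟩ := (Submodule.ne_bot_iff _).mp (hne c)
    obtain ⟨x, hx⟩ := (hf.nondegenerate w hw0).2
    apply hx
    have hxm : x ∈ iSup D := hD.iSup_eq_top ▸ Submodule.mem_top
    clear hx
    induction hxm using Submodule.iSup_induction' with
    | mem j y hy => exact hc j w hw y hy
    | zero => exact hf.zero_right w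
    | add a b _ _ ha hb => rw [hf.add_right, ha, hb, add_zero]
  choose π hπ using hex
  have horth : ∀ c c', c' ≠ π c → AreOrthogonalFor f (D c) (D c') := fun c c' hne' => by
    by_contra h; exact hne' (huniq c c' (π c) h (hπ c))
  have hπi : ∀ c, π (π c) = c := fun c =>
    huniq (π c) _ _ (hπ (π c)) fun h => hπ c fun u hu v hv => hf.eq_zero_symm (h v hv u hu)
  have hmove : ∀ h ∈ H, ∀ i j, (D i).map (Matrix.toLin' (h : Matrix ι ι F)) = D j →
      (D (π i)).map (Matrix.toLin' (h : Matrix ι ι F)) = D (π j) := by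
    intro h hh i j hij
    obtain ⟨τ, hτ⟩ := hle hh
    rw [hτ]
    refine congrArg D (huniq j _ _ (fun ho => hπ i fun u hu v hv => ?_) (hπ j))
    rw [← hH h hh u v]
    refine ho _ (hij ▸ ⟨u, hu, Matrix.toLin'_apply _ _⟩) _ (hτ (π i) ▸ ⟨v, hv, Matrix.toLin'_apply _ _⟩)
  have hDinj : Function.Injective D := fun i j e => by_contra fun hij => hne i (disjoint_self.mp
    ((hD.indep.pairwiseDisjoint hij).mono_right (le_of_eq e)))
  have hradical : ∀ c, ∀ w ∈ D c, w ≠ 0 → ∃ x ∈ D (π c), f w x ≠ 0 := by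
    intro c w hw hw0
    by_contra hc
    push Not at hc
    obtain ⟨x, hx⟩ := (hf.nondegenerate w hw0).2
    apply hx
    have hxm : x ∈ iSup D := hD.iSup_eq_top ▸ Submodule.mem_top
    clear hx
    induction hxm using Submodule.iSup_induction' with
    | mem j y hy =>
      by_cases hj : j = π c
      · exact hc y (hj ▸ hy)
      · exact horth c j hj w hw y hy
    | zero => exact hf.zero_right w
    | add a b _ _ ha hb => rw [hf.add_right, ha, hb, add_zero]
  by_cases hfix : ∃ c, π c = c
  · obtain ⟨c₀, hc₀⟩ := hfix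
    have hall : ∀ c, π c = c := fun c => by
      obtain ⟨h, hh, e⟩ := exists_translate hirr hD hle c₀ c
      have := hmove h hh c₀ c e
      rw [hc₀, e] at this
      exact (hDinj this).symm
    refine .nondeg t m D ⟨hD, fun i w hw hw0 => ?_, fun i j hij => horth i j (by rw [hall]; exact hij.symm)⟩ hle
    obtain ⟨x, hx, hne'⟩ := hradical i w hw hw0
    rw [hall] at hx
    exact ⟨⟨x, hx, fun e => hne' (hf.eq_zero_symm e)⟩, x, hx, hne'⟩
  push Not at hfix
  have hts : ∀ c, IsTotallySingularFor f (D c) := fun c => horth c c (hfix c).symm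
  rcases eq_or_lt_of_le hD.two_le with h2 | h3
  · subst h2
    refine .pair m D ?_ hD hts hle
    have hint : DirectSum.IsInternal D :=
      DirectSum.isInternal_submodule_of_iSupIndep_of_iSup_eq_top hD.indep hD.iSup_eq_top
    let b := hint.collectedBasis fun i => Module.finBasisOfFinrankEq F (D i) (hD.finrank_eq i)
    rw [← finrank_pi_card (F := F), Module.finrank_eq_card_basis b]
    simp
  -- merge the members of a pair
  letI st : Setoid (Fin t) := ⟨fun a b => b = a ∨ b = π a, fun a => Or.inl rfl,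
    fun {a b} h => h.elim (fun e => Or.inl e.symm) (fun e => Or.inr (by rw [e, hπi])),
    fun {a b c} h h' => by
      rcases h with rfl | rfl <;> rcases h' with rfl | rfl
      · exact Or.inl rfl
      · exact Or.inr rfl
      · exact Or.inr rfl
      · exact Or.inl (hπi a)⟩
  letI : Fintype (Quotient st) := Fintype.ofFinite _
  let e : Quotient st ≃ Fin (Fintype.card (Quotient st)) := Fintype.equivFin _
  set s := Fintype.card (Quotient st) with hs
  let rep : Fin s → Fin t := fun j => (e.symm j).out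
  have hrep : ∀ c, c = rep (e ⟦c⟧) ∨ c = π (rep (e ⟦c⟧)) := fun c => by
    have h : Quotient.mk st (rep (e ⟦c⟧)) = ⟦c⟧ := by simp [rep]
    exact Quotient.exact h
  have huniqrep : ∀ i j, (rep j = rep i ∨ rep j = π (rep i)) → j = i := fun i j h => by
    apply e.symm.injective
    rw [← Quotient.out_eq (e.symm j), ← Quotient.out_eq (e.symm i)]
    exact (Quotient.sound (s := st) h).symm
  let E : Fin s → Submodule F (ι → F) := fun j => D (rep j) ⊔ D (π (rep j))
  have hsep : ∀ i j, i ≠ j → rep i ≠ rep j ∧ rep i ≠ π (rep j) ∧ π (rep i) ≠ rep j ∧ π (rep i) ≠ π (rep j) := by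
    intro i j hij
    have h1 : rep i ≠ rep j := fun h => hij (huniqrep i j (Or.inl h.symm)).symm
    have h2 : rep i ≠ π (rep j) := fun h => hij (huniqrep j i (Or.inr h))
    exact ⟨h1, h2, fun h => h2 (by rw [← h, hπi]), fun h => h1 (by rw [← hπi (rep i), h, hπi])⟩
  have hEorth : ∀ i j, i ≠ j → AreOrthogonalFor f (E i) (E j) := by
    intro i j hij u hu v hv
    obtain ⟨u₁, h₁, u₂, h₂, rfl⟩ := Submodule.mem_sup.mp hu
    obtain ⟨v₁, k₁, v₂, k₂, rfl⟩ := Submodule.mem_sup.mp hv
    obtain ⟨s1, s2, s3, s4⟩ := hsep i j hij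
    rw [hf.add_left, hf.add_right, hf.add_right, horth _ _ s3.symm u₁ h₁ v₁ k₁,
      horth _ _ (fun e' => s1 (by rw [← hπi (rep i), ← e', hπi])) u₁ h₁ v₂ k₂,
      horth _ _ (by rw [hπi]; exact s1.symm) u₂ h₂ v₁ k₁, horth _ _ (by rw [hπi]; exact s2.symm) u₂ h₂ v₂ k₂]
    simp
  have hsup : iSup E = ⊤ := by
    rw [eq_top_iff, ← hD.iSup_eq_top]
    refine iSup_le fun c => le_trans ?_ (le_iSup E (e ⟦c⟧))
    rcases hrep c with h | h <;> (conv_lhs => rw [h])
    · exact le_sup_left
    · exact le_sup_right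
  have hEind : iSupIndep E := fun i => by
    have h1 : Disjoint (⨆ l ∈ ({rep i, π (rep i)} : Set (Fin t)), D l)
        (⨆ l ∈ ({rep i, π (rep i)} : Set (Fin t))ᶜ, D l) :=
      hD.indep.disjoint_biSup_biSup disjoint_compl_right
    refine h1.mono ?_ ?_
    · exact sup_le (le_iSup₂ (f := fun l (_ : l ∈ ({rep i, π (rep i)} : Set (Fin t))) => D l) (rep i) (Or.inl rfl))
        (le_iSup₂ (f := fun l (_ : l ∈ ({rep i, π (rep i)} : Set (Fin t))) => D l) (π (rep i)) (Or.inr rfl))
    · refine iSup₂_le fun j hj => ?_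
      obtain ⟨s1, s2, s3, s4⟩ := hsep j i hj
      refine sup_le ?_ ?_
      · exact le_iSup₂ (f := fun l (_ : l ∈ ({rep i, π (rep i)} : Set (Fin t))ᶜ) => D l) (rep j) (by simp [s1, s2])
      · exact le_iSup₂ (f := fun l (_ : l ∈ ({rep i, π (rep i)} : Set (Fin t))ᶜ) => D l) (π (rep j)) (by simp [s3, s4])
  have hs2 : 2 ≤ s := by
    have htwo : ∀ c : Fin t, c ∈ (Finset.univ.image fun j : Fin s => rep j) ∪ (Finset.univ.image fun j : Fin s => π (rep j)) :=
      fun c => by
        rcases hrep c with h | h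
        · exact Finset.mem_union_left _ (Finset.mem_image.mpr ⟨_, Finset.mem_univ _, h.symm⟩)
        · exact Finset.mem_union_right _ (Finset.mem_image.mpr ⟨_, Finset.mem_univ _, h.symm⟩)
    have h1 := (Finset.card_le_card (show (Finset.univ : Finset (Fin t)) ⊆ _ from fun c _ => htwo c)).trans
      ((Finset.card_union_le _ _).trans (Nat.add_le_add Finset.card_image_le Finset.card_image_le))
    simp only [Finset.card_univ, Fintype.card_fin] at h1
    omega
  refine .nondeg s (2 * m) E ⟨⟨hs2, by have := hD.pos; omega, fun j => ?_, hEind, hsup⟩, fun i w hw hw0 => ?_,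
    hEorth⟩ fun h hh => ?_
  · have h1 := Submodule.finrank_sup_add_finrank_inf_eq (D (rep j)) (D (π (rep j)))
    rw [(hD.indep.pairwiseDisjoint (hfix (rep j)).symm).eq_bot, finrank_bot, add_zero, hD.finrank_eq,
      hD.finrank_eq] at h1
    rw [h1]; ring
  · obtain ⟨a, ha, b, hb, rfl⟩ := Submodule.mem_sup.mp hw
    have key : ∃ x ∈ E i, f (a + b) x ≠ 0 := by
      by_cases ha0 : a = 0
      · have hb0 : b ≠ 0 := fun e' => hw0 (by rw [ha0, e', add_zero])
        obtain ⟨x, hx, hne'⟩ := hradical _ b hb hb0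
        rw [hπi] at hx
        exact ⟨x, Submodule.mem_sup_left hx, by rwa [ha0, zero_add]⟩
      · obtain ⟨x, hx, hne'⟩ := hradical _ a ha ha0
        refine ⟨x, Submodule.mem_sup_right hx, ?_⟩
        rwa [hf.add_left, hts _ b hb x hx, add_zero]
    obtain ⟨x, hx, hne'⟩ := key
    exact ⟨⟨x, hx, fun e' => hne' (hf.eq_zero_symm e')⟩, x, hx, hne'⟩
  · obtain ⟨τ, hτ⟩ := hle hh
    have hcl : ∀ a b, (b = a ∨ b = π a) → (τ b = τ a ∨ τ b = π (τ a)) := by
      rintro a b (rfl | rfl)
      · exact Or.inl rfl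
      · refine Or.inr (hDinj ?_)
        rw [← hτ]
        exact hmove h hh a (τ a) (hτ a)
    let g : Fin s → Fin s := fun j => e ⟦τ (rep j)⟧
    have hg : Function.Injective g := fun i j hij => by
      have h2 : Quotient.mk st (τ (rep i)) = ⟦τ (rep j)⟧ := e.injective hij
      refine (huniqrep i j ?_).symm
      rcases Quotient.exact h2 with h3 | h3
      · exact Or.inl (τ.injective h3)
      · refine Or.inr (τ.injective (h3.trans ?_))
        apply hDinj
        rw [← hτ]
        exact (hmove h hh _ _ (hτ (rep i))).symm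
    refine ⟨Equiv.ofBijective g (Finite.injective_iff_bijective.mp hg), fun j => ?_⟩
    show (D (rep j) ⊔ D (π (rep j))).map _ = E (g j)
    rw [Submodule.map_sup, hτ, hmove h hh _ _ (hτ (rep j))]
    rcases hrep (τ (rep j)) with h' | h'
    · show _ = D (rep (g j)) ⊔ D (π (rep (g j)))
      rw [show rep (g j) = τ (rep j) from h'.symm]
    · show _ = D (rep (g j)) ⊔ D (π (rep (g j)))
      rw [show rep (g j) = π (τ (rep j)) by rw [show τ (rep j) = π (rep (g j)) from h', hπi], hπi, sup_comm]

/-- The components of a normalised group of isometries. -/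
theorem Components.formDecomp {N H : Subgroup (GL ι F)} {d k t : ℕ} {Φ : Matrix ι (Fin d × Fin k) F}
    {Ψ : Matrix (Fin d × Fin k) ι F} {ρ : Fin k → N → Matrix (Fin d) (Fin d) F} {cls : Fin k → Fin t}
    {D : Fin t → Submodule F (ι → F)} (hC : Components N H Φ Ψ ρ cls D) (hf : ReflForm σ ε f) (hH : Fixes f H)
    (hN : Fixes f N) (hirr : ActsIrreducibly (matrixSet H)) : FormDecomp H f := by
  obtain ⟨m, hD⟩ := hC.decomp
  exact formDecomp_of_partner hf hH hirr hD hC.le_stab (hC.partner_unique hf hN)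

end Cfsg.Lib.Classical.Aschbacher
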