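import Cfsg.Agent.Classical.Aschbacher.LinearMain
import Cfsg.Agent.Classical.SL

/-! The members of the classes do not contain the special linear group. -/

set_option autoImplicit false
set_option linter.unusedSimpArgs false
set_option linter.unusedSectionVars false
set_option linter.style.haveILetI false

namespace Cfsg.Lib.Classical.Aschbacher

open Matrix Cfsg.Geo
open scoped MatrixGroups Kronecker commutatorElement
open Cfsg.Lib.Classical.PrimeDim (tv tv_val tv_mem tv_inv_val exists_mem_SL_mulVec exists_scalar_of_commute_single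
  fieldSub_isUnit gl_mulVec_ne_zero val_inv_mul val_mul_inv inv_mulVec_mulVec finrank_pi_card commute_of_perfect
  mem_scalars_of_val_eq mem_matrixSet scalar_commute gl_det_ne_zero)

universe u

variable {ι : Type} [Fintype ι] [DecidableEq ι] {F : Type u} [Field F]

theorem not_le_decomposition_general [Nontrivial ι] {t m : ℕ} {D : Fin t → Submodule F (ι → F)}
    (hD : IsMDecomposition m D) : ¬ specialLinear ι F ≤ decompositionStabilizer D := by
  intro hle
  have h2 := hD.two_le
  let i₀ : Fin t := ⟨0, by omega⟩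
  let i₁ : Fin t := ⟨1, by omega⟩
  have h01 : i₀ ≠ i₁ := by simp [i₀, i₁]
  have hne : ∀ i, D i ≠ ⊥ := fun i e => by
    have := hD.finrank_eq i
    rw [e, finrank_bot] at this
    exact hD.pos.ne this
  obtain ⟨v₀, hv₀, hv₀0⟩ := (Submodule.ne_bot_iff _).mp (hne i₀)
  obtain ⟨v₁, hv₁, hv₁0⟩ := (Submodule.ne_bot_iff _).mp (hne i₁)
  have hdisj : ∀ {i j}, i ≠ j → ∀ x, x ∈ D i → x ∈ D j → x = 0 := fun {i j} hij x hi hj =>
    (Submodule.disjoint_def.mp (hD.indep.pairwiseDisjoint hij)) x hi hj
  have hw : v₀ + v₁ ≠ 0 := fun e => hv₀0 (hdisj h01 v₀ hv₀ (by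
    rw [eq_neg_of_add_eq_zero_left e]; exact neg_mem hv₁))
  obtain ⟨g, hg, hgv⟩ := exists_mem_SL_mulVec hv₀0 hw
  obtain ⟨π, hπ⟩ := hle hg
  have hk : v₀ + v₁ ∈ D (π i₀) := hgv ▸ hπ i₀ ▸ ⟨v₀, hv₀, Matrix.toLin'_apply _ _⟩
  by_cases h : π i₀ = i₀
  · rw [h] at hk
    exact hv₁0 (hdisj h01 v₁ (by simpa using sub_mem hk hv₀) hv₁)
  · by_cases h' : π i₀ = i₁
    · rw [h'] at hk
      exact hv₀0 (hdisj h01 v₀ hv₀ (by simpa using sub_mem hk hv₁))
    · exact hw ((Submodule.disjoint_def.mp (hD.indep (π i₀))) _ hk (add_mem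
        (Submodule.mem_iSup_of_mem i₀ (Submodule.mem_iSup_of_mem (Ne.symm h) hv₀))
        (Submodule.mem_iSup_of_mem i₁ (Submodule.mem_iSup_of_mem (Ne.symm h') hv₁))))

theorem not_le_field_general (h3 : 3 ≤ Fintype.card ι) {r : ℕ} (hr : 1 < r) {K : Subalgebra F (Matrix ι ι F)}
    (hK : IsFieldSubalgebra r K) : ¬ specialLinear ι F ≤ subalgebraNormalizer K := by
  intro hle
  haveI : Nonempty ι := Fintype.card_pos_iff.mp (by omega)
  have key : ∀ k ∈ K, ∀ a b : ι, a ≠ b → Matrix.single a b 1 * k = k * Matrix.single a b 1 := by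
    intro k hk a b hab
    set t := tv hab (1 : F)
    have hmem : (t : Matrix ι ι F) * k * ((t⁻¹ : GL ι F) : Matrix ι ι F) - k ∈ K :=
      sub_mem ((hle (tv_mem hab 1) k).mp hk) hk
    let φ : (ι → F) →ₗ[F] F × F :=
      ((LinearMap.proj b : (ι → F) →ₗ[F] F).prod ((LinearMap.proj b : (ι → F) →ₗ[F] F) ∘ₗ Matrix.toLin' k))
    have hker : LinearMap.ker φ ≠ ⊥ := LinearMap.ker_ne_bot_of_finrank_lt (by
      rw [Module.finrank_prod, Module.finrank_self, finrank_pi_card]; omega)
    obtain ⟨v, hv, hv0⟩ := (Submodule.ne_bot_iff _).mp hker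
    have hv1 : v b = 0 := congrArg Prod.fst (LinearMap.mem_ker.mp hv)
    have hv2 : (k *ᵥ v) b = 0 := congrArg Prod.snd (LinearMap.mem_ker.mp hv)
    have hE : ∀ w : ι → F, w b = 0 → Matrix.single a b (1 : F) *ᵥ w = 0 := fun w hw => by
      funext i
      rw [Matrix.mulVec, dotProduct]
      refine Finset.sum_eq_zero fun j _ => ?_
      rw [Matrix.single_apply]
      split_ifs with h
      · rw [← h.2, hw, mul_zero]
      · rw [zero_mul]
    have htv : (t : Matrix ι ι F) *ᵥ v = v := by
      rw [tv_val, Matrix.transvection, Matrix.add_mulVec, Matrix.one_mulVec, hE v hv1, add_zero]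
    have hzero : ((t : Matrix ι ι F) * k * ((t⁻¹ : GL ι F) : Matrix ι ι F) - k) *ᵥ v = 0 := by
      have e : ((t⁻¹ : GL ι F) : Matrix ι ι F) *ᵥ v = v := by
        conv_lhs => rw [← htv, inv_mulVec_mulVec]
      rw [Matrix.sub_mulVec, ← Matrix.mulVec_mulVec, e, ← Matrix.mulVec_mulVec, tv_val, Matrix.transvection,
        Matrix.add_mulVec, Matrix.one_mulVec, hE _ hv2, add_zero, sub_self]
    have heq : (t : Matrix ι ι F) * k * ((t⁻¹ : GL ι F) : Matrix ι ι F) - k = 0 := by
      by_contra hne
      obtain ⟨u, hu⟩ := fieldSub_isUnit hK hmem hne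
      rw [← hu] at hzero
      exact gl_mulVec_ne_zero u hv0 hzero
    have hc : (t : Matrix ι ι F) * k = k * (t : Matrix ι ι F) := by
      conv_rhs => rw [← sub_eq_zero.mp heq, mul_assoc, val_inv_mul, mul_one]
    rw [tv_val, Matrix.transvection, add_mul, mul_add, one_mul, mul_one] at hc
    exact add_left_cancel hc
  have h1 : Module.finrank F K = 1 := (finrank_eq_one_iff_of_nonzero' (⟨1, one_mem _⟩ : K)
    (fun e => one_ne_zero (congrArg Subtype.val e))).mpr fun k => by
      obtain ⟨c, hc⟩ := exists_scalar_of_commute_single (key k k.2)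
      exact ⟨c, Subtype.ext hc.symm⟩
  rw [hK.finrank_eq] at h1
  omega

/-- Conjugation preserves the special linear group. -/
theorem conj_mem_SL {g : GL ι F} (hg : g ∈ specialLinear ι F) (P : GL ι F) : P * g * P⁻¹ ∈ specialLinear ι F := by
  rw [specialLinear, MonoidHom.mem_ker] at hg ⊢
  rw [map_mul, map_mul, hg, mul_one, ← map_mul, mul_inv_cancel, map_one]

theorem inCoords_conj_tv {κ : Type} [Fintype κ] [DecidableEq κ] (e : ι ≃ κ) (P : GL ι F) {a b : ι} (hab : a ≠ b) :
    inCoords e P (P * tv hab 1 * P⁻¹) = Matrix.transvection (e a) (e b) (1 : F) := by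
  rw [inCoords, show P⁻¹ * (P * tv hab 1 * P⁻¹) * P = tv hab 1 by group, tv_val]
  ext x y
  simp [Matrix.transvection, Matrix.one_apply, Matrix.single_apply, Equiv.eq_symm_apply, Equiv.symm_apply_eq, eq_comm]

theorem exists_of_mem_conjReindex {κ : Type} [Fintype κ] [DecidableEq κ] {K : Subgroup (GL κ F)} (e : ι ≃ κ)
    (P g : GL ι F) (h : g ∈ (K.map (glReindex e.symm).toMonoidHom).map (MulAut.conj P).toMonoidHom) :
    ∃ k ∈ K, inCoords e P g = (k : Matrix κ κ F) := by
  obtain ⟨_, ⟨k, hk, rfl⟩, rfl⟩ := h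
  refine ⟨k, hk, ?_⟩
  rw [inCoords, MulEquiv.coe_toMonoidHom, MulEquiv.coe_toMonoidHom, MulAut.conj_apply,
    show ∀ y : GL ι F, P⁻¹ * (P * y * P⁻¹) * P = y from fun y => by group]
  show ((k : Matrix κ κ F).submatrix e e).submatrix e.symm e.symm = _
  rw [Matrix.submatrix_submatrix]
  simp

theorem not_le_tensor {n₁ n₂ : ℕ} (h1 : 2 ≤ n₁) (h2 : 2 ≤ n₂) (e : ι ≃ Fin n₁ × Fin n₂) (P : GL ι F) :
    ¬ specialLinear ι F ≤ tensorProductSubgroup n₁ n₂ e P := by
  intro hle
  let x : Fin n₁ × Fin n₂ := (⟨0, by omega⟩, ⟨0, by omega⟩)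
  let y : Fin n₁ × Fin n₂ := (⟨1, by omega⟩, ⟨1, by omega⟩)
  have hxy : e.symm x ≠ e.symm y := fun h => by
    have := congrArg (fun z => ((e z).1 : ℕ)) h
    simp [x, y] at this
  obtain ⟨k, ⟨a, b, hk⟩, hcoord⟩ := exists_of_mem_conjReindex (K := kroneckerSubgroup n₁ n₂ F) e P
    (P * tv hxy 1 * P⁻¹) (hle (conj_mem_SL (tv_mem hxy 1) P))
  rw [inCoords_conj_tv, hk, Equiv.apply_symm_apply, Equiv.apply_symm_apply] at hcoord
  have hA : ∀ p q, Matrix.transvection x y (1 : F) p q =
      (a : Matrix (Fin n₁) (Fin n₁) F) p.1 q.1 * (b : Matrix (Fin n₂) (Fin n₂) F) p.2 q.2 := fun p q => by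
    rw [hcoord, Matrix.kronecker_apply]
  have h01 : (⟨0, by omega⟩ : Fin n₁) ≠ ⟨1, by omega⟩ := by simp
  have h02 : (⟨0, by omega⟩ : Fin n₂) ≠ ⟨1, by omega⟩ := by simp
  have hdiag := hA x x
  have hoff := hA x y
  have hmix := hA x (y.1, x.2)
  simp [Matrix.transvection, Matrix.single_apply, x, y] at hdiag hoff hmix
  rcases hmix with h | h
  · simp [h] at hoff
  · simp [h] at hdiag

theorem IsWreathMat.mul {t m : ℕ} {A B : Matrix (Fin t → Fin m) (Fin t → Fin m) F} (hA : IsWreathMat A)
    (hB : IsWreathMat B) : IsWreathMat (A * B) := by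
  obtain ⟨σ, a, rfl⟩ := hA
  obtain ⟨τ, b, rfl⟩ := hB
  refine ⟨σ * τ, fun i => a (τ i) * b i, ?_⟩
  have e : piKron (d := fun _ => m) (fun i => (a i : Matrix (Fin m) (Fin m) F)) * permMat F τ =
      permMat F τ * piKron (d := fun _ => m) fun i => (a (τ i) : Matrix (Fin m) (Fin m) F) := by
    rw [permMat_piKron]
    simp
  have e2 : permMat (m := m) F σ * permMat F τ = permMat F (σ * τ) := by
    ext x y
    rw [permMat_apply_mul]
    simp [permMat, Function.comp_assoc, Equiv.Perm.coe_mul]
    rfl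
  calc permMat F σ * piKron (d := fun _ => m) (fun i => (a i : Matrix (Fin m) (Fin m) F)) *
        (permMat F τ * piKron (d := fun _ => m) fun i => (b i : Matrix (Fin m) (Fin m) F))
      = permMat F σ * (piKron (d := fun _ => m) (fun i => (a i : Matrix (Fin m) (Fin m) F)) * permMat F τ) *
          piKron (d := fun _ => m) fun i => (b i : Matrix (Fin m) (Fin m) F) := by simp only [Matrix.mul_assoc]
    _ = permMat F (σ * τ) * piKron (d := fun _ => m) fun i =>
          ((a (τ i) * b i : GL (Fin m) F) : Matrix (Fin m) (Fin m) F) := by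
        rw [e, ← Matrix.mul_assoc, e2, Matrix.mul_assoc, piKron_mul]
        rfl

theorem exists_isWreath_of_mem [Finite F] {m t : ℕ} (e : ι ≃ (Fin t → Fin m)) (P g : GL ι F)
    (h : g ∈ tensorWreathSubgroup m t e P) : IsWreathMat (inCoords e P g) := by
  obtain ⟨k, hk, hc⟩ := exists_of_mem_conjReindex (K := tensorWreathStandard m t F) e P g h
  rw [hc]
  have h1 : IsWreathMat (1 : Matrix (Fin t → Fin m) (Fin t → Fin m) F) := ⟨1, fun _ => 1, by
    have e1 : permMat (m := m) F (1 : Equiv.Perm (Fin t)) = 1 := by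
      ext x y; simp [permMat, Matrix.one_apply, eq_comm]
    have e2 : piKron (d := fun _ : Fin t => m) (fun _ => ((1 : GL (Fin m) F) : Matrix (Fin m) (Fin m) F)) = 1 := by
      rw [← piKron_one (F := F) (fun _ : Fin t => m)]; rfl
    rw [e1, e2, Matrix.one_mul]⟩
  clear hc
  induction hk using Subgroup.closure_induction with
  | mem x hx =>
    rcases hx with ⟨gs, hgs⟩ | ⟨σ, hσ⟩
    · refine ⟨1, gs, ?_⟩
      ext x y
      rw [permMat_apply_mul, hgs, piKron_apply]
      rfl
    · refine ⟨σ, fun _ => 1, ?_⟩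
      rw [show piKron (d := fun _ : Fin t => m) (fun _ => ((1 : GL (Fin m) F) : Matrix (Fin m) (Fin m) F)) = 1 by
        rw [← piKron_one (F := F) (fun _ : Fin t => m)]; rfl, Matrix.mul_one]
      ext x y
      rw [hσ]
      rfl
  | one => exact h1
  | mul x y _ _ hx hy => rw [Units.val_mul]; exact hx.mul hy
  | inv x _ hx =>
    have hpow : ∀ k, IsWreathMat ((x ^ k : GL (Fin t → Fin m) F) : Matrix (Fin t → Fin m) (Fin t → Fin m) F) := by
      intro k
      induction k with
      | zero => simpa using h1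
      | succ k ih => rw [pow_succ, Units.val_mul]; exact ih.mul hx
    haveI : Finite (GL (Fin t → Fin m) F) := inferInstance
    rw [show x⁻¹ = x ^ (orderOf x - 1) from inv_eq_of_mul_eq_one_right (by
      rw [← pow_succ', Nat.sub_add_cancel (orderOf_pos x), pow_orderOf_eq_one])]
    exact hpow _

theorem not_le_wreath [Finite F] {m t : ℕ} (hm : 2 ≤ m) (ht : 2 ≤ t) (e : ι ≃ (Fin t → Fin m)) (P : GL ι F) :
    ¬ specialLinear ι F ≤ tensorWreathSubgroup m t e P := by
  intro hle
  let u : Fin t → Fin m := fun _ => ⟨0, by omega⟩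
  let v : Fin t → Fin m := fun _ => ⟨1, by omega⟩
  let i₀ : Fin t := ⟨0, by omega⟩
  let i₁ : Fin t := ⟨1, by omega⟩
  have huv : e.symm u ≠ e.symm v := fun h => by
    have := congrArg (fun z => ((e z) i₀ : ℕ)) h
    simp [u, v] at this
  obtain ⟨σ, a, hc⟩ := exists_isWreath_of_mem e P (P * tv huv 1 * P⁻¹) (hle (conj_mem_SL (tv_mem huv 1) P))
  rw [inCoords_conj_tv, Equiv.apply_symm_apply, Equiv.apply_symm_apply] at hc
  let w : Fin t → Fin m := fun i => if i = i₀ then u i else v i
  have huv' : u ≠ v := fun h => by have := congrArg (fun z : Fin t → Fin m => (z i₀ : ℕ)) h; simp [u, v] at this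
  have hwu : w ≠ u := fun h => by
    have := congrArg (fun z : Fin t → Fin m => (z i₁ : ℕ)) h
    simp [w, u, v, i₀, i₁] at this
  have hwv : w ≠ v := fun h => by
    have := congrArg (fun z : Fin t → Fin m => (z i₀ : ℕ)) h
    simp [w, u, v] at this
  have hA : ∀ y, Matrix.transvection u v (1 : F) u y = ∏ i, (a i : Matrix (Fin m) (Fin m) F) (u (σ i)) (y i) :=
    fun y => by rw [hc, permMat_apply_mul, piKron_apply]; rfl
  have h0 : Matrix.transvection u v (1 : F) u u ≠ 0 := by
    simp [Matrix.transvection, Matrix.single_apply, Ne.symm huv']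
  have h1 : Matrix.transvection u v (1 : F) u v ≠ 0 := by
    simp [Matrix.transvection, Matrix.single_apply, huv']
  have h2 : Matrix.transvection u v (1 : F) u w = 0 := by
    simp [Matrix.transvection, Matrix.single_apply, Ne.symm hwu, Ne.symm hwv]
  rw [hA, Finset.prod_ne_zero_iff] at h0 h1
  rw [hA, Finset.prod_eq_zero_iff] at h2
  obtain ⟨i, -, hi⟩ := h2
  by_cases h : i = i₀
  · exact h0 i (Finset.mem_univ i) (by simpa [w, h] using hi)
  · exact h1 i (Finset.mem_univ i) (by simpa [w, h] using hi)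

theorem specialLinear_perfect (h3 : 3 ≤ Fintype.card ι) :
    ⁅specialLinear ι F, specialLinear ι F⁆ = specialLinear ι F := by
  have h : specialLinear ι F = (⊤ : Subgroup (SpecialLinearGroup ι F)).map SpecialLinearGroup.toGL := by
    rw [← MonoidHom.range_eq_map, Cfsg.Lib.Classical.range_toGL]; rfl
  rw [h, ← Subgroup.map_commutator, ← commutator_def, Cfsg.Lib.Classical.SL_commutator_eq_top h3]

theorem scalar_of_commute_SL (h3 : 3 ≤ Fintype.card ι) {x : GL ι F}
    (h : ∀ g ∈ specialLinear ι F, g * x = x * g) : x ∈ scalars ι F := by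
  haveI : Nonempty ι := Fintype.card_pos_iff.mp (by omega)
  obtain ⟨c, hc⟩ := exists_scalar_of_commute_single (M := (x : Matrix ι ι F)) fun a b hab => by
    have h1 := congrArg Units.val (h _ (tv_mem hab 1))
    rw [Units.val_mul, Units.val_mul, tv_val, Matrix.transvection, add_mul, mul_add, one_mul, mul_one] at h1
    exact add_left_cancel h1
  exact mem_scalars_of_val_eq hc

/-- The special linear group does not normalise an absolutely irreducible `r`-group. -/
theorem not_le_normalizer [Finite F] (h3 : 3 ≤ Fintype.card ι) {r p : ℕ} [Fact p.Prime] [CharP F p] (hrp : r ≠ p)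
    (hr : r.Prime) {R : Subgroup (GL ι F)} (hp : IsPGroup r R) (hai : ActsAbsolutelyIrreducibly (matrixSet R)) :
    ¬ specialLinear ι F ≤ subgroupNormalizer R := by
  intro hle
  haveI : Nonempty ι := Fintype.card_pos_iff.mp (by omega)
  haveI : Nontrivial ι := Fintype.one_lt_card_iff_nontrivial.mp (by omega)
  have hns : ¬ R ≤ scalars ι F := fun hs => by
    let i₀ : ι := Classical.arbitrary ι
    rcases (Cfsg.Lib.Classical.PrimeDim.irreducible_iff R).mp hai.1 (Submodule.span F {Pi.single i₀ (1 : F)})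
      (fun g hg v hv => by
        obtain ⟨c, hc⟩ := (mem_scalars_iff g).mp (hs hg)
        rw [hc, Matrix.smul_mulVec, Matrix.one_mulVec]
        exact Submodule.smul_mem _ _ hv) with e | e
    · have := congrFun (Submodule.span_singleton_eq_bot.mp e) i₀
      simp at this
    · have h0 : (Pi.single i₀ (1 : F) : ι → F) ≠ 0 := fun e => by simpa using congrFun e i₀
      have := finrank_span_singleton (K := F) h0
      rw [e, finrank_top, finrank_pi_card] at this
      omega
  let K : Subgroup (SpecialLinearGroup ι F) := R.comap SpecialLinearGroup.toGL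
  have hKn : K.Normal := ⟨fun k hk g => by
    show SpecialLinearGroup.toGL (g * k * g⁻¹) ∈ R
    rw [map_mul, map_mul, map_inv]
    exact (Subgroup.mem_normalizer_iff.mp (hle (show SpecialLinearGroup.toGL g ∈ specialLinear ι F by
      rw [specialLinear, ← Cfsg.Lib.Classical.range_toGL]; exact ⟨g, rfl⟩)) _).mp hk⟩
  haveI := Cfsg.Lib.Classical.isSimpleGroup_PSL (F := F) h3
  rcases IsSimpleGroup.eq_bot_or_eq_top_of_normal _
    (hKn.map (QuotientGroup.mk' (Subgroup.center (SpecialLinearGroup ι F))) (QuotientGroup.mk'_surjective _)) with h | h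
  · -- `R` centralises modulo scalars
    have hc : ∀ g ∈ specialLinear ι F, ∀ x ∈ R, g * x * g⁻¹ * x⁻¹ ∈ scalars ι F := by
      intro g hg x hx
      rw [specialLinear, ← Cfsg.Lib.Classical.range_toGL] at hg
      obtain ⟨A, rfl⟩ := hg
      have hA : SpecialLinearGroup.toGL A ∈ specialLinear ι F := by
        rw [specialLinear, ← Cfsg.Lib.Classical.range_toGL]; exact ⟨A, rfl⟩
      set y := SpecialLinearGroup.toGL A * x * (SpecialLinearGroup.toGL A)⁻¹ * x⁻¹
      have hyR : y ∈ R := mul_mem ((Subgroup.mem_normalizer_iff.mp (hle hA) x).mp hx) (inv_mem hx)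
      have hyS : y ∈ specialLinear ι F := by
        simp only [y, specialLinear, MonoidHom.mem_ker] at hA ⊢
        simp [map_mul, map_inv, mul_comm, hA]
      rw [specialLinear, ← Cfsg.Lib.Classical.range_toGL] at hyS
      obtain ⟨B, hB⟩ := hyS
      have hBK : B ∈ K := by show SpecialLinearGroup.toGL B ∈ R; rw [hB]; exact hyR
      have hBc : B ∈ Subgroup.center (SpecialLinearGroup ι F) :=
        (QuotientGroup.eq_one_iff B).mp ((Subgroup.map_eq_bot_iff _).mp h hBK)
      rw [← hB]
      refine scalar_of_commute_SL h3 fun g hg => ?_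
      rw [specialLinear, ← Cfsg.Lib.Classical.range_toGL] at hg
      obtain ⟨C, rfl⟩ := hg
      rw [← map_mul, ← map_mul, Subgroup.mem_center_iff.mp hBc C]
    refine hns fun x hx => scalar_of_commute_SL h3 fun g hg => ?_
    exact commute_of_perfect (specialLinear_perfect h3) (fun a ha => hc a ha x hx) g hg
  · -- then `R` contains a transvection
    have hK : K = ⊤ := by
      rw [eq_top_iff, ← Cfsg.Lib.Classical.SL_commutator_eq_top (F := F) h3, commutator_def, Subgroup.commutator_le]
      intro a _ b _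
      have hsup : ∀ a : SpecialLinearGroup ι F, ∃ k ∈ K, ∃ z ∈ Subgroup.center (SpecialLinearGroup ι F), k * z = a := by
        intro a
        obtain ⟨k, hk, he⟩ : QuotientGroup.mk' (Subgroup.center (SpecialLinearGroup ι F)) a ∈
            K.map (QuotientGroup.mk' (Subgroup.center (SpecialLinearGroup ι F))) := h ▸ Subgroup.mem_top _
        exact ⟨k, hk, k⁻¹ * a, (QuotientGroup.eq).mp he, mul_inv_cancel_left k a⟩
      obtain ⟨k, hk, z, hz, rfl⟩ := hsup a
      obtain ⟨l, hl, w, hw, rfl⟩ := hsup b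
      have e : ⁅k * z, l * w⁆ = ⁅k, l⁆ := by
        have cz := Subgroup.mem_center_iff.mp hz
        have cw := Subgroup.mem_center_iff.mp hw
        simp only [commutatorElement_def, _root_.mul_inv_rev]
        calc k * z * (l * w) * (z⁻¹ * k⁻¹) * (w⁻¹ * l⁻¹)
            = k * (z * (l * w)) * z⁻¹ * (k⁻¹ * w⁻¹) * l⁻¹ := by simp only [mul_assoc]
          _ = k * l * ((w * z * z⁻¹) * (k⁻¹ * w⁻¹)) * l⁻¹ := by rw [← cz]; simp only [mul_assoc]
          _ = k * l * ((w * k⁻¹) * w⁻¹) * l⁻¹ := by simp only [mul_inv_cancel_left, mul_assoc]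
          _ = k * l * k⁻¹ * l⁻¹ := by rw [← cw, mul_inv_cancel_right]
      rw [e, commutatorElement_def]
      exact mul_mem (mul_mem (mul_mem hk hl) (inv_mem hk)) (inv_mem hl)
    obtain ⟨a, b, hab⟩ := exists_pair_ne ι
    have ht : SpecialLinearGroup.toGL (SpecialLinearGroup.transvection hab (1 : F)) ∈ R :=
      show SpecialLinearGroup.transvection hab (1 : F) ∈ K from hK ▸ Subgroup.mem_top _
    set T := SpecialLinearGroup.toGL (SpecialLinearGroup.transvection hab (1 : F))
    have hTv : (T : Matrix ι ι F) = Matrix.transvection a b 1 := rfl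
    obtain ⟨k, hk⟩ := hp ⟨T, ht⟩
    have hk' : T ^ r ^ k = 1 := congrArg Subtype.val hk
    have hpow : ∀ j : ℕ, (T : Matrix ι ι F) ^ j = Matrix.transvection a b (j : F) := by
      intro j
      induction j with
      | zero => simp
      | succ j ih => rw [pow_succ, ih, hTv, transvection_mul_transvection_same a b hab, Nat.cast_succ]
    have h0 : ((r ^ k : ℕ) : F) = 0 := by
      have h1 := congrArg (fun g : GL ι F => (g : Matrix ι ι F) a b) hk'
      simp only [Units.val_pow_eq_pow_val, hpow, Units.val_one, Matrix.transvection, Matrix.add_apply,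
        Matrix.one_apply_ne hab, Matrix.single_apply, and_self, if_true, zero_add] at h1
      exact h1
    rw [CharP.cast_eq_zero_iff F p] at h0
    exact hrp ((Nat.prime_dvd_prime_iff_eq (Fact.out : p.Prime) hr).mp ((Fact.out : p.Prime).dvd_of_dvd_pow h0)).symm

/-- The degree of a subfield of the matrix algebra divides the degree of the matrices. -/
theorem IsFieldSubalgebra.dvd_card [Nonempty ι] {r : ℕ} {K : Subalgebra F (Matrix ι ι F)}
    (hK : IsFieldSubalgebra r K) : r ∣ Fintype.card ι := by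
  haveI : Nontrivial K := ⟨⟨0, 1, fun h => zero_ne_one (congrArg Subtype.val h)⟩⟩
  have hfield : IsField K := ⟨exists_pair_ne _, fun a b => Subtype.ext (hK.comm a a.2 b b.2), fun {a} ha => by
    obtain ⟨y, hy, h⟩ := hK.inv a a.2 fun h => ha (Subtype.ext h)
    exact ⟨⟨y, hy⟩, Subtype.ext h⟩⟩
  letI : Field K := hfield.toField
  have hsmul : ∀ (k : K) (v : ι → F), k • v = (k : Matrix ι ι F) *ᵥ v := fun k v => rfl
  haveI : IsScalarTower F K (ι → F) := IsScalarTower.of_algebraMap_smul fun c v => by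
    rw [hsmul]
    show (algebraMap F (Matrix ι ι F) c) *ᵥ v = _
    rw [Algebra.algebraMap_eq_smul_one, Matrix.smul_mulVec, Matrix.one_mulVec]
  haveI : FiniteDimensional F K := FiniteDimensional.finiteDimensional_subalgebra K
  haveI : Module.Finite K (ι → F) := Module.Finite.of_restrictScalars_finite F K (ι → F)
  rw [← finrank_pi_card (F := F), ← Module.finrank_mul_finrank F K (ι → F), hK.finrank_eq]
  exact dvd_mul_right _ _

theorem IsMDecomposition.mul_eq {t m : ℕ} {D : Fin t → Submodule F (ι → F)} (hD : IsMDecomposition m D) :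
    t * m = Fintype.card ι := by
  have hint : DirectSum.IsInternal D :=
    DirectSum.isInternal_submodule_of_iSupIndep_of_iSup_eq_top hD.indep hD.iSup_eq_top
  let b := hint.collectedBasis fun i => Module.finBasisOfFinrankEq F (D i) (hD.finrank_eq i)
  rw [← finrank_pi_card (F := F), Module.finrank_eq_card_basis b]
  simp

end Cfsg.Lib.Classical.Aschbacher
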