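import Cfsg.Agent.Classical.Aschbacher.FormBase
import Cfsg.Agent.Classical.Aschbacher.LinearMembers

/-! Extension fields attached to a normalised group of isometries: adjoints and self-adjointness. -/

set_option autoImplicit false
set_option linter.unusedSimpArgs false
set_option linter.unusedSectionVars false
set_option linter.style.haveILetI false

namespace Cfsg.Lib.Classical.Aschbacher

open Matrix Cfsg.Geo
open scoped MatrixGroups Kronecker
open Cfsg.Lib.Classical.PrimeDim (Normalises mem_comm mem_comm_matrixSet comm comm_comm comm_inv conj_mem_comm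
  val_inv_mul val_mul_inv mem_scalars_of_val_eq mulVec_inv_mulVec inv_mulVec_mulVec fieldSub_centralizer)

universe u

variable {ι : Type} [Fintype ι] [DecidableEq ι] {F : Type u} [Field F]

namespace ReflForm

variable {σ : F ≃+* F} {ε : F} {f : (ι → F) → (ι → F) → F}

/-- The adjoint of a matrix. -/
noncomputable def adj (_hf : ReflForm σ ε f) (M : Matrix ι ι F) : Matrix ι ι F :=
  ((gramMatrix f)⁻¹ * Mᵀ * gramMatrix f).map σ

theorem adj_spec (hf : ReflForm σ ε f) (M : Matrix ι ι F) (u v : ι → F) : f (M *ᵥ u) v = f u (hf.adj M *ᵥ v) := by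
  have h1 : f (M *ᵥ u) ((1 : Matrix ι ι F) *ᵥ v) = f ((1 : Matrix ι ι F) *ᵥ u) (hf.adj M *ᵥ v) := by
    rw [hf.toIsSesq.apply_mulVec, hf.toIsSesq.apply_mulVec, adj, Matrix.map_map,
      show (⇑σ ∘ ⇑σ) = id from funext hf.inv, Matrix.map_id, Matrix.map_one σ (map_zero σ) (map_one σ),
      Matrix.transpose_one, Matrix.one_mul, Matrix.mul_one, ← Matrix.mul_assoc, ← Matrix.mul_assoc,
      Matrix.mul_nonsing_inv _ (isUnit_iff_ne_zero.mpr hf.toIsSesq.det_gram_ne_zero), Matrix.one_mul]
  simpa using h1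

theorem right_ext (hf : ReflForm σ ε f) {A B : Matrix ι ι F} (h : ∀ u v, f u (A *ᵥ v) = f u (B *ᵥ v)) : A = B := by
  apply Matrix.toLin'.injective
  refine LinearMap.ext fun v => ?_
  rw [Matrix.toLin'_apply, Matrix.toLin'_apply, ← sub_eq_zero]
  by_contra hne
  obtain ⟨u, hu⟩ := (hf.nondegenerate _ hne).1
  apply hu
  have := hf.add_right u (A *ᵥ v - B *ᵥ v) (B *ᵥ v)
  rwa [sub_add_cancel, h u v, right_eq_add] at this

theorem adj_unique (hf : ReflForm σ ε f) {M A : Matrix ι ι F} (h : ∀ u v, f (M *ᵥ u) v = f u (A *ᵥ v)) :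
    hf.adj M = A :=
  hf.right_ext fun u v => (hf.adj_spec M u v).symm.trans (h u v)

theorem adj_mul (hf : ReflForm σ ε f) (A B : Matrix ι ι F) : hf.adj (A * B) = hf.adj B * hf.adj A :=
  hf.adj_unique fun u v => by rw [← Matrix.mulVec_mulVec, hf.adj_spec, hf.adj_spec, Matrix.mulVec_mulVec]

theorem adj_add (hf : ReflForm σ ε f) (A B : Matrix ι ι F) : hf.adj (A + B) = hf.adj A + hf.adj B :=
  hf.adj_unique fun u v => by
    rw [Matrix.add_mulVec, hf.add_left, hf.adj_spec, hf.adj_spec, Matrix.add_mulVec, hf.add_right]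

theorem adj_smul_one (hf : ReflForm σ ε f) (c : F) : hf.adj (c • (1 : Matrix ι ι F)) = σ c • (1 : Matrix ι ι F) :=
  hf.adj_unique fun u v => by
    rw [Matrix.smul_mulVec, Matrix.one_mulVec, hf.smul_left, Matrix.smul_mulVec, Matrix.one_mulVec, hf.smul_right, hf.inv]

theorem adj_one (hf : ReflForm σ ε f) : hf.adj (1 : Matrix ι ι F) = 1 := hf.adj_unique fun u v => by simp

theorem adj_pow (hf : ReflForm σ ε f) (A : Matrix ι ι F) (k : ℕ) : hf.adj (A ^ k) = hf.adj A ^ k := by
  induction k with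
  | zero => rw [pow_zero, pow_zero, hf.adj_one]
  | succ k ih => rw [pow_succ, hf.adj_mul, ih, ← pow_succ']

theorem adj_adj (hf : ReflForm σ ε f) (M : Matrix ι ι F) : hf.adj (hf.adj M) = M :=
  hf.adj_unique fun u v => by rw [hf.herm v, ← hf.adj_spec M v u, ← hf.herm]

theorem adj_mem_comm (hf : ReflForm σ ε f) {N : Subgroup (GL ι F)} (hN : Fixes f N) {M : Matrix ι ι F}
    (hM : M ∈ comm (matrixSet N)) : hf.adj M ∈ comm (matrixSet N) := by
  refine mem_comm_matrixSet.mpr fun g hg => hf.right_ext fun u v => ?_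
  rw [← Matrix.mulVec_mulVec, ← Matrix.mulVec_mulVec, ← hf.adj_spec]
  conv_rhs => rw [← mulVec_inv_mulVec g u, hN g hg, ← hf.adj_spec]
  conv_lhs => rw [← mulVec_inv_mulVec g (M *ᵥ u), hN g hg]
  rw [Matrix.mulVec_mulVec, Matrix.mulVec_mulVec, mem_comm_matrixSet.mp hM g⁻¹ (N.inv_mem hg)]

end ReflForm

/-- The centre of the commutant. -/
def centreComm (N : Subgroup (GL ι F)) : Subalgebra F (Matrix ι ι F) :=
  comm (matrixSet N) ⊓ comm ((comm (matrixSet N) : Subalgebra F (Matrix ι ι F)) : Set (Matrix ι ι F))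

theorem mem_centreComm {N : Subgroup (GL ι F)} {x : Matrix ι ι F} :
    x ∈ centreComm N ↔ x ∈ comm (matrixSet N) ∧ ∀ C ∈ comm (matrixSet N), x * C = C * x := by
  rw [centreComm, Algebra.mem_inf]
  exact and_congr_right fun _ => mem_comm

theorem adj_mem_centreComm {σ : F ≃+* F} {ε : F} {f : (ι → F) → (ι → F) → F} (hf : ReflForm σ ε f)
    {N : Subgroup (GL ι F)} (hN : Fixes f N) {M : Matrix ι ι F} (hM : M ∈ centreComm N) :
    hf.adj M ∈ centreComm N := by
  rw [mem_centreComm] at hM ⊢
  refine ⟨hf.adj_mem_comm hN hM.1, fun C hC => ?_⟩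
  calc hf.adj M * C = hf.adj M * hf.adj (hf.adj C) := by rw [hf.adj_adj]
    _ = hf.adj (M * hf.adj C) := by rw [← hf.adj_mul, ← hM.2 _ (hf.adj_mem_comm hN hC)]
    _ = C * hf.adj M := by rw [hf.adj_mul, hf.adj_adj]

theorem centreComm_normalises {N H : Subgroup (GL ι F)} (hn : Normalises H N) :
    H ≤ subalgebraNormalizer (centreComm N) := by
  have key : ∀ h ∈ H, ∀ x ∈ centreComm N,
      (h : Matrix ι ι F) * x * ((h⁻¹ : GL ι F) : Matrix ι ι F) ∈ centreComm N := by
    intro h hh x hx
    rw [mem_centreComm] at hx ⊢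
    refine ⟨conj_mem_comm hn hh hx.1, fun C hC => ?_⟩
    have hC' := conj_mem_comm hn (H.inv_mem hh) hC
    rw [inv_inv] at hC'
    have h1 := congrArg (fun Z => (h : Matrix ι ι F) * Z * ((h⁻¹ : GL ι F) : Matrix ι ι F)) (hx.2 _ hC')
    simp only [← Matrix.mul_assoc, val_mul_inv, Matrix.one_mul] at h1
    simpa [Matrix.mul_assoc, val_mul_inv] using h1
  intro h hh x
  refine ⟨key h hh x, fun hx => ?_⟩
  have := key h⁻¹ (H.inv_mem hh) _ hx
  rw [inv_inv] at this
  simp only [← mul_assoc, val_inv_mul, one_mul] at this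
  rwa [mul_assoc, val_inv_mul, mul_one] at this

theorem Homog.mem_centre [Finite F] {N : Subgroup (GL ι F)} {d k : ℕ} {Φ : Matrix ι (Fin d × Fin k) F}
    {Ψ : Matrix (Fin d × Fin k) ι F} {ρ : N → Matrix (Fin d) (Fin d) F} (hh : Homog N Φ Ψ ρ) {x : Matrix ι ι F} :
    x ∈ centreComm N ↔ ∃ X, (∀ g, X * ρ g = ρ g * X) ∧ x = Φ * (X ⊗ₖ (1 : Matrix (Fin k) (Fin k) F)) * Ψ := by
  classical
  haveI := hh.irr.nonempty
  haveI : Nonempty (Fin k) := ⟨⟨0, hh.pos⟩⟩
  let a₀ : Fin k := Classical.arbitrary _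
  rw [mem_centreComm]
  constructor
  · rintro ⟨hx, hx'⟩
    set T := Ψ * x * Φ with hT
    refine ⟨block T a₀ a₀, fun g => block_intertwines (hh.transfer hx g) a₀ a₀, ?_⟩
    rw [← hh.mul_ι x]
    congr 2
    ext ⟨i, a⟩ ⟨j, b⟩
    have hc := hx' _ (hh.kron_mem_comm (X := 1) (fun g => by rw [one_mul, mul_one]) (Matrix.single a₀ a 1))
    have h1 : T * ((1 : Matrix (Fin d) (Fin d) F) ⊗ₖ Matrix.single a₀ a 1) =
        ((1 : Matrix (Fin d) (Fin d) F) ⊗ₖ Matrix.single a₀ a 1) * T := by
      have := congrArg (fun Z => Ψ * Z * Φ) hc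
      simp only [Matrix.mul_assoc] at this
      simp only [← Matrix.mul_assoc, hh.coords.right, Matrix.one_mul] at this
      simpa [hT, Matrix.mul_assoc, hh.coords.right] using this
    have h' := congrFun (congrFun h1 (i, a₀)) (j, b)
    simp only [Matrix.mul_apply, Matrix.kronecker_apply, Fintype.sum_prod_type, Matrix.one_apply,
      Matrix.single_apply, mul_ite, ite_mul, mul_one, one_mul, mul_zero, zero_mul, Finset.sum_ite_eq,
      Finset.sum_ite_eq', Finset.mem_univ, if_true, ite_and] at h'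
    simp only [block, Matrix.of_apply, Matrix.kronecker_apply, Matrix.one_apply]
    show T (i, a) (j, b) = _
    rw [← h']
    split_ifs <;> simp_all
  · rintro ⟨X, hX, rfl⟩
    refine ⟨hh.kron_mem_comm hX 1, fun C hC => ?_⟩
    have hb : ∀ a b, block (Ψ * C * Φ) a b ∈ comm (Set.range ρ) := fun a b =>
      mem_comm.mpr (Set.forall_mem_range.mpr fun g => block_intertwines (hh.transfer hC g) a b)
    have hXE : X ∈ comm (Set.range ρ) := mem_comm.mpr (Set.forall_mem_range.mpr hX)
    rw [← hh.mul_ι C]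
    set D := Ψ * C * Φ with hD
    have e : ∀ A B : Matrix (Fin d × Fin k) (Fin d × Fin k) F, Φ * A * Ψ * (Φ * B * Ψ) = Φ * (A * B) * Ψ :=
      fun A B => by
        simp only [Matrix.mul_assoc]
        rw [← Matrix.mul_assoc Ψ Φ, hh.coords.right, Matrix.one_mul]
    rw [e, e]
    congr 2
    ext ⟨i, a⟩ ⟨j, b⟩
    have hcomm' := congrFun (congrFun (comm_comm hh.irr.acts hXE (hb a b)) i) j
    simp only [Matrix.mul_apply, block, Matrix.of_apply] at hcomm'
    simp only [Matrix.mul_apply, Matrix.kronecker_apply, Fintype.sum_prod_type, Matrix.one_apply, mul_ite,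
      ite_mul, mul_one, mul_zero, zero_mul, Finset.sum_ite_eq, Finset.sum_ite_eq', Finset.mem_univ, if_true]
    exact hcomm'

theorem Homog.centre_field [Finite F] [Nonempty ι] {N : Subgroup (GL ι F)} {d k : ℕ} {Φ : Matrix ι (Fin d × Fin k) F}
    {Ψ : Matrix (Fin d × Fin k) ι F} {ρ : N → Matrix (Fin d) (Fin d) F} (hh : Homog N Φ Ψ ρ) (hna : ¬ AbsIrr ρ) :
    ∃ e, 1 < e ∧ IsFieldSubalgebra e (centreComm N) := by
  haveI := hh.irr.nonempty
  haveI : Nonempty (Fin k) := ⟨⟨0, hh.pos⟩⟩
  set K := centreComm N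
  have e : ∀ A B : Matrix (Fin d × Fin k) (Fin d × Fin k) F, Φ * A * Ψ * (Φ * B * Ψ) = Φ * (A * B) * Ψ := fun A B => by
    simp only [Matrix.mul_assoc]
    rw [← Matrix.mul_assoc Ψ Φ, hh.coords.right, Matrix.one_mul]
  refine ⟨Module.finrank F K, ?_, ⟨fun x hx y hy => (mem_centreComm.mp hx).2 y (mem_centreComm.mp hy).1,
    fun x hx h0 => ?_, rfl⟩⟩
  · by_contra hle
    refine hna ⟨hh.irr, fun X hX => ?_⟩
    haveI : Nontrivial K := ⟨⟨0, 1, fun h => zero_ne_one (congrArg Subtype.val h)⟩⟩
    have he : Module.finrank F K = 1 := le_antisymm (not_lt.mp hle) Module.finrank_pos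
    obtain ⟨c, hc⟩ := (finrank_eq_one_iff_of_nonzero' (1 : K) one_ne_zero).mp he
      ⟨_, hh.mem_centre.mpr ⟨X, hX, rfl⟩⟩
    refine ⟨c, kron_one_injective (μ := Fin k) ?_⟩
    have hc' := congrArg (fun Z => Ψ * Z * Φ) (congrArg Subtype.val hc)
    simp only [Subalgebra.coe_smul, OneMemClass.coe_one, Matrix.mul_smul, Matrix.smul_mul, Matrix.mul_one,
      hh.coords.right, ← Matrix.mul_assoc, Matrix.one_mul] at hc'
    rw [Matrix.mul_assoc, hh.coords.right, Matrix.mul_one] at hc'
    rw [← hc', Matrix.smul_kronecker, Matrix.one_kronecker_one]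
  · obtain ⟨X, hX, rfl⟩ := hh.mem_centre.mp hx
    obtain ⟨Y, hY, hXY⟩ := comm_inv hh.irr.acts (S := Set.range ρ) (M := X)
      (mem_comm.mpr (Set.forall_mem_range.mpr hX)) (fun h => h0 (by simp [h]))
    refine ⟨_, hh.mem_centre.mpr ⟨Y, Set.forall_mem_range.mp (mem_comm.mp hY), rfl⟩, ?_⟩
    rw [e, ← Matrix.mul_kronecker_mul, hXY, Matrix.one_mul, Matrix.one_kronecker_one, Matrix.mul_one, hh.coords.left]

section FieldSub

variable [Nonempty ι] {e : ℕ} {K : Subalgebra F (Matrix ι ι F)}

theorem isField_of_fieldSub (hK : IsFieldSubalgebra e K) : IsField K := by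
  haveI : Nontrivial K := ⟨⟨0, 1, fun h => zero_ne_one (congrArg Subtype.val h)⟩⟩
  exact ⟨exists_pair_ne _, fun a b => Subtype.ext (hK.comm a a.2 b b.2), fun {a} ha => by
    obtain ⟨y, hy, h⟩ := hK.inv a a.2 fun h => ha (Subtype.ext h)
    exact ⟨⟨y, hy⟩, Subtype.ext h⟩⟩

variable [Finite F]

theorem fieldSub_pow_card (hK : IsFieldSubalgebra e K) {x : Matrix ι ι F} (hx : x ∈ K) : x ^ Nat.card K = x := by
  letI : Field K := (isField_of_fieldSub hK).toField
  haveI : Finite K := Finite.of_injective _ Subtype.val_injective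
  letI := Fintype.ofFinite K
  have := congrArg Subtype.val (FiniteField.pow_card (⟨x, hx⟩ : K))
  rw [Fintype.card_eq_nat_card] at this
  exact this

/-- The elements fixed by the power map of a subfield belong to it. -/
theorem mem_of_pow_card {r : ℕ} {K₀ : Subalgebra F (Matrix ι ι F)} (hK : IsFieldSubalgebra e K)
    (hK₀ : IsFieldSubalgebra r K₀) (hle : K₀ ≤ K) {y : Matrix ι ι F} (hy : y ∈ K) (h : y ^ Nat.card K₀ = y) :
    y ∈ K₀ := by
  classical
  letI : Field K := (isField_of_fieldSub hK).toField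
  haveI : Finite K₀ := Finite.of_injective _ Subtype.val_injective
  letI := Fintype.ofFinite K₀
  by_contra hyn
  have h1 : 1 < Nat.card K₀ := by
    rw [Finite.one_lt_card_iff_nontrivial]
    exact ⟨⟨0, 1, fun h => zero_ne_one (congrArg Subtype.val h)⟩⟩
  let P : Polynomial K := Polynomial.X ^ Nat.card K₀ - Polynomial.X
  let fo : Option K₀ → K := fun o => o.elim ⟨y, hy⟩ (fun x => ⟨(x : Matrix ι ι F), hle x.2⟩)
  have hinj : Function.Injective fo := by
    rintro (_ | a) (_ | b) hab
    · rfl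
    · exact absurd (by rw [show y = (b : Matrix ι ι F) from congrArg Subtype.val hab]; exact b.2) hyn
    · exact absurd (by rw [show y = (a : Matrix ι ι F) from (congrArg Subtype.val hab).symm]; exact a.2) hyn
    · exact congrArg some (Subtype.ext (congrArg Subtype.val hab :))
  have hdeg : P.natDegree = Nat.card K₀ := FiniteField.X_pow_card_sub_X_natDegree_eq K h1
  have hP := Polynomial.eq_zero_of_natDegree_lt_card_of_eval_eq_zero P hinj (fun o => by
    simp only [P, Polynomial.eval_sub, Polynomial.eval_pow, Polynomial.eval_X, sub_eq_zero]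
    apply Subtype.ext
    rw [SubmonoidClass.coe_pow]
    rcases o with _ | x
    · exact h
    · exact fieldSub_pow_card hK₀ x.2) (by rw [hdeg, Fintype.card_option, Nat.card_eq_fintype_card]; exact Nat.lt_succ_self _)
  rw [hP, Polynomial.natDegree_zero] at hdeg
  omega

end FieldSub

variable [Finite F] [Nonempty ι] {σ : F ≃+* F} {ε : F} {f : (ι → F) → (ι → F) → F}

/-- A constituent which is not absolutely irreducible gives an adjoint-closed normalised field of prime degree. -/
theorem Homog.form_field {N H : Subgroup (GL ι F)} {d k : ℕ} {Φ : Matrix ι (Fin d × Fin k) F}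
    {Ψ : Matrix (Fin d × Fin k) ι F} {ρ : N → Matrix (Fin d) (Fin d) F} (hh : Homog N Φ Ψ ρ) (hn : Normalises H N)
    (hf : ReflForm σ ε f) (hN : Fixes f N) (hna : ¬ AbsIrr ρ) :
    ∃ (r : ℕ) (K : Subalgebra F (Matrix ι ι F)), r.Prime ∧ IsFieldSubalgebra r K ∧ (∀ k ∈ K, hf.adj k ∈ K) ∧
      K ≤ comm (matrixSet N) ∧ H ≤ subalgebraNormalizer K := by
  obtain ⟨e, he, hK⟩ := hh.centre_field hna
  obtain ⟨r, K₀, hr, -, hK₀, hle, hN₀⟩ := exists_prime_subalgebra hK he (centreComm_normalises hn)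
  refine ⟨r, K₀, hr, hK₀, fun k hk => ?_, fun k hk => (mem_centreComm.mp (hle hk)).1, hN₀⟩
  exact mem_of_pow_card hK hK₀ hle (adj_mem_centreComm hf hN (hle hk))
    (by rw [← hf.adj_pow, fieldSub_pow_card hK₀ hk])

theorem adjClosed_of {K : Subalgebra F (Matrix ι ι F)} (hf : ReflForm σ ε f) (h : ∀ k ∈ K, hf.adj k ∈ K) :
    IsAdjointClosedFor f K := fun k hk => ⟨hf.adj k, h k hk, hf.adj_spec k⟩

theorem selfAdjoint_iff {K : Subalgebra F (Matrix ι ι F)} (hf : ReflForm σ ε f) :
    IsSelfAdjointFor f K ↔ ∀ k ∈ K, hf.adj k = k :=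
  ⟨fun h k hk => hf.adj_unique (h k hk), fun h k hk u v => by rw [hf.adj_spec, h k hk]⟩

/-- A field of odd prime degree closed under the adjoint of a bilinear form is self-adjoint. -/
theorem selfAdjoint_of_odd {r : ℕ} {K : Subalgebra F (Matrix ι ι F)} (hK : IsFieldSubalgebra r K) (hr : r.Prime)
    (ho : Odd r) {f : (ι → F) → (ι → F) → F} {ε : F} (hf : ReflForm (RingEquiv.refl F) ε f)
    (h : ∀ k ∈ K, hf.adj k ∈ K) : IsSelfAdjointFor f K := by
  rw [selfAdjoint_iff hf]
  letI : Field K := (isField_of_fieldSub hK).toField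
  haveI : Finite K := Finite.of_injective _ Subtype.val_injective
  haveI : FiniteDimensional F K := Module.Finite.of_finite
  let α : K ≃ₐ[F] K :=
    { toFun := fun x => ⟨hf.adj x, h x x.2⟩
      invFun := fun x => ⟨hf.adj x, h x x.2⟩
      left_inv := fun x => Subtype.ext (hf.adj_adj _)
      right_inv := fun x => Subtype.ext (hf.adj_adj _)
      map_mul' := fun x y => Subtype.ext (by
        show hf.adj ((x : Matrix ι ι F) * y) = hf.adj x * hf.adj y
        rw [hf.adj_mul, hK.comm _ (h y y.2) _ (h x x.2)])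
      map_add' := fun x y => Subtype.ext (hf.adj_add _ _)
      commutes' := fun c => Subtype.ext (by
        show hf.adj (algebraMap F (Matrix ι ι F) c) = algebraMap F (Matrix ι ι F) c
        rw [Algebra.algebraMap_eq_smul_one, hf.adj_smul_one]
        rfl) }
  have h2 : α ^ 2 = 1 := AlgEquiv.ext fun x => Subtype.ext (hf.adj_adj _)
  have hcard : Nat.card (K ≃ₐ[F] K) = r := by
    rw [IsGalois.card_aut_eq_finrank]; exact hK.finrank_eq
  have hα : α = 1 := by
    rw [← orderOf_eq_one_iff]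
    have h1 := orderOf_dvd_of_pow_eq_one h2
    have h3 : orderOf α ∣ r := hcard ▸ orderOf_dvd_natCard α
    exact Nat.eq_one_of_dvd_coprimes ((Nat.coprime_two_left).mpr ho) h1 h3
  intro k hk
  exact congrArg Subtype.val (AlgEquiv.congr_fun hα ⟨k, hk⟩)

/-- An alternating form vanishes on the pairs `(k v, v)` for a self-adjoint field. -/
theorem fieldSub_alternating {r : ℕ} {K : Subalgebra F (Matrix ι ι F)} (hK : IsFieldSubalgebra r K)
    (hb : IsSymplecticForm f) (hsa : IsSelfAdjointFor f K) : ∀ k ∈ K, ∀ v, f (k *ᵥ v) v = 0 := by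
  intro k hk v
  by_cases h2 : (2 : F) = 0
  · letI : Field K := (isField_of_fieldSub hK).toField
    haveI : Finite K := Finite.of_injective _ Subtype.val_injective
    haveI : CharP F 2 := CharTwo.of_one_ne_zero_of_two_eq_zero one_ne_zero h2
    haveI : CharP K 2 := charP_of_injective_algebraMap (FaithfulSMul.algebraMap_injective F K) 2
    obtain ⟨⟨l, hl⟩, hsq⟩ := (Finite.injective_iff_surjective.mp
      (CharTwo.sq_injective : Function.Injective fun x : K => x ^ 2)) ⟨k, hk⟩
    have e : k = l * l := by rw [← sq]; exact (congrArg Subtype.val hsq).symm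
    rw [e, ← Matrix.mulVec_mulVec, hsa l hl]
    exact hb.alternating _
  · have h1 := hsa k hk v v
    rw [hb.skew v, eq_neg_iff_add_eq_zero, ← two_mul] at h1
    exact (mul_eq_zero.mp h1).resolve_left h2

/-- A field of degree two which is not self-adjoint gives, in characteristic two, a quadratic form. -/
theorem exists_quadratic_of_field {K : Subalgebra F (Matrix ι ι F)} (hK : IsFieldSubalgebra 2 K)
    (hb : IsSymplecticForm f) (h2 : (2 : F) = 0) {H : Subgroup (GL ι F)} (hH : Fixes f H)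
    (hn : H ≤ subalgebraNormalizer K) (hadj : IsAdjointClosedFor f K) (hns : ¬ IsSelfAdjointFor f K) :
    ∃ Q : (ι → F) → F, IsNondegenerateQuadraticForm Q ∧ (∀ u v, QuadraticMap.polar Q u v = f u v) ∧
      H ≤ quadSimilarityGroup Q := by
  have hchar : ∀ x : F, x + x = 0 := fun x => by rw [← two_mul, h2, zero_mul]
  have hsym : ∀ u v, f u v = f v u := fun u v => by rw [hb.skew u v, neg_eq_iff_add_eq_zero]; exact hchar _
  have hf : ReflForm (RingEquiv.refl F) 1 f :=
    { add_left := hb.bilinear.add_left, smul_left := hb.bilinear.smul_left, add_right := hb.bilinear.add_right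
      smul_right := hb.bilinear.smul_right, nondegenerate := hb.nondegenerate, inv := fun _ => rfl
      herm := fun u v => by rw [one_mul]; exact hsym v u }
  have hK' : ∀ k ∈ K, hf.adj k ∈ K := fun k hk => by
    obtain ⟨k', hk', e⟩ := hadj k hk
    rwa [hf.adj_unique e]
  obtain ⟨ω, hω, hωne⟩ : ∃ ω ∈ K, hf.adj ω ≠ ω := by
    by_contra hc
    push Not at hc
    exact hns ((selfAdjoint_iff hf).mpr hc)
  haveI : Nontrivial K := ⟨⟨0, 1, fun h => zero_ne_one (congrArg Subtype.val h)⟩⟩
  -- elements fixed by the adjoint are scalars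
  have hfix : ∀ x ∈ K, hf.adj x = x → ∃ c : F, x = c • (1 : Matrix ι ι F) := by
    intro x hx hxf
    have hind : LinearIndependent F ![(1 : K), ⟨ω, hω⟩] := by
      rw [LinearIndependent.pair_iff' one_ne_zero]
      intro c hc
      apply hωne
      have e : c • (1 : Matrix ι ι F) = ω := congrArg Subtype.val hc
      rw [← e, hf.adj_smul_one]
      rfl
    have hspan := hind.span_eq_top_of_card_eq_finrank (by rw [Fintype.card_fin]; exact hK.finrank_eq.symm)
    obtain ⟨c, hc⟩ := (Submodule.mem_span_range_iff_exists_fun F).mp (hspan.ge (Submodule.mem_top (x := (⟨x, hx⟩ : K))))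
    have e : c 0 • (1 : Matrix ι ι F) + c 1 • ω = x := by
      have := congrArg Subtype.val hc
      simpa [Fin.sum_univ_two] using this
    have hsmul : hf.adj (c 1 • ω) = c 1 • hf.adj ω := by
      rw [← Matrix.mul_one (c 1 • ω), Matrix.smul_mul, ← Matrix.mul_smul, hf.adj_mul, hf.adj_smul_one,
        Matrix.smul_mul, Matrix.one_mul]
      rfl
    rw [← e, hf.adj_add, hf.adj_smul_one, hsmul, RingEquiv.refl_apply, add_right_inj] at hxf
    refine ⟨c 0, ?_⟩
    rw [← e, show c 1 = 0 from by_contra fun h1 => hωne (smul_right_injective _ h1 hxf), zero_smul, add_zero]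
  obtain ⟨a, ha⟩ := hfix _ (add_mem hω (hK' ω hω)) (by rw [hf.adj_add, hf.adj_adj, add_comm])
  obtain ⟨b, hbb⟩ := hfix _ (mul_mem hω (hK' ω hω)) (by
    rw [hf.adj_mul, hf.adj_adj])
  have hadd : hf.adj ω = ω + a • (1 : Matrix ι ι F) := by
    rw [← ha, ← add_assoc, ← two_smul F ω, h2, zero_smul, zero_add]
  have ha0 : a ≠ 0 := fun e => hωne (by rw [hadd, e, zero_smul, add_zero])
  have hQ : ∀ u v, f (ω *ᵥ v) u = f (ω *ᵥ u) v + a * f u v := fun u v => by
    rw [hf.adj_spec, hadd, Matrix.add_mulVec, Matrix.smul_mulVec, Matrix.one_mulVec, hf.add_right, hf.smul_right,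
      RingEquiv.refl_apply, hsym v (ω *ᵥ u), hsym v u]
  let Q : (ι → F) → F := fun v => a⁻¹ * f (ω *ᵥ v) v
  have hpolar : ∀ u v, QuadraticMap.polar Q u v = f u v := fun u v => by
    simp only [QuadraticMap.polar, Q, Matrix.mulVec_add, hf.add_left, hf.add_right, hQ u v]
    have := hchar (f (ω *ᵥ u) v)
    field_simp
    linear_combination this
  refine ⟨Q, ⟨fun c v => ?_, ⟨fun x y v => ?_, fun c x v => ?_, fun v x y => ?_, fun c v x => ?_⟩,
    fun v hv => ?_⟩, hpolar, fun h hh => ?_⟩
  · simp only [Q, Matrix.mulVec_smul, hf.smul_left, hf.smul_right, RingEquiv.refl_apply]; ring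
  · rw [hpolar, hpolar, hpolar, hf.add_left]
  · rw [hpolar, hpolar, hf.smul_left]
  · rw [hpolar, hpolar, hpolar, hf.add_right]
  · rw [hpolar, hpolar, hf.smul_right]; rfl
  · exact ⟨(hf.nondegenerate v hv).1.imp fun x hx => by rwa [hpolar],
      (hf.nondegenerate v hv).2.imp fun x hx => by rwa [hpolar]⟩
  refine ⟨1, fun v => ?_⟩
  rw [Units.val_one, one_mul]
  simp only [Q]
  congr 1
  set x := ((h⁻¹ : GL ι F) : Matrix ι ι F) * ω * (h : Matrix ι ι F) with hx
  have hxK : x ∈ K := by
    have := (hn (H.inv_mem hh) ω).mp hω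
    rwa [inv_inv] at this
  have hfx : f (ω *ᵥ ((h : Matrix ι ι F) *ᵥ v)) ((h : Matrix ι ι F) *ᵥ v) = f (x *ᵥ v) v := by
    rw [← hH h hh (x *ᵥ v) v, hx, Matrix.mulVec_mulVec, Matrix.mulVec_mulVec, ← Matrix.mul_assoc, ← Matrix.mul_assoc,
      val_mul_inv, Matrix.one_mul]
  rw [hfx]
  -- `x` is a conjugate of `ω`
  have hωeq : ω * ω + a • ω + b • (1 : Matrix ι ι F) = 0 := by
    rw [← hbb, hadd, Matrix.mul_add, Matrix.mul_smul, Matrix.mul_one, ← two_smul F, h2, zero_smul]
  have hxeq : x * x + a • x + b • (1 : Matrix ι ι F) = 0 := by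
    have := congrArg (fun Z => ((h⁻¹ : GL ι F) : Matrix ι ι F) * Z * (h : Matrix ι ι F)) hωeq
    simp only [Matrix.mul_add, Matrix.add_mul, Matrix.mul_smul, Matrix.smul_mul, Matrix.mul_one, Matrix.mul_zero,
      Matrix.zero_mul, val_inv_mul] at this
    rw [← this, hx]
    simp only [Matrix.mul_assoc]
    rw [← Matrix.mul_assoc (h : Matrix ι ι F) ((h⁻¹ : GL ι F) : Matrix ι ι F), val_mul_inv, Matrix.one_mul]
  have hprod : (x + ω) * (x + (ω + a • (1 : Matrix ι ι F))) = 0 := by
    have e1 := hK.comm x hxK ω hω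
    simp only [Matrix.mul_add, Matrix.add_mul, Matrix.mul_smul, Matrix.mul_one, e1, smul_add]
    have h0 : ω * x + ω * x = 0 := by rw [← two_smul F, h2, zero_smul]
    have h1 : b • (1 : Matrix ι ι F) + b • (1 : Matrix ι ι F) = 0 := by rw [← two_smul F, h2, zero_smul]
    calc _ = (x * x + a • x + b • (1 : Matrix ι ι F)) + (ω * ω + a • ω + b • (1 : Matrix ι ι F)) +
          (ω * x + ω * x) - (b • (1 : Matrix ι ι F) + b • (1 : Matrix ι ι F)) := by abel
      _ = 0 := by rw [hxeq, hωeq, h0, h1]; simp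
  by_cases h0 : x + ω = 0
  · rw [show x = ω by rw [← add_zero x, ← h0, ← add_assoc, ← two_smul F x, h2, zero_smul, zero_add]]
  · obtain ⟨y, hy, hyx⟩ := hK.inv _ (add_mem hxK hω) h0
    have h3 : x + (ω + a • (1 : Matrix ι ι F)) = 0 := by
      have := congrArg (fun Z => y * Z) hprod
      rwa [← Matrix.mul_assoc, hK.comm y hy _ (add_mem hxK hω), hyx, Matrix.one_mul, Matrix.mul_zero] at this
    have hxω : x = ω + a • (1 : Matrix ι ι F) := by
      rw [eq_neg_of_add_eq_zero_left h3, neg_eq_iff_add_eq_zero, ← two_smul F, h2, zero_smul]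
    rw [hxω, Matrix.add_mulVec, Matrix.smul_mulVec, Matrix.one_mulVec, hf.add_left, hf.smul_left, hb.alternating,
      mul_zero, add_zero]

/-- A field of degree two over a field with a non-trivial involution is not closed under adjoints. -/
theorem not_adjClosed_two (hf : ReflForm σ ε f) (hne : σ ≠ RingEquiv.refl F) {K : Subalgebra F (Matrix ι ι F)}
    (hK : IsFieldSubalgebra 2 K) : ¬ ∀ k ∈ K, hf.adj k ∈ K := by
  classical
  intro hadj
  letI : Field K := (isField_of_fieldSub hK).toField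
  haveI : Finite K := Finite.of_injective _ Subtype.val_injective
  obtain ⟨θ, hθ⟩ : ∃ θ, σ θ ≠ θ := by
    by_contra hc; push Not at hc; exact hne (RingEquiv.ext hc)
  have hinj : Function.Injective (algebraMap F K) := FaithfulSMul.algebraMap_injective F K
  let τ : K →+* K :=
    { toFun := fun x => ⟨hf.adj x, hadj x x.2⟩
      map_one' := Subtype.ext hf.adj_one
      map_mul' := fun x y => Subtype.ext (by
        show hf.adj ((x : Matrix ι ι F) * y) = hf.adj x * hf.adj y
        rw [hf.adj_mul, hK.comm _ (hadj y y.2) _ (hadj x x.2)])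
      map_zero' := Subtype.ext (by
        show hf.adj 0 = 0
        simpa using hf.adj_smul_one 0)
      map_add' := fun x y => Subtype.ext (hf.adj_add _ _) }
  have hττ : ∀ x, τ (τ x) = x := fun x => Subtype.ext (hf.adj_adj _)
  have hτF : ∀ c, τ (algebraMap F K c) = algebraMap F K (σ c) := fun c => Subtype.ext (by
    show hf.adj (algebraMap F (Matrix ι ι F) c) = algebraMap F (Matrix ι ι F) (σ c)
    rw [Algebra.algebraMap_eq_smul_one, Algebra.algebraMap_eq_smul_one, hf.adj_smul_one])
  let L := τ.eqLocusField (RingHom.id K)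
  have hL : ∀ {x}, x ∈ L ↔ τ x = x := fun {x} => Iff.rfl
  set z := algebraMap F K θ with hz
  have hz0 : z - τ z ≠ 0 := by
    rw [hz, hτF, ← map_sub, map_ne_zero_iff _ hinj, sub_ne_zero]; exact Ne.symm hθ
  let g : L × L → K := fun p => (p.1 : K) + z * p.2
  have hg : Function.Bijective g := by
    refine ⟨fun p q h => ?_, fun x => ?_⟩
    · have h1 : (p.1 : K) + z * p.2 = q.1 + z * q.2 := h
      have h2 := congrArg τ h1
      simp only [map_add, map_mul, hL.mp p.1.2, hL.mp p.2.2, hL.mp q.1.2, hL.mp q.2.2] at h2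
      have e2 : (p.2 : K) = q.2 := mul_left_cancel₀ hz0 (by linear_combination h1 - h2)
      exact Prod.ext (Subtype.ext (by rw [e2] at h1; exact add_right_cancel h1)) (Subtype.ext e2)
    · set y := (x - τ x) / (z - τ z)
      have hy : τ y = y := by
        simp only [y, map_div₀, map_sub, hττ]
        rw [← neg_sub x, ← neg_sub z, neg_div_neg_eq]
      refine ⟨(⟨x - z * y, hL.mpr ?_⟩, ⟨y, hL.mpr hy⟩), sub_add_cancel _ _⟩
      rw [map_sub, map_mul, hy]
      have hd : y * (z - τ z) = x - τ x := div_mul_cancel₀ _ hz0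
      linear_combination hd
  have hKc : Nat.card K = Nat.card F ^ 2 := by rw [Module.natCard_eq_pow_finrank (K := F) (V := K), hK.finrank_eq]
  have hLc : Nat.card L = Nat.card F := by
    have := Nat.card_eq_of_bijective g hg
    rw [Nat.card_prod, hKc, ← sq] at this
    exact Nat.pow_left_injective two_ne_zero this
  letI := Fintype.ofFinite L
  letI := Fintype.ofFinite F
  have h1 : 1 < Nat.card F := Finite.one_lt_card
  let P : Polynomial K := Polynomial.X ^ Nat.card F - Polynomial.X
  let fo : Option L → K := fun o => o.elim z Subtype.val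
  have hzL : z ∉ L := fun h => hz0 (by rw [hL.mp h, sub_self])
  have hfo : Function.Injective fo := by
    rintro (_ | a) (_ | b) hab
    · rfl
    · exact absurd ((show z = (b : K) from hab) ▸ b.2) hzL
    · exact absurd ((show (a : K) = z from hab) ▸ a.2) hzL
    · exact congrArg some (Subtype.ext hab)
  have hdeg : P.natDegree = Nat.card F := FiniteField.X_pow_card_sub_X_natDegree_eq K h1
  have hP := Polynomial.eq_zero_of_natDegree_lt_card_of_eval_eq_zero P hfo (fun o => by
    simp only [P, Polynomial.eval_sub, Polynomial.eval_pow, Polynomial.eval_X, sub_eq_zero]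
    rcases o with _ | x
    · show z ^ Nat.card F = z
      rw [hz, ← map_pow, Nat.card_eq_fintype_card, FiniteField.pow_card]
    · show (x : K) ^ Nat.card F = x
      rw [← hLc, Nat.card_eq_fintype_card, ← SubmonoidClass.coe_pow, FiniteField.pow_card]) (by
      rw [hdeg, Fintype.card_option, ← Nat.card_eq_fintype_card, hLc]; exact Nat.lt_succ_self _)
  rw [hP, Polynomial.natDegree_zero] at hdeg
  omega

/-- A self-adjoint field of full degree centralised by isometries makes them scalars. -/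
theorem scalar_of_full_field (hf : ReflForm σ ε f) {N : Subgroup (GL ι F)} (hN : Fixes f N)
    {K : Subalgebra F (Matrix ι ι F)} (hK : IsFieldSubalgebra (Fintype.card ι) K) (hle : K ≤ comm (matrixSet N))
    (hsa : IsSelfAdjointFor f K) : N ≤ scalars ι F := by
  intro g hg
  have hgK : (g : Matrix ι ι F) ∈ K := fieldSub_centralizer hK fun k hk => (mem_comm_matrixSet.mp (hle hk) g hg).symm
  have h1 : (g : Matrix ι ι F) * (g : Matrix ι ι F) = 1 := hf.right_ext fun u v => by
    rw [Matrix.one_mulVec, ← Matrix.mulVec_mulVec, ← hsa _ hgK, hN g hg]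
  letI : Field K := (isField_of_fieldSub hK).toField
  rcases mul_self_eq_one_iff.mp (show (⟨_, hgK⟩ : K) * ⟨_, hgK⟩ = 1 from Subtype.ext h1) with e | e
  · exact mem_scalars_of_val_eq (c := 1) (by rw [one_smul]; exact congrArg Subtype.val e)
  · exact mem_scalars_of_val_eq (c := -1) (by rw [neg_one_smul]; exact congrArg Subtype.val e)

end Cfsg.Lib.Classical.Aschbacher
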