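import Cfsg.Agent.Classical.Aschbacher.FormBase
import Cfsg.Agent.Classical.PrimeDim.UnitarySubfield

/-! Subfield structures compatible with a form. -/

set_option autoImplicit false
set_option linter.unusedSimpArgs false
set_option linter.unusedSectionVars false
set_option linter.style.haveILetI false

namespace Cfsg.Lib.Classical.Aschbacher

open Matrix Cfsg.Geo
open scoped MatrixGroups
open Cfsg.Lib.Classical.PrimeDim (Normalises mem_matrixSet forall_matrixSet le_subfield_of_realisable scaled_intertwiner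
  val_inv_mul val_mul_inv)

universe u

variable {ι : Type} [Fintype ι] [DecidableEq ι] {F : Type u} [Field F]

/-- An absolutely irreducible group of isometries with entries in a subfield determines the form up to a scalar. -/
theorem ReflForm.exists_scale [Nonempty ι] {σ : F ≃+* F} {ε : F} {f : (ι → F) → (ι → F) → F} (hf : ReflForm σ ε f)
    {P : Subgroup (GL ι F)} (hP : Fixes f P) (hai : ActsAbsolutelyIrreducibly (matrixSet P)) {F₁ : Subfield F}
    (hσ₁ : ∀ x ∈ F₁, σ x ∈ F₁) {B : GL ι F}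
    (hent : ∀ s ∈ P, ∀ i j, ((B⁻¹ * s * B : GL ι F) : Matrix ι ι F) i j ∈ F₁) :
    ∃ c : F, c ≠ 0 ∧ IsFormRationalStructure f F₁ c B ∧ ∀ i j, c * hf.gramIn (B : Matrix ι ι F) i j ∈ F₁ := by
  classical
  set Bm : Matrix ι ι F := (B : Matrix ι ι F)
  set Bi : Matrix ι ι F := ((B⁻¹ : GL ι F) : Matrix ι ι F)
  have hσσ : ∀ A : Matrix ι ι F, (A.map σ).map σ = A := fun A => Matrix.ext fun i j => hf.inv _
  set S : P → Matrix ι ι F := fun s => ((B⁻¹ * (s : GL ι F) * B : GL ι F) : Matrix ι ι F)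
  set G := hf.gramIn Bm
  have hc : Coords Bm Bi := ⟨val_mul_inv B, val_inv_mul B⟩
  let GG : GL ι F := Matrix.GeneralLinearGroup.mkOfDetNeZero G (hf.gramIn_det_ne_zero hc)
  have hS : ∀ s : P, (S s)ᵀ * G * (S s).map σ = G := fun s => hf.gramIn_fix hP s.2 (by
    simp only [S, Bm, ← Units.val_mul]
    congr 1
    simp [mul_assoc])
  have hcomm : ∀ M : Matrix ι ι F, (∀ s : P, M * S s = S s * M) → ∃ c : F, M = c • 1 := by
    intro M hM
    obtain ⟨c, hc⟩ := hai.2 (Bm * M * Bi) (forall_matrixSet.mpr fun g hg => by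
      have e : M * (Bi * (g : Matrix ι ι F) * Bm) = (Bi * (g : Matrix ι ι F) * Bm) * M := by
        have := hM ⟨g, hg⟩
        simpa only [S, Units.val_mul, Bi, Bm] using this
      calc Bm * M * Bi * (g : Matrix ι ι F)
          = Bm * (M * (Bi * (g : Matrix ι ι F) * Bm)) * Bi := by
            simp only [mul_assoc, show Bm * Bi = 1 from val_mul_inv B, mul_one]
        _ = (Bm * Bi) * (g : Matrix ι ι F) * (Bm * M * Bi) := by rw [e]; simp only [mul_assoc]
        _ = (g : Matrix ι ι F) * (Bm * M * Bi) := by rw [show Bm * Bi = 1 from val_mul_inv B, one_mul])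
    refine ⟨c, ?_⟩
    calc M = (Bi * Bm) * M * (Bi * Bm) := by rw [show Bi * Bm = 1 from val_inv_mul B, one_mul, mul_one]
      _ = Bi * (Bm * M * Bi) * Bm := by simp only [mul_assoc]
      _ = c • 1 := by rw [hc, Matrix.mul_smul, Matrix.smul_mul, mul_one, show Bi * Bm = 1 from val_inv_mul B]
  obtain ⟨c, hc0, hcG⟩ := scaled_intertwiner (F₀ := F₁) (α := P) (a := fun s => (S s).map σ)
    (b := fun s => (S s⁻¹)ᵀ) (g := GG)
    (fun M hM => by
      obtain ⟨c, hc⟩ := hcomm (M.map σ) (fun s => by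
        have := congrArg (fun X : Matrix ι ι F => X.map σ) (hM s)
        simpa only [Matrix.map_mul, hσσ] using this)
      refine ⟨σ c, ?_⟩
      rw [← hσσ M, hc]
      ext i j
      simp [Matrix.one_apply, apply_ite σ])
    (fun s i j => hσ₁ _ (hent s s.2 i j)) (fun s i j => hent _ (P.inv_mem s.2) j i)
    (fun s => by
      have e : (S s⁻¹)ᵀ * (S s)ᵀ = 1 := by
        rw [← Matrix.transpose_mul]
        simp only [S, ← Units.val_mul]
        simp [mul_assoc]
      show G * (S s).map σ = (S s⁻¹)ᵀ * G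
      conv_rhs => rw [← hS s, ← Matrix.mul_assoc, ← Matrix.mul_assoc, e, Matrix.one_mul])
  refine ⟨c, hc0, fun u v hu hv => ?_, hcG⟩
  rw [hf.apply_coords, dotProduct, Finset.mul_sum]
  refine sum_mem fun i _ => ?_
  rw [Matrix.mulVec, dotProduct, Finset.mul_sum, Finset.mul_sum]
  refine sum_mem fun j _ => ?_
  rw [show c * (u i * (hf.gramIn (B : Matrix ι ι F) i j * (σ ∘ v) j)) =
    u i * ((c * hf.gramIn (B : Matrix ι ι F) i j) * σ (v j)) by simp only [Function.comp_apply]; ring]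
  exact mul_mem (hu i) (mul_mem (hcG i j) (hσ₁ _ (hv j)))

/-- The normaliser of an absolutely irreducible group of isometries, realisable over a proper subfield. -/
theorem ReflForm.subfield_of_realisable [Finite F] [Nonempty ι] {σ : F ≃+* F} {ε : F}
    {f : (ι → F) → (ι → F) → F} (hf : ReflForm σ ε f) (hσ₁ : ∀ (F₁ : Subfield F), ∀ x ∈ F₁, σ x ∈ F₁)
    {H P : Subgroup (GL ι F)} (hn : Normalises H P) (hP : Fixes f P) (hai : ActsAbsolutelyIrreducibly (matrixSet P))
    {F₀ : Subfield F} (hne : F₀ ≠ ⊤) (hreal : RealisableOver F₀ (matrixSet P)) :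
    ∃ (F₁ : Subfield F) (r : ℕ) (B : GL ι F) (c : F), r.Prime ∧ Nat.card F = Nat.card F₁ ^ r ∧
      H ≤ subfieldSubgroup F₁ B ∧ c ≠ 0 ∧ IsFormRationalStructure f F₁ c B ∧
      ∀ i j, c * hf.gramIn (B : Matrix ι ι F) i j ∈ F₁ := by
  obtain ⟨F₁, r, B, hr, hcard, hle, hent⟩ := le_subfield_of_realisable hn hai hne hreal
  obtain ⟨c, hc0, hs, hG⟩ := hf.exists_scale hP hai (hσ₁ F₁) hent
  exact ⟨F₁, r, B, c, hr, hcard, hle, hc0, hs, hG⟩

end Cfsg.Lib.Classical.Aschbacher
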