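import Cfsg.Agent.Classical.Aschbacher.Tensor

/-! Pairwise commuting subgroups generating an absolutely irreducible group. -/

set_option autoImplicit false
set_option linter.unusedSimpArgs false
set_option linter.unusedSectionVars false
set_option linter.style.haveILetI false

namespace Cfsg.Lib.Classical.Aschbacher

open Matrix Cfsg.Geo
open scoped MatrixGroups Kronecker
open Cfsg.Lib.Classical.PrimeDim (Normalises gl_det_ne_zero val_inv_mul val_mul_inv mem_comm mem_comm_matrixSet comm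
  comm_comm forall_matrixSet mem_matrixSet irreducible_iff Invariant mem_scalars_of_val_eq finrank_pi_card)

universe u

section

variable {F : Type u} [Field F] {ι : Type} [Fintype ι] [DecidableEq ι] {κ : Type} [Fintype κ] [DecidableEq κ]
  {Φ : Matrix ι κ F} {Ψ : Matrix κ ι F}

theorem Coords.conj_mul (hc : Coords Φ Ψ) (A B : Matrix ι ι F) : (Ψ * A * Φ) * (Ψ * B * Φ) = Ψ * (A * B) * Φ := by
  simp only [Matrix.mul_assoc]
  rw [← Matrix.mul_assoc Φ Ψ, hc.left, Matrix.one_mul]

theorem Coords.conj_unconj (hc : Coords Φ Ψ) (T : Matrix κ κ F) : Ψ * (Φ * T * Ψ) * Φ = T := by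
  simp only [Matrix.mul_assoc, hc.right, Matrix.mul_one]
  rw [← Matrix.mul_assoc, hc.right, Matrix.one_mul]

theorem Coords.unconj_conj (hc : Coords Φ Ψ) (A : Matrix ι ι F) : Φ * (Ψ * A * Φ) * Ψ = A := by
  simp only [Matrix.mul_assoc, hc.left, Matrix.mul_one]
  rw [← Matrix.mul_assoc, hc.left, Matrix.one_mul]

theorem Coords.commute_of (hc : Coords Φ Ψ) {T : Matrix κ κ F} {A : Matrix ι ι F}
    (h : T * (Ψ * A * Φ) = (Ψ * A * Φ) * T) : (Φ * T * Ψ) * A = A * (Φ * T * Ψ) := by
  rw [← hc.conj_unconj T, hc.conj_mul, hc.conj_mul] at h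
  have := congrArg (fun Z => Φ * Z * Ψ) h
  simpa only [hc.unconj_conj] using this

theorem Coords.scalar_of (hc : Coords Φ Ψ) {T : Matrix κ κ F} {c : F} (h : Φ * T * Ψ = c • 1) : T = c • 1 := by
  rw [← hc.conj_unconj T, h, Matrix.mul_smul, Matrix.mul_one, Matrix.smul_mul, hc.right]

theorem Coords.mem_scalars [Nonempty ι] (hc : Coords Φ Ψ) {g : GL ι F} {c : F} (h : Ψ * (g : Matrix ι ι F) * Φ = c • 1) :
    g ∈ scalars ι F := by
  refine mem_scalars_of_val_eq (c := c) ?_
  rw [← hc.unconj_conj (g : Matrix ι ι F), h, Matrix.mul_smul, Matrix.mul_one, Matrix.smul_mul, hc.left]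

/-- An element commuting with all of a generating family commutes with what it generates. -/
theorem comm_iSup {α : Sort*} {M : α → Subgroup (GL ι F)} {A : Matrix ι ι F}
    (h : ∀ i, ∀ g ∈ M i, A * (g : Matrix ι ι F) = (g : Matrix ι ι F) * A) :
    ∀ g ∈ ⨆ i, M i, A * (g : Matrix ι ι F) = (g : Matrix ι ι F) * A := by
  let S : Subgroup (GL ι F) :=
    { carrier := {g | A * (g : Matrix ι ι F) = (g : Matrix ι ι F) * A}
      mul_mem' := fun {a b} ha hb => by
        show A * ((a * b : GL ι F) : Matrix ι ι F) = _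
        rw [Units.val_mul, ← mul_assoc, ha, mul_assoc, hb, ← mul_assoc]
      one_mem' := by show A * ((1 : GL ι F) : Matrix ι ι F) = _; simp
      inv_mem' := fun {a} ha => by
        show A * ((a⁻¹ : GL ι F) : Matrix ι ι F) = ((a⁻¹ : GL ι F) : Matrix ι ι F) * A
        calc A * ((a⁻¹ : GL ι F) : Matrix ι ι F)
            = ((a⁻¹ : GL ι F) : Matrix ι ι F) * ((a : Matrix ι ι F) * A) * ((a⁻¹ : GL ι F) : Matrix ι ι F) := by
              rw [← mul_assoc, val_inv_mul, one_mul]
          _ = _ := by rw [← ha, mul_assoc, mul_assoc, val_mul_inv, mul_one] }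
  exact fun g hg => (iSup_le (fun i x hx => h i x hx) : ⨆ i, M i ≤ S) hg

/-- A subspace invariant under a generating family is invariant under what it generates. -/
theorem invariant_iSup {α : Sort*} {M : α → Subgroup (GL ι F)} {W : Submodule F (ι → F)}
    (h : ∀ i, ∀ g ∈ M i, ∀ v ∈ W, (g : Matrix ι ι F) *ᵥ v ∈ W) :
    ∀ g ∈ ⨆ i, M i, ∀ v ∈ W, (g : Matrix ι ι F) *ᵥ v ∈ W := by
  let S : Subgroup (GL ι F) :=
    { carrier := {g | (∀ v ∈ W, (g : Matrix ι ι F) *ᵥ v ∈ W) ∧ ∀ v ∈ W, ((g⁻¹ : GL ι F) : Matrix ι ι F) *ᵥ v ∈ W}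
      mul_mem' := fun {a b} ha hb => ⟨fun v hv => by
          rw [Units.val_mul, ← Matrix.mulVec_mulVec]; exact ha.1 _ (hb.1 v hv), fun v hv => by
          rw [_root_.mul_inv_rev, Units.val_mul, ← Matrix.mulVec_mulVec]; exact hb.2 _ (ha.2 v hv)⟩
      one_mem' := ⟨fun v hv => by simpa using hv, fun v hv => by simpa using hv⟩
      inv_mem' := fun {a} ha => ⟨ha.2, by rw [inv_inv]; exact ha.1⟩ }
  exact fun g hg => ((iSup_le (fun i x hx => ⟨h i x hx, h i _ ((M i).inv_mem hx)⟩) : ⨆ i, M i ≤ S) hg).1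

end

variable {F : Type u} [Field F] [Finite F] {ι : Type} [Fintype ι] [DecidableEq ι]

/-- A factor of a central product is homogeneous with absolutely irreducible constituent. -/
theorem homog_of_commuting [Nonempty ι] {M C : Subgroup (GL ι F)} (hMC : ∀ a ∈ M, ∀ c ∈ C, a * c = c * a)
    (hai : ActsAbsolutelyIrreducibly (matrixSet (M ⊔ C : Subgroup (GL ι F)))) (hns : ¬ M ≤ scalars ι F) :
    ∃ (d k : ℕ) (Φ : Matrix ι (Fin d × Fin k) F) (Ψ : Matrix (Fin d × Fin k) ι F)
      (ρ : M → Matrix (Fin d) (Fin d) F), Homog M Φ Ψ ρ ∧ AbsIrr ρ ∧ 2 ≤ d ∧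
        ∀ c ∈ C, ∃ B : Matrix (Fin k) (Fin k) F,
          Ψ * (c : Matrix ι ι F) * Φ = (1 : Matrix (Fin d) (Fin d) F) ⊗ₖ B := by
  classical
  have hn : Normalises (M ⊔ C) M := by
    have hle : M ⊔ C ≤ Subgroup.normalizer (M : Set (GL ι F)) := by
      refine sup_le Subgroup.le_normalizer fun c hc => Subgroup.mem_normalizer_iff.mpr fun m => ⟨fun hm => ?_, fun hm => ?_⟩
      · rwa [← hMC m hm c hc, mul_inv_cancel_right]
      · have h := hMC _ hm c hc
        rw [inv_mul_cancel_right] at h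
        exact (mul_left_cancel h).symm ▸ hm
    exact fun h hh g hg => (Subgroup.mem_normalizer_iff.mp (hle hh) g).mp hg
  have hcomm : ∀ c ∈ C, (c : Matrix ι ι F) ∈ comm (matrixSet M) := fun c hc =>
    mem_comm_matrixSet.mpr fun g hg => by rw [← Units.val_mul, ← Units.val_mul, hMC g hg c hc]
  rcases homog_or_components hai.1 hn with ⟨d, k, Φ, Ψ, ρ, hh⟩ | ⟨d, k, t, Φ, Ψ, ρ, cls, D, hC⟩
  · haveI := hh.irr.nonempty
    have habs : AbsIrr ρ := by
      refine ⟨hh.irr, fun X hX => ?_⟩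
      set A := Φ * (X ⊗ₖ (1 : Matrix (Fin k) (Fin k) F)) * Ψ with hA
      have hAM : A ∈ comm (matrixSet M) := hh.kron_mem_comm hX 1
      have hAC : ∀ c ∈ C, A * (c : Matrix ι ι F) = (c : Matrix ι ι F) * A := by
        intro c hc
        refine hh.coords.commute_of ?_
        have hT := hh.transfer (hcomm c hc)
        set T := Ψ * (c : Matrix ι ι F) * Φ
        ext ⟨i, a⟩ ⟨j, b⟩
        have h := congrFun (congrFun (comm_comm hh.irr.acts
          (mem_comm.mpr (Set.forall_mem_range.mpr hX))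
          (mem_comm.mpr (Set.forall_mem_range.mpr fun g => block_intertwines (hT g) a b))) i) j
        simp only [Matrix.mul_apply, block, Matrix.of_apply] at h
        simp only [Matrix.mul_apply, Matrix.kronecker_apply, Fintype.sum_prod_type, Matrix.one_apply, mul_ite,
          ite_mul, mul_one, mul_zero, zero_mul, Finset.sum_ite_eq, Finset.sum_ite_eq', Finset.mem_univ, if_true]
        exact h
      obtain ⟨c, hc⟩ := hai.2 A (forall_matrixSet.mpr fun g hg => by
        rw [sup_eq_iSup] at hg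
        exact comm_iSup (M := fun b : Bool => cond b M C) (fun b x hx => by
          cases b
          · exact hAC x hx
          · exact mem_comm_matrixSet.mp hAM x hx) g hg)
      haveI : Nonempty (Fin k) := ⟨⟨0, hh.pos⟩⟩
      refine ⟨c, kron_one_injective (μ := Fin k) ?_⟩
      rw [hh.coords.scalar_of hc, Matrix.smul_kronecker, Matrix.one_kronecker_one]
    refine ⟨d, k, Φ, Ψ, ρ, hh, habs, ?_, fun c hc => comm_kron habs fun g => hh.transfer (hcomm c hc) g⟩
    have hd0 : d ≠ 0 := fun e => by subst e; exact isEmptyElim (Classical.arbitrary (Fin 0))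
    by_contra hd
    exact hns (hh.scalar_of_one (by omega))
  · exfalso
    obtain ⟨m, hD⟩ := hC.decomp
    have hinv : ∀ c, ∀ g ∈ M ⊔ C, ∀ v ∈ D c, (g : Matrix ι ι F) *ᵥ v ∈ D c := by
      intro c g hg
      rw [sup_eq_iSup] at hg
      refine invariant_iSup (M := fun b : Bool => cond b M C) (fun b x hx v hv => ?_) g hg
      rw [hC.mem_iff] at hv ⊢
      intro p hp
      cases b
      · -- an element of `C`
        rw [Bool.cond_false] at hx
        set T := Ψ * (x : Matrix ι ι F) * Φ with hT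
        have hTρ : ∀ s : M, T * Matrix.blockDiagonal (fun a => ρ a s) = Matrix.blockDiagonal (fun a => ρ a s) * T := by
          intro s
          have e : Matrix.blockDiagonal (fun a => ρ a s) = Ψ * ((s : GL ι F) : Matrix ι ι F) * Φ := by
            rw [Matrix.mul_assoc, hC.blocks.acts, ← Matrix.mul_assoc, hC.blocks.coords.right, Matrix.one_mul]
          rw [e, hT, hC.blocks.coords.conj_mul, hC.blocks.coords.conj_mul, mem_comm_matrixSet.mp (hcomm x hx) _ s.2]
        rw [show Ψ *ᵥ ((x : Matrix ι ι F) *ᵥ v) = T *ᵥ (Ψ *ᵥ v) by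
          rw [hT, ← Matrix.mulVec_mulVec, ← Matrix.mulVec_mulVec, Matrix.mulVec_mulVec v Φ Ψ, hC.blocks.coords.left,
            Matrix.one_mulVec]]
        refine Finset.sum_eq_zero fun p' _ => ?_
        by_cases h' : cls p'.2 = c
        · let X : Matrix (Fin d) (Fin d) F := Matrix.of fun i j => T (i, p.2) (j, p'.2)
          have hX : ∀ s : M, X * ρ p'.2 s = ρ p.2 s * X := by
            intro s
            ext i j
            have h1 := congrFun (congrFun (hTρ s) (i, p.2)) (j, p'.2)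
            simp only [Matrix.mul_apply, Fintype.sum_prod_type, Matrix.blockDiagonal_apply, mul_ite, ite_mul, mul_zero,
              zero_mul, Finset.sum_ite_eq, Finset.sum_ite_eq', Finset.mem_univ, if_true] at h1
            simpa [X, Matrix.mul_apply] using h1
          by_cases h0 : X = 0
          · show T p p' * _ = 0
            rw [show T p p' = 0 from congrFun (congrFun h0 p.1) p'.1, zero_mul]
          · exfalso
            obtain ⟨a, ha⟩ := schur_gl (hC.blocks.irr p'.2) (hC.blocks.irr p.2) hX h0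
            exact hp (((hC.cls_iff p'.2 p.2).mpr ⟨a, fun s => by rw [ha]; exact hX s⟩).symm.trans h')
        · rw [hv p' h', mul_zero]
      · -- an element of `M`
        rw [Bool.cond_true] at hx
        have hv' : v = Φ *ᵥ (Ψ *ᵥ v) := by rw [Matrix.mulVec_mulVec, hC.blocks.coords.left, Matrix.one_mulVec]
        rw [hv', hC.blocks.invariant_component ⟨x, hx⟩ _ p]
        rw [show (fun i => (Ψ *ᵥ v) (i, p.2)) = 0 from funext fun i => hv (i, p.2) hp, Matrix.mulVec_zero]
        rfl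
    let c₀ : Fin t := ⟨0, by have := hD.two_le; omega⟩
    let c₁ : Fin t := ⟨1, by have := hD.two_le; omega⟩
    have hne : ∀ c, D c ≠ ⊥ := fun c e => by
      have := hD.finrank_eq c
      rw [e, finrank_bot] at this
      exact absurd this hD.pos.ne
    have htop : ∀ c, D c = ⊤ := fun c =>
      ((irreducible_iff _).mp hai.1 (D c) (hinv c)).resolve_left (hne c)
    have hdis := hD.indep.pairwiseDisjoint (show c₀ ≠ c₁ by simp [c₀, c₁])
    rw [Function.onFun, htop, htop, disjoint_self] at hdis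
    exact hne c₀ ((htop c₀).trans hdis)

/-- The combined coordinates on a tensor product with one more factor. -/
theorem piKron_succ {t : ℕ} {d : Fin (t + 1) → ℕ} (A : ∀ i, Matrix (Fin (d i)) (Fin (d i)) F)
    (x y : ∀ i, Fin (d i)) :
    piKron A x y = A 0 (x 0) (y 0) *
      piKron (d := fun j => d j.succ) (fun j => A j.succ) (fun j => x j.succ) (fun j => y j.succ) := by
  rw [piKron_apply, Fin.prod_univ_succ, piKron_apply]

/-- The data of a tensor factorisation. -/
structure Factored {t : ℕ} (M : Fin t → Subgroup (GL ι F)) {d : Fin t → ℕ} (Φ : Matrix ι (∀ i, Fin (d i)) F)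
    (Ψ : Matrix (∀ i, Fin (d i)) ι F) (ρ : ∀ i, M i → Matrix (Fin (d i)) (Fin (d i)) F) : Prop where
  coords : Coords Φ Ψ
  absIrr : ∀ i, AbsIrr (ρ i)
  two_le : ∀ i, 2 ≤ d i
  acts : ∀ i (g : M i), Ψ * ((g : GL ι F) : Matrix ι ι F) * Φ = fac i (ρ i g)

/-- Commuting non-scalar subgroups generating an absolutely irreducible group give tensor factors. -/
theorem tensor_factors : ∀ (t : ℕ) {ι : Type} [Fintype ι] [DecidableEq ι] [Nonempty ι] (M : Fin t → Subgroup (GL ι F)),
    (∀ i j, i ≠ j → ∀ a ∈ M i, ∀ b ∈ M j, a * b = b * a) →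
    ActsAbsolutelyIrreducibly (matrixSet (⨆ i, M i : Subgroup (GL ι F))) → (∀ i, ¬ M i ≤ scalars ι F) →
    ∃ (d : Fin t → ℕ) (Φ : Matrix ι (∀ i, Fin (d i)) F) (Ψ : Matrix (∀ i, Fin (d i)) ι F)
      (ρ : ∀ i, M i → Matrix (Fin (d i)) (Fin (d i)) F), Factored M Φ Ψ ρ := by
  intro t
  induction t with
  | zero =>
    intro ι _ _ _ M _ hai _
    have hcard : Fintype.card (∀ i : Fin 0, Fin (Fin.elim0 i : ℕ)) = Fintype.card ι := by
      let i₀ : ι := Classical.arbitrary ι
      have h := (irreducible_iff _).mp hai.1 (Submodule.span F {Pi.single i₀ (1 : F)}) (fun g hg v hv => by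
        rw [iSup_of_empty, Subgroup.mem_bot] at hg
        rw [hg, Units.val_one, Matrix.one_mulVec]
        exact hv)
      have hne : (Pi.single i₀ (1 : F) : ι → F) ≠ 0 := fun e => one_ne_zero (α := F) (by simpa using congrFun e i₀)
      have hspan := h.resolve_left fun e => hne (Submodule.span_singleton_eq_bot.mp e)
      have h1 := finrank_span_singleton (K := F) hne
      rw [hspan, finrank_top, Module.finrank_pi] at h1
      simp [h1]
    let e : (∀ i : Fin 0, Fin (Fin.elim0 i : ℕ)) ≃ ι := Fintype.equivOfCardEq hcard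
    exact ⟨fun i => Fin.elim0 i, (1 : Matrix ι ι F).submatrix id e, (1 : Matrix ι ι F).submatrix e id,
      fun i => Fin.elim0 i, ⟨⟨by rw [Matrix.submatrix_mul_equiv, Matrix.one_mul, Matrix.submatrix_id_id],
        by rw [← Matrix.submatrix_mul _ _ e id e Function.bijective_id, Matrix.one_mul, Matrix.submatrix_one_equiv]⟩,
        fun i => Fin.elim0 i, fun i => Fin.elim0 i, fun i => Fin.elim0 i⟩⟩
  | succ t ih =>
    intro ι _ _ _ M hcomm hai hns
    classical
    set C : Subgroup (GL ι F) := ⨆ j : Fin t, M j.succ with hC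
    have hMC : ∀ a ∈ M 0, ∀ c ∈ C, a * c = c * a := by
      intro a ha c hc
      have h := comm_iSup (M := fun j : Fin t => M j.succ) (A := (a : Matrix ι ι F)) (fun j x hx => by
        rw [← Units.val_mul, ← Units.val_mul, hcomm 0 j.succ (Fin.succ_ne_zero j).symm a ha x hx]) c hc
      exact Units.ext (by rw [Units.val_mul, Units.val_mul]; exact h)
    have hsup : M 0 ⊔ C = ⨆ i, M i := by
      refine le_antisymm (sup_le (le_iSup M 0) (iSup_le fun j => le_iSup M j.succ)) (iSup_le fun i => ?_)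
      induction i using Fin.cases with
      | zero => exact le_sup_left
      | succ j => exact le_trans (le_iSup (fun j : Fin t => M j.succ) j) le_sup_right
    obtain ⟨d₀, k, Φ₀, Ψ₀, ρ₀, hh, habs, hd₀, hB⟩ := homog_of_commuting hMC (by rw [hsup]; exact hai) (hns 0)
    haveI := habs.nonempty
    haveI : Nonempty (Fin k) := ⟨⟨0, hh.pos⟩⟩
    have hinj : ∀ {A B : Matrix (Fin k) (Fin k) F},
        (1 : Matrix (Fin d₀) (Fin d₀) F) ⊗ₖ A = (1 : Matrix (Fin d₀) (Fin d₀) F) ⊗ₖ B → A = B :=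
      fun {A B} h => one_kron_injective h
    -- the images of the other factors
    let M' : Fin t → Subgroup (GL (Fin k) F) := fun j =>
      { carrier := {b | ∃ g ∈ M j.succ, Ψ₀ * (g : Matrix ι ι F) * Φ₀ =
          (1 : Matrix (Fin d₀) (Fin d₀) F) ⊗ₖ (b : Matrix (Fin k) (Fin k) F)}
        mul_mem' := fun {a b} ⟨g, hg, hga⟩ ⟨g', hg', hgb⟩ => ⟨g * g', mul_mem hg hg', by
          rw [Units.val_mul, ← hh.coords.conj_mul, hga, hgb, ← Matrix.mul_kronecker_mul, Units.val_mul, Matrix.one_mul]⟩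
        one_mem' := ⟨1, one_mem _, by rw [Units.val_one, Units.val_one, Matrix.mul_one, hh.coords.right, Matrix.one_kronecker_one]⟩
        inv_mem' := fun {a} ⟨g, hg, hga⟩ => ⟨g⁻¹, inv_mem hg, by
          have h1 : (Ψ₀ * ((g⁻¹ : GL ι F) : Matrix ι ι F) * Φ₀) * (Ψ₀ * (g : Matrix ι ι F) * Φ₀) = 1 := by
            rw [hh.coords.conj_mul, val_inv_mul, Matrix.mul_one, hh.coords.right]
          rw [hga] at h1
          calc _ = (Ψ₀ * ((g⁻¹ : GL ι F) : Matrix ι ι F) * Φ₀) * (((1 : Matrix (Fin d₀) (Fin d₀) F) ⊗ₖ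
                (a : Matrix (Fin k) (Fin k) F)) * ((1 : Matrix (Fin d₀) (Fin d₀) F) ⊗ₖ
                ((a⁻¹ : GL (Fin k) F) : Matrix (Fin k) (Fin k) F))) := by
                rw [← Matrix.mul_kronecker_mul, Matrix.one_mul, val_mul_inv, Matrix.one_kronecker_one, Matrix.mul_one]
            _ = _ := by rw [← Matrix.mul_assoc, h1, Matrix.one_mul]⟩ }
    have hlift : ∀ j, ∀ g ∈ M j.succ, ∃ b ∈ M' j, Ψ₀ * (g : Matrix ι ι F) * Φ₀ =
        (1 : Matrix (Fin d₀) (Fin d₀) F) ⊗ₖ (b : Matrix (Fin k) (Fin k) F) := by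
      intro j g hg
      obtain ⟨B, hgB⟩ := hB g (le_iSup (fun j : Fin t => M j.succ) j hg)
      obtain ⟨B', hgB'⟩ := hB g⁻¹ (inv_mem (le_iSup (fun j : Fin t => M j.succ) j hg))
      have h1 : B * B' = 1 := hinj (by
        rw [← Matrix.one_mul (1 : Matrix (Fin d₀) (Fin d₀) F), Matrix.mul_kronecker_mul, ← hgB, ← hgB',
          hh.coords.conj_mul, val_mul_inv, Matrix.mul_one, hh.coords.right, Matrix.one_mul, Matrix.one_kronecker_one])
      let b : GL (Fin k) F := ⟨B, B', h1, mul_eq_one_comm.mp h1⟩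
      exact ⟨b, ⟨g, hg, hgB⟩, hgB⟩
    have hcomm' : ∀ i j, i ≠ j → ∀ a ∈ M' i, ∀ b ∈ M' j, a * b = b * a := by
      rintro i j hij a ⟨g, hg, hga⟩ b ⟨g', hg', hgb⟩
      refine Units.ext (hinj ?_)
      rw [Units.val_mul, Units.val_mul, ← Matrix.one_mul (1 : Matrix (Fin d₀) (Fin d₀) F), Matrix.mul_kronecker_mul,
        Matrix.mul_kronecker_mul, ← hga, ← hgb, hh.coords.conj_mul, hh.coords.conj_mul, ← Units.val_mul,
        ← Units.val_mul, hcomm i.succ j.succ (fun e => hij (Fin.succ_inj.mp e)) g hg g' hg']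
    have hns' : ∀ j, ¬ M' j ≤ scalars (Fin k) F := fun j hle => hns j.succ fun g hg => by
      obtain ⟨b, hb, hgb⟩ := hlift j g hg
      obtain ⟨c, hc⟩ := (mem_scalars_iff b).mp (hle hb)
      refine hh.coords.mem_scalars (c := (c : F)) ?_
      rw [hgb, hc, Matrix.kronecker_smul, Matrix.one_kronecker_one]
    have hai' : ActsAbsolutelyIrreducibly (matrixSet (⨆ j, M' j : Subgroup (GL (Fin k) F))) := by
      refine ⟨(irreducible_iff _).mpr fun W hW => ?_, fun X hX => ?_⟩
      · let Wt : Submodule F (ι → F) :=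
          { carrier := {x | ∀ i : Fin d₀, (fun a => (Ψ₀ *ᵥ x) (i, a)) ∈ W}
            add_mem' := fun {x y} hx hy i => by
              simp only [Matrix.mulVec_add, Pi.add_apply]
              exact add_mem (hx i) (hy i)
            zero_mem' := fun i => by simp only [Matrix.mulVec_zero, Pi.zero_apply]; exact zero_mem _
            smul_mem' := fun r x hx i => by
              simp only [Matrix.mulVec_smul, Pi.smul_apply]
              exact W.smul_mem r (hx i) }
        have hWt : ∀ i, ∀ g ∈ M i, ∀ x ∈ Wt, (g : Matrix ι ι F) *ᵥ x ∈ Wt := by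
          intro i g hg x hx a
          have e : Ψ₀ *ᵥ ((g : Matrix ι ι F) *ᵥ x) = (Ψ₀ * (g : Matrix ι ι F) * Φ₀) *ᵥ (Ψ₀ *ᵥ x) := by
            rw [← Matrix.mulVec_mulVec, ← Matrix.mulVec_mulVec, Matrix.mulVec_mulVec x Φ₀ Ψ₀, hh.coords.left,
              Matrix.one_mulVec]
          rw [e]
          induction i using Fin.cases with
          | zero =>
            have e2 : Ψ₀ * (g : Matrix ι ι F) * Φ₀ = ρ₀ ⟨g, hg⟩ ⊗ₖ (1 : Matrix (Fin k) (Fin k) F) := by
              rw [Matrix.mul_assoc, hh.acts ⟨g, hg⟩, ← Matrix.mul_assoc, hh.coords.right, Matrix.one_mul]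
            rw [e2, show (fun b => ((ρ₀ ⟨g, hg⟩ ⊗ₖ (1 : Matrix (Fin k) (Fin k) F)) *ᵥ (Ψ₀ *ᵥ x)) (a, b)) =
              ∑ a', ρ₀ ⟨g, hg⟩ a a' • fun b => (Ψ₀ *ᵥ x) (a', b) from funext fun b => by
                simp [Matrix.mulVec, dotProduct, Fintype.sum_prod_type, Matrix.one_apply, Finset.sum_apply]]
            exact W.sum_mem fun a' _ => W.smul_mem _ (hx a')
          | succ j =>
            obtain ⟨b, hb, hgb⟩ := hlift j g hg
            rw [hgb, show (fun c => (((1 : Matrix (Fin d₀) (Fin d₀) F) ⊗ₖ (b : Matrix (Fin k) (Fin k) F)) *ᵥ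
              (Ψ₀ *ᵥ x)) (a, c)) = (b : Matrix (Fin k) (Fin k) F) *ᵥ fun c => (Ψ₀ *ᵥ x) (a, c) from funext fun c => by
                simp [Matrix.mulVec, dotProduct, Fintype.sum_prod_type, Matrix.one_apply]]
            exact hW b (le_iSup M' j hb) _ (hx a)
        obtain ⟨a₀⟩ := habs.nonempty
        let emb : (Fin k → F) → (ι → F) := fun w => Φ₀ *ᵥ fun p => if p.1 = a₀ then w p.2 else 0
        have hemb : ∀ w a, (fun b => (Ψ₀ *ᵥ emb w) (a, b)) = if a = a₀ then w else 0 := fun w a => funext fun b => by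
          simp only [emb]
          rw [Matrix.mulVec_mulVec, hh.coords.right, Matrix.one_mulVec]
          split_ifs <;> rfl
        rcases (irreducible_iff _).mp hai.1 Wt (invariant_iSup hWt) with e | e
        · refine Or.inl ((Submodule.eq_bot_iff W).mpr fun w hw => ?_)
          have hmem : emb w ∈ Wt := fun a => by rw [hemb]; split_ifs; exacts [hw, W.zero_mem]
          rw [e, Submodule.mem_bot] at hmem
          have := hemb w a₀
          rw [hmem, if_pos rfl, Matrix.mulVec_zero] at this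
          exact this.symm
        · refine Or.inr (Submodule.eq_top_iff'.mpr fun w => ?_)
          have hmem : emb w ∈ Wt := e ▸ Submodule.mem_top
          simpa [hemb] using hmem a₀
      · obtain ⟨c, hc⟩ := hai.2 (Φ₀ * ((1 : Matrix (Fin d₀) (Fin d₀) F) ⊗ₖ X) * Ψ₀) (forall_matrixSet.mpr
          (comm_iSup fun i g hg => by
            induction i using Fin.cases with
            | zero => exact mem_comm_matrixSet.mp (hh.kron_mem_comm (fun g => by rw [Matrix.one_mul, Matrix.mul_one]) X) g hg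
            | succ j =>
              obtain ⟨b, hb, hgb⟩ := hlift j g hg
              refine hh.coords.commute_of ?_
              rw [hgb, ← Matrix.mul_kronecker_mul, ← Matrix.mul_kronecker_mul,
                hX _ (mem_matrixSet (le_iSup M' j hb))]))
        refine ⟨c, hinj ?_⟩
        rw [hh.coords.scalar_of hc, Matrix.kronecker_smul, Matrix.one_kronecker_one]
    obtain ⟨d', Φ', Ψ', ρ', hF⟩ := ih M' hcomm' hai' hns'
    -- combine
    let d : Fin (t + 1) → ℕ := Fin.cons d₀ d'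
    let φ : Fin d₀ × (∀ j, Fin (d' j)) ≃ ∀ i, Fin (d i) := Fin.consEquiv (fun i => Fin (d i))
    set A₁ : Matrix (Fin d₀ × Fin k) (Fin d₀ × (∀ j, Fin (d' j))) F := (1 : Matrix (Fin d₀) (Fin d₀) F) ⊗ₖ Φ' with hA₁
    set B₁ : Matrix (Fin d₀ × (∀ j, Fin (d' j))) (Fin d₀ × Fin k) F := (1 : Matrix (Fin d₀) (Fin d₀) F) ⊗ₖ Ψ' with hB₁
    have hAB : Coords A₁ B₁ := ⟨by rw [hA₁, hB₁, ← Matrix.mul_kronecker_mul, Matrix.one_mul, hF.coords.left, Matrix.one_kronecker_one],
      by rw [hA₁, hB₁, ← Matrix.mul_kronecker_mul, Matrix.one_mul, hF.coords.right, Matrix.one_kronecker_one]⟩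
    have hc1 := hh.coords.comp hAB
    set Φ : Matrix ι (∀ i, Fin (d i)) F := (Φ₀ * A₁).submatrix id φ.symm with hΦ
    set Ψ : Matrix (∀ i, Fin (d i)) ι F := (B₁ * Ψ₀).submatrix φ.symm id with hΨ
    have hconj : ∀ (g : Matrix ι ι F) (Z : Matrix (Fin d₀ × Fin k) (Fin d₀ × Fin k) F), Ψ₀ * g * Φ₀ = Z →
        Ψ * g * Φ = (B₁ * Z * A₁).submatrix φ.symm φ.symm := by
      intro g Z hZ
      rw [show Ψ * g * Φ = ((B₁ * Ψ₀) * g * (Φ₀ * A₁)).submatrix φ.symm φ.symm from rfl, ← hZ]
      simp only [Matrix.mul_assoc]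
    let ρ : ∀ i, M i → Matrix (Fin (d i)) (Fin (d i)) F := fun i =>
      Fin.cases (motive := fun i => M i → Matrix (Fin (d i)) (Fin (d i)) F) ρ₀
        (fun j g => ρ' j ⟨_, (hlift j g g.2).choose_spec.1⟩) i
    refine ⟨d, Φ, Ψ, ρ, ⟨⟨by rw [hΦ, hΨ, Matrix.submatrix_mul_equiv, hc1.left, Matrix.submatrix_id_id],
      by rw [hΦ, hΨ, ← Matrix.submatrix_mul _ _ φ.symm id φ.symm Function.bijective_id, hc1.right,
        Matrix.submatrix_one_equiv]⟩, fun i => ?_, fun i => ?_, fun i g => ?_⟩⟩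
    · induction i using Fin.cases with
      | zero => exact habs
      | succ j =>
        have hrange : ∀ b : M' j, ∃ g : M j.succ, ρ j.succ g = ρ' j b := by
          rintro ⟨b, g, hg, hgb⟩
          refine ⟨⟨g, hg⟩, congrArg (ρ' j) (Subtype.ext (Units.ext (hinj ?_)))⟩
          exact (hlift j g hg).choose_spec.2.symm.trans hgb
        refine ⟨⟨(hF.absIrr j).nonempty, fun W hW => (hF.absIrr j).irr W fun b v hv => ?_⟩,
          fun X hX => (hF.absIrr j).scalar X fun b => ?_⟩
        · obtain ⟨g, hg⟩ := hrange b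
          rw [← hg]; exact hW g v hv
        · obtain ⟨g, hg⟩ := hrange b
          rw [← hg]; exact hX g
    · induction i using Fin.cases with
      | zero => exact hd₀
      | succ j => exact hF.two_le j
    · induction i using Fin.cases with
      | zero =>
        have e2 : Ψ₀ * ((g : GL ι F) : Matrix ι ι F) * Φ₀ = ρ₀ g ⊗ₖ (1 : Matrix (Fin k) (Fin k) F) := by
          rw [Matrix.mul_assoc, hh.acts g, ← Matrix.mul_assoc, hh.coords.right, Matrix.one_mul]
        rw [hconj _ _ e2, hA₁, hB₁, ← Matrix.mul_kronecker_mul, ← Matrix.mul_kronecker_mul, Matrix.one_mul,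
          Matrix.mul_one, Matrix.mul_one, hF.coords.right]
        ext x y
        obtain ⟨p, rfl⟩ := φ.surjective x
        obtain ⟨q, rfl⟩ := φ.surjective y
        rw [Matrix.submatrix_apply, φ.symm_apply_apply, φ.symm_apply_apply, fac]
        rw [piKron_succ, Pi.mulSingle_eq_same, Matrix.kronecker_apply]
        show _ = ρ₀ g p.1 q.1 * piKron (d := d') _ p.2 q.2
        refine congrArg _ ?_
        rw [← piKron_one (F := F) d']
        congr 1
      | succ j =>
        rw [hconj _ _ (hlift j g g.2).choose_spec.2, hA₁, hB₁, ← Matrix.mul_kronecker_mul, ← Matrix.mul_kronecker_mul,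
          Matrix.one_mul, Matrix.mul_one, hF.acts j ⟨_, (hlift j g g.2).choose_spec.1⟩]
        ext x y
        obtain ⟨p, rfl⟩ := φ.surjective x
        obtain ⟨q, rfl⟩ := φ.surjective y
        rw [Matrix.submatrix_apply, φ.symm_apply_apply, φ.symm_apply_apply, Matrix.kronecker_apply]
        simp only [fac]
        rw [piKron_succ, Pi.mulSingle_eq_of_ne (Fin.succ_ne_zero j).symm]
        show _ = (1 : Matrix (Fin d₀) (Fin d₀) F) p.1 q.1 * piKron (d := d') _ p.2 q.2
        refine congrArg _ ?_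
        refine congrArg (fun A => piKron A p.2 q.2) (funext fun l => ?_)
        by_cases hl : l = j
        · subst hl; rw [Pi.mulSingle_eq_same, Pi.mulSingle_eq_same]; rfl
        · rw [Pi.mulSingle_eq_of_ne hl, Pi.mulSingle_eq_of_ne fun e => hl (Fin.succ_inj.mp e)]
          rfl

/-- An intertwiner between multiples of irreducible families with possibly different multiplicities. -/
theorem exists_equiv_of_intertwiner' {α : Type*} {κ κ' μ μ' : Type} [Fintype κ] [DecidableEq κ] [Fintype κ']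
    [DecidableEq κ'] [Fintype μ] [DecidableEq μ] [Fintype μ'] [DecidableEq μ']
    {ρ : α → Matrix κ κ F} {σ : α → Matrix κ' κ' F} (hρ : Irr ρ) (hσ : Irr σ) {M : Matrix (κ' × μ') (κ × μ) F}
    (hM : ∀ s, M * (ρ s ⊗ₖ (1 : Matrix μ μ F)) = (σ s ⊗ₖ (1 : Matrix μ' μ' F)) * M) (h0 : M ≠ 0) :
    Fintype.card κ = Fintype.card κ' ∧
      ∃ (a : Matrix κ' κ F) (ai : Matrix κ κ' F), ai * a = 1 ∧ a * ai = 1 ∧ ∀ s, a * ρ s = σ s * a := by
  obtain ⟨⟨i, a⟩, ⟨j, b⟩, hne⟩ : ∃ x y, M x y ≠ 0 := by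
    by_contra hc
    push Not at hc
    exact h0 (Matrix.ext hc)
  let X : Matrix κ' κ F := Matrix.of fun i j => M (i, a) (j, b)
  have hint : ∀ s, X * ρ s = σ s * X := fun s => by
    ext i j
    have h := congrFun (congrFun (hM s) (i, a)) (j, b)
    simp only [Matrix.mul_apply, Matrix.kronecker_apply, Fintype.sum_prod_type, Matrix.one_apply, mul_ite, ite_mul,
      mul_one, mul_zero, one_mul, zero_mul, Finset.sum_ite_eq, Finset.sum_ite_eq', Finset.mem_univ, if_true] at h
    simpa [Matrix.mul_apply, X] using h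
  obtain ⟨hcard, Mi, h1, h2⟩ := schur hρ hσ hint (fun e => hne (congrFun (congrFun e i) j))
  exact ⟨hcard, _, Mi, h1, h2, hint⟩

section

variable [Nonempty ι] {t : ℕ} {M : Fin t → Subgroup (GL ι F)} {d : Fin t → ℕ} {Φ : Matrix ι (∀ i, Fin (d i)) F}
  {Ψ : Matrix (∀ i, Fin (d i)) ι F} {ρ : ∀ i, M i → Matrix (Fin (d i)) (Fin (d i)) F}

/-- An element moving factor `i` to factor `i'` gives an equivalence. -/
theorem Factored.exists_equiv (hF : Factored M Φ Ψ ρ) {h : GL ι F} {i i' : Fin t}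
    (hh : ∀ g ∈ M i, h * g * h⁻¹ ∈ M i') (hh' : ∀ g ∈ M i', h⁻¹ * g * h ∈ M i) :
    Fintype.card (Fin (d i)) = Fintype.card (Fin (d i')) ∧
      ∃ (a : Matrix (Fin (d i')) (Fin (d i)) F) (ai : Matrix (Fin (d i)) (Fin (d i')) F), ai * a = 1 ∧ a * ai = 1 ∧
        ∀ g : M i, a * ρ i g = ρ i' ⟨h * g * h⁻¹, hh g g.2⟩ * a := by
  classical
  set T := Ψ * (h : Matrix ι ι F) * Φ with hT
  let φ := Equiv.piSplitAt i (fun j => Fin (d j))
  let φ' := Equiv.piSplitAt i' (fun j => Fin (d j))
  refine exists_equiv_of_intertwiner' (σ := fun g : M i => ρ i' ⟨h * g * h⁻¹, hh g g.2⟩) (hF.absIrr i).toIrr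
    ⟨(hF.absIrr i').nonempty, fun W hW => (hF.absIrr i').irr W fun g v hv => ?_⟩
    (M := T.submatrix φ'.symm φ.symm) (fun g => ?_) fun h0 => ?_
  · have := hW ⟨h⁻¹ * g * h, hh' g g.2⟩ v hv
    simpa [mul_assoc] using this
  · rw [← fac_submatrix, ← fac_submatrix, Matrix.submatrix_mul_equiv, Matrix.submatrix_mul_equiv, ← hF.acts, ← hF.acts,
      hT, hF.coords.conj_mul, hF.coords.conj_mul, ← Units.val_mul, ← Units.val_mul, inv_mul_cancel_right]
  · have hT0 : T = 0 := Matrix.ext fun x y => by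
      have := congrFun (congrFun h0 (φ' x)) (φ y)
      simpa using this
    have h1 : (h : Matrix ι ι F) = 0 := by
      rw [← hF.coords.unconj_conj (h : Matrix ι ι F), ← hT, hT0, Matrix.mul_zero, Matrix.zero_mul]
    exact h.ne_zero h1

/-- Elements permuting the factors are factor permutations times pure tensors. -/
theorem Factored.isWreath {m : ℕ} {Φ : Matrix ι (Fin t → Fin m) F} {Ψ : Matrix (Fin t → Fin m) ι F}
    {ρ : ∀ i, M i → Matrix (Fin m) (Fin m) F} (hF : Factored (d := fun _ => m) M Φ Ψ ρ) (ht : 0 < t)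
    (hai : ActsAbsolutelyIrreducibly (matrixSet (⨆ i, M i : Subgroup (GL ι F)))) {h : GL ι F} (π : Equiv.Perm (Fin t))
    (hh : ∀ i, ∀ g ∈ M i, h * g * h⁻¹ ∈ M (π i)) (hh' : ∀ i, ∀ g ∈ M (π i), h⁻¹ * g * h ∈ M i) :
    IsWreathMat (Ψ * (h : Matrix ι ι F) * Φ) := by
  classical
  choose a ai ha1 ha2 ha using fun i => (hF.exists_equiv (hh i) (hh' i)).2
  set A : Fin t → GL (Fin m) F := fun i => ⟨a i, ai i, ha2 i, ha1 i⟩
  set G : GL (Fin t → Fin m) F := permGL F π * piKronGL (d := fun _ => m) A with hG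
  set T := Ψ * (h : Matrix ι ι F) * Φ with hT
  have hGfac : ∀ i (g : M i), (G : Matrix (Fin t → Fin m) (Fin t → Fin m) F) * fac (d := fun _ => m) i (ρ i g) =
      fac (d := fun _ => m) (π i) (ρ (π i) ⟨h * g * h⁻¹, hh i g g.2⟩) *
        (G : Matrix (Fin t → Fin m) (Fin t → Fin m) F) := by
    intro i g
    rw [hG, Units.val_mul]
    show permMat F π * piKron (d := fun _ => m) a * _ = _ * (permMat F π * piKron (d := fun _ => m) a)
    have e : piKron (d := fun _ => m) a * fac (d := fun _ => m) i (ρ i g) =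
        fac (d := fun _ => m) i (ρ (π i) ⟨h * g * h⁻¹, hh i g g.2⟩) * piKron (d := fun _ => m) a := by
      rw [fac, fac, piKron_mul, piKron_mul]
      congr 1
      funext l
      by_cases hl : l = i
      · subst hl; simpa using ha l g
      · simp [Pi.mulSingle_eq_of_ne hl]
    rw [Matrix.mul_assoc, e, ← Matrix.mul_assoc, permMat_fac, Matrix.mul_assoc]
  set Gi : Matrix (Fin t → Fin m) (Fin t → Fin m) F := ((G⁻¹ : GL _ F) : Matrix (Fin t → Fin m) (Fin t → Fin m) F)
  obtain ⟨c, hc⟩ := hai.2 (Φ * (Gi * T) * Ψ) (forall_matrixSet.mpr (comm_iSup fun i g hg => by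
    refine hF.coords.commute_of ?_
    rw [show Ψ * (g : Matrix ι ι F) * Φ = _ from hF.acts i ⟨g, hg⟩]
    have e1 : T * fac (d := fun _ => m) i (ρ i ⟨g, hg⟩) =
        fac (d := fun _ => m) (π i) (ρ (π i) ⟨h * g * h⁻¹, hh i g hg⟩) * T := by
      rw [← hF.acts, ← hF.acts, hT, hF.coords.conj_mul, hF.coords.conj_mul, ← Units.val_mul, ← Units.val_mul,
        inv_mul_cancel_right]
    calc Gi * T * fac (d := fun _ => m) i (ρ i ⟨g, hg⟩)
        = Gi * fac (d := fun _ => m) (π i) (ρ (π i) ⟨h * g * h⁻¹, hh i g hg⟩) *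
            ((G : Matrix (Fin t → Fin m) (Fin t → Fin m) F) * Gi) * T := by
          rw [val_mul_inv, Matrix.mul_one, Matrix.mul_assoc, e1, ← Matrix.mul_assoc]
      _ = (Gi * (G : Matrix (Fin t → Fin m) (Fin t → Fin m) F)) * fac (d := fun _ => m) i (ρ i ⟨g, hg⟩) * (Gi * T) := by
          rw [Matrix.mul_assoc Gi (G : Matrix (Fin t → Fin m) (Fin t → Fin m) F), hGfac i ⟨g, hg⟩]
          simp only [Matrix.mul_assoc]
      _ = _ := by rw [val_inv_mul, Matrix.one_mul]))
  have hTG : T = c • (G : Matrix (Fin t → Fin m) (Fin t → Fin m) F) := by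
    have h1 := hF.coords.scalar_of hc
    calc T = ((G : Matrix (Fin t → Fin m) (Fin t → Fin m) F) * Gi) * T := by rw [val_mul_inv, Matrix.one_mul]
      _ = _ := by rw [Matrix.mul_assoc, h1, Matrix.mul_smul, Matrix.mul_one]
  have hc0 : c ≠ 0 := fun e => h.ne_zero (by
    rw [← hF.coords.unconj_conj (h : Matrix ι ι F), ← hT, hTG, e, zero_smul, Matrix.mul_zero, Matrix.zero_mul])
  let i₀ : Fin t := ⟨0, ht⟩
  refine ⟨π, fun i => if i = i₀ then Matrix.GeneralLinearGroup.mkOfDetNeZero (c • a i) (by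
    rw [Matrix.det_smul]; exact mul_ne_zero (pow_ne_zero _ hc0) (gl_det_ne_zero (A i))) else A i, ?_⟩
  rw [hTG, hG, Units.val_mul, ← Matrix.mul_smul]
  show permMat F π * _ = _
  congr 1
  rw [piKronGL_val]
  have hprod : c = ∏ i, (if i = i₀ then c else 1) := by simp
  refine (congrArg (fun z : F => z • piKron (d := fun _ => m) fun i => (A i : Matrix (Fin m) (Fin m) F)) hprod).trans
    ((piKron_smul (d := fun _ => m) _ _).symm.trans (congrArg piKron (funext fun i => ?_)))
  by_cases hi : i = i₀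
  · simp [hi, A, Matrix.GeneralLinearGroup.mkOfDetNeZero]
  · simp [hi, A]

end

end Cfsg.Lib.Classical.Aschbacher
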