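import Cfsg.Agent.Classical.Aschbacher.FormBase
import Cfsg.Agent.Classical.Aschbacher.TensorInduced

/-! Tensor decompositions of a form stabilised by a group of isometries. -/

set_option autoImplicit false
set_option linter.unusedSimpArgs false
set_option linter.unusedSectionVars false
set_option linter.style.haveILetI false

namespace Cfsg.Lib.Classical.Aschbacher

open Matrix Cfsg.Geo
open scoped MatrixGroups Kronecker
open Cfsg.Lib.Classical.PrimeDim (Normalises gl_det_ne_zero val_inv_mul val_mul_inv irreducible_iff comp_mulVec)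

universe u

variable {ι : Type} [Fintype ι] [DecidableEq ι] {F : Type u} [Field F]

theorem kron_transpose {α β α' β' : Type} (A : Matrix α β F) (B : Matrix α' β' F) : (A ⊗ₖ B)ᵀ = Aᵀ ⊗ₖ Bᵀ := rfl

theorem kron_map {α β α' β' : Type} (σ : F ≃+* F) (A : Matrix α β F) (B : Matrix α' β' F) :
    (A ⊗ₖ B).map σ = A.map σ ⊗ₖ B.map σ := Matrix.ext fun _ _ => map_mul σ _ _

/-- Equal tensor products have proportional factors. -/
theorem kron_eq_kron {α β α' β' : Type} {A C : Matrix α β F} {B D : Matrix α' β' F} (h : A ⊗ₖ B = C ⊗ₖ D)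
    (hC : C ≠ 0) (hD : D ≠ 0) : ∃ c : F, c ≠ 0 ∧ A = c • C ∧ B = c⁻¹ • D := by
  obtain ⟨i, j, hij⟩ : ∃ i j, C i j ≠ 0 := by
    by_contra hc; push Not at hc; exact hC (Matrix.ext hc)
  obtain ⟨a, b, hab⟩ : ∃ a b, D a b ≠ 0 := by
    by_contra hc; push Not at hc; exact hD (Matrix.ext hc)
  have e : ∀ i j a b, A i j * B a b = C i j * D a b := fun i j a b => congrFun (congrFun h (i, a)) (j, b)
  have hA0 : A i j ≠ 0 := fun e0 => mul_ne_zero hij hab (by rw [← e, e0, zero_mul])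
  have hB : ∀ a b, B a b = (A i j / C i j)⁻¹ * D a b := fun a b => by
    rw [inv_div, div_mul_eq_mul_div, eq_div_iff hA0, mul_comm]; exact e i j a b
  refine ⟨A i j / C i j, div_ne_zero hA0 hij, Matrix.ext fun i' j' => ?_, Matrix.ext fun a' b' => ?_⟩
  · have h1 := e i' j' a b
    rw [hB a b, ← mul_assoc] at h1
    have h2 := mul_right_cancel₀ hab h1
    rw [Matrix.smul_apply, smul_eq_mul, ← h2]
    field_simp
  · exact hB a' b'

/-- Invariant pairings of an absolutely irreducible family are unique up to scalars. -/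
theorem pairing_unique {α : Type*} {κ : Type} [Fintype κ] [DecidableEq κ] {σ : F ≃+* F} (hinv : ∀ a, σ (σ a) = a)
    {ρ : α → Matrix κ κ F} (hρ : AbsIrr ρ) (hd : ∀ s, (ρ s).det ≠ 0) {X₀ X : Matrix κ κ F}
    (h0 : ∀ s, (ρ s)ᵀ * X₀ * (ρ s).map σ = X₀) (h1 : ∀ s, (ρ s)ᵀ * X * (ρ s).map σ = X) (hd0 : X₀.det ≠ 0) :
    ∃ c : F, X = c • X₀ := by
  have hu : IsUnit X₀.det := isUnit_iff_ne_zero.mpr hd0
  have hσσ : ∀ A : Matrix κ κ F, (A.map σ).map σ = A := fun A => Matrix.ext fun i j => hinv _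
  have key : ∀ s, (X₀⁻¹ * X) * (ρ s).map σ = (ρ s).map σ * (X₀⁻¹ * X) := fun s => by
    apply ((Matrix.isUnit_iff_isUnit_det ((ρ s)ᵀ * X₀)).mpr (isUnit_iff_ne_zero.mpr (by
      rw [Matrix.det_mul, Matrix.det_transpose]; exact mul_ne_zero (hd s) hd0))).mul_left_cancel
    calc (ρ s)ᵀ * X₀ * ((X₀⁻¹ * X) * (ρ s).map σ)
        = (ρ s)ᵀ * (X₀ * X₀⁻¹) * X * (ρ s).map σ := by simp only [Matrix.mul_assoc]
      _ = X := by rw [Matrix.mul_nonsing_inv _ hu, Matrix.mul_one, h1]
      _ = ((ρ s)ᵀ * X₀ * (ρ s).map σ) * (X₀⁻¹ * X) := by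
          rw [h0, ← Matrix.mul_assoc, Matrix.mul_nonsing_inv _ hu, Matrix.one_mul]
      _ = _ := by simp only [Matrix.mul_assoc]
  obtain ⟨c, hc⟩ := hρ.scalar ((X₀⁻¹ * X).map σ) fun s => by
    have := congrArg (fun A : Matrix κ κ F => A.map σ) (key s)
    simpa only [Matrix.map_mul, hσσ] using this
  refine ⟨σ c, ?_⟩
  have h2 := congrArg (fun A : Matrix κ κ F => X₀ * A.map σ) hc
  simp only [hσσ, ← Matrix.mul_assoc, Matrix.mul_nonsing_inv _ hu, Matrix.one_mul] at h2
  rw [h2]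
  ext i j
  simp [Matrix.mul_apply, Matrix.map_apply, Matrix.one_apply, apply_ite σ, mul_comm]

/-- The adjoint of an invariant pairing is a multiple of it. -/
theorem pairing_transpose {α : Type*} {κ : Type} [Fintype κ] [DecidableEq κ] {σ : F ≃+* F} (hinv : ∀ a, σ (σ a) = a)
    {ρ : α → Matrix κ κ F} (hρ : AbsIrr ρ) (hd : ∀ s, (ρ s).det ≠ 0) {X : Matrix κ κ F}
    (h : ∀ s, (ρ s)ᵀ * X * (ρ s).map σ = X) (hX : X.det ≠ 0) : ∃ l : F, Xᵀ = l • X.map σ ∧ l * σ l = 1 := by
  haveI := hρ.nonempty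
  have hσσ : ∀ A : Matrix κ κ F, (A.map σ).map σ = A := fun A => Matrix.ext fun i j => hinv _
  obtain ⟨c, hc⟩ := pairing_unique hinv hρ hd h (X := Xᵀ.map σ) (fun s => by
    have h1 := congrArg (fun A : Matrix κ κ F => Aᵀ.map σ) (h s)
    simp only [Matrix.transpose_mul, Matrix.transpose_transpose, Matrix.map_mul, ← Matrix.transpose_map, hσσ] at h1
    simpa only [Matrix.mul_assoc, ← Matrix.transpose_map] using h1) hX
  have h2 : Xᵀ = σ c • X.map σ := by
    rw [← hσσ Xᵀ, hc]; exact Matrix.ext fun i j => map_mul σ _ _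
  refine ⟨σ c, h2, ?_⟩
  obtain ⟨i, j, hij⟩ : ∃ i j, X i j ≠ 0 := by
    by_contra hc'; push Not at hc'; exact hX (by rw [show X = 0 from Matrix.ext hc', Matrix.det_zero])
  have e : ∀ a b, X b a = σ c * σ (X a b) := fun a b => congrFun (congrFun h2 a) b
  have h3 := e j i
  rw [e i j, map_mul, hinv, hinv, ← mul_assoc] at h3
  have h4 := (mul_eq_right₀ hij).mp h3.symm
  rwa [hinv]

namespace Coords

variable {κ : Type} [Fintype κ] [DecidableEq κ] {Φ : Matrix ι κ F} {Ψ : Matrix κ ι F}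

theorem act_of_conj (hc : Coords Φ Ψ) {M : Matrix ι ι F} {T : Matrix κ κ F} (h : Ψ * M * Φ = T) :
    M * Φ = Φ * T := by
  rw [← h, ← Matrix.mul_assoc, ← Matrix.mul_assoc, hc.left, Matrix.one_mul]

theorem det_conj_ne_zero (hc : Coords Φ Ψ) (g : GL ι F) : (Ψ * (g : Matrix ι ι F) * Φ).det ≠ 0 := by
  refine Matrix.det_ne_zero_of_left_inverse (B := Ψ * ((g⁻¹ : GL ι F) : Matrix ι ι F) * Φ) ?_
  rw [hc.conj_mul, val_inv_mul, Matrix.mul_one, hc.right]

/-- Coordinates as a change of basis along a bijection of the index sets. -/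
def toGL (hc : Coords Φ Ψ) (e : ι ≃ κ) : GL ι F :=
  ⟨Φ.submatrix id e, Ψ.submatrix e id, by rw [Matrix.submatrix_mul_equiv, hc.left, Matrix.submatrix_id_id],
    by rw [← Matrix.submatrix_mul Ψ Φ e id e Function.bijective_id, hc.right, Matrix.submatrix_one_equiv]⟩

theorem toGL_mulVec (hc : Coords Φ Ψ) (e : ι ≃ κ) (x : κ → F) :
    ((hc.toGL e : GL ι F) : Matrix ι ι F) *ᵥ (x ∘ e) = Φ *ᵥ x := by
  funext i
  exact Equiv.sum_comp e fun b => Φ i b * x b

theorem inCoords_toGL (hc : Coords Φ Ψ) (e : ι ≃ κ) (g : GL ι F) :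
    inCoords e (hc.toGL e) g = Ψ * (g : Matrix ι ι F) * Φ := by
  simp only [inCoords, toGL, Units.val_mul, Units.inv_mk]
  ext a b
  simp [Matrix.mul_apply]

end Coords

/-- A tensor decomposition of the form, stabilised by `H`. -/
structure TensorForm (σ : F ≃+* F) (f : (ι → F) → (ι → F) → F) (H : Subgroup (GL ι F)) {d k : ℕ}
    (Φ : Matrix ι (Fin d × Fin k) F) (Ψ : Matrix (Fin d × Fin k) ι F) (X₁ : Matrix (Fin d) (Fin d) F)
    (X₂ : Matrix (Fin k) (Fin k) F) : Prop where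
  coords : Coords Φ Ψ
  two_left : 2 ≤ d
  two_right : 2 ≤ k
  gram : Φᵀ * gramMatrix f * Φ.map σ = X₁ ⊗ₖ X₂
  det_left : X₁.det ≠ 0
  det_right : X₂.det ≠ 0
  split : ∀ h ∈ H, ∃ (a : Matrix (Fin d) (Fin d) F) (b : Matrix (Fin k) (Fin k) F) (c : F), c ≠ 0 ∧
    Ψ * (h : Matrix ι ι F) * Φ = a ⊗ₖ b ∧ aᵀ * X₁ * a.map σ = c • X₁ ∧ bᵀ * X₂ * b.map σ = c⁻¹ • X₂

/-- A homogeneous absolutely irreducible constituent gives a tensor decomposition of the form. -/
theorem Homog.tensorForm [Nonempty ι] {σ : F ≃+* F} {ε : F} {f : (ι → F) → (ι → F) → F} {N H : Subgroup (GL ι F)}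
    {d k : ℕ} {Φ : Matrix ι (Fin d × Fin k) F} {Ψ : Matrix (Fin d × Fin k) ι F}
    {ρ : N → Matrix (Fin d) (Fin d) F} [Finite F] (hh : Homog N Φ Ψ ρ) (habs : AbsIrr ρ) (hn : Normalises H N)
    (hf : ReflForm σ ε f) (hN : Fixes f N) (hH : Fixes f H) (hd : 2 ≤ d) (hk : 2 ≤ k) :
    ∃ (X₁ : Matrix (Fin d) (Fin d) F) (X₂ : Matrix (Fin k) (Fin k) F) (l : F), l * σ l = 1 ∧
      X₁ᵀ = l • X₁.map σ ∧ X₂ᵀ = (ε / l) • X₂.map σ ∧ TensorForm σ f H Φ Ψ X₁ X₂ := by
  classical
  haveI : Nonempty (Fin k) := ⟨⟨0, hh.pos⟩⟩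
  haveI : Nonempty (Fin d) := habs.nonempty
  have hdet : ∀ g : N, (ρ g).det ≠ 0 := fun g e => by
    have h1 := hh.coords.det_conj_ne_zero (g : GL ι F)
    rw [Matrix.mul_assoc, hh.acts, ← Matrix.mul_assoc, hh.coords.right, Matrix.one_mul, Matrix.det_kronecker, e,
      zero_pow Fintype.card_ne_zero, zero_mul] at h1
    exact h1 rfl
  set G := hf.gramIn Φ with hG
  have hblk : ∀ a b (g : N), (ρ g)ᵀ * block G a b * (ρ g).map σ = block G a b := fun a b g =>
    block_pairing (R := fun _ => ρ g) (R' := fun _ => ρ g)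
      (hf.gramIn_fix hN g.2 (by rw [blockDiagonal_const]; exact hh.acts g)) a b
  obtain ⟨a₀, b₀, hne⟩ : ∃ a b, block G a b ≠ 0 := by
    by_contra hc
    push Not at hc
    exact hf.gramIn_ne_zero hh.coords (Matrix.ext fun p q => congrFun (congrFun (hc p.2 q.2) p.1) q.1)
  set X₁ := block G a₀ b₀
  have hX₁ : X₁.det ≠ 0 := det_ne_zero_of_pairing habs.toIrr hdet (hblk a₀ b₀) hne
  choose C hC using fun a b => pairing_unique hf.inv habs hdet (hblk a₀ b₀) (hblk a b) hX₁
  set X₂ : Matrix (Fin k) (Fin k) F := Matrix.of C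
  have hgram : G = X₁ ⊗ₖ X₂ := Matrix.ext fun p q => by
    have := congrFun (congrFun (hC p.2 q.2) p.1) q.1
    rw [block, Matrix.of_apply, Matrix.smul_apply, smul_eq_mul] at this
    rw [Matrix.kronecker_apply, mul_comm]
    exact this
  have hX₂ : X₂.det ≠ 0 := fun e => hf.gramIn_det_ne_zero hh.coords (by
    rw [← hG, hgram, Matrix.det_kronecker, e, zero_pow Fintype.card_ne_zero, mul_zero])
  have hne₁ : X₁.map σ ≠ 0 := fun e => hne (Matrix.ext fun i j => (map_eq_zero σ).mp (congrFun (congrFun e i) j))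
  have hne₂ : X₂.map σ ≠ 0 := fun e => hX₂ (by
    rw [show X₂ = 0 from Matrix.ext fun i j => (map_eq_zero σ).mp (congrFun (congrFun e i) j), Matrix.det_zero])
  obtain ⟨l, hl, hll⟩ := pairing_transpose hf.inv habs hdet (hblk a₀ b₀) hX₁
  refine ⟨X₁, X₂, l, hll, hl, ?_, hh.coords, hd, hk, hgram, hX₁, hX₂, fun h hh' => ?_⟩
  · have h1 := hf.gramIn_transpose Φ
    rw [← hG, hgram, kron_transpose, kron_map, hl, Matrix.smul_kronecker, ← Matrix.kronecker_smul] at h1
    have hl0 : l ≠ 0 := left_ne_zero_of_mul_eq_one hll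
    obtain ⟨a, b, hab⟩ : ∃ a b, X₁ a b ≠ 0 := by
      by_contra hc; push Not at hc; exact hne (Matrix.ext hc)
    ext x y
    have h2 := congrFun (congrFun h1 (a, x)) (b, y)
    simp only [Matrix.kronecker_apply, Matrix.smul_apply, Matrix.map_apply, smul_eq_mul, Matrix.transpose_apply] at h2
    have h3 : l * X₂ y x = ε * σ (X₂ x y) :=
      mul_left_cancel₀ ((map_ne_zero σ).mpr hab) (by linear_combination h2)
    simp only [Matrix.transpose_apply, Matrix.smul_apply, Matrix.map_apply, smul_eq_mul]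
    rw [div_mul_eq_mul_div, eq_div_iff hl0, mul_comm, h3]
  · obtain ⟨a, b, hab⟩ := hh.conj_tensor habs (fun g hg => hn h hh' g hg) (fun g hg => hn.inv hh' hg)
    have h1 := hf.gramIn_fix hH hh' (hh.coords.act_of_conj hab)
    rw [← hG, hgram, kron_transpose, kron_map, ← Matrix.mul_kronecker_mul, ← Matrix.mul_kronecker_mul] at h1
    obtain ⟨c, hc, e1, e2⟩ := kron_eq_kron h1 hne fun e => hX₂ (by rw [e, Matrix.det_zero])
    exact ⟨a, b, c, hc, hab, e1, e2⟩

theorem formOfGram_eq {κ : Type} [Fintype κ] (σ : F → F) (G : Matrix κ κ F) (x y : κ → F) :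
    formOfGram σ G x y = x ⬝ᵥ (G *ᵥ (σ ∘ y)) := by
  simp only [formOfGram, dotProduct, Matrix.mulVec, Finset.mul_sum, Function.comp_apply, mul_assoc]

theorem gramMatrix_matForm {κ : Type} [Fintype κ] [DecidableEq κ] (σ : F ≃+* F) (X : Matrix κ κ F) :
    gramMatrix (matForm σ X) = X := by
  ext i j
  rw [gramMatrix, matForm, single_one_dotProduct, show σ ∘ Pi.single j (1 : F) = Pi.single j (1 : F) from
    funext fun k => by rw [Function.comp_apply, Pi.single_apply]; split_ifs <;> simp, Matrix.mulVec_single_one]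
  rfl

theorem invariant_of_kron {d k : ℕ} {Φ : Matrix ι (Fin d × Fin k) F} {Ψ : Matrix (Fin d × Fin k) ι F}
    (hc : Coords Φ Ψ) (hd : 0 < d) {H : Subgroup (GL ι F)} (hirr : ActsIrreducibly (matrixSet H))
    {W : Submodule F (Fin k → F)}
    (hW : ∀ h ∈ H, ∃ (a : Matrix (Fin d) (Fin d) F) (b : Matrix (Fin k) (Fin k) F),
      Ψ * (h : Matrix ι ι F) * Φ = a ⊗ₖ b ∧ ∀ v ∈ W, b *ᵥ v ∈ W) : W = ⊥ ∨ W = ⊤ := by
  let Wt : Submodule F (ι → F) :=
    { carrier := {x | ∀ i : Fin d, (fun a => (Ψ *ᵥ x) (i, a)) ∈ W}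
      add_mem' := fun {x y} hx hy i => by
        simp only [Matrix.mulVec_add, Pi.add_apply]; exact add_mem (hx i) (hy i)
      zero_mem' := fun i => by simp only [Matrix.mulVec_zero, Pi.zero_apply]; exact zero_mem _
      smul_mem' := fun r x hx i => by
        simp only [Matrix.mulVec_smul, Pi.smul_apply]; exact W.smul_mem r (hx i) }
  let i₀ : Fin d := ⟨0, hd⟩
  let emb : (Fin k → F) → (ι → F) := fun w => Φ *ᵥ fun p => if p.1 = i₀ then w p.2 else 0
  have hemb : ∀ w a, (fun b => (Ψ *ᵥ emb w) (a, b)) = if a = i₀ then w else 0 := fun w a => funext fun b => by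
    simp only [emb]
    rw [Matrix.mulVec_mulVec, hc.right, Matrix.one_mulVec]
    split_ifs <;> rfl
  rcases (irreducible_iff H).mp hirr Wt (fun h hh x hx i => by
    obtain ⟨a, b, hab, hb⟩ := hW h hh
    rw [Matrix.mulVec_mulVec, show Ψ * (h : Matrix ι ι F) = (a ⊗ₖ b) * Ψ by
      rw [← hab, Matrix.mul_assoc _ Φ Ψ, hc.left, Matrix.mul_one], ← Matrix.mulVec_mulVec,
      show (fun c => ((a ⊗ₖ b) *ᵥ (Ψ *ᵥ x)) (i, c)) = ∑ i', a i i' • (b *ᵥ fun c => (Ψ *ᵥ x) (i', c)) from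
        funext fun c => by
          simp [Matrix.mulVec, dotProduct, Fintype.sum_prod_type, Finset.sum_apply, Finset.mul_sum, mul_assoc]]
    exact W.sum_mem fun i' _ => W.smul_mem _ (hb _ (hx i'))) with e | e
  · refine Or.inl ((Submodule.eq_bot_iff W).mpr fun w hw => ?_)
    have hmem : emb w ∈ Wt := fun a => by rw [hemb]; split_ifs; exacts [hw, W.zero_mem]
    rw [e, Submodule.mem_bot] at hmem
    have := hemb w i₀
    rw [hmem, if_pos rfl, Matrix.mulVec_zero] at this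
    exact this.symm
  · refine Or.inr (Submodule.eq_top_iff'.mpr fun w => ?_)
    have hmem : emb w ∈ Wt := e ▸ Submodule.mem_top
    simpa [hemb] using hmem i₀

namespace TensorForm

variable {σ : F ≃+* F} {f : (ι → F) → (ι → F) → F} {H : Subgroup (GL ι F)} {d k : ℕ}
  {Φ : Matrix ι (Fin d × Fin k) F} {Ψ : Matrix (Fin d × Fin k) ι F} {X₁ : Matrix (Fin d) (Fin d) F}
  {X₂ : Matrix (Fin k) (Fin k) F}

/-- Interchanging the two factors. -/
theorem swap (hT : TensorForm σ f H Φ Ψ X₁ X₂) :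
    TensorForm σ f H (Φ.submatrix id Prod.swap) (Ψ.submatrix Prod.swap id) X₂ X₁ where
  coords := ⟨(Matrix.submatrix_mul_equiv Φ Ψ id (Equiv.prodComm (Fin k) (Fin d)) id).trans
      (by rw [hT.coords.left, Matrix.submatrix_id_id]),
    by
      rw [← Matrix.submatrix_mul Ψ Φ Prod.swap id Prod.swap Function.bijective_id, hT.coords.right]
      exact Matrix.submatrix_one_equiv (Equiv.prodComm (Fin k) (Fin d))⟩
  two_left := hT.two_right
  two_right := hT.two_left
  gram := by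
    ext ⟨a, i⟩ ⟨b, j⟩
    have h := congrFun (congrFun hT.gram (i, a)) (j, b)
    rw [Matrix.kronecker_apply] at h
    rw [Matrix.kronecker_apply, mul_comm, ← h]
    simp [Matrix.mul_apply]
  det_left := hT.det_right
  det_right := hT.det_left
  split h hh := by
    obtain ⟨a, b, c, hc, hab, h1, h2⟩ := hT.split h hh
    refine ⟨b, a, c⁻¹, inv_ne_zero hc, Matrix.ext fun x y => ?_, h2, by rw [inv_inv]; exact h1⟩
    have e := congrFun (congrFun hab (x.2, x.1)) (y.2, y.1)
    rw [Matrix.kronecker_apply] at e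
    rw [Matrix.kronecker_apply, mul_comm, ← e]
    simp [Matrix.mul_apply, Prod.swap]

/-- The coordinates as a tensor structure of the form. -/
theorem structure' {ε : F} (hT : TensorForm σ f H Φ Ψ X₁ X₂) (hf : ReflForm σ ε f) (e : ι ≃ Fin d × Fin k) :
    IsTensorFormStructure σ f (matForm σ X₁) (matForm σ X₂) e (hT.coords.toGL e) := by
  refine ⟨1, one_ne_zero, fun x y => ?_⟩
  rw [hT.coords.toGL_mulVec, hT.coords.toGL_mulVec, hf.apply_coords, one_mul, formOfGram_eq, gramMatrix_matForm,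
    gramMatrix_matForm, ReflForm.gramIn, hT.gram]

theorem le_stabilizer (hT : TensorForm σ f H Φ Ψ X₁ X₂) (e : ι ≃ Fin d × Fin k) :
    H ≤ tensorProductSubgroup d k e (hT.coords.toGL e) := fun h hh => by
  obtain ⟨a, b, c, -, hab, -, -⟩ := hT.split h hh
  have hdet := hT.coords.det_conj_ne_zero h
  rw [hab, Matrix.det_kronecker, Fintype.card_fin, Fintype.card_fin] at hdet
  have ha : a.det ≠ 0 := fun e0 => left_ne_zero_of_mul hdet (by
    rw [e0, zero_pow]; have := hT.two_right; omega)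
  have hb : b.det ≠ 0 := fun e0 => right_ne_zero_of_mul hdet (by
    rw [e0, zero_pow]; have := hT.two_left; omega)
  exact mem_conjReindex e _ h (K := kroneckerSubgroup d k F)
    (k := Matrix.GeneralLinearGroup.mkOfDetNeZero (a ⊗ₖ b) (by rw [← hab]; exact hT.coords.det_conj_ne_zero h))
    ⟨Matrix.GeneralLinearGroup.mkOfDetNeZero a ha, Matrix.GeneralLinearGroup.mkOfDetNeZero b hb, rfl⟩
    ((hT.coords.inCoords_toGL e h).trans hab)

theorem invariant_right (hT : TensorForm σ f H Φ Ψ X₁ X₂) (hirr : ActsIrreducibly (matrixSet H))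
    {W : Submodule F (Fin k → F)}
    (hW : ∀ (b : Matrix (Fin k) (Fin k) F) (c : F), c ≠ 0 → bᵀ * X₂ * b.map σ = c • X₂ → ∀ v ∈ W, b *ᵥ v ∈ W) :
    W = ⊥ ∨ W = ⊤ :=
  invariant_of_kron hT.coords (by have := hT.two_left; omega) hirr fun h hh => by
    obtain ⟨a, b, c, hc, hab, -, h2⟩ := hT.split h hh
    exact ⟨a, b, hab, hW b c⁻¹ (inv_ne_zero hc) h2⟩

end TensorForm

/-- A symmetric invertible matrix in characteristic two with a non-zero diagonal entry has a special hyperplane. -/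
theorem exists_singular_subspace [Finite F] {κ : Type} [Fintype κ] [DecidableEq κ] (hκ : 2 ≤ Fintype.card κ)
    (h2 : (2 : F) = 0) {X : Matrix κ κ F} (hX : Xᵀ = X) (hdiag : ∃ i, X i i ≠ 0) :
    ∃ W : Submodule F (κ → F), W ≠ ⊥ ∧ W ≠ ⊤ ∧
      ∀ (b : Matrix κ κ F) (c : F), bᵀ * X * b = c • X → ∀ v ∈ W, b *ᵥ v ∈ W := by
  haveI : CharP F 2 := CharTwo.of_one_ne_zero_of_two_eq_zero one_ne_zero h2
  let q : (κ → F) → F := fun v => v ⬝ᵥ (X *ᵥ v)
  have hq : ∀ v w, q (v + w) = q v + q w := fun v w => by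
    have e : w ⬝ᵥ (X *ᵥ v) = v ⬝ᵥ (X *ᵥ w) := by
      rw [Matrix.dotProduct_mulVec, ← Matrix.mulVec_transpose, hX, dotProduct_comm]
    simp only [q, Matrix.mulVec_add, add_dotProduct, dotProduct_add, e]
    linear_combination (CharTwo.add_self_eq_zero (v ⬝ᵥ (X *ᵥ w)))
  let W : Submodule F (κ → F) :=
    { carrier := {v | q v = 0}
      add_mem' := fun {v w} hv hw => by
        show q (v + w) = 0
        rw [hq, show q v = 0 from hv, show q w = 0 from hw, add_zero]
      zero_mem' := by simp [q]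
      smul_mem' := fun c v hv => by
        show q (c • v) = 0
        simp only [q, Matrix.mulVec_smul, smul_dotProduct, dotProduct_smul, smul_eq_mul]
        rw [show v ⬝ᵥ (X *ᵥ v) = 0 from hv, mul_zero, mul_zero] }
  have hsingle : ∀ i c, q (Pi.single i c) = c * (c * X i i) := fun i c => by
    simp only [q, Matrix.mulVec_single, single_dotProduct, Pi.smul_apply, Matrix.col_apply, op_smul_eq_smul, smul_eq_mul]
  obtain ⟨i, hi⟩ := hdiag
  refine ⟨W, fun e => ?_, fun e => hi ?_, fun b c hb v hv => ?_⟩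
  · obtain ⟨j, hj⟩ := Fintype.exists_ne_of_one_lt_card (by omega) i
    obtain ⟨s, hs⟩ := (Finite.injective_iff_surjective.mp
      (CharTwo.sq_injective : Function.Injective fun x : F => x ^ 2)) (X j j / X i i)
    have hs' : s * s * X i i = X j j := by
      simp only at hs; rw [← sq, hs, div_mul_cancel₀ _ hi]
    have hv : Pi.single j (1 : F) + Pi.single i s ∈ W := by
      show q _ = 0
      rw [hq, hsingle, hsingle, ← mul_assoc, ← mul_assoc, one_mul, one_mul, hs']
      exact CharTwo.add_self_eq_zero _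
    rw [e, Submodule.mem_bot] at hv
    simpa [hj] using congrFun hv j
  · have : Pi.single i (1 : F) ∈ W := e ▸ Submodule.mem_top
    have h1 : q (Pi.single i (1 : F)) = 0 := this
    simpa [hsingle] using h1
  · show q (b *ᵥ v) = 0
    simp only [q]
    rw [Matrix.mulVec_mulVec, Matrix.dotProduct_mulVec, ← Matrix.vecMul_transpose, Matrix.vecMul_vecMul,
      ← Matrix.mul_assoc, hb, ← Matrix.dotProduct_mulVec, Matrix.smul_mulVec, dotProduct_smul,
      show v ⬝ᵥ (X *ᵥ v) = 0 from hv, smul_zero]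

/-- The second factor of a tensor decomposition in characteristic two is alternating. -/
theorem TensorForm.diag_right [Finite F] {f : (ι → F) → (ι → F) → F} {H : Subgroup (GL ι F)} {d k : ℕ}
    {Φ : Matrix ι (Fin d × Fin k) F} {Ψ : Matrix (Fin d × Fin k) ι F} {X₁ : Matrix (Fin d) (Fin d) F}
    {X₂ : Matrix (Fin k) (Fin k) F} (hT : TensorForm (RingEquiv.refl F) f H Φ Ψ X₁ X₂)
    (hirr : ActsIrreducibly (matrixSet H)) (h2 : (2 : F) = 0) (hsymm : X₂ᵀ = X₂) : ∀ i, X₂ i i = 0 := by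
  by_contra hc
  push Not at hc
  obtain ⟨W, h0, h1, hW⟩ := exists_singular_subspace (by rw [Fintype.card_fin]; exact hT.two_right) h2 hsymm hc
  rcases hT.invariant_right hirr (W := W) fun b c _ hb => hW b c (by simpa using hb) with e | e
  · exact h0 e
  · exact h1 e

/-- Isometries taking a spanning set to values of a quadratic form preserve it. -/
theorem quad_fix_of_basis {κ : Type} [Fintype κ] [DecidableEq κ] {Φ : Matrix ι κ F} {Ψ : Matrix κ ι F}
    (hc : Coords Φ Ψ) {Q : (ι → F) → F} (hs : ∀ (c : F) v, Q (c • v) = c ^ 2 * Q v) {g : Matrix ι ι F}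
    (hp : ∀ u v, QuadraticMap.polar Q (g *ᵥ u) (g *ᵥ v) = QuadraticMap.polar Q u v)
    (hb : ∀ p, Q (g *ᵥ (Φ *ᵥ Pi.single p 1)) = Q (Φ *ᵥ Pi.single p 1)) : ∀ v, Q (g *ᵥ v) = Q v := by
  let D : (ι → F) → F := fun v => Q (g *ᵥ v) - Q v
  have hD : ∀ u v, D (u + v) = D u + D v := fun u v => by
    have := hp u v
    simp only [QuadraticMap.polar, ← Matrix.mulVec_add] at this
    simp only [D]
    linear_combination this
  have hDs : ∀ c v, D (c • v) = c ^ 2 * D v := fun c v => by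
    simp only [D, Matrix.mulVec_smul, hs]; ring
  have h0 : D 0 = 0 := by simpa using hDs 0 0
  intro v
  rw [← sub_eq_zero]
  show D v = 0
  rw [show v = Φ *ᵥ ∑ p, (Ψ *ᵥ v) p • Pi.single p (1 : F) by
    rw [← pi_eq_sum_univ' (Ψ *ᵥ v), Matrix.mulVec_mulVec, hc.left, Matrix.one_mulVec], Matrix.mulVec_sum]
  refine (map_sum (AddMonoidHom.mk' D hD) _ _).trans (Finset.sum_eq_zero fun p _ => ?_)
  show D _ = 0
  rw [Matrix.mulVec_smul, hDs, show D (Φ *ᵥ Pi.single p 1) = 0 from sub_eq_zero.mpr (hb p), mul_zero]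

end Cfsg.Lib.Classical.Aschbacher
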