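import Cfsg.Agent.Classical.Aschbacher.FormTensor

/-! Tensor powers of a form stabilised by a group of isometries. -/

set_option autoImplicit false
set_option linter.unusedSimpArgs false
set_option linter.unusedSectionVars false
set_option linter.style.haveILetI false

namespace Cfsg.Lib.Classical.Aschbacher

open Matrix Cfsg.Geo
open scoped MatrixGroups Kronecker
open Cfsg.Lib.Classical.PrimeDim (mem_matrixSet gl_det_ne_zero val_inv_mul val_mul_inv irreducible_iff forall_matrixSet)

universe u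

variable {ι : Type} [Fintype ι] [DecidableEq ι] {F : Type u} [Field F]

theorem piKron_map {t : ℕ} {d : Fin t → ℕ} (σ : F ≃+* F) (A : ∀ i, Matrix (Fin (d i)) (Fin (d i)) F) :
    (piKron A).map σ = piKron fun i => (A i).map σ :=
  Matrix.ext fun x y => by simp [piKron_apply, Matrix.map_apply]

theorem permMat_map {t m : ℕ} (σ : F ≃+* F) (π : Equiv.Perm (Fin t)) :
    (permMat (m := m) F π).map σ = permMat F π := Matrix.ext fun _ _ => by simp [permMat, apply_ite σ]

theorem fac_transpose {t : ℕ} {d : Fin t → ℕ} (i : Fin t) (A : Matrix (Fin (d i)) (Fin (d i)) F) :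
    (fac i A)ᵀ = fac i Aᵀ := by
  rw [fac, fac, piKron_transpose]
  congr 1
  funext j
  by_cases h : j = i
  · subst h; simp
  · simp [Pi.mulSingle_eq_of_ne h]

theorem fac_map {t : ℕ} {d : Fin t → ℕ} (σ : F ≃+* F) (i : Fin t) (A : Matrix (Fin (d i)) (Fin (d i)) F) :
    (fac i A).map σ = fac i (A.map σ) := by
  rw [fac, fac, piKron_map]
  congr 1
  funext j
  by_cases h : j = i
  · subst h; simp
  · simp [Pi.mulSingle_eq_of_ne h, Matrix.map_one σ (map_zero σ) (map_one σ)]

/-- Equal tensor products have proportional factors. -/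
theorem piKron_eq_piKron {t : ℕ} {d : Fin t → ℕ} {A B : ∀ i, Matrix (Fin (d i)) (Fin (d i)) F}
    (h : piKron A = piKron B) (hB : ∀ i, B i ≠ 0) (i : Fin t) : ∃ c : F, c ≠ 0 ∧ A i = c • B i := by
  have hex : ∀ j, ∃ a b, B j a b ≠ 0 := fun j => by
    by_contra hc; push Not at hc; exact hB j (Matrix.ext hc)
  choose x y hxy using hex
  have e : ∀ a b, A i a b * ∏ j ∈ Finset.univ.erase i, A j (x j) (y j) =
      B i a b * ∏ j ∈ Finset.univ.erase i, B j (x j) (y j) := fun a b => by
    have h1 := congrFun (congrFun h (Function.update x i a)) (Function.update y i b)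
    rw [piKron_apply, piKron_apply, ← Finset.mul_prod_erase _ _ (Finset.mem_univ i),
      ← Finset.mul_prod_erase _ _ (Finset.mem_univ i), Function.update_self, Function.update_self] at h1
    refine (congrArg (A i a b * ·) (Finset.prod_congr rfl fun j hj => ?_)).trans
      (h1.trans (congrArg (B i a b * ·) (Finset.prod_congr rfl fun j hj => ?_)))
    · rw [Function.update_of_ne (Finset.ne_of_mem_erase hj), Function.update_of_ne (Finset.ne_of_mem_erase hj)]
    · rw [Function.update_of_ne (Finset.ne_of_mem_erase hj), Function.update_of_ne (Finset.ne_of_mem_erase hj)]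
  set PA := ∏ j ∈ Finset.univ.erase i, A j (x j) (y j)
  set PB := ∏ j ∈ Finset.univ.erase i, B j (x j) (y j)
  have hPB : PB ≠ 0 := Finset.prod_ne_zero_iff.mpr fun j _ => hxy j
  have hPA : PA ≠ 0 := fun e0 => mul_ne_zero (hxy i) hPB (by rw [← e, e0, mul_zero])
  refine ⟨PB / PA, div_ne_zero hPB hPA, Matrix.ext fun a b => ?_⟩
  rw [Matrix.smul_apply, smul_eq_mul, div_mul_eq_mul_div, eq_div_iff hPA, e, mul_comm]

/-- A wreath matrix transforms a tensor product of pairings. -/
theorem wreath_congr {t m : ℕ} (σ : F ≃+* F) (π : Equiv.Perm (Fin t)) (a : Fin t → Matrix (Fin m) (Fin m) F)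
    (X : Fin t → Matrix (Fin m) (Fin m) F) :
    (permMat F π * piKron (d := fun _ => m) a)ᵀ * piKron (d := fun _ => m) X *
        (permMat F π * piKron (d := fun _ => m) a).map σ =
      piKron (d := fun _ => m) fun i => (a i)ᵀ * X (π i) * (a i).map σ := by
  have hperm : (permMat (m := m) F π)ᵀ * permMat (m := m) F π = 1 := by
    rw [permMat_transpose]
    exact (permGL (m := m) F π).inv_mul
  have hX : piKron (d := fun _ => m) X * permMat F π = permMat F π * piKron (d := fun _ => m) fun i => X (π i) := by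
    rw [permMat_piKron]; simp
  rw [Matrix.transpose_mul, Matrix.map_mul, permMat_map, piKron_map]
  calc _ = (piKron (d := fun _ => m) a)ᵀ * ((permMat F π)ᵀ * (piKron (d := fun _ => m) X * permMat F π)) *
        piKron (d := fun _ => m) (fun i => (a i).map σ) := by simp only [Matrix.mul_assoc]
    _ = _ := by rw [hX, ← Matrix.mul_assoc (permMat F π)ᵀ, hperm, Matrix.one_mul, piKron_transpose, piKron_mul,
                  piKron_mul]; rfl

/-- A tensor power of a form, stabilised by `H`. -/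
structure WreathForm (σ : F ≃+* F) (f : (ι → F) → (ι → F) → F) (H : Subgroup (GL ι F)) {t k : ℕ}
    (Φ : Matrix ι (Fin t → Fin k) F) (Ψ : Matrix (Fin t → Fin k) ι F) (X : Matrix (Fin k) (Fin k) F) (c : F) :
    Prop where
  coords : Coords Φ Ψ
  two_le_t : 2 ≤ t
  two_le_k : 2 ≤ k
  ne_zero : c ≠ 0
  gram : Φᵀ * gramMatrix f * Φ.map σ = c • piKron (d := fun _ => k) fun _ => X
  det_ne_zero : X.det ≠ 0
  stab : ∀ h ∈ H, IsWreathMat (Ψ * (h : Matrix ι ι F) * Φ)

/-- A factorisation of an absolutely irreducible group of isometries gives a tensor power of the form. -/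
theorem Factored.wreathForm [Finite F] [Nonempty ι] {σ : F ≃+* F} {ε : F} {f : (ι → F) → (ι → F) → F} {t k : ℕ}
    {M : Fin t → Subgroup (GL ι F)} {Φ : Matrix ι (Fin t → Fin k) F} {Ψ : Matrix (Fin t → Fin k) ι F}
    {ρ : ∀ i, M i → Matrix (Fin k) (Fin k) F} (hF : Factored (d := fun _ => k) M Φ Ψ ρ) (ht : 2 ≤ t)
    (hai : ActsAbsolutelyIrreducibly (matrixSet (⨆ i, M i : Subgroup (GL ι F)))) (hf : ReflForm σ ε f)
    (hM : Fixes f (⨆ i, M i : Subgroup (GL ι F))) {H : Subgroup (GL ι F)} (hH : Fixes f H)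
    (hperm : ∀ h ∈ H, ∃ π : Equiv.Perm (Fin t), (∀ i, ∀ g ∈ M i, h * g * h⁻¹ ∈ M (π i)) ∧
      ∀ i, ∀ g ∈ M (π i), h⁻¹ * g * h ∈ M i)
    (htrans : ∀ i j, ∃ h ∈ H, (∀ g ∈ M i, h * g * h⁻¹ ∈ M j) ∧ ∀ g ∈ M j, h⁻¹ * g * h ∈ M i) :
    ∃ (Φ' : Matrix ι (Fin t → Fin k) F) (Ψ' : Matrix (Fin t → Fin k) ι F) (X : Matrix (Fin k) (Fin k) F) (c l : F),
      l * σ l = 1 ∧ Xᵀ = l • X.map σ ∧ c * l ^ t = ε * σ c ∧ WreathForm σ f H Φ' Ψ' X c := by
  classical
  have hc := hF.coords
  haveI : Nonempty (Fin k) := ⟨⟨0, by have := hF.two_le ⟨0, by omega⟩; omega⟩⟩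
  have hdet : ∀ i (g : M i), (ρ i g).det ≠ 0 := fun i g e => by
    obtain ⟨v, hv, hv'⟩ := Matrix.exists_mulVec_eq_zero_iff.mpr e
    have h1 := hc.det_conj_ne_zero (g : GL ι F)
    rw [hF.acts i g, ← Matrix.det_submatrix_equiv_self (Equiv.piSplitAt i (fun _ : Fin t => Fin k)).symm,
      fac_submatrix, Matrix.det_kronecker, e, zero_pow Fintype.card_ne_zero, zero_mul] at h1
    exact h1 rfl
  set G := hf.gramIn Φ with hG
  have hGfix : ∀ i (g : M i), (fac (d := fun _ => k) i (ρ i g))ᵀ * G * (fac (d := fun _ => k) i (ρ i g)).map σ = G :=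
    fun i g => hf.gramIn_fix hM (le_iSup M i g.2) (hc.act_of_conj (hF.acts i g))
  have hX : ∀ i, ∃ X : Matrix (Fin k) (Fin k) F, X.det ≠ 0 ∧ ∀ g, (ρ i g)ᵀ * X * (ρ i g).map σ = X := by
    intro i
    let φ := Equiv.piSplitAt i (fun _ : Fin t => Fin k)
    let G' : Matrix (Fin k × ({j // j ≠ i} → Fin k)) (Fin k × ({j // j ≠ i} → Fin k)) F := G.submatrix φ.symm φ.symm
    obtain ⟨a, b, hab⟩ : ∃ a b, block G' a b ≠ 0 := by
      by_contra hcc
      push Not at hcc
      refine hf.gramIn_ne_zero hc (Matrix.ext fun x y => ?_)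
      have := congrFun (congrFun (hcc (φ x).2 (φ y).2) (φ x).1) (φ y).1
      show G x y = 0
      rw [← φ.symm_apply_apply x, ← φ.symm_apply_apply y]
      exact this
    have hp : ∀ g, (ρ i g)ᵀ * block G' a b * (ρ i g).map σ = block G' a b := fun g => by
      have e : (ρ i g ⊗ₖ (1 : Matrix ({j // j ≠ i} → Fin k) ({j // j ≠ i} → Fin k) F))ᵀ * G' *
          (ρ i g ⊗ₖ (1 : Matrix ({j // j ≠ i} → Fin k) ({j // j ≠ i} → Fin k) F)).map σ = G' := by
        rw [← fac_submatrix (d := fun _ => k), Matrix.transpose_submatrix, ← Matrix.submatrix_map,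
          Matrix.submatrix_mul_equiv, Matrix.submatrix_mul_equiv, hGfix]
      ext x y
      have h1 := congrFun (congrFun e (x, a)) (y, b)
      simp only [Matrix.mul_apply, Matrix.transpose_apply, Matrix.map_apply, Matrix.kronecker_apply, map_mul,
        Fintype.sum_prod_type, Matrix.one_apply, apply_ite σ, map_zero, map_one, mul_ite, ite_mul, mul_one, mul_zero,
        zero_mul, Finset.sum_ite_eq, Finset.sum_ite_eq', Finset.mem_univ, if_true] at h1
      simpa [Matrix.mul_apply, block] using h1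
    exact ⟨_, det_ne_zero_of_pairing (hF.absIrr i).toIrr (hdet i) hp hab, hp⟩
  choose X hXd hXfix using hX
  -- the whole form
  set P : Matrix ι ι F := Ψᵀ * piKron (d := fun _ => k) X * Ψ.map σ with hP
  have hPfix : ∀ g : (⨆ i, M i : Subgroup (GL ι F)),
      ((g : GL ι F) : Matrix ι ι F)ᵀ * P * ((g : GL ι F) : Matrix ι ι F).map σ = P := by
    let S : Subgroup (GL ι F) :=
      { carrier := {g | (g : Matrix ι ι F)ᵀ * P * (g : Matrix ι ι F).map σ = P}
        mul_mem' := fun {a b} ha hb => by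
          show ((a * b : GL ι F) : Matrix ι ι F)ᵀ * P * ((a * b : GL ι F) : Matrix ι ι F).map σ = P
          rw [Units.val_mul, Matrix.transpose_mul, Matrix.map_mul]
          calc _ = (b : Matrix ι ι F)ᵀ * ((a : Matrix ι ι F)ᵀ * P * (a : Matrix ι ι F).map σ) *
                (b : Matrix ι ι F).map σ := by simp only [Matrix.mul_assoc]
            _ = P := by rw [ha, hb]
        one_mem' := by
          show ((1 : GL ι F) : Matrix ι ι F)ᵀ * P * ((1 : GL ι F) : Matrix ι ι F).map σ = P
          rw [Units.val_one, Matrix.transpose_one, Matrix.map_one σ (map_zero σ) (map_one σ), Matrix.one_mul, Matrix.mul_one]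
        inv_mem' := fun {a} ha => by
          show ((a⁻¹ : GL ι F) : Matrix ι ι F)ᵀ * P * ((a⁻¹ : GL ι F) : Matrix ι ι F).map σ = P
          conv_lhs => rw [← (show (a : Matrix ι ι F)ᵀ * P * (a : Matrix ι ι F).map σ = P from ha)]
          rw [← Matrix.mul_assoc, ← Matrix.mul_assoc, ← Matrix.transpose_mul, val_mul_inv, Matrix.transpose_one,
            Matrix.one_mul, Matrix.mul_assoc, ← Matrix.map_mul, val_mul_inv, Matrix.map_one σ (map_zero σ) (map_one σ),
            Matrix.mul_one] }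
    have hle : (⨆ i, M i) ≤ S := iSup_le fun i g hg => by
      show (g : Matrix ι ι F)ᵀ * P * (g : Matrix ι ι F).map σ = P
      have hT := hF.acts i ⟨g, hg⟩
      have e : Ψ * (g : Matrix ι ι F) = fac (d := fun _ => k) i (ρ i ⟨g, hg⟩) * Ψ := by
        rw [← hT, Matrix.mul_assoc _ Φ Ψ, hc.left, Matrix.mul_one]
      rw [hP]
      calc _ = (Ψ * (g : Matrix ι ι F))ᵀ * piKron (d := fun _ => k) X * (Ψ * (g : Matrix ι ι F)).map σ := by
            rw [Matrix.transpose_mul, Matrix.map_mul]; simp only [Matrix.mul_assoc]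
        _ = Ψᵀ * ((fac (d := fun _ => k) i (ρ i ⟨g, hg⟩))ᵀ * piKron (d := fun _ => k) X *
              (fac (d := fun _ => k) i (ρ i ⟨g, hg⟩)).map σ) * Ψ.map σ := by
            rw [e, Matrix.transpose_mul, Matrix.map_mul]; simp only [Matrix.mul_assoc]
        _ = _ := by
            congr 2
            rw [fac_transpose, fac_map, fac, fac, piKron_mul, piKron_mul]
            congr 1
            funext j
            by_cases hj : j = i
            · subst hj; simp [hXfix j ⟨g, hg⟩]
            · simp [Pi.mulSingle_eq_of_ne hj]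
    exact fun g => hle g.2
  have hgfix : ∀ g : (⨆ i, M i : Subgroup (GL ι F)), ((g : GL ι F) : Matrix ι ι F)ᵀ * gramMatrix f *
      ((g : GL ι F) : Matrix ι ι F).map σ = gramMatrix f := fun g => hf.gram_fix hM g.2
  have hrep : AbsIrr fun g : (⨆ i, M i : Subgroup (GL ι F)) => ((g : GL ι F) : Matrix ι ι F) :=
    ⟨⟨inferInstance, fun W hW => (irreducible_iff _).mp hai.1 W fun g hg v hv => hW ⟨g, hg⟩ v hv⟩,
      fun A hA => hai.2 A (forall_matrixSet.mpr fun g hg => hA ⟨g, hg⟩)⟩
  have hPdet : P.det ≠ 0 := by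
    refine Matrix.det_ne_zero_of_left_inverse (B := Φ.map σ * piKron (d := fun _ => k) (fun i => (X i)⁻¹) * Φᵀ) ?_
    rw [hP]
    calc _ = Φ.map σ * (piKron (d := fun _ => k) (fun i => (X i)⁻¹) * (Ψ * Φ)ᵀ * piKron (d := fun _ => k) X) *
          Ψ.map σ := by rw [Matrix.transpose_mul]; simp only [Matrix.mul_assoc]
      _ = 1 := by
        rw [hc.right, Matrix.transpose_one, Matrix.mul_one, piKron_mul,
          show ((fun i => (X i)⁻¹) * X : Fin t → Matrix (Fin k) (Fin k) F) = 1 from funext fun i =>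
            Matrix.nonsing_inv_mul _ (isUnit_iff_ne_zero.mpr (hXd i)), piKron_one, Matrix.mul_one, ← Matrix.map_mul,
          hc.left, Matrix.map_one σ (map_zero σ) (map_one σ)]
  obtain ⟨c₀, hc₀⟩ := pairing_unique hf.inv hrep (fun g => gl_det_ne_zero (g : GL ι F)) hPfix hgfix hPdet
  have hGX : G = c₀ • piKron (d := fun _ => k) X := by
    rw [hG, ReflForm.gramIn, hc₀, hP, Matrix.mul_smul, Matrix.smul_mul]
    congr 1
    calc _ = (Ψ * Φ)ᵀ * piKron (d := fun _ => k) X * (Ψ * Φ).map σ := by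
          rw [Matrix.transpose_mul, Matrix.map_mul]; simp only [Matrix.mul_assoc]
      _ = _ := by rw [hc.right, Matrix.transpose_one, Matrix.map_one σ (map_zero σ) (map_one σ), Matrix.one_mul, Matrix.mul_one]
  have hc00 : c₀ ≠ 0 := fun e => hf.gramIn_ne_zero hc (by rw [← hG, hGX, e, zero_smul])
  have hXne : ∀ i, X i ≠ 0 := fun i e => hXd i (by
    haveI : Nonempty (Fin k) := ⟨⟨0, by have := hF.two_le i; omega⟩⟩
    rw [e, Matrix.det_zero])
  have hmove : ∀ h ∈ H, ∀ (π : Equiv.Perm (Fin t)) (a : Fin t → GL (Fin k) F),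
      Ψ * (h : Matrix ι ι F) * Φ = permMat F π * piKron (d := fun _ => k) (fun i => (a i : Matrix (Fin k) (Fin k) F)) →
      ∀ i, ∃ c : F, c ≠ 0 ∧ (a i : Matrix (Fin k) (Fin k) F)ᵀ * X (π i) * (a i : Matrix (Fin k) (Fin k) F).map σ = c • X i := by
    intro h hh π a hha i
    have h1 := hf.gramIn_fix hH hh (hc.act_of_conj hha)
    rw [← hG, hGX, Matrix.mul_smul, Matrix.smul_mul, wreath_congr] at h1
    exact piKron_eq_piKron (smul_right_injective _ hc00 h1) hXne i
  let i₀ : Fin t := ⟨0, by omega⟩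
  have hA : ∀ i, ∃ (A : GL (Fin k) F) (c : F), c ≠ 0 ∧
      (A : Matrix (Fin k) (Fin k) F)ᵀ * X i * (A : Matrix (Fin k) (Fin k) F).map σ = c • X i₀ := by
    intro i
    obtain ⟨h, hh, h1, h2⟩ := htrans i₀ i
    obtain ⟨π, p1, p2⟩ := hperm h hh
    obtain ⟨π', a, hha⟩ := hF.isWreath (by omega) hai π p1 p2
    obtain ⟨c, hc', e⟩ := hmove h hh π' a hha i₀
    obtain ⟨-, b, bi, hb1, hb2, hb⟩ := hF.exists_equiv h1 h2
    -- the factor of `i₀` is carried to `i`
    refine ⟨a i₀, c, hc', ?_⟩
    suffices π' i₀ = i by rw [this] at e; exact e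
    by_contra hne
    have hσ : Ψ * (h : Matrix ι ι F) * Φ * fac (d := fun _ => k) i₀ (ρ i₀ ⟨_, (M i₀).one_mem⟩) = _ := rfl
    clear hσ
    obtain ⟨g, hg, hgns⟩ : ∃ g, ∃ hg : g ∈ M i₀, ∀ s : F, ρ i₀ ⟨g, hg⟩ ≠ s • 1 := by
      by_contra hcc
      push Not at hcc
      have hne' := hF.two_le i₀
      let W : Submodule F (Fin k → F) := Submodule.span F {Pi.single ⟨0, by omega⟩ 1}
      rcases (hF.absIrr i₀).irr W (fun g v hv => by
        obtain ⟨s, hs⟩ := hcc g g.2
        rw [hs, Matrix.smul_mulVec, Matrix.one_mulVec]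
        exact W.smul_mem s hv) with e0 | e0
      · have := Submodule.span_singleton_eq_bot.mp e0
        exact one_ne_zero (α := F) (by simpa using congrFun this ⟨0, by omega⟩)
      · have h3 := finrank_span_singleton (K := F) (v := (Pi.single (⟨0, by omega⟩ : Fin k) (1 : F) : Fin k → F)) (by
          intro h4; exact one_ne_zero (α := F) (by simpa using congrFun h4 ⟨0, by omega⟩))
        rw [show Submodule.span F {(Pi.single (⟨0, by omega⟩ : Fin k) (1 : F))} = W from rfl, e0, finrank_top,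
          Module.finrank_pi, Fintype.card_fin] at h3
        omega
    have hconj : (permMat F π' * piKron (d := fun _ => k) (fun j => (a j : Matrix (Fin k) (Fin k) F))) *
        fac (d := fun _ => k) i₀ (ρ i₀ ⟨g, hg⟩) = fac (d := fun _ => k) i (ρ i ⟨h * g * h⁻¹, h1 g hg⟩) *
        (permMat F π' * piKron (d := fun _ => k) (fun j => (a j : Matrix (Fin k) (Fin k) F))) := by
      rw [← hha, ← hF.acts, ← hF.acts, hc.conj_mul, hc.conj_mul, ← Units.val_mul, ← Units.val_mul,
        inv_mul_cancel_right]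
    rw [Matrix.mul_assoc, show fac (d := fun _ => k) i (ρ i ⟨h * g * h⁻¹, h1 g hg⟩) * (permMat F π' *
        piKron (d := fun _ => k) (fun j => (a j : Matrix (Fin k) (Fin k) F))) = permMat F π' *
        (fac (d := fun _ => k) (π'.symm i) (ρ i ⟨h * g * h⁻¹, h1 g hg⟩) *
        piKron (d := fun _ => k) (fun j => (a j : Matrix (Fin k) (Fin k) F))) by
      rw [← Matrix.mul_assoc (permMat F π'), permMat_fac, Equiv.apply_symm_apply, Matrix.mul_assoc]] at hconj
    have h5 := congrArg (fun Z => (permMat (m := k) F π')ᵀ * Z) hconj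
    simp only [← Matrix.mul_assoc] at h5
    rw [show (permMat (m := k) F π')ᵀ * permMat (m := k) F π' = 1 by
      rw [permMat_transpose]; exact (permGL (m := k) F π').inv_mul, Matrix.one_mul, Matrix.one_mul, fac, fac,
      piKron_mul, piKron_mul] at h5
    have hji : i₀ ≠ π'.symm i := fun e0 => hne (by rw [e0, Equiv.apply_symm_apply])
    obtain ⟨s, -, hs⟩ := piKron_eq_piKron h5 (fun j e0 => by
      have h6 := congrArg Matrix.det e0
      rw [Pi.mul_apply, Matrix.det_mul, Matrix.det_zero] at h6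
      rcases mul_eq_zero.mp h6 with h7 | h7
      · by_cases hj : j = π'.symm i
        · subst hj; rw [Pi.mulSingle_eq_same] at h7; exact hdet i _ h7
        · rw [Pi.mulSingle_eq_of_ne hj, Matrix.det_one] at h7; exact one_ne_zero h7
      · exact gl_det_ne_zero (a j) h7) i₀
    rw [Pi.mul_apply, Pi.mul_apply, Pi.mulSingle_eq_same, Pi.mulSingle_eq_of_ne hji, Matrix.one_mul] at hs
    refine hgns s ?_
    have h8 := congrArg (fun Z => ((a i₀)⁻¹ : GL (Fin k) F).1 * Z) hs
    simp only [← Matrix.mul_assoc, val_inv_mul, Matrix.one_mul, Matrix.mul_smul] at h8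
    exact h8
  choose A cA hcA hAX using hA
  set PA := piKron (d := fun _ => k) (fun i => (A i : Matrix (Fin k) (Fin k) F))
  set PAi := piKron (d := fun _ => k) (fun i => (((A i)⁻¹ : GL (Fin k) F) : Matrix (Fin k) (Fin k) F))
  have hAB : Coords PA PAi := ⟨(piKronGL (d := fun _ => k) A).val_inv, (piKronGL (d := fun _ => k) A).inv_val⟩
  set c : F := c₀ * ∏ i, cA i
  have hgram : (Φ * PA)ᵀ * gramMatrix f * (Φ * PA).map σ = c • piKron (d := fun _ => k) fun _ => X i₀ := by
    calc _ = PAᵀ * G * PA.map σ := by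
          rw [hG, ReflForm.gramIn, Matrix.transpose_mul, Matrix.map_mul]; simp only [Matrix.mul_assoc]
      _ = _ := by
          simp only [PA]
          rw [hGX, Matrix.mul_smul, Matrix.smul_mul, piKron_transpose, piKron_map, piKron_mul, piKron_mul,
            show ((fun i => (A i : Matrix (Fin k) (Fin k) F)ᵀ) * X * fun i => (A i : Matrix (Fin k) (Fin k) F).map σ :
              Fin t → Matrix (Fin k) (Fin k) F) = fun i => cA i • X i₀ from funext fun i => hAX i,
            piKron_smul, smul_smul]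
  obtain ⟨l, hl, hll⟩ := pairing_transpose hf.inv (hF.absIrr i₀) (hdet i₀) (hXfix i₀) (hXd i₀)
  refine ⟨Φ * PA, PAi * Ψ, X i₀, c, l, hll, hl, ?_, hc.comp hAB, ht, hF.two_le i₀,
    mul_ne_zero hc00 (Finset.prod_ne_zero_iff.mpr fun i _ => hcA i), hgram, hXd i₀, fun h hh => ?_⟩
  · have h1 := hf.gramIn_transpose (Φ * PA)
    rw [ReflForm.gramIn, hgram, Matrix.transpose_smul, piKron_transpose,
      show (fun _ : Fin t => (X i₀)ᵀ) = fun _ => l • (X i₀).map σ from funext fun _ => hl,
      piKron_smul (d := fun _ => k) (fun _ => l), Finset.prod_const, Finset.card_univ, Fintype.card_fin, smul_smul,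
      show (c • piKron (d := fun _ => k) fun _ => X i₀).map σ = σ c • (piKron (d := fun _ => k) fun _ => X i₀).map σ from
        Matrix.ext fun _ _ => map_mul σ _ _, piKron_map, smul_smul] at h1
    refine smul_left_injective F (fun e => ?_) h1
    have h2 := congrArg Matrix.det e
    rw [← piKron_map, show ((piKron (d := fun _ => k) fun _ => X i₀).map σ).det =
      σ (piKron (d := fun _ => k) fun _ => X i₀).det from ((σ : F →+* F).map_det _).symm] at h2
    haveI : Nonempty (Fin t → Fin k) := ⟨fun _ => ⟨0, by have := hF.two_le i₀; omega⟩⟩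
    rw [Matrix.det_zero, map_eq_zero] at h2
    refine Matrix.det_ne_zero_of_left_inverse (B := piKron (d := fun _ => k) fun _ => (X i₀)⁻¹) ?_ h2
    rw [piKron_mul, show ((fun _ => (X i₀)⁻¹) * fun _ => X i₀ : Fin t → Matrix (Fin k) (Fin k) F) = 1 from funext fun i =>
      Matrix.nonsing_inv_mul _ (isUnit_iff_ne_zero.mpr (hXd i₀)), piKron_one]
  · obtain ⟨π, p1, p2⟩ := hperm h hh
    obtain ⟨π', a, hha⟩ := hF.isWreath (by omega) hai π p1 p2
    refine ⟨π', fun i => (A (π' i))⁻¹ * a i * A i, ?_⟩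
    calc PAi * Ψ * (h : Matrix ι ι F) * (Φ * PA) = PAi * (Ψ * (h : Matrix ι ι F) * Φ) * PA := by
          simp only [Matrix.mul_assoc]
      _ = _ := by
        have hcm : piKron (d := fun _ => k) (fun i => (((A i)⁻¹ : GL (Fin k) F) : Matrix (Fin k) (Fin k) F)) *
            permMat F π' = permMat F π' *
            piKron (d := fun _ => k) (fun i => (((A (π' i))⁻¹ : GL (Fin k) F) : Matrix (Fin k) (Fin k) F)) := by
          rw [permMat_piKron]; simp
        simp only [PA, PAi]
        rw [hha, ← Matrix.mul_assoc _ (permMat F π') _, hcm, Matrix.mul_assoc, Matrix.mul_assoc, piKron_mul, piKron_mul]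
        congr 2
        funext i
        simp only [Pi.mul_apply, Units.val_mul, Matrix.mul_assoc]

namespace WreathForm

variable {σ : F ≃+* F} {f : (ι → F) → (ι → F) → F} {H : Subgroup (GL ι F)} {t k : ℕ}
  {Φ : Matrix ι (Fin t → Fin k) F} {Ψ : Matrix (Fin t → Fin k) ι F} {X : Matrix (Fin k) (Fin k) F} {c : F}

theorem structure' {ε : F} (hW : WreathForm σ f H Φ Ψ X c) (hf : ReflForm σ ε f) (e : ι ≃ (Fin t → Fin k)) :
    IsTensorPowerFormStructure σ f (matForm σ X) e (hW.coords.toGL e) := by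
  refine ⟨c, hW.ne_zero, fun x y => ?_⟩
  rw [hW.coords.toGL_mulVec, hW.coords.toGL_mulVec, hf.apply_coords, ReflForm.gramIn, hW.gram, Matrix.smul_mulVec,
    dotProduct_smul, smul_eq_mul, gramMatrix_matForm]
  congr 1
  simp only [dotProduct, Matrix.mulVec, Finset.mul_sum, Function.comp_apply, piKron_apply, mul_assoc]

theorem le_stabilizer (hW : WreathForm σ f H Φ Ψ X c) (e : ι ≃ (Fin t → Fin k)) :
    H ≤ tensorWreathSubgroup k t e (hW.coords.toGL e) := fun h hh =>
  mem_wreath e _ h (by rw [hW.coords.inCoords_toGL]; exact hW.stab h hh)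

end WreathForm

end Cfsg.Lib.Classical.Aschbacher
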