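import Cfsg.Agent.Classical.PrimeDim.Forms

/-! Forms fixed by a finite absolutely irreducible group, by averaging. -/

set_option autoImplicit false
set_option linter.unusedSimpArgs false
set_option linter.unusedSectionVars false
set_option linter.style.haveILetI false

namespace Cfsg.Lib.Classical.Aschbacher

open Matrix Cfsg.Geo
open scoped MatrixGroups
open Cfsg.Lib.Classical.PrimeDim (Normalises forall_matrixSet mem_matrixSet IsSesq le_similarity le_quadSimilarity
  polar_self no_alternating gl_det_ne_zero)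

universe u

variable {ι : Type} [Fintype ι] [DecidableEq ι] {F : Type u} [Field F]

/-- The form with a given Gram matrix. -/
def matForm (σ : F ≃+* F) (X : Matrix ι ι F) (u v : ι → F) : F := u ⬝ᵥ (X *ᵥ (σ ∘ v))

theorem matForm_mulVec (σ : F ≃+* F) (X A : Matrix ι ι F) (u v : ι → F) :
    matForm σ X (A *ᵥ u) (A *ᵥ v) = matForm σ (Aᵀ * X * A.map σ) u v := by
  rw [matForm, matForm, Cfsg.Lib.Classical.PrimeDim.comp_mulVec, ← Matrix.mulVec_mulVec, ← Matrix.mulVec_mulVec,
    Matrix.dotProduct_mulVec u Aᵀ, Matrix.vecMul_transpose]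

theorem matForm_smul_mat (σ : F ≃+* F) (X : Matrix ι ι F) (c : F) (u v : ι → F) :
    matForm σ (c • X) u v = c * matForm σ X u v := by
  rw [matForm, matForm, Matrix.smul_mulVec, dotProduct_smul, smul_eq_mul]

theorem matForm_herm {σ : F ≃+* F} (hinv : ∀ a, σ (σ a) = a) {X : Matrix ι ι F} {c : F}
    (hX : Xᵀ.map σ = c • X) (u v : ι → F) : σ (matForm σ X v u) = c * matForm σ X u v := by
  have h : ∀ i j, σ (X j i) = c * X i j := fun i j => congrFun (congrFun hX i) j
  simp only [matForm, dotProduct, Matrix.mulVec, Finset.mul_sum, map_sum, map_mul, Function.comp_apply, hinv, h]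
  rw [Finset.sum_comm]
  exact Finset.sum_congr rfl fun i _ => Finset.sum_congr rfl fun j _ => by ring

theorem matForm_nondegenerate {σ : F ≃+* F} {X : Matrix ι ι F} (hX : X.det ≠ 0) :
    IsNondegenerateForm (matForm σ X) := by
  intro v hv
  constructor
  · have h0 : X *ᵥ (σ ∘ v) ≠ 0 := fun e => hX (Matrix.exists_mulVec_eq_zero_iff.mp
      ⟨σ ∘ v, fun e' => hv (funext fun i => σ.injective ((congrFun e' i).trans σ.map_zero.symm)), e⟩)
    obtain ⟨i, hi⟩ := Function.ne_iff.mp h0
    exact ⟨Pi.single i 1, by rw [matForm, single_one_dotProduct]; exact hi⟩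
  · have h0 : v ᵥ* X ≠ 0 := fun e => hX (Matrix.exists_vecMul_eq_zero_iff.mp ⟨v, hv, e⟩)
    obtain ⟨i, hi⟩ := Function.ne_iff.mp h0
    refine ⟨Pi.single i 1, ?_⟩
    rw [matForm, Matrix.dotProduct_mulVec,
      show σ ∘ Pi.single i (1 : F) = Pi.single i (1 : F) from funext fun k => by
        rw [Function.comp_apply, Pi.single_apply]; split_ifs <;> simp, dotProduct_single_one]
    exact hi

theorem matForm_isSesq {σ : F ≃+* F} {X : Matrix ι ι F} (hX : X.det ≠ 0) : IsSesq σ (matForm σ X) where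
  add_left x y v := by rw [matForm, matForm, matForm, add_dotProduct]
  smul_left c x v := by rw [matForm, matForm, smul_dotProduct, smul_eq_mul]
  add_right v x y := by
    rw [matForm, matForm, matForm, show σ ∘ (x + y) = σ ∘ x + σ ∘ y from funext fun i => map_add σ _ _,
      Matrix.mulVec_add, dotProduct_add]
  smul_right c v x := by
    rw [matForm, matForm, show σ ∘ (c • x) = σ c • (σ ∘ x) from funext fun i => map_mul σ _ _,
      Matrix.mulVec_smul, dotProduct_smul, smul_eq_mul]
  nondegenerate := matForm_nondegenerate hX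

theorem matForm_unitary {σ : F ≃+* F} (hne : σ ≠ RingEquiv.refl F) (hinv : ∀ a, σ (σ a) = a) {X : Matrix ι ι F}
    (hX : X.det ≠ 0) (hh : Xᵀ.map σ = X) : IsUnitaryForm σ (matForm σ X) where
  ne_refl := hne
  involutive := hinv
  add_left := (matForm_isSesq hX).add_left
  smul_left := (matForm_isSesq hX).smul_left
  herm v w := by rw [matForm_herm hinv (c := 1) (by rw [one_smul]; exact hh), one_mul]
  nondegenerate := matForm_nondegenerate hX

theorem matForm_bilinear {X : Matrix ι ι F} (hX : X.det ≠ 0) : IsBilinearForm (matForm (RingEquiv.refl F) X) :=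
  ⟨(matForm_isSesq hX).add_left, (matForm_isSesq hX).smul_left, (matForm_isSesq hX).add_right,
    (matForm_isSesq hX).smul_right⟩

theorem matForm_transpose {X : Matrix ι ι F} {c : F} (hX : Xᵀ = c • X) (u v : ι → F) :
    matForm (RingEquiv.refl F) X v u = c * matForm (RingEquiv.refl F) X u v :=
  matForm_herm (σ := RingEquiv.refl F) (fun _ => rfl) (by rw [RingEquiv.coe_refl, Matrix.map_id]; exact hX) u v

theorem matForm_symplectic {X : Matrix ι ι F} (hX : X.det ≠ 0) (hskew : Xᵀ = -X) (hdiag : ∀ i, X i i = 0) :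
    IsSymplecticForm (matForm (RingEquiv.refl F) X) := by
  have hneg : Xᵀ = (-1 : F) • X := by rw [neg_one_smul]; exact hskew
  refine ⟨matForm_bilinear hX, fun v w => ?_, fun v => ?_, matForm_nondegenerate hX⟩
  · rw [matForm_transpose hneg v w]; ring
  · simp only [matForm, dotProduct, Matrix.mulVec, Finset.mul_sum, RingEquiv.coe_refl, Function.id_comp]
    rw [← Finset.sum_product']
    refine Finset.sum_involution (fun p _ => (p.2, p.1)) (fun p _ => ?_) (fun p _ hp he => hp ?_)
      (fun p _ => Finset.mem_product.mpr ⟨Finset.mem_univ _, Finset.mem_univ _⟩) (fun p _ => rfl)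
    · rw [show X p.2 p.1 = -X p.1 p.2 from congrFun (congrFun hskew p.1) p.2]; ring
    · rw [show p.2 = p.1 from congrArg Prod.fst he, hdiag]; ring

/-- The quadratic form with a given symmetric matrix. -/
def matQuad (X : Matrix ι ι F) (v : ι → F) : F := matForm (RingEquiv.refl F) X v v

theorem matQuad_nondegenerate {X : Matrix ι ι F} (hX : X.det ≠ 0) (hsymm : Xᵀ = X) (h2 : (2 : F) ≠ 0) :
    IsNondegenerateQuadraticForm (matQuad X) := by
  have hb := matForm_bilinear hX
  have hs : ∀ u v, matForm (RingEquiv.refl F) X v u = matForm (RingEquiv.refl F) X u v := fun u v => by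
    rw [matForm_transpose (c := 1) (by rw [one_smul]; exact hsymm) u v, one_mul]
  have hp : ∀ u v, QuadraticMap.polar (matQuad X) u v = 2 * matForm (RingEquiv.refl F) X u v := fun u v => by
    simp only [QuadraticMap.polar, matQuad]
    rw [hb.add_left, hb.add_right, hb.add_right, hs u v]
    ring
  refine ⟨fun c v => ?_, ⟨fun x y v => ?_, fun c x v => ?_, fun v x y => ?_, fun c v x => ?_⟩, fun v hv => ?_⟩
  · rw [matQuad, hb.smul_left, hb.smul_right, matQuad]; ring
  · rw [hp, hp, hp, hb.add_left]; ring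
  · rw [hp, hp, hb.smul_left]; ring
  · rw [hp, hp, hp, hb.add_right]; ring
  · rw [hp, hp, hb.smul_right]; ring
  · obtain ⟨⟨x, hx⟩, ⟨y, hy⟩⟩ := matForm_nondegenerate (σ := RingEquiv.refl F) hX v hv
    exact ⟨⟨x, by rw [hp]; exact mul_ne_zero h2 hx⟩, ⟨y, by rw [hp]; exact mul_ne_zero h2 hy⟩⟩

theorem mem_similarity_of {σ : F ≃+* F} {X : Matrix ι ι F} {g : GL ι F} {c : F} (hc : c ≠ 0)
    (h : (g : Matrix ι ι F)ᵀ * X * (g : Matrix ι ι F).map σ = c • X) : g ∈ similarityGroup (matForm σ X) :=
  ⟨Units.mk0 c hc, fun u v => by rw [matForm_mulVec, h, matForm_smul_mat, Units.val_mk0]⟩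

theorem mem_quadSimilarity_of {X : Matrix ι ι F} {g : GL ι F} {c : F} (hc : c ≠ 0)
    (h : (g : Matrix ι ι F)ᵀ * X * (g : Matrix ι ι F) = c • X) : g ∈ quadSimilarityGroup (matQuad X) :=
  ⟨Units.mk0 c hc, fun v => by
    rw [matQuad, matForm_mulVec, RingEquiv.coe_refl, Matrix.map_id, h, matForm_smul_mat, Units.val_mk0, matQuad]⟩

variable [Fintype F]

/-- Averaging gives an invertible invariant matrix. -/
theorem exists_fixed_matrix [Nonempty ι] (R : Subgroup (GL ι F)) [Fintype R] (hirr : ActsIrreducibly (matrixSet R))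
    (σ : F ≃+* F)
    (hsum : ∑ g : R, ((g : GL ι F) : Matrix ι ι F).trace * σ ((g : GL ι F) : Matrix ι ι F).trace ≠ 0) :
    ∃ X : Matrix ι ι F, X.det ≠ 0 ∧ ∀ g ∈ R, (g : Matrix ι ι F)ᵀ * X * (g : Matrix ι ι F).map σ = X := by
  classical
  let avg : Matrix ι ι F → Matrix ι ι F := fun M =>
    ∑ g : R, ((g : GL ι F) : Matrix ι ι F)ᵀ * M * ((g : GL ι F) : Matrix ι ι F).map σ
  have hinv : ∀ M, ∀ g ∈ R, (g : Matrix ι ι F)ᵀ * avg M * (g : Matrix ι ι F).map σ = avg M := fun M g hg => by
    simp only [avg, Matrix.mul_sum, Matrix.sum_mul]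
    refine Fintype.sum_equiv (Equiv.mulRight (⟨g, hg⟩ : R)) _ _ fun k => ?_
    rw [Equiv.coe_mulRight, Subgroup.coe_mul, Units.val_mul, Matrix.transpose_mul, Matrix.map_mul]
    simp only [Matrix.mul_assoc]
  obtain ⟨M, hM⟩ : ∃ M, avg M ≠ 0 := by
    by_contra hc
    push Not at hc
    apply hsum
    calc ∑ g : R, ((g : GL ι F) : Matrix ι ι F).trace * σ ((g : GL ι F) : Matrix ι ι F).trace
        = ∑ g : R, ∑ i, ∑ j, ((g : GL ι F) : Matrix ι ι F) i i * σ (((g : GL ι F) : Matrix ι ι F) j j) :=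
          Finset.sum_congr rfl fun g _ => by
            simp only [Matrix.trace, Matrix.diag_apply, map_sum, Finset.sum_mul_sum]
      _ = ∑ i, ∑ j, avg (Matrix.single i j 1) i j := by
          rw [Finset.sum_comm]
          refine Finset.sum_congr rfl fun i _ => ?_
          rw [Finset.sum_comm]
          refine Finset.sum_congr rfl fun j _ => ?_
          simp only [avg, Matrix.sum_apply]
          refine Finset.sum_congr rfl fun g _ => ?_
          simp [Matrix.mul_apply, Matrix.single_apply, ite_and]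
      _ = 0 := by simp [hc]
  refine ⟨avg M, fun h0 => hM ?_, hinv M⟩
  let W : Submodule F (ι → F) := LinearMap.ker (Matrix.vecMulLinear (avg M))
  have hW : ∀ s ∈ matrixSet R, W.map (Matrix.toLin' s) ≤ W := by
    rintro _ ⟨g, hg, rfl⟩ _ ⟨v, hv, rfl⟩
    rw [SetLike.mem_coe, LinearMap.mem_ker, Matrix.vecMulLinear_apply] at hv
    rw [LinearMap.mem_ker, Matrix.vecMulLinear_apply, Matrix.toLin'_apply, ← Matrix.vecMul_transpose,
      Matrix.vecMul_vecMul]
    have hu : IsUnit ((g : Matrix ι ι F).map σ).det := by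
      rw [show ((g : Matrix ι ι F).map σ).det = σ (g : Matrix ι ι F).det from ((σ : F →+* F).map_det _).symm]
      exact (isUnit_iff_ne_zero.mpr (gl_det_ne_zero g)).map σ
    have e : v ᵥ* ((g : Matrix ι ι F)ᵀ * avg M) ᵥ* (g : Matrix ι ι F).map σ = 0 := by
      rw [Matrix.vecMul_vecMul, hinv M g hg, hv]
    by_contra hne
    exact Matrix.det_ne_zero_of_left_inverse (Matrix.nonsing_inv_mul _ hu)
      (Matrix.exists_vecMul_eq_zero_iff.mp ⟨_, hne, e⟩)
  rcases hirr W hW with e | e
  · obtain ⟨v, hv, hv'⟩ := Matrix.exists_vecMul_eq_zero_iff.mpr h0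
    exact absurd ((Submodule.eq_bot_iff W).mp e v (by
      rw [LinearMap.mem_ker, Matrix.vecMulLinear_apply]; exact hv')) hv
  · refine Matrix.ext fun i j => ?_
    have h1 : Pi.single i (1 : F) ∈ W := e ▸ Submodule.mem_top
    rw [LinearMap.mem_ker, Matrix.vecMulLinear_apply, Matrix.single_one_vecMul] at h1
    exact congrFun h1 j

/-- The adjoint of an invariant matrix is a multiple of it. -/
theorem exists_adjoint_scalar {R : Subgroup (GL ι F)}
    (hai : ActsAbsolutelyIrreducibly (matrixSet R)) {σ : F ≃+* F} (hinv : ∀ a, σ (σ a) = a) {X : Matrix ι ι F}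
    (hX : X.det ≠ 0) (hfix : ∀ g ∈ R, (g : Matrix ι ι F)ᵀ * X * (g : Matrix ι ι F).map σ = X) :
    ∃ c : F, Xᵀ.map σ = c • X := by
  have hXu : IsUnit X.det := isUnit_iff_ne_zero.mpr hX
  have hσσ : ∀ A : Matrix ι ι F, (A.map σ).map σ = A := fun A => Matrix.ext fun i j => hinv _
  set M := X⁻¹ * Xᵀ.map σ with hM_def
  have hM : ∀ g ∈ R, M * (g : Matrix ι ι F).map σ = (g : Matrix ι ι F).map σ * M := by
    intro g hg
    have h1 := congrArg (fun A : Matrix ι ι F => Aᵀ.map σ) (hfix g hg)
    simp only [Matrix.transpose_mul, Matrix.transpose_transpose, Matrix.map_mul, ← Matrix.transpose_map, hσσ] at h1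
    have hT : IsUnit (g : Matrix ι ι F)ᵀ := by
      rw [Matrix.isUnit_iff_isUnit_det, Matrix.det_transpose]
      exact isUnit_iff_ne_zero.mpr (gl_det_ne_zero g)
    apply (hT.mul ((Matrix.isUnit_iff_isUnit_det X).mpr hXu)).mul_left_cancel
    calc (g : Matrix ι ι F)ᵀ * X * (M * (g : Matrix ι ι F).map σ)
        = (g : Matrix ι ι F)ᵀ * (X * X⁻¹) * Xᵀ.map σ * (g : Matrix ι ι F).map σ := by
          rw [hM_def]; simp only [mul_assoc]
      _ = Xᵀ.map σ := by rw [Matrix.mul_nonsing_inv _ hXu, mul_one]; simpa only [mul_assoc] using h1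
      _ = ((g : Matrix ι ι F)ᵀ * X * (g : Matrix ι ι F).map σ) * M := by
          rw [hfix g hg, hM_def, ← mul_assoc, Matrix.mul_nonsing_inv _ hXu, one_mul]
      _ = (g : Matrix ι ι F)ᵀ * X * ((g : Matrix ι ι F).map σ * M) := by simp only [mul_assoc]
  obtain ⟨c, hc⟩ := hai.2 (M.map σ) (forall_matrixSet.mpr fun g hg => by
    have := congrArg (fun A : Matrix ι ι F => A.map σ) (hM g hg)
    simpa only [Matrix.map_mul, hσσ] using this)
  refine ⟨σ c, ?_⟩
  have h1 := congrArg (fun A : Matrix ι ι F => X * A.map σ) hc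
  simp only [hσσ, hM_def, ← mul_assoc, Matrix.mul_nonsing_inv _ hXu, one_mul] at h1
  rw [h1]
  ext i j
  simp [Matrix.mul_apply, Matrix.map_apply, Matrix.one_apply, apply_ite σ, mul_comm]

/-- A unitary similarity group containing the normaliser. -/
theorem le_unitary_of_sum [Nonempty ι] {H R : Subgroup (GL ι F)} [Fintype R] (hn : Normalises H R)
    (hai : ActsAbsolutelyIrreducibly (matrixSet R)) {σ : F ≃+* F} (hne : σ ≠ RingEquiv.refl F)
    (hinv : ∀ a, σ (σ a) = a)
    (hsum : ∑ g : R, ((g : GL ι F) : Matrix ι ι F).trace * σ ((g : GL ι F) : Matrix ι ι F).trace ≠ 0) :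
    ∃ f : (ι → F) → (ι → F) → F, IsUnitaryForm σ f ∧ H ≤ similarityGroup f := by
  obtain ⟨X, hX, hfix⟩ := exists_fixed_matrix R hai.1 σ hsum
  obtain ⟨c, hc⟩ := exists_adjoint_scalar hai hinv hX hfix
  have hcc : σ c * c = 1 := by
    have h1 := congrArg (fun A : Matrix ι ι F => Aᵀ.map σ) hc
    have e : ((Xᵀ.map σ)ᵀ).map σ = X := Matrix.ext fun i j => hinv _
    simp only [e] at h1
    obtain ⟨i, j, hij⟩ : ∃ i j, X i j ≠ 0 := by
      by_contra h
      push Not at h
      exact hX (by rw [show X = 0 from Matrix.ext h, Matrix.det_zero])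
    have h2 := congrFun (congrFun h1 i) j
    simp only [Matrix.map_apply, Matrix.transpose_apply, Matrix.smul_apply, smul_eq_mul, map_mul] at h2
    have h3 : σ (X j i) = c * X i j := congrFun (congrFun hc i) j
    rw [h3, ← mul_assoc] at h2
    exact (mul_eq_right₀ hij).mp h2.symm
  obtain ⟨x, hx⟩ : ∃ x, x + c * σ x ≠ 0 := by
    by_contra h
    push Not at h
    have h1 : c = -1 := by
      have := h 1
      rw [map_one, mul_one] at this
      exact (neg_eq_of_add_eq_zero_right this).symm
    refine hne (RingEquiv.ext fun x => ?_)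
    have := h x
    rw [h1, neg_one_mul, ← sub_eq_add_neg, sub_eq_zero] at this
    exact this.symm
  set a := x + c * σ x
  have ha : σ a * c = a := by
    simp only [a, map_add, map_mul, hinv]
    calc (σ x + σ c * x) * c = c * σ x + (σ c * c) * x := by ring
      _ = _ := by rw [hcc]; ring
  have hX' : (a • X).det ≠ 0 := by rw [Matrix.det_smul]; exact mul_ne_zero (pow_ne_zero _ hx) hX
  have hh : (a • X)ᵀ.map σ = a • X := by
    have h1 : (a • X)ᵀ.map σ = σ a • Xᵀ.map σ := Matrix.ext fun i j => map_mul σ _ _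
    rw [h1, hc, smul_smul, ha]
  have hu := matForm_unitary hne hinv hX' hh
  refine ⟨_, hu, le_similarity hn hai (IsSesq.of_unitary hu) (forall_matrixSet.mpr fun g hg u v => ?_)⟩
  rw [matForm_mulVec, Matrix.mul_smul, Matrix.smul_mul, hfix g hg]

/-- An orthogonal or symplectic similarity group containing the normaliser. -/
theorem le_bilinear_of_sum [Nonempty ι] {H R : Subgroup (GL ι F)} [Fintype R] (hn : Normalises H R)
    (hai : ActsAbsolutelyIrreducibly (matrixSet R)) (h2 : (2 : F) ≠ 0)
    (hsum : ∑ g : R, ((g : GL ι F) : Matrix ι ι F).trace * ((g : GL ι F) : Matrix ι ι F).trace ≠ 0) :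
    (∃ Q : (ι → F) → F, IsNondegenerateQuadraticForm Q ∧ H ≤ quadSimilarityGroup Q) ∨
      ∃ f : (ι → F) → (ι → F) → F, IsSymplecticForm f ∧ H ≤ similarityGroup f := by
  obtain ⟨X, hX, hfix⟩ := exists_fixed_matrix R hai.1 (RingEquiv.refl F) hsum
  obtain ⟨c, hc⟩ := exists_adjoint_scalar hai (σ := RingEquiv.refl F) (fun _ => rfl) hX hfix
  rw [RingEquiv.coe_refl, Matrix.map_id] at hc
  have hcc : c * c = 1 := by
    have h1 := congrArg Matrix.transpose hc
    rw [Matrix.transpose_transpose, Matrix.transpose_smul, hc, smul_smul] at h1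
    obtain ⟨i, j, hij⟩ : ∃ i j, X i j ≠ 0 := by
      by_contra h
      push Not at h
      exact hX (by rw [show X = 0 from Matrix.ext h, Matrix.det_zero])
    exact (mul_eq_right₀ hij).mp (congrFun (congrFun h1 i) j).symm
  have hfixes : FixesForm (matrixSet R) (matForm (RingEquiv.refl F) X) := forall_matrixSet.mpr fun g hg u v => by
    rw [matForm_mulVec, hfix g hg]
  rcases mul_self_eq_one_iff.mp hcc with rfl | rfl
  · rw [one_smul] at hc
    refine Or.inl ⟨_, matQuad_nondegenerate hX hc h2, le_quadSimilarity hn hai h2 (matQuad_nondegenerate hX hc h2)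
      (forall_matrixSet.mpr fun g hg v => hfixes _ (mem_matrixSet hg) v v)⟩
  · rw [neg_one_smul] at hc
    have hdiag : ∀ i, X i i = 0 := fun i => by
      have h1 : X i i = -X i i := congrFun (congrFun hc i) i
      have : (2 : F) * X i i = 0 := by rw [two_mul]; nth_rewrite 2 [h1]; exact add_neg_cancel _
      exact (mul_eq_zero.mp this).resolve_left h2
    exact Or.inr ⟨_, matForm_symplectic hX hc hdiag, le_similarity hn hai (matForm_isSesq hX) hfixes⟩

end Cfsg.Lib.Classical.Aschbacher
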