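import Cfsg.Agent.Classical.PrimeDim.Core

/-! Intertwining matrices between irreducible families of matrices. -/

set_option autoImplicit false
set_option linter.unusedSimpArgs false
set_option linter.unusedSectionVars false
set_option linter.style.haveILetI false

namespace Cfsg.Lib.Classical.Aschbacher

open Matrix Cfsg.Geo
open scoped MatrixGroups Kronecker
open Cfsg.Lib.Classical.PrimeDim (val_inv_mul val_mul_inv inv_mulVec_mulVec mulVec_inv_mulVec)

universe u v

variable {F : Type u} [Field F] {α : Type v}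
variable {κ κ' μ : Type} [Fintype κ] [DecidableEq κ] [Fintype κ'] [DecidableEq κ'] [Fintype μ] [DecidableEq μ]

/-- The family is irreducible. -/
structure Irr (ρ : α → Matrix κ κ F) : Prop where
  nonempty : Nonempty κ
  irr : ∀ W : Submodule F (κ → F), (∀ s, ∀ v ∈ W, ρ s *ᵥ v ∈ W) → W = ⊥ ∨ W = ⊤

/-- The family is irreducible and commutes with scalars only. -/
structure AbsIrr (ρ : α → Matrix κ κ F) : Prop extends Irr ρ where
  scalar : ∀ M : Matrix κ κ F, (∀ s, M * ρ s = ρ s * M) → ∃ c : F, M = c • 1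

/-- Schur's lemma. -/
theorem schur {ρ : α → Matrix κ κ F} {σ : α → Matrix κ' κ' F} (hρ : Irr ρ) (hσ : Irr σ) {M : Matrix κ' κ F}
    (hM : ∀ s, M * ρ s = σ s * M) (h0 : M ≠ 0) :
    Fintype.card κ = Fintype.card κ' ∧ ∃ Mi : Matrix κ κ' F, Mi * M = 1 ∧ M * Mi = 1 := by
  classical
  set L := Matrix.toLin' M
  have hker : LinearMap.ker L = ⊥ := by
    refine (hρ.irr _ fun s v hv => ?_).resolve_right fun h => h0 ?_
    · rw [LinearMap.mem_ker, Matrix.toLin'_apply] at hv ⊢
      rw [Matrix.mulVec_mulVec, hM, ← Matrix.mulVec_mulVec, hv, Matrix.mulVec_zero]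
    · rw [LinearMap.ker_eq_top] at h
      exact Matrix.toLin'.injective (by rw [map_zero]; exact h)
  have hrange : LinearMap.range L = ⊤ := by
    refine (hσ.irr _ fun s v hv => ?_).resolve_left fun h => h0 ?_
    · obtain ⟨x, rfl⟩ := hv
      exact ⟨ρ s *ᵥ x, by rw [Matrix.toLin'_apply, Matrix.toLin'_apply, Matrix.mulVec_mulVec, Matrix.mulVec_mulVec, hM]⟩
    · rw [LinearMap.range_eq_bot] at h
      exact Matrix.toLin'.injective (by rw [map_zero]; exact h)
  let e : (κ → F) ≃ₗ[F] (κ' → F) :=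
    LinearEquiv.ofBijective L ⟨LinearMap.ker_eq_bot.mp hker, LinearMap.range_eq_top.mp hrange⟩
  refine ⟨by simpa using e.finrank_eq, LinearMap.toMatrix' e.symm.toLinearMap, ?_, ?_⟩
  · apply Matrix.toLin'.injective
    refine LinearMap.ext fun v => ?_
    rw [Matrix.toLin'_mul, Matrix.toLin'_toMatrix', Matrix.toLin'_one, LinearMap.comp_apply, LinearMap.id_apply]
    exact e.symm_apply_apply v
  · apply Matrix.toLin'.injective
    refine LinearMap.ext fun v => ?_
    rw [Matrix.toLin'_mul, Matrix.toLin'_toMatrix', Matrix.toLin'_one, LinearMap.comp_apply, LinearMap.id_apply]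
    exact e.apply_symm_apply v

/-- Schur's lemma for families of the same degree. -/
theorem schur_gl {ρ σ : α → Matrix κ κ F} (hρ : Irr ρ) (hσ : Irr σ) {M : Matrix κ κ F}
    (hM : ∀ s, M * ρ s = σ s * M) (h0 : M ≠ 0) :
    ∃ a : GL κ F, (a : Matrix κ κ F) = M := by
  obtain ⟨-, Mi, h1, h2⟩ := schur hρ hσ hM h0
  exact ⟨⟨M, Mi, h2, h1⟩, rfl⟩

/-- The block of a matrix on a product index. -/
def block {κ κ' μ : Type} (M : Matrix (κ' × μ) (κ × μ) F) (a b : μ) : Matrix κ' κ F :=
  Matrix.of fun i j => M (i, a) (j, b)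

/-- The blocks of an intertwiner intertwine. -/
theorem block_intertwines {ρ : Matrix κ κ F} {σ : Matrix κ' κ' F} {M : Matrix (κ' × μ) (κ × μ) F}
    (hM : M * (ρ ⊗ₖ (1 : Matrix μ μ F)) = (σ ⊗ₖ (1 : Matrix μ μ F)) * M) (a b : μ) :
    block M a b * ρ = σ * block M a b := by
  ext i j
  have h := congrFun (congrFun hM (i, a)) (j, b)
  simp only [Matrix.mul_apply, Matrix.kronecker_apply, Fintype.sum_prod_type, Matrix.one_apply, mul_ite, ite_mul,
    mul_one, mul_zero, one_mul, zero_mul, Finset.sum_ite_eq, Finset.sum_ite_eq', Finset.mem_univ, if_true] at h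
  simpa [Matrix.mul_apply, block] using h

/-- An intertwiner between tensor multiples of irreducible families makes them equivalent. -/
theorem exists_equiv_of_intertwiner {ρ : α → Matrix κ κ F} {σ : α → Matrix κ' κ' F} (hρ : Irr ρ) (hσ : Irr σ)
    {M : Matrix (κ' × μ) (κ × μ) F}
    (hM : ∀ s, M * (ρ s ⊗ₖ (1 : Matrix μ μ F)) = (σ s ⊗ₖ (1 : Matrix μ μ F)) * M) (h0 : M ≠ 0) :
    Fintype.card κ = Fintype.card κ' ∧
      ∃ (a : Matrix κ' κ F) (ai : Matrix κ κ' F), ai * a = 1 ∧ a * ai = 1 ∧ ∀ s, a * ρ s = σ s * a := by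
  obtain ⟨⟨i, a⟩, ⟨j, b⟩, hne⟩ : ∃ x y, M x y ≠ 0 := by
    by_contra hc
    push Not at hc
    exact h0 (Matrix.ext hc)
  have hint := fun s => block_intertwines (hM s) a b
  obtain ⟨hcard, Mi, h1, h2⟩ := schur hρ hσ hint (fun e => hne (congrFun (congrFun e i) j))
  exact ⟨hcard, _, Mi, h1, h2, hint⟩

/-- The commutant of a tensor multiple of an absolutely irreducible family. -/
theorem comm_kron {ρ : α → Matrix κ κ F} (hρ : AbsIrr ρ) {M : Matrix (κ × μ) (κ × μ) F}
    (hM : ∀ s, M * (ρ s ⊗ₖ (1 : Matrix μ μ F)) = (ρ s ⊗ₖ (1 : Matrix μ μ F)) * M) :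
    ∃ B : Matrix μ μ F, M = (1 : Matrix κ κ F) ⊗ₖ B := by
  choose c hc using fun a b => hρ.scalar (block M a b) fun s => block_intertwines (hM s) a b
  refine ⟨Matrix.of c, Matrix.ext fun x y => ?_⟩
  obtain ⟨i, a⟩ := x
  obtain ⟨j, b⟩ := y
  have := congrFun (congrFun (hc a b) i) j
  rw [block, Matrix.of_apply, Matrix.smul_apply, smul_eq_mul] at this
  rw [this, Matrix.kronecker_apply, Matrix.of_apply, mul_comm]

theorem one_kron_injective [Nonempty κ] {A B : Matrix μ μ F} (h : (1 : Matrix κ κ F) ⊗ₖ A = (1 : Matrix κ κ F) ⊗ₖ B) :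
    A = B := by
  ext a b
  have := congrFun (congrFun h (Classical.arbitrary κ, a)) (Classical.arbitrary κ, b)
  simpa [Matrix.kronecker_apply] using this

theorem kron_one_injective [Nonempty μ] {A B : Matrix κ κ F} (h : A ⊗ₖ (1 : Matrix μ μ F) = B ⊗ₖ (1 : Matrix μ μ F)) :
    A = B := by
  ext a b
  have := congrFun (congrFun h (a, Classical.arbitrary μ)) (b, Classical.arbitrary μ)
  simpa [Matrix.kronecker_apply] using this

end Cfsg.Lib.Classical.Aschbacher
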