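import Cfsg.Agent.Classical.Aschbacher.Symplectic
import Cfsg.Agent.Classical.Aschbacher.TensorInduced

/-! Subgroup structure of the linear groups: geometric classes or almost simple. -/

set_option autoImplicit false
set_option linter.unusedSimpArgs false
set_option linter.unusedSectionVars false
set_option linter.style.haveILetI false

namespace Cfsg.Lib.Classical.Aschbacher

open Matrix Cfsg.Geo
open scoped MatrixGroups Kronecker commutatorElement
open Cfsg.Lib.Classical.PrimeDim (Normalises IsPreCore quotient_simple commute_of_perfect commutator_normalises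
  mem_map_conj forall_matrixSet mem_matrixSet irreducible_iff Invariant le_subfield_of_realisable le_similarity
  le_quadSimilarity IsSesq polar_self finrank_pi_card mem_scalars_of_val_eq scalar_commute)

universe u

variable {n : ℕ} {F : Type u} [Field F] [Fintype F] {H : Subgroup (GL (Fin n) F)}

/-- A non-scalar normalised subgroup is absolutely irreducible, or a class occurs. -/
theorem absIrred_or_inClassLE (hn : 3 ≤ n) (hirr : ActsIrreducibly (matrixSet H)) {K : Subgroup (GL (Fin n) F)}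
    (hK : Normalises H K) (hns : ¬ K ≤ scalars (Fin n) F) :
    ActsAbsolutelyIrreducibly (matrixSet K) ∨ InClassLE H := by
  haveI : Nonempty (Fin n) := ⟨⟨0, by omega⟩⟩
  rcases homog_or_components hirr hK with ⟨d, k, Φ, Ψ, ρ, hh⟩ | ⟨d, k, t, Φ, Ψ, ρ, cls, D, hC⟩
  · rcases hh.field_or_absIrr hK with habs | ⟨r, L, hr, hL, -, hle⟩
    · rcases Nat.lt_or_ge k 2 with hk | hk
      · exact Or.inl (hh.absIrred_of_one habs (by have := hh.pos; omega))
      · rcases Nat.lt_or_ge d 2 with hd | hd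
        · refine absurd (hh.scalar_of_one ?_) hns
          have := habs.nonempty
          have : 0 < d := Fin.pos_iff_nonempty.mpr habs.nonempty
          omega
        · exact Or.inr (inClassLE_of_kron hn hd hk hh.coords fun h hh' =>
            hh.conj_tensor habs (fun g hg => hK h hh' g hg) (fun g hg => hK.inv hh' hg))
    · exact Or.inr (inClassLE_field hr hL hle)
  · obtain ⟨m, hD⟩ := hC.decomp
    exact Or.inr (inClassLE_decomposition hD hC.le_stab)

/-- The residual conditions, or one of the classes. -/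
theorem inClassLE_or_residual_of_preCore (hn : 3 ≤ n) {P : Subgroup (GL (Fin n) F)} (hP : IsPreCore H P) :
    InClassLE H ∨ InLinearResidualClass H := by
  haveI : Nonempty (Fin n) := ⟨⟨0, by omega⟩⟩
  by_cases hreal : ∃ F₀ : Subfield F, F₀ ≠ ⊤ ∧ RealisableOver F₀ (matrixSet P)
  · obtain ⟨F₀, hne, hreal⟩ := hreal
    obtain ⟨F₁, r, B, hr, hc, hle, -⟩ := le_subfield_of_realisable hP.normal hP.absIrred hne hreal
    exact Or.inl (inClassLE_subfield hr (by rw [← Nat.card_eq_fintype_card]; exact hc) hle)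
  by_cases hs : ∃ f : (Fin n → F) → (Fin n → F) → F, IsSymplecticForm f ∧ FixesForm (matrixSet P) f
  · obtain ⟨f, hf, hfix⟩ := hs
    exact Or.inl (inClassLE_symplectic hn hf (le_similarity hP.normal hP.absIrred (σ := RingEquiv.refl F)
      ⟨hf.bilinear.add_left, hf.bilinear.smul_left, hf.bilinear.add_right, hf.bilinear.smul_right, hf.nondegenerate⟩
      hfix))
  by_cases hu : ∃ (σ : F ≃+* F) (f : (Fin n → F) → (Fin n → F) → F), IsUnitaryForm σ f ∧ FixesForm (matrixSet P) f
  · obtain ⟨σ, f, hf, hfix⟩ := hu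
    exact Or.inl (inClassLE_unitary hn hf (le_similarity hP.normal hP.absIrred (IsSesq.of_unitary hf) hfix))
  by_cases hq : ∃ Q : (Fin n → F) → F, IsNondegenerateQuadraticForm Q ∧ FixesQuadForm (matrixSet P) Q
  · obtain ⟨Q, hQ, hfix⟩ := hq
    by_cases h2 : (2 : F) = 0
    · exfalso
      refine hs ⟨QuadraticMap.polar Q, ⟨hQ.polar_bilinear, fun v w => ?_, fun v => by rw [polar_self hQ, h2, zero_mul],
        hQ.nondegenerate⟩, fun s hs u v => by simp only [QuadraticMap.polar, ← Matrix.mulVec_add, hfix s hs]⟩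
      rw [QuadraticMap.polar_comm, eq_neg_iff_add_eq_zero, ← two_mul, h2, zero_mul]
    · exact Or.inl (inClassLE_quadratic hn h2 hQ (le_quadSimilarity hP.normal hP.absIrred h2 hQ hfix))
  push Not at hreal
  exact Or.inr ⟨P, hP.residualCore hreal, hq, hs, hu⟩

/-- Subgroup structure of the linear groups in dimension at least three. -/
theorem linear_structure (hn : 3 ≤ n) (H : Subgroup (GL (Fin n) F)) : InClassLE H ∨ InLinearResidualClass H := by
  classical
  haveI : Nonempty (Fin n) := ⟨⟨0, by omega⟩⟩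
  set Z := scalars (Fin n) F with hZ_def
  by_cases hcls : InClassLE H
  · exact Or.inl hcls
  have hirr : ActsIrreducibly (matrixSet H) := (irreducible_iff H).mpr fun W hinv => by
    by_contra hc
    push Not at hc
    exact hcls (inClassLE_subspace hc.1 hc.2 (Cfsg.Lib.Classical.PrimeDim.Invariant.le_stabilizer hinv))
  have habs : ∀ K : Subgroup (GL (Fin n) F), Normalises H K → ¬ K ≤ Z → ActsAbsolutelyIrreducibly (matrixSet K) :=
    fun K hK hns => (absIrred_or_inClassLE hn hirr hK hns).resolve_right hcls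
  have hHns : ¬ H ≤ Z := fun hle => by
    let e₀ : Fin n → F := Pi.single ⟨0, by omega⟩ 1
    have h0 : e₀ ≠ 0 := fun e => one_ne_zero (α := F) (by simpa [e₀] using congrFun e ⟨0, by omega⟩)
    rcases (irreducible_iff H).mp hirr (Submodule.span F {e₀}) (fun g hg v hv => by
      obtain ⟨c, hc⟩ := (mem_scalars_iff g).mp (hle hg)
      rw [hc, Matrix.smul_mulVec, Matrix.one_mulVec]
      exact Submodule.smul_mem _ _ hv) with e | e
    · exact h0 (Submodule.span_singleton_eq_bot.mp e)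
    · have := finrank_span_singleton (K := F) h0
      rw [e, finrank_top, finrank_pi_card, Fintype.card_fin] at this
      omega
  obtain ⟨N, ⟨hNH, hNn, hNs⟩, hNmin⟩ := exists_minimal_of_wellFoundedLT
    (fun K : Subgroup (GL (Fin n) F) => K ≤ H ∧ Normalises H K ∧ ¬ K ≤ Z)
    ⟨H, le_rfl, fun h hh g hg => mul_mem (mul_mem hh hg) (inv_mem hh), hHns⟩
  have hmin : SympN.Minimal H N := fun K hKN hKn hKs => le_antisymm hKN (hNmin ⟨hKN.trans hNH, hKn, hKs⟩ hKN)
  have haiN := habs N hNn hNs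
  by_cases hD : ⁅N, N⁆ ≤ Z
  · -- symplectic type
    obtain ⟨g, hg, hgZ⟩ := SetLike.not_le_iff_exists.mp hNs
    let π := QuotientGroup.mk' Z
    have hπ : ∀ x, π x = 1 ↔ x ∈ Z := fun x => QuotientGroup.eq_one_iff x
    have hcomm : ∀ a ∈ N, ∀ b ∈ N, ⁅a, b⁆ ∈ Z := fun a ha b hb => hD (Subgroup.commutator_mem_commutator ha hb)
    have hπc : ∀ a ∈ N, ∀ b ∈ N, π a * π b = π b * π a := fun a ha b hb => by
      rw [← commutatorElement_eq_one_iff_mul_comm, ← map_commutatorElement, hπ]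
      exact hcomm a ha b hb
    haveI : Finite (GL (Fin n) F ⧸ Z) := Quotient.finite _
    have hk1 : orderOf (π g) ≠ 1 := fun e => hgZ ((hπ g).mp (orderOf_eq_one_iff.mp e))
    obtain ⟨r, hr, k, hk⟩ := Nat.exists_prime_and_dvd hk1
    let K : Subgroup (GL (Fin n) F) :=
      { carrier := {x | x ∈ N ∧ π x ^ r = 1}
        one_mem' := ⟨one_mem N, by rw [map_one, one_pow]⟩
        inv_mem' := fun {x} hx => ⟨inv_mem hx.1, by rw [map_inv, inv_pow, hx.2, inv_one]⟩
        mul_mem' := fun {x y} hx hy => ⟨mul_mem hx.1 hy.1, by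
          rw [map_mul, (show Commute (π x) (π y) from hπc x hx.1 y hy.1).mul_pow, hx.2, hy.2, one_mul]⟩ }
    have hKn : Normalises H K := fun h hh x hx => ⟨hNn h hh x hx.1, by
      rw [map_mul, map_mul, map_inv, conj_pow, hx.2, mul_one, mul_inv_cancel]⟩
    have hKs : ¬ K ≤ Z := fun hle => by
      have hmem : g ^ k ∈ K := ⟨pow_mem hg k, by rw [map_pow, ← pow_mul, mul_comm, ← hk, pow_orderOf_eq_one]⟩
      have h1 := (hπ _).mpr (hle hmem)
      rw [map_pow] at h1
      have h2 := Nat.le_of_dvd (Nat.pos_of_ne_zero fun e => by rw [e, mul_zero] at hk; exact (orderOf_pos _).ne' hk)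
        (orderOf_dvd_of_pow_eq_one h1)
      have h3 := hr.two_le
      have h4 : 0 < orderOf (π g) := orderOf_pos _
      nlinarith
    have hKN := hmin K (fun x hx => hx.1) hKn hKs
    refine Or.inl (inClassLE_of_sympN (r := r) (N := N) hn ⟨haiN, hcomm, hNs, hr, fun x hx => ?_⟩ hNn hmin)
    rw [← hKN] at hx
    rw [← hπ, map_pow]
    exact hx.2
  -- perfect
  have hperf : ⁅N, N⁆ = N := hmin _ (Subgroup.commutator_le_self N) (commutator_normalises hNn) hD
  have hNN : Normalises N N := fun h hh g hg => mul_mem (mul_mem hh hg) (inv_mem hh)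
  obtain ⟨M, ⟨hMN, hMn, hMs⟩, hMmin⟩ := exists_minimal_of_wellFoundedLT
    (fun K : Subgroup (GL (Fin n) F) => K ≤ N ∧ Normalises N K ∧ ¬ K ≤ Z) ⟨N, le_rfl, hNN, hNs⟩
  have hMmin' : ∀ K, K ≤ M → Normalises N K → ¬ K ≤ Z → K = M := fun K hKM hKn hKs =>
    le_antisymm hKM (hMmin ⟨hKM.trans hMN, hKn, hKs⟩ hKM)
  by_cases hMH : Normalises H M
  · have hMN' : M = N := hmin M hMN hMH hMs
    subst hMN'
    have hsimple := quotient_simple (Z := scalars (Fin n) F) hNs hD fun K hKM hKn hKs =>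
      (hMmin' K hKM (fun h hh g hg => hKn h hh g hg) hKs).ge
    refine inClassLE_or_residual_of_preCore hn ⟨hNH, hNn, hperf, hsimple.1, hsimple.2, fun h _ hc => ?_, haiN⟩
    obtain ⟨c, hc'⟩ := haiN.2 (h : Matrix (Fin n) (Fin n) F) (forall_matrixSet.mpr fun x hx => by
      rw [← Units.val_mul, ← Units.val_mul]
      refine congrArg Units.val (commute_of_perfect hperf (b := h) (fun a ha => ?_) x hx).symm
      have := inv_mem (hc a ha)
      simpa [mul_assoc] using this)
    exact mem_scalars_of_val_eq hc'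
  -- several factors
  let cj : GL (Fin n) F → Subgroup (GL (Fin n) F) := fun h => M.map (MulAut.conj h).toMonoidHom
  have hcj : ∀ h x, x ∈ cj h ↔ h⁻¹ * x * h ∈ M := fun h x => by
    rw [mem_map_conj]
    refine ⟨?_, fun hx => ⟨_, hx, by simp [mul_assoc]⟩⟩
    rintro ⟨m, hm, rfl⟩
    simpa [mul_assoc] using hm
  have hcjN : ∀ h ∈ H, cj h ≤ N := fun h hh x hx => by
    have h1 := hNn h hh _ (hMN ((hcj h x).mp hx))
    simpa [mul_assoc] using h1
  have hcjn : ∀ h ∈ H, Normalises N (cj h) := fun h hh a ha x hx => by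
    rw [hcj] at hx ⊢
    have := hMn (h⁻¹ * a * h) (hNn.inv hh ha) _ hx
    simpa [mul_assoc] using this
  have hcjs : ∀ h, ¬ cj h ≤ Z := fun h hle => hMs fun x hx => by
    have h1 : h⁻¹ * (h * x * h⁻¹) * h⁻¹⁻¹ ∈ Z :=
      scalars_normal.conj_mem _ (hle ((hcj h (h * x * h⁻¹)).mpr (by simpa [mul_assoc] using hx))) h⁻¹
    simpa [mul_assoc] using h1
  have hcjmin : ∀ h ∈ H, ∀ K, K ≤ cj h → Normalises N K → ¬ K ≤ Z → K = cj h := by
    intro h hh K hK hKn hKs
    let K' := K.map (MulAut.conj h⁻¹).toMonoidHom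
    have hmem : ∀ x, x ∈ K' ↔ h * x * h⁻¹ ∈ K := fun x => by
      rw [mem_map_conj]
      refine ⟨?_, fun hx => ⟨_, hx, by simp [mul_assoc]⟩⟩
      rintro ⟨m, hm, rfl⟩
      simpa [mul_assoc] using hm
    have hK' : K' = M := hMmin' K' (fun x hx => by
        have := (hcj h _).mp (hK ((hmem x).mp hx))
        simpa [mul_assoc] using this)
      (fun a ha x hx => by
        rw [hmem] at hx ⊢
        have := hKn (h * a * h⁻¹) (hNn h hh a ha) _ hx
        simpa [mul_assoc] using this)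
      (fun hle => hKs fun x hx => by
        have h1 := scalars_normal.conj_mem _ (hle ((hmem (h⁻¹ * x * h)).mpr (by simpa [mul_assoc] using hx))) h
        simpa [mul_assoc] using h1)
    refine le_antisymm hK fun x hx => ?_
    have := (hmem _).mp (hK'.symm ▸ (hcj h x).mp hx)
    simpa [mul_assoc] using this
  have hmeet : ∀ h ∈ H, ∀ h' ∈ H, cj h ≠ cj h' → ∀ a ∈ cj h, ∀ b ∈ cj h', ⁅a, b⁆ ∈ Z := by
    intro h hh h' hh' hne a ha b hb
    have hle : cj h ⊓ cj h' ≤ Z := by
      by_contra hs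
      have hn' : Normalises N (cj h ⊓ cj h') := fun x hx y hy => ⟨hcjn h hh x hx y hy.1, hcjn h' hh' x hx y hy.2⟩
      exact hne ((hcjmin h hh _ inf_le_left hn' hs).symm.trans (hcjmin h' hh' _ inf_le_right hn' hs))
    refine hle ⟨?_, ?_⟩
    · show ⁅a, b⁆ ∈ cj h
      rw [commutatorElement_def, show a * b * a⁻¹ * b⁻¹ = a * (b * a⁻¹ * b⁻¹) by group]
      exact mul_mem ha (hcjn h hh b (hcjN h' hh' hb) _ (inv_mem ha))
    · show ⁅a, b⁆ ∈ cj h'
      rw [commutatorElement_def]
      exact mul_mem (hcjn h' hh' a (hcjN h hh ha) _ hb) (inv_mem hb)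
  let S := Set.range fun h : H => cj h
  haveI : Finite S := Set.finite_range _ |>.to_subtype
  letI : Fintype S := Fintype.ofFinite S
  set t := Fintype.card S
  let en : S ≃ Fin t := Fintype.equivFin S
  let Ms : Fin t → Subgroup (GL (Fin n) F) := fun i => (en.symm i : Subgroup (GL (Fin n) F))
  have hMs' : ∀ i, ∃ h ∈ H, Ms i = cj h := fun i => by
    obtain ⟨h, hh⟩ := (en.symm i).2
    exact ⟨h, h.2, hh.symm⟩
  have hidx : ∀ h ∈ H, ∃ i, Ms i = cj h := fun h hh => ⟨en ⟨cj h, ⟨h, hh⟩, rfl⟩, by simp [Ms]⟩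
  have hinj : Function.Injective Ms := fun i j h => en.symm.injective (Subtype.ext h)
  have hsup : (⨆ i, Ms i) = N := by
    refine hmin _ (iSup_le fun i => ?_) (fun h hh x hx => ?_) fun hle => ?_
    · obtain ⟨h, hh, e⟩ := hMs' i
      exact e ▸ hcjN h hh
    · have hle : (⨆ i, Ms i) ≤ (⨆ i, Ms i).comap (MulAut.conj h).toMonoidHom := by
        refine iSup_le fun i y hy => ?_
        obtain ⟨h₁, hh₁, e⟩ := hMs' i
        rw [e, hcj] at hy
        obtain ⟨j, hj⟩ := hidx (h * h₁) (mul_mem hh hh₁)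
        refine le_iSup Ms j ?_
        rw [hj, hcj, MulEquiv.coe_toMonoidHom, MulAut.conj_apply]
        simpa [mul_assoc] using hy
      exact hle hx
    · obtain ⟨i, hi⟩ := hidx 1 (one_mem H)
      exact hcjs 1 (hi ▸ le_trans (le_iSup Ms i) hle)
  have hMperf : ⁅M, M⁆ = M := by
    refine hMmin' _ (Subgroup.commutator_le_self M) (commutator_normalises hMn) fun hle => hD ?_
    have hpair : ∀ i j, ∀ a ∈ Ms i, ∀ b ∈ Ms j, ⁅a, b⁆ ∈ Z := by
      intro i j a ha b hb
      obtain ⟨h, hh, e⟩ := hMs' i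
      obtain ⟨h', hh', e'⟩ := hMs' j
      rw [e] at ha
      rw [e'] at hb
      by_cases hne : cj h = cj h'
      · rw [← hne] at hb
        have h1 := scalars_normal.conj_mem _ (hle (Subgroup.commutator_mem_commutator ((hcj h a).mp ha) ((hcj h b).mp hb))) h
        simpa [commutatorElement_def, mul_assoc] using h1
      · exact hmeet h hh h' hh' hne a ha b hb
    let π := QuotientGroup.mk' Z
    let A : Fin t → Subgroup (GL (Fin n) F ⧸ Z) := fun i => (Ms i).map π
    have hA : ∀ i j, A i ≤ Subgroup.centralizer (A j : Set (GL (Fin n) F ⧸ Z)) := by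
      rintro i j _ ⟨a, ha, rfl⟩
      refine Subgroup.mem_centralizer_iff.mpr ?_
      rintro _ ⟨b, hb, rfl⟩
      rw [← commutatorElement_eq_one_iff_mul_comm, ← map_commutatorElement]
      exact (QuotientGroup.eq_one_iff _).mpr (hpair j i b hb a ha)
    have hall : (⨆ i, A i) ≤ Subgroup.centralizer ((⨆ i, A i : Subgroup _) : Set (GL (Fin n) F ⧸ Z)) :=
      iSup_le fun i => Subgroup.le_centralizer_iff.mp (iSup_le fun j => hA j i)
    rw [Subgroup.commutator_le]
    intro a ha b hb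
    rw [← hsup] at ha hb
    have ha' : π a ∈ ⨆ i, A i := by rw [← Subgroup.map_iSup]; exact ⟨a, ha, rfl⟩
    have hb' : π b ∈ ⨆ i, A i := by rw [← Subgroup.map_iSup]; exact ⟨b, hb, rfl⟩
    refine (QuotientGroup.eq_one_iff _).mp ?_
    show π ⁅a, b⁆ = 1
    rw [map_commutatorElement, commutatorElement_eq_one_iff_mul_comm]
    exact Subgroup.mem_centralizer_iff.mp (hall hb') _ ha'
  have hcomm : ∀ i j, i ≠ j → ∀ a ∈ Ms i, ∀ b ∈ Ms j, a * b = b * a := by
    intro i j hij a ha b hb
    obtain ⟨h, hh, e⟩ := hMs' i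
    obtain ⟨h', hh', e'⟩ := hMs' j
    have hne : cj h ≠ cj h' := fun e'' => hij (hinj (e.trans (e''.trans e'.symm)))
    rw [e] at ha
    rw [e'] at hb
    refine commute_of_perfect (M := cj h) ?_ (b := b) (fun x hx => ?_) a ha
    · show ⁅M.map _, M.map _⁆ = _
      rw [← Subgroup.map_commutator, hMperf]
    · have := hmeet h hh h' hh' hne x hx b hb
      rwa [commutatorElement_def] at this
  have hns : ∀ i, ¬ Ms i ≤ Z := fun i => by
    obtain ⟨h, -, e⟩ := hMs' i
    exact e ▸ hcjs h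
  obtain ⟨d, Φ, Ψ, ρ, hF⟩ := tensor_factors t Ms hcomm (hsup ▸ haiN) hns
  have hperm : ∀ h ∈ H, ∃ π : Equiv.Perm (Fin t), (∀ i, ∀ g ∈ Ms i, h * g * h⁻¹ ∈ Ms (π i)) ∧
      ∀ i, ∀ g ∈ Ms (π i), h⁻¹ * g * h ∈ Ms i := by
    intro h hh
    have hex : ∀ i, ∃ j, ∀ x, x ∈ Ms j ↔ h⁻¹ * x * h ∈ Ms i := fun i => by
      obtain ⟨h₁, hh₁, e⟩ := hMs' i
      obtain ⟨j, hj⟩ := hidx (h * h₁) (mul_mem hh hh₁)
      exact ⟨j, fun x => by rw [hj, e, hcj, hcj]; simp [mul_assoc]⟩
    choose π hπ using hex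
    have hπi : Function.Injective π := fun i j e => hinj (SetLike.ext fun x => by
      have h1 := hπ i (h * x * h⁻¹)
      rw [e, hπ j] at h1
      simpa [mul_assoc] using h1.symm)
    exact ⟨Equiv.ofBijective π (Finite.injective_iff_bijective.mp hπi),
      fun i g hg => (hπ i _).mpr (by simpa [mul_assoc] using hg), fun i g hg => (hπ i g).mp hg⟩
  obtain ⟨i₀, hi₀⟩ := hidx 1 (one_mem H)
  have hdim : d = fun _ => d i₀ := funext fun i => by
    obtain ⟨h, hh, e⟩ := hMs' i
    have h1 : ∀ g ∈ Ms i₀, h * g * h⁻¹ ∈ Ms i := fun g hg => by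
      rw [e, hcj]
      rw [hi₀, hcj] at hg
      simpa [mul_assoc] using hg
    have h2 : ∀ g ∈ Ms i, h⁻¹ * g * h ∈ Ms i₀ := fun g hg => by
      rw [e, hcj] at hg
      rw [hi₀, hcj]
      simpa [mul_assoc] using hg
    simpa using (hF.exists_equiv h1 h2).1.symm
  obtain ⟨m, rfl⟩ : ∃ m, d = fun _ => m := ⟨_, hdim⟩
  have ht : 2 ≤ t := by
    by_contra hlt
    refine hMH fun h hh x hx => ?_
    obtain ⟨j, hj⟩ := hidx h hh
    have e : cj h = cj 1 := by rw [← hj, ← hi₀, show j = i₀ from Fin.ext (by omega)]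
    have h1 : h * x * h⁻¹ ∈ cj h := (hcj h _).mpr (by simpa [mul_assoc] using hx)
    rw [e, hcj] at h1
    simpa using h1
  let eι : Fin n ≃ (Fin t → Fin m) := Fintype.equivOfCardEq hF.coords.card_eq.symm
  obtain ⟨P, hP⟩ := hF.coords.exists_gl eι
  refine Or.inl (inClassLE_of_wreath hn (hF.two_le i₀) ht eι P fun h hh => ?_)
  obtain ⟨π, h1, h2⟩ := hperm h hh
  rw [hP]
  exact hF.isWreath (by omega) (hsup ▸ haiN) π h1 h2

end Cfsg.Lib.Classical.Aschbacher
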