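import Cfsg.Agent.Classical.Aschbacher.LinesFive
import Cfsg.Agent.Classical.PrimeDim.Linear

/-! Maximal subgroups of the special linear groups. -/

set_option autoImplicit false
set_option linter.unusedSimpArgs false
set_option linter.unusedSectionVars false
set_option linter.style.haveILetI false

namespace Cfsg.Lib.Classical.Aschbacher

open Matrix Cfsg.Geo
open scoped MatrixGroups Kronecker
open Cfsg.Lib.Classical.PrimeDim (eq_inf_of_maximal not_le_subspace not_le_subfieldSubgroup not_le_similarity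
  not_le_quadSimilarity IsSesq exists_char_card)

universe u

variable {n : ℕ} {F : Type u} [Field F] [Fintype F]

theorem Refined.not_specialLinear_le (hn : 3 ≤ n) {M : Subgroup (GL (Fin n) F)} (h : Refined n F M) :
    ¬ specialLinear (Fin n) F ≤ M := by
  haveI : Nontrivial (Fin n) := Fin.nontrivial_iff_two_le.mpr (by omega)
  have hcard := Fintype.card_fin n
  rcases h with ⟨W, h0, h1, rfl⟩ | ⟨t, m, D, hD, rfl⟩ | ⟨r, K, hr, hK, rfl⟩ | ⟨n₁, n₂, e, P, h1, h12, rfl⟩ |
    ⟨F₀, r, P, hr, hc, rfl⟩ | ⟨r, R, hR, -, rfl⟩ | ⟨m, t, e, P, hm, ht, rfl⟩ | ⟨f, hf, -, -, rfl⟩ |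
    ⟨σ, f, hf, -, rfl⟩ | ⟨Q, hQ, -, -, rfl⟩
  · exact not_le_subspace h0 h1
  · exact not_le_decomposition_general hD
  · exact not_le_field_general (by rw [hcard]; exact hn) hr.one_lt hK
  · exact not_le_tensor h1 (by omega) e P
  · refine not_le_subfieldSubgroup (fun h => ?_) P
    rw [h, Nat.card_congr Subfield.topEquiv.toEquiv, Nat.card_eq_fintype_card] at hc
    have h1 : Fintype.card F < Fintype.card F ^ r := lt_self_pow₀ Fintype.one_lt_card hr.one_lt
    omega
  · obtain ⟨p, e, hrp, ⟨hp, hchar, -⟩, -⟩ := hR.field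
    haveI := Fact.mk hp
    exact not_le_normalizer (by rw [hcard]; exact hn) hrp hR.symplecticType.prime hR.symplecticType.pGroup hR.absIrred
  · exact not_le_wreath (by omega) ht e P
  · exact not_le_similarity hcard hn (σ := RingEquiv.refl F)
      ⟨hf.bilinear.add_left, hf.bilinear.smul_left, hf.bilinear.add_right, hf.bilinear.smul_right, hf.nondegenerate⟩
  · exact not_le_similarity hcard hn (IsSesq.of_unitary hf)
  · exact not_le_quadSimilarity hcard hn hQ

/-- The types of maximal subgroups, with the restrictions on the parameters. -/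
inductive MaxType (n : ℕ) (F : Type u) [Field F] [Fintype F] (H : Subgroup (GL (Fin n) F)) : Prop
  | subspace (W : Submodule F (Fin n → F)) (h0 : W ≠ ⊥) (h1 : W ≠ ⊤)
      (hH : H = subspaceStabilizer W ⊓ specialLinear (Fin n) F)
  | decomposition (t m : ℕ) (D : Fin t → Submodule F (Fin n → F)) (ht : 2 ≤ t) (hmul : t * m = n)
      (hlines : m = 1 → 5 ≤ Fintype.card F ∧ (n = 4 → 7 ≤ Fintype.card F))
      (hplanes : m = 2 → 3 ≤ Fintype.card F ∧ (n = 4 → 4 ≤ Fintype.card F))
      (hD : IsMDecomposition m D) (hH : H = decompositionStabilizer D ⊓ specialLinear (Fin n) F)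
  | field (r : ℕ) (K : Subalgebra F (Matrix (Fin n) (Fin n) F)) (hr : r.Prime) (hdvd : r ∣ n)
      (hK : IsFieldSubalgebra r K) (hH : H = subalgebraNormalizer K ⊓ specialLinear (Fin n) F)
  | tensor (n₁ n₂ : ℕ) (e : Fin n ≃ Fin n₁ × Fin n₂) (P : GL (Fin n) F) (h1 : 2 ≤ n₁) (h12 : n₁ < n₂)
      (hmul : n₁ * n₂ = n) (hq : n₁ = 2 → 3 ≤ Fintype.card F)
      (hH : H = tensorProductSubgroup n₁ n₂ e P ⊓ specialLinear (Fin n) F)
  | subfield (F₀ : Subfield F) (r : ℕ) (P : GL (Fin n) F) (hr : r.Prime) (hc : Fintype.card F = Nat.card F₀ ^ r)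
      (hH : H = subfieldSubgroup F₀ P ⊓ specialLinear (Fin n) F)
  | symplecticType (r m : ℕ) (R : Subgroup (GL (Fin n) F)) (hr : r.Prime) (hm : n = r ^ m)
      (hR : IsLinearSymplecticTypeData r R) (hH : H = subgroupNormalizer R ⊓ specialLinear (Fin n) F)
  | wreath (m t : ℕ) (e : Fin n ≃ (Fin t → Fin m)) (P : GL (Fin n) F) (hm : 3 ≤ m) (ht : 2 ≤ t) (hpow : m ^ t = n)
      (hH : H = tensorWreathSubgroup m t e P ⊓ specialLinear (Fin n) F)
  | symplectic (f : (Fin n → F) → (Fin n → F) → F) (hf : IsSymplecticForm f) (heven : Even n)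
      (hH : H = similarityGroup f ⊓ specialLinear (Fin n) F)
  | unitary (σ : F ≃+* F) (f : (Fin n → F) → (Fin n → F) → F) (hf : IsUnitaryForm σ f)
      (hH : H = similarityGroup f ⊓ specialLinear (Fin n) F)
  | quadratic (Q : (Fin n → F) → F) (hodd : Odd (Fintype.card F)) (hQ : IsNondegenerateQuadraticForm Q)
      (hH : H = quadSimilarityGroup Q ⊓ specialLinear (Fin n) F)
  | residual (h : InLinearResidualClass H)

/-- The maximal subgroups of `SL`. -/
theorem maximal_type (hn : 3 ≤ n) {H : Subgroup (GL (Fin n) F)} (hH : IsMaximalIn (specialLinear (Fin n) F) H) :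
    MaxType n F H := by
  classical
  haveI : Nonempty (Fin n) := ⟨⟨0, by omega⟩⟩
  have hHle : H ≤ specialLinear (Fin n) F := hH.1.le
  have heq : ∀ {M : Subgroup (GL (Fin n) F)}, Refined n F M → H ≤ M → H = M ⊓ specialLinear (Fin n) F :=
    fun hM hle => eq_inf_of_maximal hH hle (hM.not_specialLinear_le hn)
  rcases linear_structure hn H with ⟨M, hM, hle⟩ | hres
  swap
  · exact .residual hres
  have hH' := heq hM hle
  have hsymp : ∀ f, IsSymplecticForm f → H ≤ similarityGroup f → MaxType n F H := fun f hf hle => by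
    have heven : Even n := by
      by_contra ho
      exact Cfsg.Lib.Classical.PrimeDim.no_alternating (Fintype.card_fin n) (Nat.not_even_iff_odd.mp ho) hf.bilinear
        hf.alternating hf.nondegenerate
    obtain ⟨M', hM', hle'⟩ := inClassLE_symplectic hn hf hle
    exact .symplectic f hf heven (eq_inf_of_maximal hH hle (not_le_similarity (Fintype.card_fin n) hn
      (σ := RingEquiv.refl F)
      ⟨hf.bilinear.add_left, hf.bilinear.smul_left, hf.bilinear.add_right, hf.bilinear.smul_right, hf.nondegenerate⟩))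
  rcases hM with ⟨W, h0, h1, rfl⟩ | ⟨t, m, D, hD, rfl⟩ | ⟨r, K, hr, hK, rfl⟩ | ⟨n₁, n₂, e, P, h1, h12, rfl⟩ |
    ⟨F₀, r, P, hr, hc, rfl⟩ | ⟨r, R, hR, ⟨m, hm⟩, rfl⟩ | ⟨m, t, e, P, hm, ht, rfl⟩ | ⟨f, hf, he, -, rfl⟩ |
    ⟨σ, f, hf, -, rfl⟩ | ⟨Q, hQ, ho, -, rfl⟩
  · exact .subspace W h0 h1 hH'
  · have hmul : t * m = n := (IsMDecomposition.mul_eq hD).trans (Fintype.card_fin n)
    by_cases hl : m = 1 ∧ Fintype.card F ≤ 4
    · obtain ⟨rfl, hq⟩ := hl
      rw [mul_one] at hmul
      subst hmul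
      rcases inClassLE_of_lines_small hn hD hle hq with ⟨W, h0, h1, hle'⟩ | ⟨Q, hQ, ho, hle'⟩ | ⟨σ, f, hf, hle'⟩
      · exact .subspace W h0 h1 (heq (Or.inl ⟨W, h0, h1, rfl⟩) hle')
      · exact .quadratic Q ho hQ (eq_inf_of_maximal hH hle' (not_le_quadSimilarity (Fintype.card_fin t) hn hQ))
      · exact .unitary σ f hf (eq_inf_of_maximal hH hle' (not_le_similarity (Fintype.card_fin t) hn (IsSesq.of_unitary hf)))
    by_cases hl5 : m = 1 ∧ n = 4 ∧ Fintype.card F < 7
    · exfalso
      obtain ⟨rfl, hn4, hq⟩ := hl5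
      rw [mul_one] at hmul
      subst hmul
      subst hn4
      have hq4 : ¬ Fintype.card F ≤ 4 := fun h => hl ⟨rfl, h⟩
      have h5 : Fintype.card F = 5 := by
        obtain ⟨p, f, hp, -, hf0, hf⟩ := exists_char_card F
        rw [Nat.card_eq_fintype_card] at hf
        rcases Nat.lt_or_ge (Fintype.card F) 6 with h | h
        · omega
        · exfalso
          have h6 : Fintype.card F = 6 := by omega
          rw [h6] at hf
          have h2 := (Nat.prime_dvd_prime_iff_eq Nat.prime_two hp).mp (Nat.prime_two.dvd_of_dvd_pow (hf ▸ ⟨3, rfl⟩ : 2 ∣ p ^ f))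
          have h3 := (Nat.prime_dvd_prime_iff_eq Nat.prime_three hp).mp (Nat.prime_three.dvd_of_dvd_pow (hf ▸ ⟨2, rfl⟩ : 3 ∣ p ^ f))
          omega
      exact lines_five_not_maximal h5 hH hD hH'
    by_cases hp : m = 2 ∧ (Fintype.card F = 2 ∨ n = 4 ∧ Fintype.card F = 3)
    · obtain ⟨rfl, hq⟩ := hp
      obtain ⟨f, hf, hle'⟩ := symplectic_of_planes hD hHle hle (fun d hd i j => by
        have hne : ∀ k, d k ≠ 0 := fun k e => one_ne_zero (α := F) (by
          rw [← hd, Finset.prod_eq_zero (Finset.mem_univ k) e])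
        rcases hq with hq | ⟨hn4, hq⟩
        · have h1 : ∀ k, d k = 1 := fun k => by simpa [hq] using FiniteField.pow_card_sub_one_eq_one (d k) (hne k)
          rw [h1, h1]
        · have ht : t = 2 := by omega
          subst ht
          have hsq : ∀ k, d k * d k = 1 := fun k => by
            simpa [hq, pow_two] using FiniteField.pow_card_sub_one_eq_one (d k) (hne k)
          rw [Fin.prod_univ_two] at hd
          have e : d 0 = d 1 := by
            calc d 0 = d 0 * (d 1 * d 1) := by rw [hsq, mul_one]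
              _ = d 1 := by rw [← mul_assoc, hd, one_mul]
          fin_cases i <;> fin_cases j <;> simp [e])
      exact hsymp f hf hle'
    refine .decomposition t m D hD.two_le hmul (fun hm1 => ⟨?_, fun h4 => ?_⟩) (fun hm2 => ⟨?_, fun h4 => ?_⟩) hD hH'
    · by_contra h; exact hl ⟨hm1, by omega⟩
    · by_contra h; exact hl5 ⟨hm1, h4, by omega⟩
    · by_contra h
      exact hp ⟨hm2, Or.inl (by have := (Fintype.one_lt_card : 1 < Fintype.card F); omega)⟩
    · by_contra h
      rcases Nat.lt_or_ge (Fintype.card F) 3 with h3 | h3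
      · exact hp ⟨hm2, Or.inl (by have := (Fintype.one_lt_card : 1 < Fintype.card F); omega)⟩
      · exact hp ⟨hm2, Or.inr ⟨h4, by omega⟩⟩
  · exact .field r K hr ((IsFieldSubalgebra.dvd_card hK).trans (Fintype.card_fin n).dvd) hK hH'
  · have hmul : n₁ * n₂ = n := by
      have := Fintype.card_congr e
      simpa [Fintype.card_prod] using this.symm
    by_cases hq : n₁ = 2 ∧ Fintype.card F = 2
    · obtain ⟨rfl, hq⟩ := hq
      obtain ⟨K, hK, hle'⟩ := field_of_tensor_two hq (by omega : 0 < n₂) e P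
      exact .field 2 K Nat.prime_two ((IsFieldSubalgebra.dvd_card hK).trans (Fintype.card_fin n).dvd) hK
        (heq (Or.inr (Or.inr (Or.inl ⟨2, K, Nat.prime_two, hK, rfl⟩))) (hle.trans hle'))
    refine .tensor n₁ n₂ e P h1 h12 hmul (fun h => ?_) hH'
    by_contra h3
    exact hq ⟨h, by have := (Fintype.one_lt_card : 1 < Fintype.card F); omega⟩
  · exact .subfield F₀ r P hr hc hH'
  · exact .symplecticType r m R hR.symplecticType.prime hm hR hH'
  · refine .wreath m t e P hm ht ?_ hH'
    have := Fintype.card_congr e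
    simpa using this.symm
  · exact .symplectic f hf he hH'
  · exact .unitary σ f hf hH'
  · exact .quadratic Q ho hQ hH'

/-- In the symplectic-type class the field is of prime order in the small degrees. -/
theorem symplecticType_two {R : Subgroup (GL (Fin n) F)} (hn : 3 ≤ n) (hR : IsLinearSymplecticTypeData 2 R) :
    ∃ p : ℕ, p.Prime ∧ Fintype.card F = p ∧ p % 4 = 1 := by
  obtain ⟨p, e, -, ⟨hp, -, hcard, hdvd, -⟩, h⟩ := hR.field
  rcases h with ⟨ho, -⟩ | ⟨-, he, hc, -, -⟩ | ⟨-, -, hi, -⟩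
  · exact absurd ho (Nat.not_odd_iff_even.mpr even_two)
  · rw [hc, he, pow_one] at hdvd
    refine ⟨p, hp, by rw [hcard, he, pow_one], ?_⟩
    have := hp.two_le
    omega
  · rw [Fintype.card_fin] at hi; omega

theorem symplecticType_three {R : Subgroup (GL (Fin n) F)} (hR : IsLinearSymplecticTypeData 3 R) :
    ∃ p : ℕ, p.Prime ∧ Fintype.card F = p ∧ p % 3 = 1 := by
  obtain ⟨p, e, hrp, ⟨hp, -, hcard, hdvd, hmin⟩, h⟩ := hR.field
  rcases h with ⟨-, ho, hc, -⟩ | ⟨h, -⟩ | ⟨h, -⟩
  · rw [hc] at hdvd hmin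
    have hp3 : p % 3 ≠ 0 := fun h => hrp ((Nat.prime_dvd_prime_iff_eq Nat.prime_three hp).mp (Nat.dvd_of_mod_eq_zero h))
    have he : e = 1 := by
      by_contra he
      have he3 : 3 ≤ e := by obtain ⟨k, hk⟩ := ho; omega
      refine hmin 2 two_pos (by omega) ?_
      have h1 : p ^ 2 % 3 = 1 := by
        have : p % 3 = 1 ∨ p % 3 = 2 := by omega
        rcases this with h | h <;> simp [Nat.pow_mod, h]
      have := Nat.one_le_pow 2 p hp.pos
      omega
    refine ⟨p, hp, by rw [hcard, he, pow_one], ?_⟩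
    rw [he, pow_one] at hdvd
    have := hp.two_le
    omega
  · norm_num at h
  · norm_num at h

end Cfsg.Lib.Classical.Aschbacher
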