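import Cfsg.Agent.Classical.Aschbacher.LinearMembers

/-! Members over very small fields lying in other classes. -/

set_option autoImplicit false
set_option linter.unusedSimpArgs false
set_option linter.unusedSectionVars false
set_option linter.style.haveILetI false

namespace Cfsg.Lib.Classical.Aschbacher

open Matrix Cfsg.Geo
open scoped MatrixGroups Kronecker
open Cfsg.Lib.Classical.PrimeDim (exists_monomial_basis monomial_mulVec gl_mulVec_ne_zero stdQuad_nondegenerate
  stdQuad_fix stdHerm_isUnitary stdHerm_fix exists_conj two_ne_zero_of_odd gl_det_ne_zero val_inv_mul val_mul_inv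
  finrank_pi_card)

universe u

variable {n : ℕ} {F : Type u} [Field F] [Fintype F]

/-- Monomial groups over fields with at most four elements. -/
theorem inClassLE_of_lines_small (hn : 3 ≤ n) {H : Subgroup (GL (Fin n) F)} {D : Fin n → Submodule F (Fin n → F)}
    (hD : IsMDecomposition 1 D) (hle : H ≤ decompositionStabilizer D) (hq : Fintype.card F ≤ 4) :
    (∃ W : Submodule F (Fin n → F), W ≠ ⊥ ∧ W ≠ ⊤ ∧ H ≤ subspaceStabilizer W) ∨
    (∃ Q : (Fin n → F) → F, IsNondegenerateQuadraticForm Q ∧ Odd (Fintype.card F) ∧ H ≤ quadSimilarityGroup Q) ∨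
    (∃ (σ : F ≃+* F) (f : (Fin n → F) → (Fin n → F) → F), IsUnitaryForm σ f ∧ H ≤ similarityGroup f) := by
  classical
  obtain ⟨B, hB⟩ := exists_monomial_basis (Fintype.card_fin n) hD
  have hq2 : 2 ≤ Fintype.card F := Fintype.one_lt_card
  have hpow : ∀ d : F, d ≠ 0 → d ^ (Fintype.card F - 1) = 1 := fun d hd => FiniteField.pow_card_sub_one_eq_one d hd
  obtain hq' | hq' | hq' : Fintype.card F = 2 ∨ Fintype.card F = 3 ∨ Fintype.card F = 4 := by omega
  · left
    let z : Fin n := ⟨0, by omega⟩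
    set u : Fin n → F := ((B⁻¹ : GL (Fin n) F) : Matrix (Fin n) (Fin n) F) *ᵥ (fun _ => 1) with hu
    have hu0 : u ≠ 0 := gl_mulVec_ne_zero _ (fun e => one_ne_zero (congrFun e z))
    have hfix : ∀ h ∈ H, (h : Matrix (Fin n) (Fin n) F) *ᵥ u = u := by
      intro h hh
      obtain ⟨π, d, hd0, hM⟩ := hB h (hle hh)
      have hd : ∀ j, d j = 1 := fun j => by simpa [hq'] using hpow (d j) (hd0 j)
      have e : ((B * h * B⁻¹ : GL (Fin n) F) : Matrix (Fin n) (Fin n) F) *ᵥ (fun _ => (1 : F)) = fun _ => 1 :=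
        funext fun i => by rw [← π.apply_symm_apply i, monomial_mulVec hM, hd, one_mul]
      calc (h : Matrix (Fin n) (Fin n) F) *ᵥ u
          = ((B⁻¹ : GL (Fin n) F) : Matrix (Fin n) (Fin n) F) *ᵥ
              (((B * h * B⁻¹ : GL (Fin n) F) : Matrix (Fin n) (Fin n) F) *ᵥ (fun _ => (1 : F))) := by
            rw [hu, Matrix.mulVec_mulVec, Matrix.mulVec_mulVec, ← Units.val_mul, ← Units.val_mul]
            congr 2
            simp [mul_assoc]
        _ = u := by rw [e]
    refine ⟨Submodule.span F {u}, fun e => hu0 (Submodule.span_singleton_eq_bot.mp e), fun e => ?_, ?_⟩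
    · have := finrank_span_singleton (K := F) hu0
      rw [e, finrank_top, finrank_pi_card, Fintype.card_fin] at this
      omega
    · refine Cfsg.Lib.Classical.PrimeDim.Invariant.le_stabilizer fun h hh v hv => ?_
      obtain ⟨c, rfl⟩ := Submodule.mem_span_singleton.mp hv
      rw [Matrix.mulVec_smul, hfix h hh]
      exact Submodule.smul_mem _ _ (Submodule.mem_span_singleton_self u)
  · have hodd : Odd (Fintype.card F) := by rw [hq']; exact ⟨1, rfl⟩
    refine Or.inr (Or.inl ⟨_, stdQuad_nondegenerate B (two_ne_zero_of_odd hodd), hodd, fun h hh => ?_⟩)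
    obtain ⟨π, d, hd0, hM⟩ := hB h (hle hh)
    exact ⟨1, fun v => by
      rw [Units.val_one, one_mul]
      exact stdQuad_fix hM (fun j => by simpa [hq', pow_two] using hpow (d j) (hd0 j)) v⟩
  · obtain ⟨σ, hσ, hne, hinv⟩ := exists_conj (F := F) (q₀ := 2) (by rw [hq']; norm_num)
    refine Or.inr (Or.inr ⟨σ, _, stdHerm_isUnitary B hne hinv, fun h hh => ?_⟩)
    obtain ⟨π, d, hd0, hM⟩ := hB h (hle hh)
    refine ⟨1, fun u v => ?_⟩
    rw [Units.val_one, one_mul]
    exact stdHerm_fix hM (fun j => by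
      rw [hσ, ← pow_succ']
      simpa [hq'] using hpow (d j) (hd0 j)) u v

variable {ι : Type} [Fintype ι] [DecidableEq ι]

/-- Coordinates adapted to a decomposition into planes. -/
theorem exists_block_basis {t : ℕ} {D : Fin t → Submodule F (ι → F)} (hD : IsMDecomposition 2 D) :
    ∃ (e : ι ≃ Fin t × Fin 2) (P : GL ι F), ∀ h ∈ decompositionStabilizer D, ∃ (π : Equiv.Perm (Fin t))
      (A : Fin t → Matrix (Fin 2) (Fin 2) F), inCoords e P h =
        ((1 : Matrix (Fin t) (Fin t) F).submatrix π.symm id ⊗ₖ (1 : Matrix (Fin 2) (Fin 2) F)) *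
          (Matrix.blockDiagonal A).submatrix Prod.swap Prod.swap := by
  classical
  have hint : DirectSum.IsInternal D :=
    DirectSum.isInternal_submodule_of_iSupIndep_of_iSup_eq_top hD.indep hD.iSup_eq_top
  let bi : ∀ i, Module.Basis (Fin 2) F (D i) := fun i => Module.finBasisOfFinrankEq F (D i) (hD.finrank_eq i)
  let b := (hint.collectedBasis bi).reindex (Equiv.sigmaEquivProd (Fin t) (Fin 2))
  have hb : ∀ i a, b (i, a) = (bi i a : ι → F) := fun i a => by
    simp [b, DirectSum.IsInternal.collectedBasis_coe]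
    rfl
  let Φ : Matrix ι (Fin t × Fin 2) F := Matrix.of fun j p => b p j
  let Ψ : Matrix (Fin t × Fin 2) ι F := Matrix.of fun p j => b.repr (Pi.single j 1) p
  have hΦ : ∀ w, Φ *ᵥ w = ∑ p, w p • b p := fun w => funext fun i => by
    simp [Φ, Matrix.mulVec, dotProduct, mul_comm]
  have hcard : Fintype.card (Fin t × Fin 2) = Fintype.card ι := by
    rw [← Module.finrank_eq_card_basis b, Module.finrank_pi]
  obtain ⟨Ψ', hc⟩ := Coords.of_injective (Φ := Φ) (fun v w h => by
    simp only [hΦ] at h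
    exact funext fun p => by
      have := Fintype.linearIndependent_iff.mp b.linearIndependent (fun q => v q - w q)
        (by simp only [sub_smul, Finset.sum_sub_distrib]; rw [h, sub_self]) p
      exact sub_eq_zero.mp this) hcard
  let e : ι ≃ Fin t × Fin 2 := Fintype.equivOfCardEq hcard.symm
  obtain ⟨P, hP⟩ := hc.exists_gl e
  refine ⟨e, P, fun h hh => ?_⟩
  obtain ⟨π, hπ⟩ := hh
  have hcol : ∀ i a, ∃ c : Fin 2 → F, (h : Matrix ι ι F) *ᵥ b (i, a) = ∑ x, c x • b (π i, x) := fun i a => by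
    have hmem : (h : Matrix ι ι F) *ᵥ b (i, a) ∈ D (π i) := by
      rw [hb]; exact hπ i ▸ ⟨_, (bi i a).2, Matrix.toLin'_apply _ _⟩
    refine ⟨fun x => (bi (π i)).repr ⟨_, hmem⟩ x, ?_⟩
    have := congrArg Subtype.val ((bi (π i)).sum_repr ⟨_, hmem⟩)
    rw [AddSubmonoidClass.coe_finsetSum] at this
    simp only [Submodule.coe_smul] at this
    simp only [hb] at this ⊢
    exact this.symm
  choose c hcc using hcol
  refine ⟨π, fun i => Matrix.of fun x a => c i a x, ?_⟩
  rw [hP]
  set T := ((1 : Matrix (Fin t) (Fin t) F).submatrix π.symm id ⊗ₖ (1 : Matrix (Fin 2) (Fin 2) F)) *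
    (Matrix.blockDiagonal fun i => Matrix.of fun x a => c i a x).submatrix Prod.swap Prod.swap
  have hT : ∀ p q, T p q = if p.1 = π q.1 then c q.1 q.2 p.2 else 0 := by
    rintro ⟨i, x⟩ ⟨j, a⟩
    simp only [T, Matrix.mul_apply, Fintype.sum_prod_type, Matrix.kronecker_apply, Matrix.submatrix_apply, id,
      Matrix.one_apply, Matrix.blockDiagonal_apply, Prod.swap, Matrix.of_apply, mul_ite, ite_mul, mul_one, mul_zero,
      one_mul, zero_mul, Finset.sum_ite_irrel, Finset.sum_const_zero, Finset.sum_ite_eq, Finset.sum_ite_eq', Finset.mem_univ, if_true, Equiv.symm_apply_eq, id_eq]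
  have h1 : (h : Matrix ι ι F) * Φ = Φ * T := by
    ext r ⟨j, a⟩
    have h2 := congrFun (hcc j a) r
    simp only [Matrix.mulVec, dotProduct, Finset.sum_apply, Pi.smul_apply, smul_eq_mul] at h2
    simp only [Matrix.mul_apply, Φ, Matrix.of_apply, hT, h2]
    rw [Fintype.sum_prod_type, Finset.sum_eq_single (π j) (fun i _ hi => by simp [hi]) (by simp)]
    simp [mul_comm]
  rw [Matrix.mul_assoc, h1, ← Matrix.mul_assoc, hc.right, Matrix.one_mul]

/-- Stabilisers of plane decompositions with equal determinants preserve an alternating form. -/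
theorem symplectic_of_planes {t : ℕ} {D : Fin t → Submodule F (ι → F)} (hD : IsMDecomposition 2 D)
    {H : Subgroup (GL ι F)} (hH : H ≤ specialLinear ι F) (hle : H ≤ decompositionStabilizer D)
    (hdet : ∀ d : Fin t → F, ∏ i, d i = 1 → ∀ i j, d i = d j) :
    ∃ f : (ι → F) → (ι → F) → F, IsSymplecticForm f ∧ H ≤ similarityGroup f := by
  classical
  obtain ⟨e, P, hP⟩ := exists_block_basis hD
  set Pi' : Matrix ι ι F := ((P⁻¹ : GL ι F) : Matrix ι ι F) with hPi
  set J : Matrix (Fin t × Fin 2) (Fin t × Fin 2) F := (1 : Matrix (Fin t) (Fin t) F) ⊗ₖ jTwo F with hJ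
  set X : Matrix ι ι F := Pi'ᵀ * J.submatrix e e * Pi' with hX
  have hJT : Jᵀ = -J := by
    ext ⟨i, a⟩ ⟨j, b⟩
    simp only [hJ, Matrix.transpose_apply, Matrix.neg_apply, Matrix.kronecker_apply, Matrix.one_apply]
    rcases eq_or_ne i j with rfl | h
    · fin_cases a <;> fin_cases b <;> simp [jTwo]
    · fin_cases a <;> fin_cases b <;> simp [h, h.symm, jTwo]
  have hJdet : J.det ≠ 0 := by
    rw [hJ, Matrix.det_kronecker, Matrix.det_one, one_pow, one_mul]
    exact pow_ne_zero _ (by simp [jTwo, Matrix.det_fin_two])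
  have hJd : ∀ p, J p p = 0 := fun ⟨i, a⟩ => by
    simp only [hJ, Matrix.kronecker_apply, Matrix.one_apply_eq]
    fin_cases a <;> simp [jTwo]
  have hXdet : X.det ≠ 0 := by
    rw [hX, Matrix.det_mul, Matrix.det_mul, Matrix.det_transpose, Matrix.det_submatrix_equiv_self]
    exact mul_ne_zero (mul_ne_zero (gl_det_ne_zero _) hJdet) (gl_det_ne_zero _)
  have hXT : Xᵀ = -X := by
    rw [hX, Matrix.transpose_mul, Matrix.transpose_mul, Matrix.transpose_transpose, Matrix.transpose_submatrix, hJT,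
      Matrix.submatrix_neg, Pi.neg_apply, Pi.neg_apply, Matrix.neg_mul, Matrix.mul_neg, Matrix.mul_assoc]
  have hJ' : IsSymplecticForm (matForm (RingEquiv.refl F) (J.submatrix e e)) :=
    matForm_symplectic (by rw [Matrix.det_submatrix_equiv_self]; exact hJdet)
      (by rw [Matrix.transpose_submatrix, hJT]; rfl) fun i => hJd _
  have hXd : ∀ i, X i i = 0 := fun i => by
    have h1 := hJ'.alternating (Pi' *ᵥ Pi.single i 1)
    rw [matForm_mulVec, RingEquiv.coe_refl, Matrix.map_id, ← hX, matForm, single_one_dotProduct,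
      RingEquiv.coe_refl, Function.id_comp, Matrix.mulVec_single_one] at h1
    exact h1
  refine ⟨_, matForm_symplectic hXdet hXT hXd, fun g hg => ?_⟩
  obtain ⟨π, A, hN⟩ := hP g (hle hg)
  set N := inCoords e P g with hN_def
  set Pπ : Matrix (Fin t × Fin 2) (Fin t × Fin 2) F :=
    (1 : Matrix (Fin t) (Fin t) F).submatrix π.symm id ⊗ₖ (1 : Matrix (Fin 2) (Fin 2) F) with hPπ
  set BD : Matrix (Fin t × Fin 2) (Fin t × Fin 2) F := (Matrix.blockDiagonal A).submatrix Prod.swap Prod.swap with hBD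
  have hprod : ∏ i, (A i).det = 1 := by
    have h1 : (g : Matrix ι ι F).det = 1 := by
      have h0 := hH hg
      rw [specialLinear, MonoidHom.mem_ker] at h0
      exact congrArg Units.val h0
    have h2 : N.det = (g : Matrix ι ι F).det := by
      rw [hN_def, inCoords, Matrix.det_submatrix_equiv_self, Units.val_mul, Units.val_mul, Matrix.det_mul,
        Matrix.det_mul, mul_comm (((P⁻¹ : GL ι F) : Matrix ι ι F)).det, mul_assoc, ← Matrix.det_mul,
        val_inv_mul, Matrix.det_one, mul_one]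
    have h3 : (BD).det = ∏ i, (A i).det := by
      rw [hBD, show (Prod.swap : Fin t × Fin 2 → Fin 2 × Fin t) = (Equiv.prodComm (Fin t) (Fin 2)) from rfl,
        Matrix.det_submatrix_equiv_self, Matrix.det_blockDiagonal]
    have h4 : Pπ.det = 1 := by
      rw [hPπ, Matrix.det_kronecker, Matrix.det_one, one_pow, mul_one, Fintype.card_fin, Matrix.det_permute,
        Matrix.det_one, mul_one, ← Int.cast_pow, ← Units.val_pow_eq_pow_val, Int.units_sq]
      simp
    rw [hN, Matrix.det_mul, h3, h4, one_mul, h1] at h2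
    exact h2
  have hA : ∀ i, (A i).det ≠ 0 := fun i h0 => one_ne_zero (α := F) (by
    rw [← hprod, Finset.prod_eq_zero (Finset.mem_univ i) h0])
  rcases isEmpty_or_nonempty (Fin t) with ht | ⟨⟨i₀⟩⟩
  · exact absurd hD.two_le (by
      rcases Nat.eq_zero_or_pos t with h | h
      · omega
      · exact (ht.false ⟨0, h⟩).elim)
  refine mem_similarity_of (hA i₀) ?_
  rw [RingEquiv.coe_refl, Matrix.map_id]
  have h1 : Nᵀ * J * N = (A i₀).det • J := by
    have hperm : Pπᵀ * J * Pπ = J := by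
      rw [hPπ, hJ, ← Matrix.kroneckerMap_transpose, ← Matrix.mul_kronecker_mul, ← Matrix.mul_kronecker_mul,
        Matrix.mul_one, Matrix.transpose_one, Matrix.one_mul, Matrix.mul_one]
      congr 1
      rw [Matrix.transpose_submatrix, Matrix.transpose_one, Matrix.submatrix_mul_equiv, Matrix.one_mul,
        Matrix.submatrix_id_id]
    rw [hN, Matrix.transpose_mul]
    calc BDᵀ * Pπᵀ * J * (Pπ * BD) = BDᵀ * (Pπᵀ * J * Pπ) * BD := by simp only [Matrix.mul_assoc]
      _ = _ := by
        rw [hperm]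
        ext ⟨i, a⟩ ⟨j, b⟩
        have hc := congrFun (congrFun (jTwo_conj (A j)) a) b
        simp only [Matrix.mul_apply, Matrix.transpose_apply, Matrix.smul_apply, smul_eq_mul] at hc
        simp only [hBD, hJ, Matrix.mul_apply, Matrix.transpose_apply, Fintype.sum_prod_type, Matrix.submatrix_apply,
          Prod.swap, Matrix.blockDiagonal_apply, Matrix.kronecker_apply, Matrix.one_apply, Matrix.smul_apply,
          smul_eq_mul, mul_ite, ite_mul, mul_zero, zero_mul, one_mul, Finset.sum_ite_irrel, Finset.sum_const_zero,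
          Finset.sum_ite_eq, Finset.sum_ite_eq', Finset.mem_univ, if_true]
        by_cases hij : i = j
        · subst hij
          rw [if_pos rfl, hdet (fun i => (A i).det) hprod i₀ i, ← hc]
          simp
        · simp [hij]
  have h2 : ((P⁻¹ * g * P : GL ι F) : Matrix ι ι F) = N.submatrix e e := by
    rw [hN_def, inCoords, Matrix.submatrix_submatrix]; simp
  have h3 : ((P⁻¹ * g * P : GL ι F) : Matrix ι ι F)ᵀ * J.submatrix e e * ((P⁻¹ * g * P : GL ι F) : Matrix ι ι F) =
      (A i₀).det • J.submatrix e e := by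
    rw [h2, Matrix.transpose_submatrix, Matrix.submatrix_mul_equiv, Matrix.submatrix_mul_equiv, h1,
      Matrix.submatrix_smul]
    rfl
  have h4 : Pi' * (g : Matrix ι ι F) = ((P⁻¹ * g * P : GL ι F) : Matrix ι ι F) * Pi' := by
    rw [hPi, ← Units.val_mul, ← Units.val_mul, mul_inv_cancel_right]
  calc (g : Matrix ι ι F)ᵀ * X * (g : Matrix ι ι F)
      = (Pi' * (g : Matrix ι ι F))ᵀ * J.submatrix e e * (Pi' * (g : Matrix ι ι F)) := by
        rw [hX, Matrix.transpose_mul]; simp only [Matrix.mul_assoc]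
    _ = Pi'ᵀ * (((P⁻¹ * g * P : GL ι F) : Matrix ι ι F)ᵀ * J.submatrix e e *
          ((P⁻¹ * g * P : GL ι F) : Matrix ι ι F)) * Pi' := by
        rw [h4, Matrix.transpose_mul]; simp only [Matrix.mul_assoc]
    _ = _ := by rw [h3, hX, Matrix.mul_smul, Matrix.smul_mul]

/-- Over the field with two elements `GL₂ ⊗ GL_k` normalises the field with four elements. -/
theorem field_of_tensor_two (hq : Fintype.card F = 2) {k : ℕ} (hk : 0 < k) (e : ι ≃ Fin 2 × Fin k) (P : GL ι F) :
    ∃ K : Subalgebra F (Matrix ι ι F), IsFieldSubalgebra 2 K ∧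
      tensorProductSubgroup 2 k e P ≤ subalgebraNormalizer K := by
  classical
  haveI : Nonempty (Fin k) := ⟨⟨0, hk⟩⟩
  have htwo : ∀ x : F, x = 0 ∨ x = 1 := fun x => by
    by_contra h
    push Not at h
    have : ({0, 1, x} : Finset F).card = 3 := by
      rw [Finset.card_insert_of_notMem (by simp [h.1.symm]), Finset.card_pair h.2.symm]
    have h2 := Finset.card_le_univ ({0, 1, x} : Finset F)
    omega
  have h11 : (1 : F) + 1 = 0 := by
    rcases htwo (1 + 1) with h | h
    · exact h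
    · exact absurd h (by simp)
  set w : Matrix (Fin 2) (Fin 2) F := !![0, 1; 1, 1] with hw
  have hform : ∀ A : Matrix (Fin 2) (Fin 2) F, A ∈ Subalgebra.centralizer F {w} →
      A 1 0 = A 0 1 ∧ A 1 1 = A 0 0 + A 0 1 := by
    intro A hA
    have h := (Subalgebra.mem_centralizer_iff F).mp hA w (Set.mem_singleton w)
    have h1 := congrFun (congrFun h 0) 0
    have h2 := congrFun (congrFun h 0) 1
    simp [hw, Matrix.mul_apply, Fin.sum_univ_two] at h1 h2
    exact ⟨h1, h2⟩
  have hinv : ∀ A ∈ Subalgebra.centralizer F {w}, A ≠ 0 → A.det ≠ 0 := by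
    intro A hA h0
    obtain ⟨h1, h2⟩ := hform A hA
    rw [Matrix.det_fin_two, h1, h2]
    rcases htwo (A 0 0) with a | a <;> rcases htwo (A 0 1) with b | b
    · exact absurd (Matrix.ext fun i j => by fin_cases i <;> fin_cases j <;> simp [a, b, h1, h2]) h0
    all_goals simp [a, b, h11]
  have hswap : ∀ a : GL (Fin 2) F, (a : Matrix (Fin 2) (Fin 2) F) * w * ((a⁻¹ : GL (Fin 2) F) : Matrix (Fin 2) (Fin 2) F) = w ∨
      (a : Matrix (Fin 2) (Fin 2) F) * w * ((a⁻¹ : GL (Fin 2) F) : Matrix (Fin 2) (Fin 2) F) = w + 1 := by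
    intro a
    set u := (a : Matrix (Fin 2) (Fin 2) F) * w * ((a⁻¹ : GL (Fin 2) F) : Matrix (Fin 2) (Fin 2) F) with hu
    have ht : u.trace = 1 := by
      rw [hu, Matrix.trace_mul_comm, ← Matrix.mul_assoc, val_inv_mul, Matrix.one_mul]
      simp [hw, Matrix.trace_fin_two]
    have hd : u.det = 1 := by
      rw [hu, Matrix.det_mul, Matrix.det_mul, mul_comm (a : Matrix (Fin 2) (Fin 2) F).det, mul_assoc, ← Matrix.det_mul,
        val_mul_inv, Matrix.det_one, mul_one]
      simp only [hw, Matrix.det_fin_two]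
      simp
      exact (eq_neg_of_add_eq_zero_left h11).symm
    rw [Matrix.trace_fin_two] at ht
    rw [Matrix.det_fin_two] at hd
    rcases htwo (u 0 0) with a | a <;> rcases htwo (u 0 1) with b | b <;> rcases htwo (u 1 0) with c | c <;>
      rcases htwo (u 1 1) with d | d <;> simp [a, b, c, d, h11] at ht hd
    · exact Or.inl (Matrix.ext fun i j => by fin_cases i <;> fin_cases j <;> simp [hw, a, b, c, d])
    · exact Or.inr (Matrix.ext fun i j => by fin_cases i <;> fin_cases j <;> simp [hw, a, b, c, d, h11])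
  have hconj : ∀ (a : GL (Fin 2) F) A, A ∈ Subalgebra.centralizer F {w} →
      (a : Matrix (Fin 2) (Fin 2) F) * A * ((a⁻¹ : GL (Fin 2) F) : Matrix (Fin 2) (Fin 2) F) ∈
        Subalgebra.centralizer F {w} := by
    intro a A hA
    rw [Subalgebra.mem_centralizer_iff]
    rintro _ rfl
    have hA' := (Subalgebra.mem_centralizer_iff F).mp hA w (Set.mem_singleton w)
    set u := (a : Matrix (Fin 2) (Fin 2) F) * w * ((a⁻¹ : GL (Fin 2) F) : Matrix (Fin 2) (Fin 2) F) with hu
    set B := (a : Matrix (Fin 2) (Fin 2) F) * A * ((a⁻¹ : GL (Fin 2) F) : Matrix (Fin 2) (Fin 2) F) with hB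
    have h1 : u * B = B * u := by
      simp only [hu, hB, mul_assoc]
      rw [← mul_assoc ((a⁻¹ : GL (Fin 2) F) : Matrix (Fin 2) (Fin 2) F), val_inv_mul, one_mul,
        ← mul_assoc ((a⁻¹ : GL (Fin 2) F) : Matrix (Fin 2) (Fin 2) F), val_inv_mul, one_mul, ← mul_assoc w, hA', mul_assoc]
    rcases hswap a with h | h <;> rw [← hu] at h
    · rwa [h] at h1
    · rw [h, add_mul, mul_add, one_mul, mul_one] at h1
      exact add_right_cancel h1
  have hrank : Module.finrank F (Subalgebra.centralizer F ({w} : Set (Matrix (Fin 2) (Fin 2) F))) = 2 := by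
    let φ : Subalgebra.centralizer F ({w} : Set (Matrix (Fin 2) (Fin 2) F)) →ₗ[F] F × F :=
      { toFun := fun A => ((A : Matrix (Fin 2) (Fin 2) F) 0 0, (A : Matrix (Fin 2) (Fin 2) F) 0 1)
        map_add' := fun A B => rfl
        map_smul' := fun c A => rfl }
    have hb : Function.Bijective φ := by
      refine ⟨fun A B h => Subtype.ext ?_, fun p => ⟨⟨!![p.1, p.2; p.2, p.1 + p.2], ?_⟩, ?_⟩⟩
      · obtain ⟨h1, h2⟩ := hform _ A.2
        obtain ⟨h3, h4⟩ := hform _ B.2
        have ha : (A : Matrix (Fin 2) (Fin 2) F) 0 0 = (B : Matrix (Fin 2) (Fin 2) F) 0 0 := congrArg Prod.fst h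
        have hb : (A : Matrix (Fin 2) (Fin 2) F) 0 1 = (B : Matrix (Fin 2) (Fin 2) F) 0 1 := congrArg Prod.snd h
        ext i j
        fin_cases i <;> fin_cases j <;> simp [ha, hb, h1, h2, h3, h4]
      · rw [Subalgebra.mem_centralizer_iff]
        rintro _ rfl
        ext i j
        fin_cases i <;> fin_cases j <;> simp [hw, Matrix.mul_apply, Fin.sum_univ_two] <;> ring
      · rfl
    rw [(LinearEquiv.ofBijective φ hb).finrank_eq, Module.finrank_prod, Module.finrank_self]
  let Φ : Matrix (Fin 2) (Fin 2) F →ₐ[F] Matrix ι ι F := AlgHom.ofLinearMap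
    { toFun := fun A => (P : Matrix ι ι F) * (A ⊗ₖ (1 : Matrix (Fin k) (Fin k) F)).submatrix e e *
        ((P⁻¹ : GL ι F) : Matrix ι ι F)
      map_add' := fun A B => by
        rw [Matrix.add_kronecker, Matrix.submatrix_add, Pi.add_apply, Pi.add_apply, Matrix.mul_add, Matrix.add_mul]
      map_smul' := fun c A => by
        rw [Matrix.smul_kronecker, Matrix.submatrix_smul, Pi.smul_apply, Pi.smul_apply, Matrix.mul_smul, Matrix.smul_mul]
        rfl }
    (by
      show (P : Matrix ι ι F) * ((1 : Matrix (Fin 2) (Fin 2) F) ⊗ₖ (1 : Matrix (Fin k) (Fin k) F)).submatrix e e * _ = 1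
      rw [Matrix.one_kronecker_one, Matrix.submatrix_one_equiv, Matrix.mul_one, val_mul_inv])
    (fun A B => by
      show _ = ((P : Matrix ι ι F) * (A ⊗ₖ (1 : Matrix (Fin k) (Fin k) F)).submatrix e e * _) *
        ((P : Matrix ι ι F) * (B ⊗ₖ (1 : Matrix (Fin k) (Fin k) F)).submatrix e e * _)
      show (P : Matrix ι ι F) * ((A * B) ⊗ₖ (1 : Matrix (Fin k) (Fin k) F)).submatrix e e * _ = _
      conv_lhs => rw [← Matrix.one_mul (1 : Matrix (Fin k) (Fin k) F), Matrix.mul_kronecker_mul,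
        ← Matrix.submatrix_mul_equiv _ _ e e e]
      simp only [Matrix.mul_assoc]
      rw [← Matrix.mul_assoc ((P⁻¹ : GL ι F) : Matrix ι ι F) (P : Matrix ι ι F), val_inv_mul, Matrix.one_mul])
  have hΦ : ∀ A, Φ A = (P : Matrix ι ι F) * (A ⊗ₖ (1 : Matrix (Fin k) (Fin k) F)).submatrix e e *
      ((P⁻¹ : GL ι F) : Matrix ι ι F) := fun A => rfl
  have hinj : Function.Injective Φ := fun A B h => kron_one_injective (μ := Fin k) (by
    rw [hΦ, hΦ] at h
    have h' := (Units.isUnit P).mul_left_cancel ((Units.isUnit P⁻¹).mul_right_cancel h)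
    have := congrArg (fun Z : Matrix ι ι F => Z.submatrix e.symm e.symm) h'
    simpa [Matrix.submatrix_submatrix] using this)
  refine ⟨(Subalgebra.centralizer F ({w} : Set (Matrix (Fin 2) (Fin 2) F))).map Φ, ⟨?_, ?_, ?_⟩, ?_⟩
  · rintro _ ⟨A, hA, rfl⟩ _ ⟨B, hB, rfl⟩
    rw [AlgHom.coe_toRingHom, ← map_mul, ← map_mul]
    congr 1
    obtain ⟨a1, a2⟩ := hform A hA
    obtain ⟨b1, b2⟩ := hform B hB
    ext i j
    fin_cases i <;> fin_cases j <;> simp [Matrix.mul_apply, Fin.sum_univ_two, a1, a2, b1, b2] <;> ring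
  · rintro _ ⟨A, hA, rfl⟩ h0
    have hd := hinv A hA fun e => h0 (by rw [e]; exact map_zero Φ)
    refine ⟨Φ A⁻¹, ⟨A⁻¹, ?_, rfl⟩, ?_⟩
    · show A⁻¹ ∈ Subalgebra.centralizer F {w}
      rw [Subalgebra.mem_centralizer_iff]
      rintro _ rfl
      have h := (Subalgebra.mem_centralizer_iff F).mp hA w (Set.mem_singleton w)
      have hu : IsUnit A.det := isUnit_iff_ne_zero.mpr hd
      calc w * A⁻¹ = A⁻¹ * (A * w) * A⁻¹ := by rw [← Matrix.mul_assoc A⁻¹, Matrix.nonsing_inv_mul _ hu, Matrix.one_mul]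
        _ = A⁻¹ * w := by rw [← h, Matrix.mul_assoc, Matrix.mul_assoc, Matrix.mul_nonsing_inv _ hu, Matrix.mul_one]
    · rw [AlgHom.coe_toRingHom, ← map_mul, Matrix.mul_nonsing_inv _ (isUnit_iff_ne_zero.mpr hd), map_one]
  · exact (LinearEquiv.finrank_eq (Subalgebra.equivMapOfInjective _ Φ hinj).toLinearEquiv).symm.trans hrank
  · intro g hg
    have key : ∀ g ∈ tensorProductSubgroup 2 k e P, ∀ Z ∈ (Subalgebra.centralizer F ({w} : Set (Matrix (Fin 2) (Fin 2) F))).map Φ,
        (g : Matrix ι ι F) * Z * ((g⁻¹ : GL ι F) : Matrix ι ι F) ∈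
          (Subalgebra.centralizer F ({w} : Set (Matrix (Fin 2) (Fin 2) F))).map Φ := by
      rintro g hg _ ⟨A, hA, rfl⟩
      obtain ⟨K, ⟨a, b, hab⟩, hc⟩ := exists_of_mem_conjReindex (K := kroneckerSubgroup 2 k F) e P g hg
      rw [hab] at hc
      refine ⟨_, hconj a A hA, ?_⟩
      set M := (g : Matrix ι ι F)
      have hM : ((P⁻¹ : GL ι F) : Matrix ι ι F) * M * (P : Matrix ι ι F) =
          ((a : Matrix (Fin 2) (Fin 2) F) ⊗ₖ (b : Matrix (Fin k) (Fin k) F)).submatrix e e := by
        rw [← hc, inCoords, Matrix.submatrix_submatrix, Units.val_mul, Units.val_mul]; simp [M]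
      have hMP : M * (P : Matrix ι ι F) = (P : Matrix ι ι F) *
          ((a : Matrix (Fin 2) (Fin 2) F) ⊗ₖ (b : Matrix (Fin k) (Fin k) F)).submatrix e e := by
        rw [← hM]; simp only [← Matrix.mul_assoc, val_mul_inv, Matrix.one_mul]
      set S := ((a : Matrix (Fin 2) (Fin 2) F) ⊗ₖ (b : Matrix (Fin k) (Fin k) F)).submatrix e e
      have hPM : ((P⁻¹ : GL ι F) : Matrix ι ι F) * M = S * ((P⁻¹ : GL ι F) : Matrix ι ι F) := by
        rw [← hM]; simp only [Matrix.mul_assoc, val_mul_inv, Matrix.mul_one]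
      rw [AlgHom.coe_toRingHom, hΦ, hΦ]
      set X := (A ⊗ₖ (1 : Matrix (Fin k) (Fin k) F)).submatrix e e
      set X' := (((a : Matrix (Fin 2) (Fin 2) F) * A * ((a⁻¹ : GL (Fin 2) F) : Matrix (Fin 2) (Fin 2) F)) ⊗ₖ
        (1 : Matrix (Fin k) (Fin k) F)).submatrix e e
      have hSX : S * X = X' * S := by
        rw [Matrix.submatrix_mul_equiv, Matrix.submatrix_mul_equiv, ← Matrix.mul_kronecker_mul,
          ← Matrix.mul_kronecker_mul, Matrix.mul_one, Matrix.one_mul, mul_assoc, mul_assoc, val_inv_mul, mul_one]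
      calc (P : Matrix ι ι F) * X' * ((P⁻¹ : GL ι F) : Matrix ι ι F)
          = (P : Matrix ι ι F) * X' * (((P⁻¹ : GL ι F) : Matrix ι ι F) * M) * ((g⁻¹ : GL ι F) : Matrix ι ι F) := by
            simp only [Matrix.mul_assoc, M, val_mul_inv, Matrix.mul_one]
        _ = (P : Matrix ι ι F) * (X' * S) * ((P⁻¹ : GL ι F) : Matrix ι ι F) * ((g⁻¹ : GL ι F) : Matrix ι ι F) := by
            rw [hPM]; simp only [Matrix.mul_assoc]
        _ = M * ((P : Matrix ι ι F) * X * ((P⁻¹ : GL ι F) : Matrix ι ι F)) * ((g⁻¹ : GL ι F) : Matrix ι ι F) := by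
            rw [← hSX, ← Matrix.mul_assoc (P : Matrix ι ι F) S X, ← hMP]; simp only [Matrix.mul_assoc]
    intro Z
    refine ⟨key g hg Z, fun hZ => ?_⟩
    have := key g⁻¹ (inv_mem hg) _ hZ
    rw [inv_inv] at this
    simp only [← mul_assoc, val_inv_mul, one_mul] at this
    rwa [mul_assoc, val_inv_mul, mul_one] at this

end Cfsg.Lib.Classical.Aschbacher
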