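import Cfsg.Agent.Classical.Aschbacher.LinearSmall

/-! Monomial groups in degree four over the field with five elements are not maximal. -/

set_option autoImplicit false
set_option linter.unusedSimpArgs false
set_option linter.unusedSectionVars false
set_option linter.style.haveILetI false

namespace Cfsg.Lib.Classical.Aschbacher

open Matrix Cfsg.Geo
open scoped MatrixGroups
open Cfsg.Lib.Classical.PrimeDim (exists_monomial_basis tv tv_val tv_mem tv_inv_val gl_det_ne_zero val_inv_mul
  val_mul_inv)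

universe u

/-- Translations of the four-point group. -/
def xorTable : Fin 4 → Fin 4 → Fin 4 := ![![0, 1, 2, 3], ![1, 0, 3, 2], ![2, 3, 0, 1], ![3, 2, 1, 0]]

/-- Characters of the four-point group. -/
def chiTable : Fin 4 → Fin 4 → ℤ := ![![1, 1, 1, 1], ![1, -1, 1, -1], ![1, 1, -1, -1], ![1, -1, -1, 1]]

/-- A translation times a character. -/
def pauli (a b : Fin 4) : Matrix (Fin 4) (Fin 4) ℤ :=
  Matrix.of fun i j => if i = xorTable a j then chiTable b j else 0

/-- The Hadamard matrix. -/
def hadamard : Matrix (Fin 4) (Fin 4) ℤ := Matrix.of chiTable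

theorem hadamard_pauli : ∀ a b : Fin 4, hadamard * pauli a b = chiTable a b • (pauli b a * hadamard) := by
  decide +kernel

theorem hadamard_det : hadamard.det = 16 := by decide +kernel

theorem xor_classify : ∀ f : Fin 4 → Fin 4, (∀ j, f (f j) = j) → ((∀ j, f j = j) ∨ ∀ j, f j ≠ j) →
    ∀ j, f j = xorTable (f 0) j := by decide +kernel

section

variable {F : Type u} [Field F] [Fintype F]

/-- A monomial matrix. -/
def monoMat (σ : Equiv.Perm (Fin 4)) (u : Fin 4 → F) : Matrix (Fin 4) (Fin 4) F :=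
  Matrix.of fun i j => if i = σ j then u j else 0

theorem monoMat_mul (σ π : Equiv.Perm (Fin 4)) (u d : Fin 4 → F) :
    monoMat σ u * monoMat π d = monoMat (σ * π) fun j => u (π j) * d j := by
  ext i j
  rw [Matrix.mul_apply, Finset.sum_eq_single (π j) (fun k _ hk => by simp [monoMat, hk]) (by simp)]
  simp [monoMat, Equiv.Perm.mul_apply, ite_mul]
  rfl

/-- The group of symplectic type as a set of matrices. -/
def InPauliSet (x : Matrix (Fin 4) (Fin 4) F) : Prop :=
  ∃ (τ : Equiv.Perm (Fin 4)) (u : Fin 4 → F), (∀ j, τ (τ j) = j) ∧ ((∀ j, τ j = j) ∨ ∀ j, τ j ≠ j) ∧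
    (∀ i j, u i ^ 2 = u j ^ 2) ∧ ∏ i, u i = 1 ∧ x = monoMat τ u

/-- The matrices conjugating the set into itself. -/
def pauliStab : Subgroup (GL (Fin 4) F) :=
  let S : Submonoid (GL (Fin 4) F) :=
    { carrier := {g | ∀ x, InPauliSet x →
        InPauliSet ((g : Matrix (Fin 4) (Fin 4) F) * x * ((g⁻¹ : GL (Fin 4) F) : Matrix (Fin 4) (Fin 4) F))}
      one_mem' := fun x hx => by simpa using hx
      mul_mem' := fun {a b} ha hb x hx => by
        have := ha _ (hb x hx)
        simpa [_root_.mul_inv_rev, Units.val_mul, mul_assoc] using this }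
  { S with
    inv_mem' := fun {g} hg => by
      rw [show g⁻¹ = g ^ (orderOf g - 1) from inv_eq_of_mul_eq_one_right (by
        rw [← pow_succ', Nat.sub_add_cancel (orderOf_pos g), pow_orderOf_eq_one])]
      exact S.pow_mem hg _ }

theorem mem_pauliStab {g : GL (Fin 4) F} : g ∈ pauliStab ↔ ∀ x, InPauliSet x →
    InPauliSet ((g : Matrix (Fin 4) (Fin 4) F) * x * ((g⁻¹ : GL (Fin 4) F) : Matrix (Fin 4) (Fin 4) F)) := Iff.rfl

theorem monomial_mem_pauliStab (hq : Fintype.card F = 5) {g : GL (Fin 4) F} (hg : g ∈ specialLinear (Fin 4) F)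
    {π : Equiv.Perm (Fin 4)} {d : Fin 4 → F} (hd : ∀ j, d j ≠ 0)
    (hM : (g : Matrix (Fin 4) (Fin 4) F) = monoMat π d) : g ∈ pauliStab := by
  classical
  rw [mem_pauliStab]
  rintro x ⟨τ, u, hτ, hτ', hu, hprod, rfl⟩
  have h4 : ∀ a : F, a ≠ 0 → (a ^ 2) ^ 2 = 1 := fun a ha => by
    rw [← pow_mul]
    simpa [hq] using FiniteField.pow_card_sub_one_eq_one a ha
  set s : Fin 4 → F := fun j => d j ^ 2 with hs
  have hs1 : ∀ j, s j * s j = 1 := fun j => by rw [← sq]; exact h4 _ (hd j)
  have hdet : (∏ j, d j) ^ 2 = 1 := by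
    have hblock : monoMat π d = (1 : Matrix (Fin 4) (Fin 4) F).submatrix π.symm id * Matrix.diagonal d := by
      ext i j
      simp [monoMat, Matrix.mul_diagonal, Matrix.one_apply, Equiv.symm_apply_eq]
    have h1 : (g : Matrix (Fin 4) (Fin 4) F).det = 1 := by
      rw [specialLinear, MonoidHom.mem_ker] at hg
      exact congrArg Units.val hg
    rw [hM, hblock, Matrix.det_mul, Matrix.det_permute, Matrix.det_one, mul_one, Matrix.det_diagonal] at h1
    rcases Int.units_eq_one_or (Equiv.Perm.sign π.symm) with e | e <;> rw [e] at h1 <;> simp at h1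
    · rw [h1]; ring
    · rw [show ∏ j, d j = -1 by rw [← h1, neg_neg]]; ring
  have hkey : ∀ i j, s (τ i) * s i = s (τ j) * s j := by
    intro i j
    rcases hτ' with h | h
    · rw [h, h, hs1, hs1]
    by_cases hij : j = i
    · rw [hij]
    by_cases hij' : j = τ i
    · rw [hij', hτ, mul_comm]
    have huniv : ({i, τ i, j, τ j} : Finset (Fin 4)) = Finset.univ := by
      apply Finset.eq_univ_of_card
      have h1 : i ∉ ({τ i, j, τ j} : Finset (Fin 4)) := by
        simp only [Finset.mem_insert, Finset.mem_singleton, not_or]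
        exact ⟨(h i).symm, Ne.symm hij, fun e => hij' (by rw [e, hτ])⟩
      have h2 : τ i ∉ ({j, τ j} : Finset (Fin 4)) := by
        simp only [Finset.mem_insert, Finset.mem_singleton, not_or]
        exact ⟨Ne.symm hij', fun e => hij (τ.injective e).symm⟩
      rw [Finset.card_insert_of_notMem h1, Finset.card_insert_of_notMem h2, Finset.card_pair (h j).symm]
      rfl
    have hp : s i * (s (τ i) * (s j * s (τ j))) = 1 := by
      rw [← hdet, ← Finset.prod_pow, ← huniv, Finset.prod_insert, Finset.prod_insert, Finset.prod_pair (h j).symm]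
      · simp only [Finset.mem_insert, Finset.mem_singleton, not_or]
        exact ⟨Ne.symm hij', fun e => hij (τ.injective e).symm⟩
      · simp only [Finset.mem_insert, Finset.mem_singleton, not_or]
        exact ⟨(h i).symm, Ne.symm hij, fun e => hij' (by rw [e, hτ])⟩
    linear_combination (s (τ j) * s j) * hp - (s (τ i) * s i) * (hs1 j) * (s (τ j) * s (τ j)) -
      (s (τ i) * s i) * (hs1 (τ j))
  let τ' : Equiv.Perm (Fin 4) := π * τ * π⁻¹
  let u' : Fin 4 → F := fun i => d (τ (π.symm i)) * u (π.symm i) * (d (π.symm i))⁻¹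
  refine ⟨τ', u', fun j => by simp [τ', hτ], ?_, fun i j => ?_, ?_, ?_⟩
  · rcases hτ' with h | h
    · exact Or.inl fun j => by simp [τ', h]
    · refine Or.inr fun j e => h (π.symm j) ?_
      have := congrArg π.symm e
      simpa [τ'] using this
  · have hsq : ∀ i, u' i ^ 2 = (s (τ (π.symm i)) * s (π.symm i)) * u (π.symm i) ^ 2 := fun i => by
      simp only [u', mul_pow, inv_pow]
      rw [show (d (π.symm i) ^ 2)⁻¹ = s (π.symm i) from inv_eq_of_mul_eq_one_right (hs1 _)]
      ring
    rw [hsq, hsq, hkey (π.symm i) (π.symm j), hu (π.symm i) (π.symm j)]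
  · simp only [u']
    rw [Equiv.prod_comp π.symm (fun k => d (τ k) * u k * (d k)⁻¹), Finset.prod_mul_distrib, Finset.prod_mul_distrib,
      Equiv.prod_comp τ d, hprod, mul_one, Finset.prod_inv_distrib,
      mul_inv_cancel₀ (Finset.prod_ne_zero_iff.mpr fun j _ => hd j)]
  · have e : monoMat π d * monoMat τ u = monoMat τ' u' * monoMat π d := by
      rw [monoMat_mul, monoMat_mul]
      congr 1
      · simp [τ']
      · funext j
        simp only [u', Equiv.symm_apply_apply]
        rw [inv_mul_cancel_right₀ (hd j)]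
    rw [hM, e, ← hM, mul_assoc, val_mul_inv, mul_one]

theorem hadamard_mem_pauliStab (hq : Fintype.card F = 5) {g : GL (Fin 4) F}
    (hg : (g : Matrix (Fin 4) (Fin 4) F) = hadamard.map (Int.cast : ℤ → F)) : g ∈ pauliStab := by
  classical
  rw [mem_pauliStab]
  rintro x ⟨τ, u, hτ, hτ', hu, hprod, rfl⟩
  have hu0 : ∀ j, u j ≠ 0 := fun j e => one_ne_zero (α := F) (by
    rw [← hprod, Finset.prod_eq_zero (Finset.mem_univ j) e])
  have hc4 : u 0 ^ 4 = 1 := by simpa [hq] using FiniteField.pow_card_sub_one_eq_one (u 0) (hu0 0)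
  set c := u 0 with hc
  have hτa : ∀ j, τ j = xorTable (τ 0) j := xor_classify τ hτ hτ'
  set a := τ 0
  have hε : ∀ j, u j = c ∨ u j = -c := fun j => sq_eq_sq_iff_eq_or_eq_neg.mp (hu j 0)
  obtain ⟨b, hb⟩ : ∃ b : Fin 4, ∀ j, u j = c * (chiTable b j : F) := by
    rw [Fin.prod_univ_four] at hprod
    have hne : (-1 : F) ≠ 1 := by
      intro h
      have h2 : (2 : F) = 0 := by linear_combination -h
      exact Cfsg.Lib.Classical.PrimeDim.two_ne_zero_of_odd (F := F) (by rw [hq]; exact ⟨2, rfl⟩) h2
    have hc0 : u 0 = c := rfl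
    have bad : c * c * c * c ≠ -1 := fun e => hne (by rw [← e, ← hc4]; ring)
    rcases hε 1 with e1 | e1 <;> rcases hε 2 with e2 | e2 <;> rcases hε 3 with e3 | e3
    · exact ⟨0, fun j => by fin_cases j <;> simp [chiTable, hc0, e1, e2, e3]⟩
    · exact absurd (show c * c * c * c = -1 by rw [← hc4] at hprod ⊢; rw [e1, e2, e3, hc0] at hprod; linear_combination -hprod) bad
    · exact absurd (show c * c * c * c = -1 by rw [← hc4] at hprod ⊢; rw [e1, e2, e3, hc0] at hprod; linear_combination -hprod) bad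
    · exact ⟨2, fun j => by fin_cases j <;> simp [chiTable, hc0, e1, e2, e3]⟩
    · exact absurd (show c * c * c * c = -1 by rw [← hc4] at hprod ⊢; rw [e1, e2, e3, hc0] at hprod; linear_combination -hprod) bad
    · exact ⟨1, fun j => by fin_cases j <;> simp [chiTable, hc0, e1, e2, e3]⟩
    · exact ⟨3, fun j => by fin_cases j <;> simp [chiTable, hc0, e1, e2, e3]⟩
    · exact absurd (show c * c * c * c = -1 by rw [← hc4] at hprod ⊢; rw [e1, e2, e3, hc0] at hprod; linear_combination -hprod) bad
  have hx : monoMat τ u = c • (pauli a b).map (Int.cast : ℤ → F) := by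
    ext i j
    simp only [monoMat, pauli, Matrix.of_apply, Matrix.smul_apply, Matrix.map_apply, smul_eq_mul, hτa, hb]
    split_ifs <;> simp
  have hH := congrArg (Int.castRingHom F).mapMatrix (hadamard_pauli a b)
  rw [map_mul] at hH
  simp only [RingHom.mapMatrix_apply, Int.coe_castRingHom] at hH
  have hperm : ∀ b : Fin 4, ∀ j, xorTable b (xorTable b j) = j := by decide +kernel
  let τ' : Equiv.Perm (Fin 4) := ⟨xorTable b, xorTable b, hperm b, hperm b⟩
  have hsm : ((chiTable a b • (pauli b a * hadamard)).map (Int.cast : ℤ → F)) =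
      (chiTable a b : F) • ((pauli b a).map (Int.cast : ℤ → F) * hadamard.map (Int.cast : ℤ → F)) := by
    ext i j
    simp only [Matrix.map_apply, Matrix.smul_apply, Matrix.mul_apply, smul_eq_mul, Int.cast_mul, Int.cast_sum]
  rw [hsm] at hH
  have hchi : ∀ a b, chiTable a b ^ 2 = 1 := by decide +kernel
  have hfix : ∀ b : Fin 4, (∀ j, xorTable b j = j) ∨ ∀ j, xorTable b j ≠ j := by decide +kernel
  have hchiprod : ∀ a, ∏ j, chiTable a j = 1 := by decide +kernel
  refine ⟨τ', fun j => c * (chiTable a b : F) * (chiTable a j : F), hperm b, hfix b, fun i j => ?_, ?_, ?_⟩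
  · simp only [mul_pow, ← Int.cast_pow, hchi]
  · have h3 : (chiTable a b : F) ^ 4 = 1 := by
      rw [show 4 = 2 * 2 from rfl, pow_mul, ← Int.cast_pow, hchi, Int.cast_one, one_pow]
    rw [Finset.prod_mul_distrib, ← Int.cast_prod, hchiprod, Int.cast_one, mul_one, Finset.prod_const, Finset.card_univ,
      Fintype.card_fin, mul_pow, hc4, h3, one_mul]
  · have e : monoMat τ' (fun j => c * (chiTable a b : F) * (chiTable a j : F)) =
        (c * (chiTable a b : F)) • (pauli b a).map (Int.cast : ℤ → F) := by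
      ext i j
      simp only [monoMat, pauli, Matrix.of_apply, Matrix.smul_apply, Matrix.map_apply, smul_eq_mul,
        show τ' j = xorTable b j from rfl]
      split_ifs <;> simp
    rw [hx, e, Matrix.mul_smul, Matrix.smul_mul, hg, hH, Matrix.smul_mul, smul_smul, Matrix.mul_assoc, ← hg,
      val_mul_inv, Matrix.mul_one]

theorem not_le_pauliStab (h2 : (2 : F) ≠ 0) : ¬ specialLinear (Fin 4) F ≤ pauliStab := by
  intro hle
  have h01 : (0 : Fin 4) ≠ 1 := by decide
  let u : Fin 4 → F := ![1, -1, 1, -1]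
  obtain ⟨τ, v, -, -, -, hv, he⟩ := mem_pauliStab.mp (hle (tv_mem h01 1)) (monoMat 1 u)
    ⟨1, u, fun j => rfl, Or.inl fun j => rfl, fun i j => by fin_cases i <;> fin_cases j <;> simp [u],
      by simp [u, Fin.prod_univ_four], rfl⟩
  rw [tv_inv_val, tv_val] at he
  have e1 := congrFun (congrFun he 0) 1
  have e2 := congrFun (congrFun he 1) 1
  have hd : monoMat (F := F) 1 u = Matrix.diagonal u := by
    ext i j; simp [monoMat, Matrix.diagonal_apply]
    split_ifs with h <;> simp [h]
  rw [hd] at e1 e2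
  simp [Matrix.transvection, monoMat, Matrix.mul_apply, Fin.sum_univ_four, Matrix.single_apply, Matrix.one_apply,
    Matrix.diagonal_apply, u] at e1 e2
  by_cases h : (1 : Fin 4) = τ 1
  · have h0 : (0 : Fin 4) ≠ τ 1 := by rw [← h]; decide
    rw [if_neg h0] at e1
    exact h2 (by linear_combination -e1)
  · rw [if_neg h] at e2
    exact one_ne_zero (α := F) (by linear_combination -e2)

end

/-- A monomial group over the field with five elements is not maximal in degree four. -/
theorem lines_five_not_maximal {F : Type u} [Field F] [Fintype F] (hq : Fintype.card F = 5)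
    {H : Subgroup (GL (Fin 4) F)} (hmax : IsMaximalIn (specialLinear (Fin 4) F) H)
    {D : Fin 4 → Submodule F (Fin 4 → F)} (hD : IsMDecomposition 1 D)
    (hH : H = decompositionStabilizer D ⊓ specialLinear (Fin 4) F) : False := by
  classical
  obtain ⟨B, hB⟩ := exists_monomial_basis (Fintype.card_fin 4) hD
  have h5 : (5 : F) = 0 := by
    have := Nat.cast_card_eq_zero F
    rw [hq] at this
    exact_mod_cast this
  have h2 : (2 : F) ≠ 0 := Cfsg.Lib.Classical.PrimeDim.two_ne_zero_of_odd (by rw [hq]; exact ⟨2, rfl⟩)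
  have hdet : (hadamard.map (Int.cast : ℤ → F)).det = 1 := by
    have h1 := ((Int.castRingHom F).map_det hadamard).symm
    rw [RingHom.mapMatrix_apply, Int.coe_castRingHom, hadamard_det] at h1
    rw [h1]; push_cast
    linear_combination 3 * h5
  let g₀ : GL (Fin 4) F := Matrix.GeneralLinearGroup.mkOfDetNeZero _ (hdet ▸ one_ne_zero)
  have hg₀ : g₀ ∈ specialLinear (Fin 4) F := by
    rw [specialLinear, MonoidHom.mem_ker]; exact Units.ext hdet
  set M := pauliStab (F := F) |>.map (MulAut.conj B⁻¹).toMonoidHom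
  have hmem : ∀ x, x ∈ M ↔ B * x * B⁻¹ ∈ pauliStab := fun x => by
    rw [Cfsg.Lib.Classical.PrimeDim.mem_map_conj]
    refine ⟨?_, fun hx => ⟨_, hx, by simp [mul_assoc]⟩⟩
    rintro ⟨m, hm, rfl⟩
    simpa [mul_assoc] using hm
  have hHM : H ≤ M ⊓ specialLinear (Fin 4) F := fun x hx => by
    rw [hH] at hx
    obtain ⟨π, d, hd, hM⟩ := hB x hx.1
    exact ⟨(hmem x).mpr (monomial_mem_pauliStab hq (conj_mem_SL hx.2 B) (π := π) hd (Matrix.ext hM)), hx.2⟩
  rcases hmax.2 _ hHM inf_le_right with e | e
  · have hg : B⁻¹ * g₀ * B ∈ H := by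
      rw [← e]
      exact ⟨(hmem _).mpr (by simpa [mul_assoc] using hadamard_mem_pauliStab hq (g := g₀) rfl), by
        simpa using conj_mem_SL hg₀ B⁻¹⟩
    rw [hH] at hg
    obtain ⟨π, d, -, hM⟩ := hB _ hg.1
    have e1 : (B * (B⁻¹ * g₀ * B) * B⁻¹ : GL (Fin 4) F) = g₀ := by group
    rw [e1] at hM
    have hone : ∀ i, (hadamard i 0 : F) = 1 := fun i => by fin_cases i <;> simp [hadamard, chiTable]
    rcases eq_or_ne (π 0) 0 with h | h
    · have h' := hM 1 0
      rw [h, if_neg (by decide)] at h'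
      exact one_ne_zero ((hone 1).symm.trans h')
    · have h' := hM 0 0
      rw [if_neg h.symm] at h'
      exact one_ne_zero ((hone 0).symm.trans h')
  · refine not_le_pauliStab h2 fun x hx => ?_
    have h1 : B⁻¹ * x * B ∈ M ⊓ specialLinear (Fin 4) F := by
      rw [e]; simpa using conj_mem_SL hx B⁻¹
    simpa [mul_assoc] using (hmem _).mp h1.1

end Cfsg.Lib.Classical.Aschbacher
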