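import Cfsg.Agent.Classical.Aschbacher.OrthEvenBase

/-! Subgroup structure of the orthogonal groups of even degree. -/

set_option autoImplicit false
set_option linter.unusedSimpArgs false
set_option linter.unusedSectionVars false
set_option linter.style.haveILetI false

namespace Cfsg.Lib.Classical.Aschbacher

open Matrix Cfsg.Geo
open scoped MatrixGroups Kronecker commutatorElement
open Cfsg.Lib.Classical.PrimeDim (Normalises IsPreCore forall_matrixSet mem_matrixSet irreducible_iff Invariant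
  finrank_pi_card gl_mulVec_ne_zero)
open Cfsg.Lib.Classical (HypQuad.perp HypQuad.mem_perp)

universe u

namespace OrthEven

variable {ι : Type} [Fintype ι] [DecidableEq ι] {F : Type u} [Field F] [Fintype F]
  (Q : QuadraticForm F (ι → F)) (hQ : (QuadraticMap.polarBilin Q).Nondegenerate)

/-- The possible structures of an irreducible group of isometries. -/
inductive EvenCase (H : Subgroup (GL ι F)) : Prop
  | decomp (t k : ℕ) (D : Fin t → Submodule F (ι → F)) (hD : IsOrthogonalMDecomposition (⇑Q) k D)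
      (hle : H ≤ decompositionStabilizer D)
  | pair (k : ℕ) (D : Fin 2 → Submodule F (ι → F)) (hk : 2 * k = Fintype.card ι) (hD : IsMDecomposition k D)
      (hts : ∀ i, IsTotallySingularFor (QuadraticMap.polar (⇑Q)) (D i)) (hle : H ≤ decompositionStabilizer D)
  | field (r : ℕ) (K : Subalgebra F (Matrix ι ι F)) (hr : r.Prime) (hdvd : r ∣ Fintype.card ι)
      (hK : IsFieldSubalgebra r K) (hadj : IsAdjointClosedFor (QuadraticMap.polar (⇑Q)) K)
      (hodd : Odd r → IsSelfAdjointFor (QuadraticMap.polar (⇑Q)) K) (hle : H ≤ subalgebraNormalizer K)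
  | tensor (d k : ℕ) (Φ : Matrix ι (Fin d × Fin k) F) (Ψ : Matrix (Fin d × Fin k) ι F)
      (X₁ : Matrix (Fin d) (Fin d) F) (X₂ : Matrix (Fin k) (Fin k) F) (l : F)
      (hT : TensorForm (RingEquiv.refl F) (QuadraticMap.polar (⇑Q)) H Φ Ψ X₁ X₂) (hl : l * l = 1)
      (h1 : X₁ᵀ = l • X₁) (h2 : X₂ᵀ = (1 / l) • X₂)
  | wreath (t k : ℕ) (Φ : Matrix ι (Fin t → Fin k) F) (Ψ : Matrix (Fin t → Fin k) ι F)
      (X : Matrix (Fin k) (Fin k) F) (c l : F)
      (hW : WreathForm (RingEquiv.refl F) (QuadraticMap.polar (⇑Q)) H Φ Ψ X c) (hl : l * l = 1)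
      (hX : Xᵀ = l • X) (hlt : l ^ t = 1)
  | sympN (N : Subgroup (GL ι F)) (r : ℕ) (hNH : N ≤ H) (hN : SympN r N)
  | subfield (F₁ : Subfield F) (r : ℕ) (B : GL ι F) (c : F) (hr : r.Prime)
      (hcard : Fintype.card F = Nat.card F₁ ^ r) (hc : c ≠ 0)
      (hrat : IsQuadFormRationalStructure (fun v => c * Q v) F₁ B) (hle : H ≤ subfieldSubgroup F₁ B)
  | residual (h : InOrthogonalResidualClass H)

include hQ in
/-- Subgroup structure of the orthogonal groups of even degree. -/
theorem even_structure {H : Subgroup (GL ι F)} (hn : 2 ≤ Fintype.card ι) (hirr : ActsIrreducibly (matrixSet H))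
    (hiso : ∀ g ∈ H, ∀ x, Q ((g : Matrix ι ι F) *ᵥ x) = Q x) : EvenCase Q H := by
  classical
  haveI : Nonempty ι := Fintype.card_pos_iff.mp (by omega)
  by_cases hcls : EvenCase Q H
  · exact hcls
  have hf := orth_refl Q hQ
  have hHf := orth_fixes Q hiso
  have habs : ∀ K : Subgroup (GL ι F), K ≤ H → Normalises H K → ¬ K ≤ scalars ι F →
      ActsAbsolutelyIrreducibly (matrixSet K) := by
    intro K hKH hK hns
    have hKf := hHf.mono hKH
    rcases homog_or_components hirr hK with ⟨d, k, Φ, Ψ, ρ, hh⟩ | ⟨d, k, t, Φ, Ψ, ρ, cls, D, hC⟩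
    · by_cases habs : AbsIrr ρ
      · rcases Nat.lt_or_ge k 2 with hk | hk
        · exact hh.absIrred_of_one habs (by have := hh.pos; omega)
        · rcases Nat.lt_or_ge d 2 with hd | hd
          · refine absurd (hh.scalar_of_one ?_) hns
            have : 0 < d := Fin.pos_iff_nonempty.mpr habs.nonempty
            omega
          · obtain ⟨X₁, X₂, l, hl, h1, h2', hT⟩ := hh.tensorForm habs hK hf hKf hHf hd hk
            rw [RingEquiv.refl_apply] at hl
            rw [RingEquiv.coe_refl, Matrix.map_id] at h1 h2'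
            exact absurd (EvenCase.tensor d k Φ Ψ X₁ X₂ l hT hl h1 h2') hcls
      · obtain ⟨r, L, hr, hL, hadj, -, hle⟩ := hh.form_field hK hf hKf habs
        exact absurd (EvenCase.field r L hr (IsFieldSubalgebra.dvd_card hL) hL (adjClosed_of hf hadj)
          (fun ho => selfAdjoint_of_odd hL hr ho hf hadj) hle) hcls
    · rcases hC.formDecomp hf hHf hKf hirr with ⟨t', k', D', hD, hle⟩ | ⟨k', D', hk', hD, hts, hle⟩
      · exact absurd (EvenCase.decomp t' k' D' (isometric_of_irreducible Q hQ hiso hirr hD hle) hle) hcls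
      · exact absurd (EvenCase.pair k' D' hk' hD hts hle) hcls
  rcases aschbacher_cases hn hirr habs with
    ⟨N, r, hNH, hN, -, -⟩ | ⟨t, k, M, Φ, Ψ, ρ, ht, hFac, hMH, hai, hperm, htrans⟩ | ⟨P, hP⟩
  · exact .sympN N r hNH hN
  · obtain ⟨Φ', Ψ', X, c, l, hll, hX, hlt, hW⟩ :=
      hFac.wreathForm ht hai hf (hHf.mono hMH) hHf hperm htrans
    rw [RingEquiv.refl_apply] at hll hlt
    rw [RingEquiv.coe_refl, Matrix.map_id] at hX
    exact .wreath t k Φ' Ψ' X c l hW hll hX (mul_left_cancel₀ hW.ne_zero (by linear_combination hlt))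
  · have hPiso : ∀ g ∈ P, ∀ x, Q ((g : Matrix ι ι F) *ᵥ x) = Q x := fun g hg => hiso g (hP.le hg)
    have hPf := orth_fixes Q hPiso
    by_cases hreal : ∃ F₀ : Subfield F, F₀ ≠ ⊤ ∧ RealisableOver F₀ (matrixSet P)
    · obtain ⟨F₀, hne, hreal⟩ := hreal
      obtain ⟨F₁, r, B, c, hr, hcard, hle, hc0, hs, -⟩ :=
        hf.subfield_of_realisable (fun _ x hx => hx) hP.normal hPf hP.absIrred hne hreal
      exact .subfield F₁ r B c hr (by rw [← Nat.card_eq_fintype_card]; exact hcard) hc0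
        (subfield_quad Q hQ hirr hn hiso hle hc0 hs) hle
    refine .residual ⟨P, hP.residualCore fun F₀ hne hr => hreal ⟨F₀, hne, hr⟩, ?_⟩
    rintro ⟨σ, f, hu, hfix⟩
    exact hreal (realisable_of_two_forms hP.absIrred hu.ne_refl hu.involutive hf.toIsSesq hPf.fixesForm
      (Cfsg.Lib.Classical.PrimeDim.IsSesq.of_unitary hu) hfix)

include hQ in
/-- Non-degenerate subspaces have even dimension in characteristic two. -/
theorem even_finrank_of_char_two (h2 : (2 : F) = 0) {W : Submodule F (ι → F)}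
    (hW : IsNondegenerateOn (QuadraticMap.polar (⇑Q)) W) : Even (Module.finrank F W) := by
  refine Cfsg.Lib.Classical.even_finrank_of_symplectic (B := LinearMap.BilinForm.restrict (QuadraticMap.polarBilin Q) W)
    (fun v => ?_) ⟨fun v hv => ?_, fun v hv => ?_⟩
  · show QuadraticMap.polar (⇑Q) (v : ι → F) v = 0
    rw [QuadraticMap.polar_self, two_nsmul, ← two_mul, h2, zero_mul]
  · by_contra h0
    obtain ⟨x, hx, hne⟩ := (hW v v.2 (fun e0 => h0 (Subtype.ext e0))).2
    exact hne (hv ⟨x, hx⟩)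
  · by_contra h0
    obtain ⟨x, hx, hne⟩ := (hW v v.2 (fun e0 => h0 (Subtype.ext e0))).1
    exact hne (hv ⟨x, hx⟩)

include hQ in
/-- An invariant subspace gives a singular or non-degenerate one, or an invariant non-singular point. -/
theorem even_reducible {H : Subgroup (GL ι F)} (hiso : ∀ g ∈ H, ∀ x, Q ((g : Matrix ι ι F) *ᵥ x) = Q x)
    {W : Submodule F (ι → F)} (h0 : W ≠ ⊥) (h1 : W ≠ ⊤) (hW : Invariant H W) :
    (∃ U : Submodule F (ι → F), U ≠ ⊥ ∧ IsTotallySingularQuad (⇑Q) U ∧ U ≠ ⊤ ∧ Invariant H U) ∨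
    (∃ U : Submodule F (ι → F), U ≠ ⊥ ∧ U ≠ ⊤ ∧ IsNondegenerateOn (QuadraticMap.polar (⇑Q)) U ∧
      2 * Module.finrank F U ≤ Fintype.card ι ∧ ((2 : F) = 0 → Even (Module.finrank F U)) ∧ Invariant H U) ∨
    ((2 : F) = 0 ∧ ∃ v, Q v ≠ 0 ∧ Invariant H (Submodule.span F {v})) := by
  classical
  have hf := orth_refl Q hQ
  obtain ⟨U, hU0, hU1, hU, hs | ⟨hn, hle⟩⟩ := hf.reducible (orth_fixes Q hiso) h0 h1 hW
  swap
  · have hnd := hf.nondegenerateOn hn
    exact Or.inr (Or.inl ⟨U, hU0, hU1, hnd, hle, fun h2 => even_finrank_of_char_two Q hQ h2 hnd, hU⟩)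
  by_cases h2 : (2 : F) = 0
  swap
  · exact Or.inl ⟨U, hU0, fun w hw => by
      rw [Cfsg.Lib.Classical.PrimeDim.Orth.quad_eq_half Q h2, hs w hw w hw, zero_div], hU1, hU⟩
  haveI : CharP F 2 := CharTwo.of_one_ne_zero_of_two_eq_zero one_ne_zero h2
  have hadd : ∀ u ∈ U, ∀ v ∈ U, Q (u + v) = Q u + Q v := fun u hu v hv => by
    rw [QuadraticMap.map_add (f := Q), hs u hu v hv, add_zero]
  let U₀ : Submodule F (ι → F) :=
    { carrier := {v | v ∈ U ∧ Q v = 0}
      zero_mem' := ⟨U.zero_mem, QuadraticMap.map_zero Q⟩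
      add_mem' := fun {u v} hu hv => ⟨U.add_mem hu.1 hv.1, by
        rw [hadd u hu.1 v hv.1, hu.2, hv.2, add_zero]⟩
      smul_mem' := fun a v hv => ⟨U.smul_mem a hv.1, by rw [QuadraticMap.map_smul, hv.2, smul_zero]⟩ }
  by_cases hU₀ : U₀ = ⊥
  swap
  · exact Or.inl ⟨U₀, hU₀, fun w hw => hw.2, fun e => hU1 (top_le_iff.mp (e ▸ fun w hw => hw.1)),
      fun g hg w hw => ⟨hU g hg w hw.1, by rw [hiso g hg]; exact hw.2⟩⟩
  obtain ⟨v, hv, hv0⟩ := (Submodule.ne_bot_iff U).mp hU0
  have hQv : Q v ≠ 0 := fun e => hv0 ((Submodule.eq_bot_iff _).mp hU₀ v ⟨hv, e⟩)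
  have hspan : U = Submodule.span F {v} := by
    refine le_antisymm (fun w hw => ?_) (by rwa [Submodule.span_le, Set.singleton_subset_iff])
    obtain ⟨a, ha⟩ := FiniteField.isSquare_of_char_two (ringChar.eq F 2) (Q w / Q v)
    have h0 : w + a • v = 0 := (Submodule.eq_bot_iff _).mp hU₀ _ ⟨U.add_mem hw (U.smul_mem a hv), by
      rw [hadd w hw _ (U.smul_mem a hv), QuadraticMap.map_smul, smul_eq_mul, ← ha, div_mul_cancel₀ _ hQv, ← two_mul,
        h2, zero_mul]⟩
    exact Submodule.mem_span_singleton.mpr ⟨-a, by rw [neg_smul, eq_comm, eq_neg_iff_add_eq_zero, h0]⟩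
  exact Or.inr (Or.inr ⟨h2, v, hQv, hspan ▸ hU⟩)

include hQ in
/-- An even number of isometric blocks is of plus type. -/
theorem plus_of_decomp {t k : ℕ} {D : Fin t → Submodule F (ι → F)} (hD : IsOrthogonalMDecomposition (⇑Q) k D)
    (ht : Even t) (htk : Even (t / 2 * k)) : IsPlusTypeOn (⇑Q) ⊤ := by
  classical
  obtain ⟨s, rfl⟩ := ht
  rw [show (s + s) / 2 = s by omega] at htk
  have h2t := hD.decomp.decomp.two_le
  let i₀ : Fin (s + s) := ⟨0, by omega⟩
  let b := Module.finBasisOfFinrankEq F (D i₀) (hD.decomp.decomp.finrank_eq i₀)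
  choose φ hφ using fun i => hD.isometric i₀ i
  let Φ : Matrix ι (Fin (s + s) × Fin k) F := Matrix.of fun l p => ((φ p.1 (b p.2) : D p.1) : ι → F) l
  have hcol : ∀ i a, Φ.col (i, a) = ((φ i (b a) : D i) : ι → F) := fun i a => rfl
  let G : Matrix (Fin k) (Fin k) F := Matrix.of fun a c => QuadraticMap.polar (⇑Q) (b a : ι → F) (b c : ι → F)
  have hG : G.det ≠ 0 := fun h0 => by
    obtain ⟨x, hx0, hx⟩ := Matrix.exists_vecMul_eq_zero_iff.mpr h0
    set v : D i₀ := ∑ a, x a • b a with hv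
    have hv0 : v ≠ 0 := fun e => hx0 (funext fun i => by
      simpa using Fintype.linearIndependent_iff.mp b.linearIndependent x e i)
    obtain ⟨-, w, hw, hne⟩ := hD.decomp.nondegenerate i₀ _ v.2 (fun e => hv0 (Subtype.ext e))
    apply hne
    have hzero : ((QuadraticMap.polarBilin Q) (v : ι → F)).comp (D i₀).subtype = 0 := b.ext fun c => by
      rw [LinearMap.comp_apply, LinearMap.zero_apply, hv, Submodule.coe_subtype, Submodule.coe_sum, map_sum,
        LinearMap.coe_sum, Finset.sum_apply]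
      simp only [Submodule.coe_smul, map_smul, LinearMap.smul_apply, QuadraticMap.polarBilin_apply_apply, smul_eq_mul]
      exact congrFun hx c
    exact LinearMap.congr_fun hzero ⟨w, hw⟩
  refine plus_of_blocks Q hQ ?_ htk Φ hG ?_ fun i j a => by rw [hcol, hcol, hφ, hφ]
  · rw [IsMDecomposition.mul_eq hD.decomp.decomp]
  · ext ⟨i, a⟩ ⟨j, c⟩
    rw [← gram_cols Q hQ, hcol, hcol, Matrix.kronecker_apply, Matrix.one_apply]
    by_cases hij : i = j
    · subst hij
      rw [if_pos rfl, one_mul]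
      show _ = QuadraticMap.polar (⇑Q) _ _
      simp only [QuadraticMap.polar, ← Submodule.coe_add, ← map_add, hφ]
    · rw [if_neg hij, zero_mul]
      exact hD.decomp.orthogonal i j hij _ (φ i (b a)).2 _ (φ j (b c)).2

include hQ in
/-- A third tensor power of a plane is of plus type. -/
theorem plus_of_cube {H : Subgroup (GL ι F)} (hirr : ActsIrreducibly (matrixSet H))
    (hiso : ∀ g ∈ H, ∀ x, Q ((g : Matrix ι ι F) *ᵥ x) = Q x) {Φ : Matrix ι (Fin 3 → Fin 2) F}
    {Ψ : Matrix (Fin 3 → Fin 2) ι F} {X : Matrix (Fin 2) (Fin 2) F} {c : F}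
    (hW : WreathForm (RingEquiv.refl F) (QuadraticMap.polar (⇑Q)) H Φ Ψ X c) (hX : Xᵀ = X) :
    IsPlusTypeOn (⇑Q) ⊤ := by
  classical
  have hf := orth_refl Q hQ
  have hc := hW.coords
  have hcard : Fintype.card ι = 8 := by rw [← hc.card_eq]; simp
  haveI : Nonempty ι := Fintype.card_pos_iff.mp (by omega)
  have hgram : hf.gramIn Φ = c • piKron (d := fun _ => 2) fun _ : Fin 3 => X := hW.gram
  by_cases h2 : (2 : F) = 0
  swap
  · have hd : (piKron (d := fun _ => 2) fun _ : Fin 3 => X).det = (X.det ^ 6) * (X.det ^ 6) := by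
      rw [piKron_three, Matrix.det_submatrix_equiv_self, Matrix.det_kronecker, Matrix.det_kronecker]
      simp only [Fintype.card_fin, Fintype.card_prod]
      ring
    refine plus_of_coords Q hQ h2 (k := 4) (by decide) (by omega) hc.card_eq.symm Φ ?_ ?_ <;>
      rw [hgram, Matrix.det_smul, hd]
    · exact mul_ne_zero (pow_ne_zero _ hW.ne_zero) (mul_ne_zero (pow_ne_zero _ hW.det_ne_zero)
        (pow_ne_zero _ hW.det_ne_zero))
    · exact ⟨c ^ 4 * X.det ^ 6, by
        rw [Fintype.card_fun, Fintype.card_fin, Fintype.card_fin]; ring⟩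
  haveI : CharP F 2 := CharTwo.of_one_ne_zero_of_two_eq_zero one_ne_zero h2
  have hXne : X ≠ 0 := fun e => hW.det_ne_zero (by rw [e, Matrix.det_zero])
  have hsim : ∀ h ∈ H, ∃ (π : Equiv.Perm (Fin 3)) (a : Fin 3 → GL (Fin 2) F),
      Ψ * (h : Matrix ι ι F) * Φ = permMat F π * piKron (d := fun _ => 2) (fun i => (a i : Matrix (Fin 2) (Fin 2) F)) ∧
      ∀ i, ∃ e : F, e ≠ 0 ∧ (a i : Matrix (Fin 2) (Fin 2) F)ᵀ * X * (a i : Matrix (Fin 2) (Fin 2) F) = e • X := by
    intro h hh
    obtain ⟨π, a, ha⟩ := hW.stab h hh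
    refine ⟨π, a, ha, fun i => ?_⟩
    have h1 := hf.gramIn_fix (orth_fixes Q hiso) hh (hc.act_of_conj ha)
    rw [hgram, Matrix.mul_smul, Matrix.smul_mul, wreath_congr] at h1
    obtain ⟨e, he, h3⟩ := piKron_eq_piKron (smul_right_injective _ hW.ne_zero h1) (fun _ => hXne) i
    rw [RingEquiv.coe_refl, Matrix.map_id] at h3
    exact ⟨e, he, h3⟩
  by_cases hdiag : ∃ i, X i i ≠ 0
  · -- an invariant point
    exfalso
    obtain ⟨U, hU0, hU1, hUinv⟩ := exists_singular_subspace (by simp) h2 hX hdiag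
    obtain ⟨w, hw, hw0⟩ := (Submodule.ne_bot_iff U).mp hU0
    have hU : U = Submodule.span F {w} := (Submodule.eq_of_le_of_finrank_le
      (by rwa [Submodule.span_le, Set.singleton_subset_iff]) (by
        rw [finrank_span_singleton hw0]
        have := Submodule.finrank_lt hU1
        rw [finrank_pi_card, Fintype.card_fin] at this
        omega)).symm
    set v₀ := Φ *ᵥ piVec fun _ : Fin 3 => w with hv₀
    have hpi : piVec (fun _ : Fin 3 => w) ≠ 0 := fun e => by
      obtain ⟨j, hj⟩ := Function.ne_iff.mp hw0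
      have := congrFun e fun _ => j
      exact Finset.prod_ne_zero_iff.mpr (fun _ _ => hj) this
    have hv0 : v₀ ≠ 0 := fun e => hpi (by
      have := congrArg (fun v => Ψ *ᵥ v) e
      simpa [hv₀, Matrix.mulVec_mulVec, hc.right] using this)
    have hinv : Invariant H (Submodule.span F {v₀}) := fun g hg x hx => by
      obtain ⟨a', rfl⟩ := Submodule.mem_span_singleton.mp hx
      obtain ⟨π, a, ha, he⟩ := hsim g hg
      have hs : ∀ i, ∃ s : F, (a i : Matrix (Fin 2) (Fin 2) F) *ᵥ w = s • w := fun i => by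
        obtain ⟨e, -, he'⟩ := he i
        obtain ⟨s, hs⟩ := Submodule.mem_span_singleton.mp (hU ▸ hUinv _ e he' w hw)
        exact ⟨s, hs.symm⟩
      choose s hs using hs
      refine Submodule.mem_span_singleton.mpr ⟨a' * ∏ i, s i, ?_⟩
      rw [Matrix.mulVec_smul, ← smul_smul]
      congr 1
      rw [hv₀, Matrix.mulVec_mulVec, hc.act_of_conj ha, ← Matrix.mulVec_mulVec, ← Matrix.mulVec_mulVec,
        piKron_mulVec, permMat_mulVec_piVec, ← Matrix.mulVec_smul]
      congr 1
      funext x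
      simp only [piVec, hs, Pi.smul_apply, smul_eq_mul, Finset.prod_mul_distrib]
      congr 1
      exact (Equiv.prod_comp π.symm s).symm
    rcases (irreducible_iff H).mp hirr _ hinv with e | e
    · exact hv0 (Submodule.span_singleton_eq_bot.mp e)
    · have := finrank_span_singleton (K := F) hv0
      rw [e, finrank_top, finrank_pi_card] at this
      omega
  push Not at hdiag
  set g := X 0 1 with hg
  set J : Matrix (Fin 2) (Fin 2) F := !![0, 1; 1, 0] with hJ
  have hXJ : X = g • J := by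
    have h10 : X 1 0 = g := congrFun (congrFun hX 0) 1
    ext i j; fin_cases i <;> fin_cases j <;> simp [hdiag, h10, hJ, g]
  set Φ' : Matrix ι (Fin 2 × (Fin 2 × Fin 2)) F := Φ.submatrix id cubeEquiv.symm with hΦ'
  set Ψ' : Matrix (Fin 2 × (Fin 2 × Fin 2)) ι F := Ψ.submatrix cubeEquiv.symm id with hΨ'
  have hc' : Coords Φ' Ψ' := ⟨by
      rw [hΦ', hΨ', Matrix.submatrix_mul_equiv, hc.left, Matrix.submatrix_id_id], by
      rw [hΦ', hΨ', ← Matrix.submatrix_mul _ _ cubeEquiv.symm id cubeEquiv.symm Function.bijective_id, hc.right,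
        Matrix.submatrix_one_equiv]⟩
  set Y : Matrix (Fin 2 × Fin 2) (Fin 2 × Fin 2) F := J ⊗ₖ J with hY
  have hJt : Jᵀ = J := by rw [hJ]; ext i j; fin_cases i <;> fin_cases j <;> rfl
  have hYt : Yᵀ = Y := by rw [hY, kron_transpose, hJt]
  have hYd : ∀ v, v ⬝ᵥ (Y *ᵥ v) = 0 := fun v => by
    simp [hY, hJ, dotProduct, Matrix.mulVec, Fintype.sum_prod_type, Fin.sum_univ_two]
    linear_combination (v (0, 0) * v (1, 1) + v (0, 1) * v (1, 0)) * h2
  refine plus_of_half_invariant Q hQ hirr hiso h2 hc' (g := c * g ^ 3) hYt ?_ fun h hh => ?_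
  · have e : (orth_refl Q hQ).gramIn Φ' = ((orth_refl Q hQ).gramIn Φ).submatrix cubeEquiv.symm cubeEquiv.symm := by
      ext x y
      simp [ReflForm.gramIn, hΦ', Matrix.mul_apply]
    rw [e, show (orth_refl Q hQ).gramIn Φ = _ from hgram, hXJ, piKron_three, Matrix.smul_kronecker,
      Matrix.kronecker_smul, Matrix.smul_kronecker, Matrix.kronecker_smul, Matrix.kronecker_smul]
    ext x y
    simp [hY, hJ]
    ring
  · obtain ⟨π, a, ha, he⟩ := hsim h hh
    have hperm : ∀ (π : Equiv.Perm (Fin 3)) (z : (Fin 3 → Fin 2) → F),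
        halfQuad Y (fun p => z (cubeEquiv.symm p ∘ π)) = halfQuad Y (fun p => z (cubeEquiv.symm p)) := by
      intro π
      induction π using Equiv.Perm.swap_induction_on with
      | one => intro z; rfl
      | swap_mul f i j _ ih =>
        intro z
        have h1 := ih fun x => z (x)
        have hstep : ∀ (i j : Fin 3) (z : (Fin 3 → Fin 2) → F),
            halfQuad Y (fun p => z (cubeEquiv.symm p ∘ Equiv.swap i j)) = halfQuad Y (fun p => z (cubeEquiv.symm p)) := by
          intro i j z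
          have hco : ∀ (p : Fin 2 × (Fin 2 × Fin 2)) (σ : Equiv.Perm (Fin 3)), cubeEquiv.symm p ∘ σ =
              ![cubeEquiv.symm p (σ 0), cubeEquiv.symm p (σ 1), cubeEquiv.symm p (σ 2)] := fun p σ => by
            funext l; fin_cases l <;> rfl
          have hsymm : ∀ a b c : Fin 2, cubeEquiv.symm (a, (b, c)) = ![a, b, c] := fun _ _ _ => rfl
          simp only [hco]
          fin_cases i <;> fin_cases j <;>
            simp [halfQuad, hY, hJ, hsymm, dotProduct, Matrix.mulVec, Fintype.sum_prod_type, Fin.sum_univ_two,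
              Equiv.swap_apply_def] <;> ring
        have h2' := hstep i j fun x => z (x ∘ f)
        simpa [Function.comp_assoc] using h2'.trans h1
    have hJsim : ∀ b : Matrix (Fin 2) (Fin 2) F, bᵀ * J * b = b.det • J := fun b => by
      ext i j
      fin_cases i <;> fin_cases j <;>
        simp [hJ, Matrix.mul_apply, Fin.sum_univ_two, Matrix.det_fin_two]
      · linear_combination (b 0 0 * b 1 0) * h2
      · linear_combination (b 0 1 * b 1 0) * h2
      · linear_combination (b 0 1 * b 1 0) * h2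
      · linear_combination (b 0 1 * b 1 1) * h2
    set b : Matrix (Fin 2 × Fin 2) (Fin 2 × Fin 2) F :=
      (a 1 : Matrix (Fin 2) (Fin 2) F) ⊗ₖ (a 2 : Matrix (Fin 2) (Fin 2) F)
    have hb : bᵀ * Y * b = ((a 1 : Matrix (Fin 2) (Fin 2) F).det * (a 2 : Matrix (Fin 2) (Fin 2) F).det) • Y := by
      rw [hY, kron_transpose, ← Matrix.mul_kronecker_mul, ← Matrix.mul_kronecker_mul, hJsim, hJsim,
        Matrix.smul_kronecker, Matrix.kronecker_smul, smul_smul]
    refine ⟨(a 0 : Matrix (Fin 2) (Fin 2) F).det *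
      ((a 1 : Matrix (Fin 2) (Fin 2) F).det * (a 2 : Matrix (Fin 2) (Fin 2) F).det), fun v => ?_⟩
    have e1 : Ψ' *ᵥ ((h : Matrix ι ι F) *ᵥ v) = fun p =>
        (fun x => ((piKron (d := fun _ => 2) fun i => (a i : Matrix (Fin 2) (Fin 2) F)) *ᵥ (Ψ *ᵥ v)) x)
          (cubeEquiv.symm p ∘ π) := by
      funext p
      show (Ψ *ᵥ ((h : Matrix ι ι F) *ᵥ v)) (cubeEquiv.symm p) = _
      rw [show Ψ *ᵥ ((h : Matrix ι ι F) *ᵥ v) =
          (permMat F π * piKron (d := fun _ => 2) fun i => (a i : Matrix (Fin 2) (Fin 2) F)) *ᵥ (Ψ *ᵥ v) by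
        rw [← ha, Matrix.mulVec_mulVec, Matrix.mulVec_mulVec, Matrix.mul_assoc _ Φ Ψ, hc.left, Matrix.mul_one]]
      simp only [Matrix.mulVec, dotProduct, permMat_apply_mul]
    rw [e1, hperm, ← halfQuad_kron h2 hYt hYd hb]
    congr 1
    funext p
    rw [piKron_three, Matrix.submatrix_mulVec_equiv]
    simp [hΨ', b, Matrix.mulVec, dotProduct]

/-- The fixed space and negated space of an involution exchanged by an anticommuting matrix. -/
theorem half_of_anticommute (h2 : (2 : F) ≠ 0) {c z : Matrix ι ι F} (hc : c * c = 1) (hz : IsUnit z)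
    (hcz : c * z = -(z * c)) :
    ∃ W W' : Submodule F (ι → F), (∀ x, x ∈ W ↔ c *ᵥ x = x) ∧ (∀ x, x ∈ W' ↔ c *ᵥ x = -x) ∧ IsCompl W W' ∧
      W.map (Matrix.toLin' z) = W' ∧ 2 * Module.finrank F W = Fintype.card ι := by
  classical
  let W : Submodule F (ι → F) := LinearMap.ker (Matrix.toLin' c - LinearMap.id)
  let W' : Submodule F (ι → F) := LinearMap.ker (Matrix.toLin' c + LinearMap.id)
  have hW : ∀ x, x ∈ W ↔ c *ᵥ x = x := fun x => by simp [W, sub_eq_zero]
  have hW' : ∀ x, x ∈ W' ↔ c *ᵥ x = -x := fun x => by simp [W', eq_neg_iff_add_eq_zero]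
  have hcc : ∀ x, c *ᵥ (c *ᵥ x) = x := fun x => by rw [Matrix.mulVec_mulVec, hc, Matrix.one_mulVec]
  have hcompl : IsCompl W W' := by
    refine ⟨Submodule.disjoint_def.mpr fun x hx hx' => ?_, codisjoint_iff.mpr (Submodule.eq_top_iff'.mpr fun x => ?_)⟩
    · have h1 : x + x = 0 := eq_neg_iff_add_eq_zero.mp (((hW x).mp hx).symm.trans ((hW' x).mp hx'))
      rw [← two_smul F x] at h1
      exact (smul_eq_zero.mp h1).resolve_left h2
    · refine Submodule.mem_sup.mpr ⟨(2 : F)⁻¹ • (x + c *ᵥ x), (hW _).mpr ?_, (2 : F)⁻¹ • (x - c *ᵥ x), (hW' _).mpr ?_, ?_⟩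
      · rw [Matrix.mulVec_smul, Matrix.mulVec_add, hcc, add_comm]
      · rw [Matrix.mulVec_smul, Matrix.mulVec_sub, hcc, ← smul_neg, neg_sub]
      · rw [← smul_add, show x + c *ᵥ x + (x - c *ᵥ x) = (2 : F) • x by rw [two_smul]; abel, smul_smul,
          inv_mul_cancel₀ h2, one_smul]
  obtain ⟨Z, hZ⟩ := hz
  have hinj : Function.Injective (Matrix.toLin' z) := fun x y e => by
    rw [← hZ, Matrix.toLin'_apply, Matrix.toLin'_apply] at e
    rw [← Cfsg.Lib.Classical.PrimeDim.inv_mulVec_mulVec Z x, e, Cfsg.Lib.Classical.PrimeDim.inv_mulVec_mulVec]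
  have hanti : ∀ x, c *ᵥ (z *ᵥ x) = -(z *ᵥ (c *ᵥ x)) := fun x => by
    rw [Matrix.mulVec_mulVec, hcz, Matrix.neg_mulVec, ← Matrix.mulVec_mulVec]
  have h1 : W.map (Matrix.toLin' z) ≤ W' := by
    rintro _ ⟨x, hx, rfl⟩
    rw [Matrix.toLin'_apply, hW', hanti, (hW x).mp hx]
  have h2' : W'.map (Matrix.toLin' z) ≤ W := by
    rintro _ ⟨x, hx, rfl⟩
    rw [Matrix.toLin'_apply, hW, hanti, (hW' x).mp hx, Matrix.mulVec_neg, neg_neg]
  have e1 := (Submodule.equivMapOfInjective _ hinj W).finrank_eq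
  have e2 := (Submodule.equivMapOfInjective _ hinj W').finrank_eq
  have f1 := Submodule.finrank_mono h1
  have f2 := Submodule.finrank_mono h2'
  have hsum := Submodule.finrank_add_eq_of_isCompl hcompl
  rw [finrank_pi_card] at hsum
  exact ⟨W, W', hW, hW', hcompl, Submodule.eq_of_le_of_finrank_eq h1 (by omega), by omega⟩

include hQ in
/-- A group of symplectic type consisting of isometries in degree divisible by four forces plus type. -/
theorem plus_of_sympN {r : ℕ} {N : Subgroup (GL ι F)} (hiso : ∀ g ∈ N, ∀ x, Q ((g : Matrix ι ι F) *ᵥ x) = Q x)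
    (hN : SympN r N) {j : ℕ} (hn : Fintype.card ι = 2 * (2 * j)) (hj : 0 < j) : IsPlusTypeOn (⇑Q) ⊤ := by
  classical
  haveI : Nonempty ι := Fintype.card_pos_iff.mp (by omega)
  have hf := orth_refl Q hQ
  have hfix := orth_fixes Q hiso
  obtain ⟨-, m, hm, -⟩ := hN.card_classes
  obtain rfl : r = 2 := by
    have h1 : 2 ∣ r ^ m := hm ▸ ⟨2 * j, hn⟩
    exact (Nat.prime_dvd_prime_iff_eq Nat.prime_two hN.prime).mp (Nat.prime_two.dvd_of_dvd_pow h1) |>.symm
  have h2 : (2 : F) ≠ 0 := by exact_mod_cast hN.natCast_ne_zero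
  obtain ⟨a, ha, b, hb, hab⟩ := hN.exists_comm_ne
  have hsc : ∀ g ∈ N, ∀ c : F, (g : Matrix ι ι F) = c • (1 : Matrix ι ι F) → c * c = 1 := by
    intro g hg c hc
    obtain ⟨u, hu⟩ := exists_ne (α := ι → F) 0
    obtain ⟨v, hv⟩ := (hf.nondegenerate u hu).2
    have h1 := hfix g hg u v
    rw [hc, Matrix.smul_mulVec, Matrix.smul_mulVec, Matrix.one_mulVec, Matrix.one_mulVec, hf.smul_left, hf.smul_right,
      RingEquiv.refl_apply, ← mul_assoc] at h1
    exact (mul_eq_right₀ hv).mp h1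
  set A := (a : Matrix ι ι F) with hA
  set B := (b : Matrix ι ι F) with hB
  -- anticommuting
  have hanti : A * B = -(B * A) := by
    obtain ⟨ζ, hζ⟩ := (mem_scalars_iff _).mp (hN.comm a ha b hb)
    have hmem : ⁅a, b⁆ ∈ N := by
      rw [commutatorElement_def]
      exact mul_mem (mul_mem (mul_mem ha hb) (inv_mem ha)) (inv_mem hb)
    rcases mul_self_eq_one_iff.mp (hsc _ hmem _ hζ) with e | e
    · exact absurd (Units.ext (by rw [hζ, e, one_smul, Units.val_one])) hab
    · rw [e, neg_smul, one_smul] at hζ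
      have h1 : ((⁅a, b⁆ * (b * a) : GL ι F) : Matrix ι ι F) = A * B := by
        rw [show ⁅a, b⁆ * (b * a) = a * b by rw [commutatorElement_def]; group, Units.val_mul]
      rw [← h1, Units.val_mul, hζ, Units.val_mul, neg_mul, one_mul]
  have hsq : ∀ g ∈ N, (g : Matrix ι ι F) * (g : Matrix ι ι F) = 1 ∨ (g : Matrix ι ι F) * (g : Matrix ι ι F) = -1 := by
    intro g hg
    obtain ⟨c, hc⟩ := (mem_scalars_iff _).mp (hN.pow_mem g hg)
    rcases mul_self_eq_one_iff.mp (hsc (g ^ 2) (pow_mem hg 2) (c : F) hc) with e | e <;> rw [e, pow_two, Units.val_mul] at hc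
    · left; rw [hc, one_smul]
    · right; rw [hc, neg_smul, one_smul]
  have hpm : ∀ (C : Matrix ι ι F) (u v : ι → F), C *ᵥ u = u → C *ᵥ v = -v →
      QuadraticMap.polar (⇑Q) (C *ᵥ u) (C *ᵥ v) = QuadraticMap.polar (⇑Q) u v →
      QuadraticMap.polar (⇑Q) u v = 0 := by
    intro C u v hu hv h
    rw [hu, hv, QuadraticMap.polar_neg_right] at h
    exact (mul_eq_zero.mp (show (2 : F) * QuadraticMap.polar (⇑Q) u v = 0 by linear_combination -h)).resolve_left h2
  -- an involution
  have hcase : ∀ x ∈ N, ∀ y ∈ N, (x : Matrix ι ι F) * (x : Matrix ι ι F) = 1 →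
      (x : Matrix ι ι F) * (y : Matrix ι ι F) = -((y : Matrix ι ι F) * (x : Matrix ι ι F)) →
      IsPlusTypeOn (⇑Q) ⊤ := by
    intro x hx y hy hxx hxy
    obtain ⟨W, W', hW, hW', hcompl, hmap, hdim⟩ := half_of_anticommute h2 hxx y.isUnit hxy
    have horth : ∀ u ∈ W, ∀ v ∈ W', QuadraticMap.polar (⇑Q) u v = 0 := fun u hu v hv =>
      hpm _ u v ((hW u).mp hu) ((hW' v).mp hv) (hfix x hx u v)
    have hnd : IsNondegenerateOn (QuadraticMap.polar (⇑Q)) W := by
      intro u hu hu0
      obtain ⟨v, hv⟩ := (hf.nondegenerate u hu0).2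
      obtain ⟨v₁, h1, v₂, h2', rfl⟩ := Submodule.mem_sup.mp (show v ∈ W ⊔ W' by rw [hcompl.sup_eq_top]; trivial)
      rw [QuadraticMap.polar_add_right, horth u hu v₂ h2', add_zero] at hv
      exact ⟨⟨v₁, h1, by rwa [QuadraticMap.polar_comm]⟩, v₁, h1, hv⟩
    have hperp : HypQuad.perp Q W = W' := by
      refine (Submodule.eq_of_le_of_finrank_eq (fun v hv => (HypQuad.mem_perp Q).mpr fun w hw => horth w hw v hv) ?_).symm
      rw [Cfsg.Lib.Classical.HypQuad.finrank_perp Q hQ, finrank_pi_card]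
      have := Submodule.finrank_add_eq_of_isCompl hcompl
      rw [finrank_pi_card] at this
      omega
    exact Cfsg.Lib.Classical.Refl.half_plus Q hQ hnd (r := j) (by omega) hn
      ⟨y, (Cfsg.Lib.Classical.Refl.mem_iff Q).mpr (hiso y hy)⟩ (by rw [hperp]; exact hmap)
  have hab' : a * b ∈ N := mul_mem ha hb
  rcases hsq a ha with e | ea
  · exact hcase a ha b hb e hanti
  rcases hsq b hb with e | eb
  · exact hcase b hb a ha e (by rw [← hB, ← hA, hanti, neg_neg])
  rcases hsq _ hab' with e | -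
  · refine hcase _ hab' a ha e ?_
    rw [Units.val_mul, ← hA, ← hB, mul_assoc, show B * A = -(A * B) by rw [hanti, neg_neg], mul_neg]
  -- all squares are minus one
  obtain ⟨s, t, hst⟩ := Cfsg.Lib.Classical.Refl.binary_universal h2 (one_ne_zero (α := F)) one_ne_zero (-1)
  rw [mul_one, mul_one] at hst
  set C := s • A + t • B with hC
  have hCC : C * C = 1 := by
    simp only [hC, add_mul, mul_add, Matrix.smul_mul, Matrix.mul_smul, smul_smul]
    rw [← hA] at ea
    rw [← hB] at eb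
    rw [ea, eb, hanti]
    rw [show (-1 : Matrix ι ι F) = (-1 : F) • 1 by rw [neg_smul, one_smul], smul_smul, smul_smul, smul_neg,
      mul_comm s t]
    calc _ = ((s * s + t * t) * -1 : F) • (1 : Matrix ι ι F) := by rw [add_mul, add_smul]; abel
      _ = 1 := by rw [hst]; simp
  have hskew : ∀ g ∈ N, (g : Matrix ι ι F) * (g : Matrix ι ι F) = -1 → ∀ u v,
      QuadraticMap.polar (⇑Q) ((g : Matrix ι ι F) *ᵥ u) v = -QuadraticMap.polar (⇑Q) u ((g : Matrix ι ι F) *ᵥ v) := by
    intro g hg e u v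
    have h1 := hfix g hg u (-((g : Matrix ι ι F) *ᵥ v))
    rw [Matrix.mulVec_neg, Matrix.mulVec_mulVec, e, Matrix.neg_mulVec, Matrix.one_mulVec, neg_neg,
      QuadraticMap.polar_neg_right] at h1
    exact h1
  have hCz : C * (A * B) = -((A * B) * C) := by
    have h1 : A * (A * B) = -((A * B) * A) := by
      conv_rhs => rw [mul_assoc, show B * A = -(A * B) by rw [hanti, neg_neg], mul_neg, neg_neg]
    have h2' : B * (A * B) = -((A * B) * B) := by
      conv_lhs => rw [← mul_assoc, show B * A = -(A * B) by rw [hanti, neg_neg], neg_mul]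
    simp only [hC, add_mul, mul_add, Matrix.smul_mul, Matrix.mul_smul, h1, h2', smul_neg, neg_add]
  obtain ⟨W, W', hW, hW', -, -, hdim⟩ := half_of_anticommute h2 hCC (z := A * B) (by
    rw [hA, hB, ← Units.val_mul]; exact (a * b).isUnit) hCz
  refine plus_of_singular Q (W := W) (fun u hu => ?_) hdim
  rw [Cfsg.Lib.Classical.PrimeDim.Orth.quad_eq_half Q h2]
  have e1 : QuadraticMap.polar (⇑Q) (C *ᵥ u) u = -QuadraticMap.polar (⇑Q) u (C *ᵥ u) := by
    simp only [hC, Matrix.add_mulVec, Matrix.smul_mulVec, QuadraticMap.polar_add_left, QuadraticMap.polar_add_right,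
      QuadraticMap.polar_smul_left, QuadraticMap.polar_smul_right, smul_eq_mul]
    rw [hA, hB, hskew a ha ea, hskew b hb eb]
    ring
  rw [(hW u).mp hu] at e1
  rw [(mul_eq_zero.mp (show (2 : F) * QuadraticMap.polar (⇑Q) u u = 0 by linear_combination e1)).resolve_left h2, zero_div]

end OrthEven

end Cfsg.Lib.Classical.Aschbacher
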