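import Cfsg.Agent.Classical.Aschbacher.OrthEvenMax
import Cfsg.Agent.Classical.Aschbacher.OrthEvenCases
import Cfsg.Agent.Classical.Orth.FamilyOvergroups

/-! The reducible maximal subgroups of `Ω` in even degree and the minus type in degree eight. -/

set_option autoImplicit false
set_option linter.unusedSimpArgs false
set_option linter.unusedSectionVars false
set_option linter.style.haveILetI false

namespace Cfsg.Lib.Classical.Aschbacher

open Matrix Cfsg.Geo
open scoped MatrixGroups
open Cfsg.Lib.Classical.PrimeDim (Invariant finrank_pi_card irreducible_iff eq_inf_of_maximal)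
open Cfsg.Lib.Classical (HypQuad.perp HypQuad.mem_perp)
open Cfsg.Lib.Classical.PrimeDim.Orth (omega_preserves' perp_invariant nondeg_top)

universe u

namespace OrthEven

variable {ι : Type} [Fintype ι] [DecidableEq ι] {F : Type u} [Field F] [Fintype F] (Q : QuadraticForm F (ι → F))
  (hQ : (QuadraticMap.polarBilin Q).Nondegenerate)

include hQ in
/-- A group stabilising a plus plane over at most three elements stabilises a non-singular point. -/
theorem small_plane_point (h3 : Fintype.card F ≤ 3) {W : Submodule F (ι → F)}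
    (hWd : Module.finrank F W = 2) (hW : IsNondegenerateOn (QuadraticMap.polar (⇑Q)) W)
    (hplus : IsPlusTypeOn (⇑Q) W) {H : Subgroup (GL ι F)} (hH : H ≤ omegaGL (⇑Q)) (hinv : Invariant H W) :
    ∃ e, Q e = 1 ∧ Invariant H (Submodule.span F {e}) := by
  obtain ⟨U, hUW, hUs, hUd⟩ := hplus
  have hU1 : Module.finrank F U = 1 := by omega
  obtain ⟨u, huU, hu0⟩ := (Submodule.ne_bot_iff U).mp (fun e => by rw [e, finrank_bot] at hU1; exact zero_ne_one hU1)
  have hu : Q u = 0 := hUs u huU
  obtain ⟨-, y, hy, huy⟩ := hW u (hUW huU) hu0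
  set y' := (QuadraticMap.polar (⇑Q) u y)⁻¹ • y
  have huy' : QuadraticMap.polar (⇑Q) u y' = 1 := by
    rw [QuadraticMap.polar_smul_right, smul_eq_mul, inv_mul_cancel₀ huy]
  set v := y' - Q y' • u with hv_def
  have hvW : v ∈ W := sub_mem (W.smul_mem _ hy) (W.smul_mem _ (hUW huU))
  have huv : QuadraticMap.polar (⇑Q) u v = 1 := by
    rw [hv_def, QuadraticMap.polar_sub_right, huy', QuadraticMap.polar_smul_right, QuadraticMap.polar_self, hu]
    simp
  have hv : Q v = 0 := by
    rw [hv_def, sub_eq_add_neg, ← neg_smul, Cfsg.Lib.Classical.WittQuad.val_smul_add, hu,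
      QuadraticMap.polar_comm (⇑Q) y' u, huy']
    ring
  have hspan : ∀ w ∈ W, ∃ a b : F, w = a • u + b • v := by
    intro w hw
    have hli : LinearIndependent F ![u, v] := LinearIndependent.pair_iff.mpr fun a b hab => by
      have h1 := congrArg (fun x => QuadraticMap.polar (⇑Q) u x) hab
      simp only [QuadraticMap.polar_add_right, QuadraticMap.polar_smul_right, QuadraticMap.polar_self, hu, huv,
        smul_zero, zero_add, smul_eq_mul, mul_one, QuadraticMap.polar_zero_right] at h1
      have hb0 : b = 0 := by linear_combination h1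
      subst hb0
      rw [zero_smul, add_zero] at hab
      exact ⟨(smul_eq_zero.mp hab).resolve_right hu0, rfl⟩
    have hle : Submodule.span F (Set.range ![u, v]) ≤ W := Submodule.span_le.mpr (by
      rintro _ ⟨i, rfl⟩
      fin_cases i
      exacts [hUW huU, hvW])
    have e := Submodule.eq_of_le_of_finrank_le hle (by rw [finrank_span_eq_card hli, Fintype.card_fin, hWd])
    rw [← e, Submodule.mem_span_range_iff_exists_fun] at hw
    obtain ⟨c, hc⟩ := hw
    refine ⟨c 0, c 1, ?_⟩
    rw [← hc]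
    simp [Fin.sum_univ_two]
  refine ⟨u + v, by rw [QuadraticMap.map_add (f := Q), hu, hv, huv]; ring, fun g hg x hx => ?_⟩
  obtain ⟨t, rfl⟩ := Submodule.mem_span_singleton.mp hx
  obtain ⟨a, b, hab⟩ := hspan _ (hinv g hg _ (W.add_mem (hUW huU) hvW))
  have hq : a * b = 1 := by
    have e := omega_preserves' Q (hH hg) (u + v)
    rw [hab, QuadraticMap.map_add (f := Q), QuadraticMap.map_add (f := Q), QuadraticMap.map_smul,
      QuadraticMap.map_smul, QuadraticMap.polar_smul_left, QuadraticMap.polar_smul_right, hu, hv, huv] at e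
    simpa using e
  have hb : b = a := by
    have ha : a ≠ 0 := left_ne_zero_of_mul_eq_one hq
    have ha2 : a * a = 1 := by
      have := FiniteField.pow_card_sub_one_eq_one a ha
      have h1 : 1 < Fintype.card F := Fintype.one_lt_card
      obtain e | e : Fintype.card F = 2 ∨ Fintype.card F = 3 := by omega
      · rw [e, pow_one] at this
        rw [this, one_mul]
      · rw [e] at this
        rwa [← pow_two]
    exact mul_left_cancel₀ ha (hq.trans ha2.symm)
  rw [Matrix.mulVec_smul, hab, hb, ← smul_add, smul_smul]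
  exact Submodule.mem_span_singleton.mpr ⟨t * a, rfl⟩

/-- The reducible types of maximal subgroups. -/
inductive RedType (H : Subgroup (GL ι F)) : Prop
  | singular (W : Submodule F (ι → F)) (h0 : W ≠ ⊥) (hs : IsTotallySingularQuad (⇑Q) W)
      (hH : H = subspaceStabilizer W ⊓ omegaGL (⇑Q))
  | oddNondeg (W : Submodule F (ι → F)) (ho : Odd (Fintype.card F)) (h0 : W ≠ ⊥) (h1 : W ≠ ⊤)
      (hd : Odd (Module.finrank F W)) (hle : 2 * Module.finrank F W ≤ Fintype.card ι)
      (hn : IsNondegenerateOn (QuadraticMap.polar (⇑Q)) W) (hH : H = subspaceStabilizer W ⊓ omegaGL (⇑Q))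
  | evenNondeg (W : Submodule F (ι → F)) (h2 : 2 ≤ Module.finrank F W) (hd : Even (Module.finrank F W))
      (hle : 2 * Module.finrank F W ≤ Fintype.card ι) (hn : IsNondegenerateOn (QuadraticMap.polar (⇑Q)) W)
      (hq : Module.finrank F W = 2 → IsPlusTypeOn (⇑Q) W → 4 ≤ Fintype.card F)
      (hH : H = subspaceStabilizer W ⊓ omegaGL (⇑Q))
  | point (v : ι → F) (ho : ¬ Odd (Fintype.card F)) (hv : Q v ≠ 0)
      (hH : H = subspaceStabilizer (Submodule.span F {v}) ⊓ omegaGL (⇑Q))

include hQ in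
/-- A maximal subgroup of `Ω` with an invariant subspace. -/
theorem red_types (hn : 7 ≤ Fintype.card ι) {H : Subgroup (GL ι F)} (hH : IsMaximalIn (omegaGL (⇑Q)) H)
    {W : Submodule F (ι → F)} (h0 : W ≠ ⊥) (h1 : W ≠ ⊤) (hinv : Invariant H W) : RedType Q H := by
  classical
  haveI : Nonempty ι := Fintype.card_pos_iff.mp (by omega)
  have hiso : ∀ g ∈ H, ∀ x, Q ((g : Matrix ι ι F) *ᵥ x) = Q x := fun g hg => omega_preserves' Q (hH.1.le hg)
  have hmem : ∀ {U : Submodule F (ι → F)}, U ≠ ⊥ → U ≠ ⊤ → Invariant H U →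
      H = subspaceStabilizer U ⊓ omegaGL (⇑Q) := fun hU0 hU1 hU =>
    eq_inf_of_maximal hH hU.le_stabilizer (omega_not_le_subspace' Q hQ hn hU0 hU1)
  have hpt : ∀ v : ι → F, Q v ≠ 0 → Submodule.span F {v} ≠ ⊥ ∧ Submodule.span F {v} ≠ ⊤ := fun v hv => by
    have hv0 : v ≠ 0 := fun e => hv (by rw [e, QuadraticMap.map_zero])
    refine ⟨fun e => hv0 (Submodule.span_singleton_eq_bot.mp e), fun e => ?_⟩
    have := finrank_span_singleton (K := F) hv0
    rw [e, finrank_top, finrank_pi_card] at this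
    omega
  have hodd : Odd (Fintype.card F) ↔ (2 : F) ≠ 0 := odd_card_iff
  rcases even_reducible Q hQ hiso h0 h1 hinv with
    ⟨U, hU0, hs, hU1, hU⟩ | ⟨U, hU0, hU1, hnd, hle, hev, hU⟩ | ⟨h2, v, hv, hU⟩
  · exact .singular U hU0 hs (hmem hU0 hU1 hU)
  swap
  · exact .point v (fun ho => hodd.mp ho h2) hv (hmem (hpt v hv).1 (hpt v hv).2 hU)
  rcases Nat.even_or_odd (Module.finrank F U) with he | ho
  swap
  · have hoq : Odd (Fintype.card F) := hodd.mpr fun h2 => (Nat.not_even_iff_odd.mpr ho) (hev h2)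
    exact .oddNondeg U hoq hU0 hU1 ho hle hnd (hmem hU0 hU1 hU)
  have hpos : 0 < Module.finrank F U := Nat.pos_of_ne_zero fun e => hU0 (Submodule.finrank_eq_zero.mp e)
  have hU2 : 2 ≤ Module.finrank F U := by obtain ⟨j, hj⟩ := he; omega
  by_cases hex : Module.finrank F U = 2 ∧ IsPlusTypeOn (⇑Q) U ∧ Fintype.card F ≤ 3
  swap
  · refine .evenNondeg U hU2 he hle hnd (fun hd hp => ?_) (hmem hU0 hU1 hU)
    by_contra hq
    exact hex ⟨hd, hp, by omega⟩
  obtain ⟨hd, hp, hq⟩ := hex
  obtain ⟨e, he1, heinv⟩ := small_plane_point Q hQ hq hd hnd hp hH.1.le hU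
  have hQe : Q e ≠ 0 := by rw [he1]; exact one_ne_zero
  obtain ⟨hb, ht⟩ := hpt e hQe
  by_cases h2 : (2 : F) = 0
  · exact .point e (fun ho => hodd.mp ho h2) hQe (hmem hb ht heinv)
  have he0 : e ≠ 0 := fun h => hQe (by rw [h, QuadraticMap.map_zero])
  have hend : IsNondegenerateOn (QuadraticMap.polar (⇑Q)) (Submodule.span F {e}) := by
    intro w hw hw0
    obtain ⟨c, rfl⟩ := Submodule.mem_span_singleton.mp hw
    have hee : QuadraticMap.polar (⇑Q) (c • e) e ≠ 0 := by
      rw [QuadraticMap.polar_smul_left, QuadraticMap.polar_self, he1]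
      simpa [h2] using fun h : c = 0 => hw0 (by rw [h, zero_smul])
    exact ⟨⟨e, Submodule.mem_span_singleton_self e, by rwa [QuadraticMap.polar_comm]⟩,
      e, Submodule.mem_span_singleton_self e, hee⟩
  have h1e : Module.finrank F (Submodule.span F {e}) = 1 := finrank_span_singleton he0
  exact .oddNondeg _ (hodd.mpr h2) hb ht (by rw [h1e]; decide) (by rw [h1e]; omega) hend (hmem hb ht heinv)

theorem ne_top_of_prime_index {F₀ : Subfield F} {r : ℕ} (hr : r.Prime)
    (hc : Fintype.card F = Nat.card F₀ ^ r) : F₀ ≠ ⊤ := fun h => by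
  rw [h, Nat.card_congr Subfield.topEquiv.toEquiv, Nat.card_eq_fintype_card] at hc
  have h1 : Fintype.card F < Fintype.card F ^ r := lt_self_pow₀ Fintype.one_lt_card hr.one_lt
  omega

include hQ in
/-- The maximal subgroups of `Ω` of minus type in degree eight. -/
theorem omega_eight_minus (h8 : Fintype.card ι = 8) (hminus : ¬ IsPlusTypeOn (⇑Q) ⊤)
    {H : Subgroup (GL ι F)} (hH : IsMaximalIn (omegaGL (⇑Q)) H) :
    RedType Q H ∨
    (∃ K : Subalgebra F (Matrix ι ι F), IsFieldSubalgebra 2 K ∧ H = subalgebraNormalizer K ⊓ omegaGL (⇑Q)) ∨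
    (∃ (F₀ : Subfield F) (r : ℕ) (P : GL ι F) (ζ : F), r.Prime ∧ Odd r ∧ Fintype.card F = Nat.card F₀ ^ r ∧ ζ ≠ 0 ∧
      IsQuadFormRationalStructure (fun v => ζ * Q v) F₀ P ∧ H = subfieldSubgroup F₀ P ⊓ omegaGL (⇑Q)) ∨
    InOrthogonalResidualClass H := by
  classical
  haveI : Nonempty ι := Fintype.card_pos_iff.mp (by omega)
  have hiso : ∀ g ∈ H, ∀ x, Q ((g : Matrix ι ι F) *ᵥ x) = Q x := fun g hg => omega_preserves' Q (hH.1.le hg)
  by_cases hW : ∃ W : Submodule F (ι → F), W ≠ ⊥ ∧ W ≠ ⊤ ∧ Invariant H W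
  · obtain ⟨W, h0, h1, hinv⟩ := hW
    exact Or.inl (red_types Q hQ (by omega) hH h0 h1 hinv)
  push Not at hW
  have hirr : ActsIrreducibly (matrixSet H) := (irreducible_iff H).mpr fun W hinv =>
    or_iff_not_imp_left.mpr fun h0 => by_contra fun h1 => hW W h0 h1 hinv
  cases even_structure Q hQ (by omega) hirr hiso with
  | decomp t k D hD hle =>
    exfalso
    have hmul := IsMDecomposition.mul_eq hD.decomp.decomp
    rw [h8] at hmul
    have h2t := hD.decomp.decomp.two_le
    have ht8 : t ≤ 8 := Nat.le_of_dvd (by norm_num) ⟨k, hmul.symm⟩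
    obtain ⟨rfl, rfl⟩ | ⟨rfl, rfl⟩ | ⟨rfl, rfl⟩ : (t = 2 ∧ k = 4) ∨ (t = 4 ∧ k = 2) ∨ (t = 8 ∧ k = 1) := by
      interval_cases t <;> omega
    all_goals exact hminus (plus_of_decomp Q hQ hD (by decide) (by decide))
  | pair k D hk hD hts hle => exact absurd (plus_of_pair Q hQ hirr hiso hk hD hts hle) hminus
  | field r K hr hdvd hK hadj hodd hle =>
    rw [h8] at hdvd
    obtain rfl : r = 2 := (Nat.prime_dvd_prime_iff_eq hr Nat.prime_two).mp (hr.dvd_of_dvd_pow (m := 2) (n := 3) hdvd)
    exact Or.inr (Or.inl ⟨K, hK, eq_inf_of_maximal hH hle (omega_not_le_field' Q hQ (by omega) one_lt_two hK)⟩)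
  | tensor d k Φ Ψ X₁ X₂ l hT hl h1 h2' =>
    exfalso
    have hcard : d * k = 8 := by
      rw [← h8, ← hT.coords.card_eq, Fintype.card_prod, Fintype.card_fin, Fintype.card_fin]
    have := hT.two_left
    have := hT.two_right
    have hd : d ≤ 4 := by nlinarith
    obtain ⟨rfl, rfl⟩ | ⟨rfl, rfl⟩ : (d = 2 ∧ k = 4) ∨ (d = 4 ∧ k = 2) := by interval_cases d <;> omega
    · exact hminus (plus_of_tensor Q hQ hirr hiso (by decide) hT hl h1 h2')
    · refine hminus (plus_of_tensor Q hQ hirr hiso (by decide) hT.swap (l := 1 / l) ?_ h2' ?_)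
      · rw [one_div, ← mul_inv, hl, inv_one]
      · rwa [one_div_one_div]
  | wreath t k Φ Ψ X c l hW' hl hX hlt =>
    exfalso
    have hcard : k ^ t = 8 := by
      rw [← h8, ← hW'.coords.card_eq, Fintype.card_fun, Fintype.card_fin, Fintype.card_fin]
    have hk := hW'.two_le_k
    have ht := hW'.two_le_t
    obtain rfl : t = 3 := by
      have h3 : t ≤ 3 := by
        by_contra hc
        have := (Nat.pow_le_pow_left hk t).trans hcard.le
        have := Nat.pow_le_pow_right two_pos (show 4 ≤ t by omega)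
        omega
      interval_cases t
      · have : k ≤ 2 := by nlinarith
        interval_cases k; omega
      · rfl
    obtain rfl : k = 2 := Nat.pow_left_injective (by norm_num : (3 : ℕ) ≠ 0) (hcard.trans (by norm_num))
    have hl1 : l = 1 := by rw [pow_succ, pow_two, hl, one_mul] at hlt; exact hlt
    rw [hl1, one_smul] at hX
    exact hminus (plus_of_cube Q hQ hirr hiso hW' hX)
  | sympN N r hNH hN =>
    exact absurd (plus_of_sympN Q hQ (fun g hg => hiso g (hNH hg)) hN (j := 2) (by omega) two_pos) hminus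
  | subfield F₁ r B c hr hcard hc hrat hle =>
    rcases hr.eq_two_or_odd' with rfl | ho
    · exact absurd (plus_of_index_two Q hQ (k := 4) (by omega) F₁ hcard hc B hrat) hminus
    · exact Or.inr (Or.inr (Or.inl ⟨F₁, r, B, c, hr, ho, hcard, hc, hrat, eq_inf_of_maximal hH hle
        (omega_not_le_subfieldSubgroup' Q hQ (by omega) (ne_top_of_prime_index hr hcard) B)⟩))
  | residual h => exact Or.inr (Or.inr (Or.inr h))

end OrthEven

end Cfsg.Lib.Classical.Aschbacher
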