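import Cfsg.Agent.Classical.Aschbacher.FormTensor

/-! Similitudes of the tensor square of a plane. -/

set_option autoImplicit false
set_option linter.unusedSimpArgs false
set_option linter.unusedSectionVars false
set_option linter.style.haveILetI false

namespace Cfsg.Lib.Classical.Aschbacher

open Matrix Cfsg.Geo
open scoped MatrixGroups Kronecker
open Cfsg.Lib.Classical.PrimeDim (gl_det_ne_zero IsSesq)

universe u

variable {F : Type u} [Field F]

/-- The pairing on the tensor square of a plane. -/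
def quadFour (F : Type u) [Field F] : Matrix (Fin 2 × Fin 2) (Fin 2 × Fin 2) F :=
  !![0, 1; -1, 0] ⊗ₖ !![0, 1; -1, 0]

/-- The exchange of the two factors. -/
def swapFour (F : Type u) [Field F] : Matrix (Fin 2 × Fin 2) (Fin 2 × Fin 2) F :=
  Matrix.of fun p q => if p = (q.2, q.1) then 1 else 0

theorem swapFour_sq : swapFour F * swapFour F = 1 := by
  ext ⟨a, b⟩ ⟨c, d⟩
  fin_cases a <;> fin_cases b <;> fin_cases c <;> fin_cases d <;>
    simp [swapFour, Matrix.mul_apply, Fintype.sum_prod_type, Fin.sum_univ_two, Matrix.one_apply]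

theorem swapFour_congr : (swapFour F)ᵀ * quadFour F * swapFour F = quadFour F := by
  ext ⟨a, b⟩ ⟨c, d⟩
  fin_cases a <;> fin_cases b <;> fin_cases c <;> fin_cases d <;>
    simp [swapFour, quadFour, Matrix.mul_apply, Fintype.sum_prod_type, Fin.sum_univ_two]

theorem congr_apply_four (g : Matrix (Fin 2 × Fin 2) (Fin 2 × Fin 2) F) (p q : Fin 2 × Fin 2) :
    (gᵀ * quadFour F * g) p q =
      g (0, 0) p * g (1, 1) q + g (1, 1) p * g (0, 0) q - g (0, 1) p * g (1, 0) q - g (1, 0) p * g (0, 1) q := by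
  simp [quadFour, Matrix.mul_apply, Fintype.sum_prod_type, Fin.sum_univ_two]
  ring

/-- A similitude fixing the first basis vector, in the first position. -/
theorem similitude_four_fixed (h2 : (2 : F) ≠ 0) {g : Matrix (Fin 2 × Fin 2) (Fin 2 × Fin 2) F} {s : F} (hs : s ≠ 0)
    (hg : gᵀ * quadFour F * g = s • quadFour F) (h00 : g (0, 0) (0, 0) = 1) (h01 : g (0, 1) (0, 0) = 0)
    (h10 : g (1, 0) (0, 0) = 0) (h11 : g (1, 1) (0, 0) = 0) (hv : g (1, 0) (0, 1) = 0) :
    ∃ a b : Matrix (Fin 2) (Fin 2) F, a.det ≠ 0 ∧ b.det ≠ 0 ∧ g = a ⊗ₖ b := by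
  have key : ∀ p q, g (0, 0) p * g (1, 1) q + g (1, 1) p * g (0, 0) q - g (0, 1) p * g (1, 0) q -
      g (1, 0) p * g (0, 1) q = s * quadFour F p q := fun p q => by
    rw [← congr_apply_four, hg]; rfl
  have e1 := key (0, 0) (0, 1)
  have e2 := key (0, 0) (1, 0)
  have e3 := key (0, 1) (1, 0)
  have e4 := key (1, 0) (1, 0)
  have e5 := key (0, 0) (1, 1)
  have e6 := key (0, 1) (1, 1)
  have e7 := key (1, 0) (1, 1)
  have e8 := key (1, 1) (1, 1)
  simp [quadFour, h00, h01, h10, h11] at e1 e2 e5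
  simp [quadFour, e1, e2, hv] at e3 e4 e6 e7 e8
  -- the images of the middle vectors
  have hb : g (0, 1) (0, 1) ≠ 0 := fun e => hs (by rw [e, zero_mul, eq_comm] at e3; exact e3)
  have hw : g (1, 0) (1, 0) ≠ 0 := fun e => hs (by rw [e, mul_zero, eq_comm] at e3; exact e3)
  have hw1 : g (0, 1) (1, 0) = 0 := by
    have : (2 : F) * (g (1, 0) (1, 0) * g (0, 1) (1, 0)) = 0 := by linear_combination -e4
    exact (mul_eq_zero.mp ((mul_eq_zero.mp this).resolve_left h2)).resolve_left hw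
  rw [hw1] at e7
  have e10 : g (1, 0) (1, 1) = g (0, 0) (0, 1) * s / g (0, 1) (0, 1) := by
    rw [eq_div_iff hb]; linear_combination -e6 + g (0, 0) (0, 1) * e5
  have e01 : g (0, 1) (1, 1) = g (0, 0) (1, 0) * s / g (1, 0) (1, 0) := by
    rw [eq_div_iff hw]; linear_combination -e7 + g (0, 0) (1, 0) * e5
  have hz : g (0, 0) (1, 1) = g (0, 0) (0, 1) * g (0, 0) (1, 0) := by
    have : (2 : F) * (g (0, 0) (1, 1) * s - g (0, 1) (1, 1) * g (1, 0) (1, 1)) = 0 := by
      linear_combination e8 - (2 * g (0, 0) (1, 1)) * e5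
    have h3 := (mul_eq_zero.mp this).resolve_left h2
    rw [e10, e01] at h3
    field_simp at h3
    have hbw : g (0, 1) (0, 1) * g (1, 0) (1, 0) = s := by linear_combination e3
    refine mul_left_cancel₀ (mul_ne_zero hs hs) ?_
    linear_combination h3 - s * g (0, 0) (1, 1) * hbw
  refine ⟨!![1, g (0, 0) (1, 0); 0, g (1, 0) (1, 0)], !![1, g (0, 0) (0, 1); 0, g (0, 1) (0, 1)],
    by simpa [Matrix.det_fin_two] using hw, by simpa [Matrix.det_fin_two] using hb, ?_⟩
  have hbw : g (0, 1) (0, 1) * g (1, 0) (1, 0) = s := by linear_combination e3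
  have e10' : g (1, 0) (1, 1) = g (0, 0) (0, 1) * g (1, 0) (1, 0) := by
    rw [e10, div_eq_iff hb, ← hbw]; ring
  have e01' : g (0, 1) (1, 1) = g (0, 0) (1, 0) * g (0, 1) (0, 1) := by
    rw [e01, div_eq_iff hw, ← hbw]; ring
  ext ⟨a, b⟩ ⟨c, d⟩
  fin_cases a <;> fin_cases b <;> fin_cases c <;> fin_cases d <;>
    simp [h00, h01, h10, h11, hv, hw1, e1, e2, e10', e01', hz, e5] <;>
    first
      | linear_combination hbw
      | linear_combination -hbw
      | ring

/-- A similitude of the tensor square is a tensor product, possibly with the factors exchanged. -/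
theorem similitude_four (h2 : (2 : F) ≠ 0) {g : Matrix (Fin 2 × Fin 2) (Fin 2 × Fin 2) F} {s : F} (hs : s ≠ 0)
    (hg : gᵀ * quadFour F * g = s • quadFour F) :
    ∃ a b : Matrix (Fin 2) (Fin 2) F, a.det ≠ 0 ∧ b.det ≠ 0 ∧ (g = a ⊗ₖ b ∨ g = (a ⊗ₖ b) * swapFour F) := by
  -- move the first column to the first basis vector
  have h00 := congr_apply_four g (0, 0) (0, 0)
  rw [hg] at h00
  simp [quadFour] at h00
  have hsing : g (0, 0) (0, 0) * g (1, 1) (0, 0) = g (0, 1) (0, 0) * g (1, 0) (0, 0) :=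
    mul_left_cancel₀ h2 (by linear_combination -h00)
  obtain ⟨x, y, hxy⟩ : ∃ x y : Fin 2 → F, ∀ i j, g (i, j) (0, 0) = x i * y j := by
    by_cases h : g (0, 0) (0, 0) = 0
    · by_cases h' : g (0, 1) (0, 0) = 0
      · refine ⟨![0, 1], ![g (1, 0) (0, 0), g (1, 1) (0, 0)], fun i j => ?_⟩
        fin_cases i <;> fin_cases j <;> simp [h, h']
      · have h'' : g (1, 0) (0, 0) = 0 := by
          rw [h, zero_mul, eq_comm] at hsing; exact (mul_eq_zero.mp hsing).resolve_left h'
        refine ⟨![g (0, 1) (0, 0), g (1, 1) (0, 0)], ![0, 1], fun i j => ?_⟩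
        fin_cases i <;> fin_cases j <;> simp [h, h'']
    · refine ⟨![1, g (1, 0) (0, 0) / g (0, 0) (0, 0)], ![g (0, 0) (0, 0), g (0, 1) (0, 0)], fun i j => ?_⟩
      fin_cases i <;> fin_cases j <;> simp [h] <;> field_simp <;> linear_combination hsing
  have hne : ¬ ∀ i j, g (i, j) (0, 0) = 0 := fun hz => by
    have h := congr_apply_four g (0, 0) (1, 1)
    rw [hg] at h
    simp [quadFour, hz] at h
    exact hs h
  have hcol : ∀ x : Fin 2 → F, x ≠ 0 → ∃ A : GL (Fin 2) F, ∀ i, (A : Matrix (Fin 2) (Fin 2) F) i 0 = x i := by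
    intro x hx
    by_cases h0 : x 0 = 0
    · refine ⟨Matrix.GeneralLinearGroup.mkOfDetNeZero !![x 0, 1; x 1, 0] ?_, fun i => ?_⟩
      · simp [Matrix.det_fin_two]
        intro h1; exact hx (funext fun i => by fin_cases i <;> assumption)
      · fin_cases i <;> rfl
    · refine ⟨Matrix.GeneralLinearGroup.mkOfDetNeZero !![x 0, 0; x 1, 1] ?_, fun i => ?_⟩
      · simpa [Matrix.det_fin_two] using h0
      · fin_cases i <;> rfl
  obtain ⟨A, hA⟩ := hcol x fun e => hne fun i j => by rw [hxy, e]; simp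
  obtain ⟨B, hB⟩ := hcol y fun e => hne fun i j => by rw [hxy, e]; simp
  set Am := (A : Matrix (Fin 2) (Fin 2) F)
  set Bm := (B : Matrix (Fin 2) (Fin 2) F)
  set Ai := ((A⁻¹ : GL (Fin 2) F) : Matrix (Fin 2) (Fin 2) F)
  set Bi := ((B⁻¹ : GL (Fin 2) F) : Matrix (Fin 2) (Fin 2) F)
  obtain ⟨g₁, hg₁def⟩ : ∃ x, x = (Ai ⊗ₖ Bi) * g := ⟨_, rfl⟩
  have hAB : (Am ⊗ₖ Bm) * g₁ = g := by
    rw [hg₁def, ← Matrix.mul_assoc, ← Matrix.mul_kronecker_mul, Cfsg.Lib.Classical.PrimeDim.val_mul_inv,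
      Cfsg.Lib.Classical.PrimeDim.val_mul_inv, Matrix.one_kronecker_one, Matrix.one_mul]
  have hconj : ∀ M : Matrix (Fin 2) (Fin 2) F, Mᵀ * !![0, 1; -1, 0] * M = M.det • !![0, 1; -1, 0] := fun M => by
    ext i j
    fin_cases i <;> fin_cases j <;> simp [Matrix.mul_apply, Fin.sum_univ_two, Matrix.det_fin_two] <;> ring
  have hg₁ : g₁ᵀ * quadFour F * g₁ = (Ai.det * Bi.det * s) • quadFour F := by
    have e : (Am ⊗ₖ Bm)ᵀ * quadFour F * (Am ⊗ₖ Bm) = (Am.det * Bm.det) • quadFour F := by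
      rw [quadFour, kron_transpose, ← Matrix.mul_kronecker_mul, ← Matrix.mul_kronecker_mul, hconj, hconj,
        Matrix.smul_kronecker, Matrix.kronecker_smul, smul_smul]
    have h1 : (Am.det * Bm.det) • (g₁ᵀ * quadFour F * g₁) = s • quadFour F :=
      calc (Am.det * Bm.det) • (g₁ᵀ * quadFour F * g₁)
          = g₁ᵀ * ((Am ⊗ₖ Bm)ᵀ * quadFour F * (Am ⊗ₖ Bm)) * g₁ := by rw [e, Matrix.mul_smul, Matrix.smul_mul]
        _ = ((Am ⊗ₖ Bm) * g₁)ᵀ * quadFour F * ((Am ⊗ₖ Bm) * g₁) := by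
            rw [Matrix.transpose_mul]; simp only [Matrix.mul_assoc]
        _ = s • quadFour F := by rw [hAB, hg]
    have hdd : Ai.det * Bi.det * (Am.det * Bm.det) = 1 := by
      have ha : Ai.det * Am.det = 1 := by rw [← Matrix.det_mul, Cfsg.Lib.Classical.PrimeDim.val_inv_mul, Matrix.det_one]
      have hb : Bi.det * Bm.det = 1 := by rw [← Matrix.det_mul, Cfsg.Lib.Classical.PrimeDim.val_inv_mul, Matrix.det_one]
      linear_combination Bi.det * Bm.det * ha + hb
    have := congrArg (fun M => (Ai.det * Bi.det) • M) h1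
    simpa only [smul_smul, hdd, one_smul] using this
  have hs₁ : Ai.det * Bi.det * s ≠ 0 :=
    mul_ne_zero (mul_ne_zero (gl_det_ne_zero _) (gl_det_ne_zero _)) hs
  have hcol₁ : ∀ p, g₁ p (0, 0) = if p = (0, 0) then 1 else 0 := by
    intro p
    have hd : ∀ i j, g (i, j) (0, 0) = Am i 0 * Bm j 0 := fun i j => by rw [hxy, hA, hB]
    rw [hg₁def]
    rw [Matrix.mul_apply, Fintype.sum_prod_type]
    simp only [Matrix.kroneckerMap_apply, hd]
    rw [show (∑ i, ∑ j, Ai p.1 i * Bi p.2 j * (Am i 0 * Bm j 0)) = (Ai * Am) p.1 0 * (Bi * Bm) p.2 0 by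
      simp only [Matrix.mul_apply, Finset.sum_mul_sum]
      exact Finset.sum_congr rfl fun i _ => Finset.sum_congr rfl fun j _ => by ring,
      Cfsg.Lib.Classical.PrimeDim.val_inv_mul, Cfsg.Lib.Classical.PrimeDim.val_inv_mul, Matrix.one_apply, Matrix.one_apply]
    obtain ⟨a, b⟩ := p
    fin_cases a <;> fin_cases b <;> simp
  have hv11 : g₁ (1, 1) (0, 1) = 0 := by
    have := congr_apply_four g₁ (0, 0) (0, 1)
    rw [hg₁] at this
    simpa [quadFour, hcol₁] using this.symm
  have hvv : g₁ (0, 1) (0, 1) = 0 ∨ g₁ (1, 0) (0, 1) = 0 := by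
    have := congr_apply_four g₁ (0, 1) (0, 1)
    rw [hg₁] at this
    simp [quadFour, hv11] at this
    exact mul_eq_zero.mp ((mul_eq_zero.mp (show (2 : F) * (g₁ (0, 1) (0, 1) * g₁ (1, 0) (0, 1)) = 0 by
      linear_combination this)).resolve_left h2)
  rcases hvv with hv | hv
  · -- exchange the middle vectors
    have hg₂ : (g₁ * swapFour F)ᵀ * quadFour F * (g₁ * swapFour F) = (Ai.det * Bi.det * s) • quadFour F := by
      calc _ = (swapFour F)ᵀ * (g₁ᵀ * quadFour F * g₁) * swapFour F := by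
            rw [Matrix.transpose_mul]; simp only [Matrix.mul_assoc]
        _ = _ := by rw [hg₁, Matrix.mul_smul, Matrix.smul_mul, swapFour_congr]
    have hsw : ∀ p a b, (g₁ * swapFour F) p (a, b) = g₁ p (b, a) := fun p a b => by
      simp [swapFour, Matrix.mul_apply]
    have hw : (g₁ * swapFour F) (1, 0) (0, 1) = 0 := by
      rw [hsw]
      have e1 := congr_apply_four g₁ (0, 1) (1, 0)
      have e2 := congr_apply_four g₁ (1, 0) (1, 0)
      have e3 := congr_apply_four g₁ (0, 0) (1, 0)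
      rw [hg₁] at e1 e2 e3
      simp [quadFour, hcol₁] at e3
      simp [quadFour, hv11, hv, ← e3] at e1 e2
      have hne' : g₁ (0, 1) (1, 0) ≠ 0 := fun e => hs₁ (by rw [e] at e1; linear_combination e1)
      exact (mul_eq_zero.mp ((mul_eq_zero.mp (show (2 : F) * (g₁ (0, 1) (1, 0) * g₁ (1, 0) (1, 0)) = 0 by
        linear_combination e2)).resolve_left h2)).resolve_left hne'
    obtain ⟨a, b, ha, hb, he⟩ := similitude_four_fixed h2 hs₁ hg₂ (by rw [hsw]; simp [hcol₁])
      (by rw [hsw]; simp [hcol₁]) (by rw [hsw]; simp [hcol₁]) (by rw [hsw]; simp [hcol₁]) hw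
    refine ⟨Am * a, Bm * b, by rw [Matrix.det_mul]; exact mul_ne_zero (gl_det_ne_zero A) ha,
      by rw [Matrix.det_mul]; exact mul_ne_zero (gl_det_ne_zero B) hb, Or.inr ?_⟩
    rw [Matrix.mul_kronecker_mul, Matrix.mul_assoc, ← he, Matrix.mul_assoc, swapFour_sq, Matrix.mul_one, hAB]
  · obtain ⟨a, b, ha, hb, he⟩ := similitude_four_fixed h2 hs₁ hg₁ (by simp [hcol₁]) (by simp [hcol₁]) (by simp [hcol₁])
      (by simp [hcol₁]) hv
    refine ⟨Am * a, Bm * b, by rw [Matrix.det_mul]; exact mul_ne_zero (gl_det_ne_zero A) ha,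
      by rw [Matrix.det_mul]; exact mul_ne_zero (gl_det_ne_zero B) hb, Or.inl ?_⟩
    rw [Matrix.mul_kronecker_mul, ← he, hAB]

/-- A symmetric pairing in four variables with a totally singular plane is the tensor square of a plane. -/
theorem congr_quadFour (h2 : (2 : F) ≠ 0) {f : (Fin 4 → F) → (Fin 4 → F) → F} (hf : IsSymmetricForm f)
    (hplus : IsPlusTypeOn (fun v => f v v) ⊤) :
    ∃ (B : Matrix (Fin 4) (Fin 2 × Fin 2) F) (Bi : Matrix (Fin 2 × Fin 2) (Fin 4) F),
      Coords B Bi ∧ Bᵀ * gramMatrix f * B = quadFour F := by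
  classical
  obtain ⟨U, -, hU, hdim⟩ := hplus
  rw [finrank_top, Module.finrank_pi, Fintype.card_fin] at hdim
  have hb := hf.bilinear
  have hts : ∀ u ∈ U, ∀ w ∈ U, f u w = 0 := fun u hu w hw => by
    have h1 := hU (u + w) (U.add_mem hu hw)
    simp only [hb.add_left, hb.add_right, hU u hu, hU w hw] at h1
    rw [hf.symm w u] at h1
    exact (mul_eq_zero.mp (show (2 : F) * f u w = 0 by linear_combination h1)).resolve_left h2
  let bU : Module.Basis (Fin 2) F U := Module.finBasisOfFinrankEq F U (by omega)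
  set u : Fin 2 → (Fin 4 → F) := fun i => (bU i : Fin 4 → F)
  have huU : ∀ i, u i ∈ U := fun i => (bU i).2
  let ev : (Fin 4 → F) →ₗ[F] (Fin 2 → F) :=
    { toFun := fun x i => f (u i) x
      map_add' := fun x y => funext fun i => hb.add_right _ x y
      map_smul' := fun c x => funext fun i => hb.smul_right c _ x }
  have hsurj : Function.Surjective ev := by
    rw [← LinearMap.range_eq_top]
    by_contra hne
    obtain ⟨z, hz⟩ : ∃ z, z ∉ LinearMap.range ev := by
      by_contra h; push Not at h; exact hne (Submodule.eq_top_iff'.mpr h)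
    obtain ⟨φ, hφ, hφr⟩ := Submodule.exists_dual_map_eq_bot_of_notMem hz inferInstance
    let a : Fin 2 → F := fun i => φ (Pi.single i 1)
    have hv0 : ∑ i, a i • u i ≠ 0 := fun e => by
      have h1 : ∑ i, a i • bU i = 0 := Subtype.ext (by simpa [u, Submodule.coe_sum] using e)
      have ha := Fintype.linearIndependent_iff.mp bU.linearIndependent a h1
      refine hφ ?_
      rw [pi_eq_sum_univ' z, map_sum]
      exact Finset.sum_eq_zero fun i _ => by rw [map_smul, show φ (Pi.single i 1) = 0 from ha i, smul_zero]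
    obtain ⟨x, hx⟩ := (hf.nondegenerate _ hv0).2
    apply hx
    have h0 : φ (ev x) = 0 := by
      have : φ (ev x) ∈ (LinearMap.range ev).map φ := Submodule.mem_map_of_mem (LinearMap.mem_range_self ev x)
      rwa [hφr, Submodule.mem_bot] at this
    rw [pi_eq_sum_univ' (ev x), map_sum] at h0
    rw [← h0, Fin.sum_univ_two, Fin.sum_univ_two, hb.add_left, hb.smul_left, hb.smul_left]
    simp only [map_smul, smul_eq_mul, a]
    show _ = f (u 0) x * _ + f (u 1) x * _
    ring
  obtain ⟨w₀, hw₀⟩ := hsurj (Pi.single 0 1)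
  obtain ⟨w₁, hw₁⟩ := hsurj (Pi.single 1 1)
  have a00 : f (u 0) w₀ = 1 := by simpa [ev] using congrFun hw₀ 0
  have a10 : f (u 1) w₀ = 0 := by simpa [ev] using congrFun hw₀ 1
  have a01 : f (u 0) w₁ = 0 := by simpa [ev] using congrFun hw₁ 0
  have a11 : f (u 1) w₁ = 1 := by simpa [ev] using congrFun hw₁ 1
  have z00 : f (u 0) (u 0) = 0 := hts _ (huU 0) _ (huU 0)
  have z01 : f (u 0) (u 1) = 0 := hts _ (huU 0) _ (huU 1)
  have z10 : f (u 1) (u 0) = 0 := hts _ (huU 1) _ (huU 0)
  have z11 : f (u 1) (u 1) = 0 := hts _ (huU 1) _ (huU 1)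
  set x₀ := w₀ + (-(f w₀ w₀ / 2)) • u 0
  set x₁ := w₁ + (-(f w₁ w₁ / 2)) • u 1 + (-(f w₁ x₀)) • u 0
  have s00 : f w₀ (u 0) = 1 := by rw [hf.symm]; exact a00
  have s01 : f w₁ (u 0) = 0 := by rw [hf.symm]; exact a01
  have s10 : f w₀ (u 1) = 0 := by rw [hf.symm]; exact a10
  have s11 : f w₁ (u 1) = 1 := by rw [hf.symm]; exact a11
  have p00 : f (u 0) x₀ = 1 := by simp only [x₀, hb.add_right, hb.smul_right, a00, z00]; ring
  have p10 : f (u 1) x₀ = 0 := by simp only [x₀, hb.add_right, hb.smul_right, a10, z10]; ring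
  have p01 : f (u 0) x₁ = 0 := by simp only [x₁, hb.add_right, hb.smul_right, a01, z00, z01]; ring
  have p11 : f (u 1) x₁ = 1 := by simp only [x₁, hb.add_right, hb.smul_right, a11, z10, z11]; ring
  have q00 : f x₀ x₀ = 0 := by
    simp only [x₀, hb.add_left, hb.add_right, hb.smul_left, hb.smul_right, z00, a00, s00]
    field_simp
    ring
  have q10 : f x₁ x₀ = 0 := by
    simp only [x₁, hb.add_left, hb.smul_left, p00, p10]; ring
  have q11 : f x₁ x₁ = 0 := by
    have : f x₁ x₁ = f w₁ x₁ + (-(f w₁ w₁ / 2)) * f (u 1) x₁ + (-(f w₁ x₀)) * f (u 0) x₁ := by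
      conv_lhs => rw [show x₁ = w₁ + (-(f w₁ w₁ / 2)) • u 1 + (-(f w₁ x₀)) • u 0 from rfl]
      rw [hb.add_left, hb.add_left, hb.smul_left, hb.smul_left]
    rw [this, p11, p01]
    simp only [x₁, hb.add_right, hb.smul_right, s11, s01]
    field_simp
    ring
  -- the columns
  let col : Fin 2 × Fin 2 → (Fin 4 → F) := fun p =>
    if p = (0, 0) then u 0 else if p = (0, 1) then u 1 else if p = (1, 1) then x₀ else -x₁
  let B : Matrix (Fin 4) (Fin 2 × Fin 2) F := Matrix.of fun i p => col p i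
  have hneg_r : ∀ v x, f v (-x) = -f v x := fun v x => by rw [← neg_one_smul F x, hb.smul_right]; ring
  have hneg_l : ∀ v x, f (-x) v = -f x v := fun v x => by rw [← neg_one_smul F x, hb.smul_left]; ring
  have hBf : Bᵀ * gramMatrix f * B = quadFour F := by
    have e : ∀ p q, (Bᵀ * gramMatrix f * B) p q = f (col p) (col q) := fun p q => by
      rw [(IsSesq.mk hb.add_left hb.smul_left hb.add_right hb.smul_right hf.nondegenerate :
        IsSesq (RingEquiv.refl F) f).apply_eq, Matrix.mul_assoc, Matrix.mul_apply]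
      simp [B, dotProduct, Matrix.mulVec, Matrix.mul_apply, Function.comp_def]
    ext ⟨a, b⟩ ⟨c, d⟩
    rw [e]
    fin_cases a <;> fin_cases b <;> fin_cases c <;> fin_cases d <;>
      simp [col, quadFour, hneg_r, hneg_l, z00, z01, z10, z11, p00, p01, p10, p11, q00, q10, q11,
        hf.symm x₀ (u 0), hf.symm x₀ (u 1), hf.symm x₁ (u 0), hf.symm x₁ (u 1), hf.symm x₀ x₁]
  let e : Fin 4 ≃ Fin 2 × Fin 2 := (finProdFinEquiv (m := 2) (n := 2)).symm
  have hdet : (B.submatrix id e).det ≠ 0 := fun h0 => by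
    have h1 : ((B.submatrix id e)ᵀ * gramMatrix f * B.submatrix id e) = (quadFour F).submatrix e e := by
      rw [← hBf]; ext i j; simp [Matrix.mul_apply]
    have h2' := congrArg Matrix.det h1
    rw [Matrix.det_mul, h0, mul_zero, Matrix.det_submatrix_equiv_self, quadFour, Matrix.det_kronecker] at h2'
    simp [Matrix.det_fin_two] at h2'
  set G : GL (Fin 4) F := Matrix.GeneralLinearGroup.mkOfDetNeZero _ hdet
  refine ⟨B, ((G⁻¹ : GL (Fin 4) F) : Matrix (Fin 4) (Fin 4) F).submatrix e.symm id, ⟨?_, ?_⟩, hBf⟩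
  · have := Cfsg.Lib.Classical.PrimeDim.val_mul_inv G
    rw [show (G : Matrix (Fin 4) (Fin 4) F) = B.submatrix id e from rfl] at this
    rw [show B = (B.submatrix id e).submatrix id e.symm by ext i j; simp, Matrix.submatrix_mul_equiv, this,
      Matrix.submatrix_id_id]
  · have := Cfsg.Lib.Classical.PrimeDim.val_inv_mul G
    rw [show (G : Matrix (Fin 4) (Fin 4) F) = B.submatrix id e from rfl] at this
    rw [show B = (B.submatrix id e).submatrix id e.symm by ext i j; simp,
      ← Matrix.submatrix_mul _ _ e.symm id e.symm Function.bijective_id, this, Matrix.submatrix_one_equiv]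

end Cfsg.Lib.Classical.Aschbacher
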