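import Cfsg.Agent.Classical.Aschbacher.SympTypes
import Cfsg.Agent.Classical.Aschbacher.PlusFour

/-! A tensor product of a plane and a quadric of plus type is a third tensor power. -/

set_option autoImplicit false
set_option linter.unusedSimpArgs false
set_option linter.unusedSectionVars false
set_option linter.style.haveILetI false

namespace Cfsg.Lib.Classical.Aschbacher

open Matrix Cfsg.Geo
open scoped MatrixGroups Kronecker
open Cfsg.Lib.Classical.PrimeDim (eq_inf_of_maximal two_ne_zero_of_odd gl_det_ne_zero IsSesq)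

universe u

variable {F : Type u} [Field F]

/-- Three binary indices as a pair. -/
def cubeEquiv : (Fin 3 → Fin 2) ≃ Fin 2 × (Fin 2 × Fin 2) where
  toFun x := (x 0, (x 1, x 2))
  invFun p := ![p.1, p.2.1, p.2.2]
  left_inv x := by funext i; fin_cases i <;> rfl
  right_inv p := rfl

theorem piKron_three (a : Fin 3 → Matrix (Fin 2) (Fin 2) F) :
    piKron (d := fun _ => 2) a = (a 0 ⊗ₖ (a 1 ⊗ₖ a 2)).submatrix cubeEquiv cubeEquiv := by
  ext x y
  rw [piKron_apply, Fin.prod_univ_three, Matrix.submatrix_apply, Matrix.kronecker_apply, Matrix.kronecker_apply,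
    mul_assoc]
  rfl

theorem permMat_piKron_three (a b c : Matrix (Fin 2) (Fin 2) F) :
    permMat F (Equiv.swap (1 : Fin 3) 2) * piKron (d := fun _ => 2) ![a, b, c] =
      (a ⊗ₖ ((c ⊗ₖ b) * swapFour F)).submatrix cubeEquiv cubeEquiv := by
  ext x y
  rw [permMat_apply_mul, piKron_apply, Fin.prod_univ_three, Matrix.submatrix_apply, Matrix.kronecker_apply]
  have h : ((c ⊗ₖ b) * swapFour F) (x 1, x 2) (y 1, y 2) = c (x 1) (y 2) * b (x 2) (y 1) := by
    simp [swapFour, Matrix.mul_apply]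
  show _ = a (x 0) (y 0) * ((c ⊗ₖ b) * swapFour F) (x 1, x 2) (y 1, y 2)
  rw [h]
  simp only [Function.comp_apply, Equiv.swap_apply_left, Equiv.swap_apply_right,
    Equiv.swap_apply_of_ne_of_ne (show (0 : Fin 3) ≠ 1 by decide) (show (0 : Fin 3) ≠ 2 by decide)]
  simp
  ring

/-- In coordinates, elements preserving the Gram matrix lie in the symplectic group. -/
theorem mem_sp_of_gram {m : ℕ} {κ : Type} [Fintype κ] [DecidableEq κ] {Φ : Matrix (Fin m ⊕ Fin m) κ F}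
    {Ψ : Matrix κ (Fin m ⊕ Fin m) F} (hc : Coords Φ Ψ) {g : GL (Fin m ⊕ Fin m) F} {T : Matrix κ κ F}
    (hT : Ψ * (g : Matrix (Fin m ⊕ Fin m) (Fin m ⊕ Fin m) F) * Φ = T)
    (hG : Tᵀ * (sp_refl m F).gramIn Φ * T = (sp_refl m F).gramIn Φ) : g ∈ Cfsg.spGL m F := by
  have hf := sp_refl m F
  rw [mem_spGL]
  intro u v
  obtain ⟨u', rfl⟩ : ∃ u', u = Φ *ᵥ u' := ⟨Ψ *ᵥ u, by rw [Matrix.mulVec_mulVec, hc.left, Matrix.one_mulVec]⟩
  obtain ⟨v', rfl⟩ : ∃ v', v = Φ *ᵥ v' := ⟨Ψ *ᵥ v, by rw [Matrix.mulVec_mulVec, hc.left, Matrix.one_mulVec]⟩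
  rw [Matrix.mulVec_mulVec, Matrix.mulVec_mulVec, hc.act_of_conj hT, ← Matrix.mulVec_mulVec, ← Matrix.mulVec_mulVec,
    hf.apply_coords, hf.apply_coords, RingEquiv.coe_refl, Function.id_comp, Function.id_comp]
  conv_rhs => rw [← hG]
  rw [Matrix.mul_assoc, ← Matrix.mulVec_mulVec, ← Matrix.mulVec_mulVec, Matrix.dotProduct_mulVec u' Tᵀ,
    Matrix.vecMul_transpose]

variable [Fintype F]

/-- A maximal subgroup in the stabiliser of a tensor product of plus type is of tensor power or symplectic type. -/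
theorem plus_eight {H : Subgroup (GL (Fin 4 ⊕ Fin 4) F)} (hH : IsMaximalIn (Cfsg.spGL 4 F) H)
    (ho : Odd (Fintype.card F)) {e : (Fin 4 ⊕ Fin 4) ≃ Fin 2 × Fin 4} {P : GL (Fin 4 ⊕ Fin 4) F}
    {f₁ : (Fin 2 → F) → (Fin 2 → F) → F} {f₂ : (Fin 4 → F) → (Fin 4 → F) → F}
    (h1 : IsSymplecticForm f₁) (h2 : IsSymmetricForm f₂) (hs : IsTensorFormStructure id (Cfsg.sympForm 4 F) f₁ f₂ e P)
    (hplus : IsPlusTypeOn (fun v : Fin 4 → F => f₂ v v) ⊤) (hle : H ≤ tensorProductSubgroup 2 4 e P) :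
    (5 ≤ Fintype.card F ∧ ∃ (e : (Fin 4 ⊕ Fin 4) ≃ (Fin 3 → Fin 2)) (P : GL (Fin 4 ⊕ Fin 4) F)
        (f₁ : (Fin 2 → F) → (Fin 2 → F) → F), IsSymplecticForm f₁ ∧
        IsTensorPowerFormStructure id (Cfsg.sympForm 4 F) f₁ e P ∧
        H = tensorWreathSubgroup 2 3 e P ⊓ Cfsg.spGL 4 F) ∨
      ∃ (p : ℕ) (R : Subgroup (GL (Fin 4 ⊕ Fin 4) F)), p.Prime ∧ Odd p ∧ Fintype.card F = p ∧
        IsSymplecticTypeGroup 2 R ∧ ActsAbsolutelyIrreducibly (matrixSet R) ∧
        R ≤ similarityGroup (Cfsg.sympForm 4 F) ∧ Nat.card R = 128 ∧ Nat.card (Subgroup.center R) = 2 ∧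
        IsOfMinusType 3 R ∧ H = subgroupNormalizer R ⊓ Cfsg.spGL 4 F := by
  classical
  haveI : Nonempty (Fin 4 ⊕ Fin 4) := ⟨Sum.inl 0⟩
  have hf := sp_refl 4 F
  have htwo : (2 : F) ≠ 0 := two_ne_zero_of_odd ho
  have hG1 : (gramMatrix f₁).det ≠ 0 := (symplectic_refl h1).toIsSesq.det_gram_ne_zero
  have hG2 : (gramMatrix f₂).det ≠ 0 := (IsSesq.mk h2.bilinear.add_left h2.bilinear.smul_left h2.bilinear.add_right
    h2.bilinear.smul_right h2.nondegenerate : IsSesq (RingEquiv.refl F) f₂).det_gram_ne_zero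
  obtain ⟨Φ₀, Ψ₀, c, hc, hco₀, happ, hsplit⟩ := tensor_member_split hG1 hG2 hs
  obtain ⟨B, Bi, hB, hBG⟩ := congr_quadFour htwo h2 hplus
  -- the plane
  set g := gramMatrix f₁ 0 1
  have hG1eq : gramMatrix f₁ = g • jTwo F := by
    ext i j
    fin_cases i <;> fin_cases j
    · simpa [jTwo, gramMatrix] using h1.alternating _
    · simp [jTwo, g]
    · simpa [jTwo, g, gramMatrix] using h1.skew _ _
    · simpa [jTwo, gramMatrix] using h1.alternating _
  have hg : g ≠ 0 := fun e0 => hG1 (by rw [hG1eq, e0, zero_smul, Matrix.det_zero])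
  -- the coordinates
  set Φ₁ := Φ₀ * ((1 : Matrix (Fin 2) (Fin 2) F) ⊗ₖ B) with hΦ₁
  set Ψ₁ := ((1 : Matrix (Fin 2) (Fin 2) F) ⊗ₖ Bi) * Ψ₀ with hΨ₁
  have hco₁ : Coords Φ₁ Ψ₁ := hco₀.comp ⟨by
      rw [← Matrix.mul_kronecker_mul, one_mul, hB.left, Matrix.one_kronecker_one], by
      rw [← Matrix.mul_kronecker_mul, one_mul, hB.right, Matrix.one_kronecker_one]⟩
  set Φ : Matrix (Fin 4 ⊕ Fin 4) (Fin 3 → Fin 2) F := Φ₁.submatrix id cubeEquiv with hΦ
  set Ψ : Matrix (Fin 3 → Fin 2) (Fin 4 ⊕ Fin 4) F := Ψ₁.submatrix cubeEquiv id with hΨ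
  have hco : Coords Φ Ψ := ⟨by rw [hΦ, hΨ, Matrix.submatrix_mul_equiv, hco₁.left, Matrix.submatrix_id_id], by
    rw [hΦ, hΨ, ← Matrix.submatrix_mul Ψ₁ Φ₁ cubeEquiv id cubeEquiv Function.bijective_id, hco₁.right,
      Matrix.submatrix_one_equiv]⟩
  have hgram₀ : hf.gramIn Φ₀ = c • (gramMatrix f₁ ⊗ₖ gramMatrix f₂) := by
    ext i j
    have h := happ (Pi.single i 1) (Pi.single j 1)
    rw [hf.apply_coords, RingEquiv.coe_refl, Function.id_comp, Matrix.mulVec_single_one, Matrix.mulVec_single_one,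
      single_one_dotProduct, single_one_dotProduct] at h
    simpa using h
  have hgram : hf.gramIn Φ = (c * g) • piKron (d := fun _ => 2) fun _ : Fin 3 => jTwo F := by
    have h1 : hf.gramIn Φ₁ = ((1 : Matrix (Fin 2) (Fin 2) F) ⊗ₖ B)ᵀ * hf.gramIn Φ₀ *
        ((1 : Matrix (Fin 2) (Fin 2) F) ⊗ₖ B) := by
      simp only [ReflForm.gramIn, RingEquiv.coe_refl, Matrix.map_id, hΦ₁, Matrix.transpose_mul]
      simp only [Matrix.mul_assoc]
    have h2 : hf.gramIn Φ = (hf.gramIn Φ₁).submatrix cubeEquiv cubeEquiv := by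
      ext x y
      simp [ReflForm.gramIn, hΦ, Matrix.mul_apply]
    rw [h2, h1, hgram₀, piKron_three, Matrix.mul_smul, Matrix.smul_mul, kron_transpose, ← Matrix.mul_kronecker_mul,
      ← Matrix.mul_kronecker_mul, Matrix.transpose_one, Matrix.one_mul, Matrix.mul_one, hBG, hG1eq,
      Matrix.smul_kronecker, smul_smul]
    rfl
  -- the elements
  have hstab : ∀ h ∈ H, IsWreathMat (Ψ * (h : Matrix (Fin 4 ⊕ Fin 4) (Fin 4 ⊕ Fin 4) F) * Φ) := by
    intro h hh
    obtain ⟨a, b, s, hs0, hT, hb, -⟩ := hsplit h ⟨hle hh, hH.1.le hh⟩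
    set T := Bi * (b : Matrix (Fin 4) (Fin 4) F) * B
    have hsim : Tᵀ * quadFour F * T = s • quadFour F := by
      calc Tᵀ * quadFour F * T = Bᵀ * ((b : Matrix (Fin 4) (Fin 4) F)ᵀ * ((B * Bi)ᵀ * gramMatrix f₂ * (B * Bi)) *
            (b : Matrix (Fin 4) (Fin 4) F)) * B := by
            rw [← hBG]; simp only [T, Matrix.transpose_mul, Matrix.mul_assoc]
        _ = _ := by
            rw [hB.left, Matrix.transpose_one, Matrix.one_mul, Matrix.mul_one, hb, Matrix.mul_smul, Matrix.smul_mul, hBG]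
    have hmat : Ψ * (h : Matrix (Fin 4 ⊕ Fin 4) (Fin 4 ⊕ Fin 4) F) * Φ =
        ((a : Matrix (Fin 2) (Fin 2) F) ⊗ₖ T).submatrix cubeEquiv cubeEquiv := by
      have e1 : Ψ₁ * (h : Matrix (Fin 4 ⊕ Fin 4) (Fin 4 ⊕ Fin 4) F) * Φ₁ = (a : Matrix (Fin 2) (Fin 2) F) ⊗ₖ T :=
        calc _ = ((1 : Matrix (Fin 2) (Fin 2) F) ⊗ₖ Bi) *
              (Ψ₀ * (h : Matrix (Fin 4 ⊕ Fin 4) (Fin 4 ⊕ Fin 4) F) * Φ₀) * ((1 : Matrix (Fin 2) (Fin 2) F) ⊗ₖ B) := by
              simp only [hΦ₁, hΨ₁, Matrix.mul_assoc]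
          _ = _ := by rw [hT, ← Matrix.mul_kronecker_mul, ← Matrix.mul_kronecker_mul, Matrix.one_mul, Matrix.mul_one]
      rw [← e1, hΦ, hΨ]
      ext x y
      simp [Matrix.mul_apply]
    obtain ⟨a', b', ha', hb', hT' | hT'⟩ := similitude_four htwo hs0 hsim
    · refine ⟨1, ![a, Matrix.GeneralLinearGroup.mkOfDetNeZero a' ha', Matrix.GeneralLinearGroup.mkOfDetNeZero b' hb'], ?_⟩
      rw [hmat, hT', piKron_three, show permMat (m := 2) F (1 : Equiv.Perm (Fin 3)) = 1 by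
        ext x y; simp [permMat, Matrix.one_apply, eq_comm], Matrix.one_mul]
      rfl
    · refine ⟨Equiv.swap 1 2,
        ![a, Matrix.GeneralLinearGroup.mkOfDetNeZero b' hb', Matrix.GeneralLinearGroup.mkOfDetNeZero a' ha'], ?_⟩
      rw [hmat, hT', ← permMat_piKron_three]
      congr 2
      funext i
      fin_cases i <;> rfl
  have hW : WreathForm (RingEquiv.refl F) (Cfsg.sympForm 4 F) H Φ Ψ (jTwo F) (c * g) :=
    ⟨hco, by norm_num, le_rfl, mul_ne_zero hc hg, hgram, by simp [jTwo, Matrix.det_fin_two], hstab⟩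
  by_cases hq : Fintype.card F = 3
  swap
  · have h5 : 5 ≤ Fintype.card F := by
      have := (Fintype.one_lt_card : 1 < Fintype.card F)
      obtain ⟨j, hj⟩ := ho; omega
    let e' : (Fin 4 ⊕ Fin 4) ≃ (Fin 3 → Fin 2) := Fintype.equivOfCardEq hco.card_eq.symm
    have hJ : IsSymplecticForm (matForm (RingEquiv.refl F) (jTwo F)) :=
      matForm_symplectic (by simp [jTwo, Matrix.det_fin_two])
        (by ext i j; fin_cases i <;> fin_cases j <;> simp [jTwo]) (fun i => by fin_cases i <;> simp [jTwo])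
    have hM : SpMember 4 F (tensorWreathSubgroup 2 3 e' (hco.toGL e')) :=
      .wreath 2 3 e' _ _ ho (by decide) le_rfl (fun hh => hq hh.1) (by decide) hJ (hW.structure' hf e')
    exact Or.inl ⟨h5, e', _, _, hJ, hW.structure' hf e',
      eq_inf_of_maximal hH (hW.le_stabilizer e') (hM.not_le (by norm_num))⟩
  -- three elements
  obtain ⟨R₁, hR₁, hN, hn, hmin, hmem⟩ := tensorPower_quaternion hq (t := 3) (by norm_num) hco
  have hsp : tensorPowerGroup hco R₁ ≤ Cfsg.spGL 4 F := fun x hx => by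
    obtain ⟨a, ha, rfl⟩ := (mem_tensorPower hco).mp hx
    refine mem_sp_of_gram hco ((hco.conj_lift _).trans (piKronHom_val a)) ?_
    rw [show (sp_refl 4 F).gramIn Φ = (c * g) • piKron (d := fun _ => 2) fun _ : Fin 3 => jTwo F from hgram,
      Matrix.mul_smul, Matrix.smul_mul, piKron_transpose, piKron_mul, piKron_mul]
    congr 2
    funext i
    show (a i : Matrix (Fin 2) (Fin 2) F)ᵀ * jTwo F * (a i : Matrix (Fin 2) (Fin 2) F) = jTwo F
    rw [jTwo_conj, hR₁ _ (ha i), one_smul]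
  have hHle : H ≤ subgroupNormalizer (tensorPowerGroup hco R₁) := fun h hh => by
    obtain ⟨π, a, ha⟩ := hW.stab h hh
    refine hmem h π a (Units.ext ?_)
    rw [hco.lift_val, Units.val_mul, piKronHom_val]
    show _ = Φ * (permMat F π * _) * Ψ
    rw [← ha, hco.unconj_conj]
  rcases sympType_data_of_sympN (by norm_num) hN hsp hn (cyclic_of_minimal (by norm_num) hN hmin) hHle with
    ⟨hnp, -⟩ | ⟨p, k, hR, ha, hss, hp, hpo, hcp, hcard, hz, hmi, hk, hx, hle'⟩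
  · exact absurd (hq ▸ Nat.prime_three) hnp
  · obtain rfl : k = 3 := Nat.pow_right_injective (le_refl 2) (hk.symm.trans (by norm_num))
    refine Or.inr ⟨p, _, hp, hpo, hcp, hR, ha, hss, by rw [hcard]; norm_num, hz, hmi, ?_⟩
    exact eq_inf_of_maximal hH hle'
      ((SpMember.sympType _ p 3 hR ha hss hp hpo hcp hcard hz hmi hk hx).not_le (by norm_num))

end Cfsg.Lib.Classical.Aschbacher
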