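import Cfsg.Agent.Classical.Aschbacher.OrthOdd
import Cfsg.Agent.Classical.Aschbacher.PlusEight
import Cfsg.Agent.Classical.Orth.HalfPlus
import Cfsg.Agent.Classical.Orth.TensorType

/-! Structures forcing an even-dimensional quadratic form to be of plus type. -/

set_option autoImplicit false
set_option linter.unusedSimpArgs false
set_option linter.unusedSectionVars false
set_option linter.style.haveILetI false

namespace Cfsg.Lib.Classical.Aschbacher

open Matrix Cfsg.Geo
open scoped MatrixGroups Kronecker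
open Cfsg.Lib.Classical.PrimeDim (irreducible_iff Invariant finrank_pi_card gl_mulVec_ne_zero)
open Cfsg.Lib.Classical (HypQuad.perp HypQuad.mem_perp)

universe u

namespace OrthEven

/-- A root of a quadratic polynomial over a subfield of index two. -/
theorem quad_root {F : Type u} [Field F] [Fintype F] (F₁ : Subfield F) (hcard : Fintype.card F = Nat.card F₁ ^ 2)
    {a b c : F} (ha : a ∈ F₁) (hb : b ∈ F₁) (hc : c ∈ F₁) (ha0 : a ≠ 0) : ∃ x : F, a * x * x + b * x + c = 0 := by
  classical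
  open Polynomial in
  set p : (F₁ : Type u)[X] := X ^ 2 + (C (⟨b / a, div_mem hb ha⟩ : F₁) * X + C (⟨c / a, div_mem hc ha⟩ : F₁)) with hp
  have hdeg : p.natDegree = 2 := by rw [hp]; compute_degree!
  have hmon : p.Monic := by rw [hp]; monicity!
  have key : ∀ (y : F), Polynomial.aeval y p = 0 → a * y * y + b * y + c = 0 := fun y hy => by
    simp [hp, Subfield.coe_subtype] at hy
    have e1 : y ^ 2 + (b / a * y + c / a) = 0 := hy
    field_simp at e1
    linear_combination e1
  by_cases hroot : ∃ y : F₁, p.IsRoot y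
  · obtain ⟨y, hy⟩ := hroot
    refine ⟨(y : F), key _ ?_⟩
    rw [show (y : F) = algebraMap F₁ F y from rfl, Polynomial.aeval_algebraMap_apply_eq_algebraMap_eval, hy.eq_zero,
      map_zero]
  have hirr : Irreducible p := (hmon.irreducible_iff_roots_eq_zero_of_degree_le_three (by omega) (by omega)).mpr
    (Multiset.eq_zero_of_forall_notMem fun y hy => hroot ⟨y, (Polynomial.mem_roots hmon.ne_zero).mp hy⟩)
  haveI := Fact.mk hirr
  have hfin : Module.finrank F₁ F = 2 := by
    have h1 := Module.natCard_eq_pow_finrank (K := F₁) (V := F)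
    rw [Nat.card_eq_fintype_card, hcard] at h1
    haveI : Finite F₁ := Finite.of_injective _ Subtype.val_injective
    exact (Nat.pow_right_injective (Finite.one_lt_card (α := F₁)) h1).symm
  have hK : Module.finrank F₁ (AdjoinRoot p) = 2 := by
    rw [(AdjoinRoot.powerBasis hmon.ne_zero).finrank, AdjoinRoot.powerBasis_dim, hdeg]
  obtain ⟨φ⟩ := FiniteField.nonempty_algHom_of_finrank_dvd (F := F₁) (K := AdjoinRoot p) (L := F)
    (by rw [hK, hfin])
  refine ⟨φ (AdjoinRoot.root p), key _ ?_⟩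
  rw [Polynomial.aeval_algHom_apply, AdjoinRoot.aeval_eq, AdjoinRoot.mk_self, map_zero]

/-- In an invariant direct product the half form. -/
def halfQuad {F : Type u} [Field F] {μ : Type} [Fintype μ] (X : Matrix μ μ F) (w : Fin 2 × μ → F) : F :=
  (fun a => w (0, a)) ⬝ᵥ (X *ᵥ fun a => w (1, a))

theorem halfQuad_kron {F : Type u} [Field F] (h2 : (2 : F) = 0) {μ : Type} [Fintype μ] [DecidableEq μ]
    {X : Matrix μ μ F} (hX : Xᵀ = X) (hd : ∀ v, v ⬝ᵥ (X *ᵥ v) = 0) {b : Matrix μ μ F} {e : F}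
    (hb : bᵀ * X * b = e • X) (a : Matrix (Fin 2) (Fin 2) F) (w : Fin 2 × μ → F) :
    halfQuad X ((a ⊗ₖ b) *ᵥ w) = a.det * e * halfQuad X w := by
  set r0 := fun i => w (0, i)
  set r1 := fun i => w (1, i)
  have hrow : ∀ j, (fun i => ((a ⊗ₖ b) *ᵥ w) (j, i)) = a j 0 • (b *ᵥ r0) + a j 1 • (b *ᵥ r1) := fun j => by
    funext i
    simp [Matrix.mulVec, dotProduct, Fintype.sum_prod_type, Fin.sum_univ_two, r0, r1, Finset.mul_sum, mul_assoc]
  have hpair : ∀ x y, (b *ᵥ x) ⬝ᵥ (X *ᵥ (b *ᵥ y)) = e * (x ⬝ᵥ (X *ᵥ y)) := fun x y => by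
    rw [Matrix.mulVec_mulVec, ← Matrix.vecMul_transpose, ← Matrix.dotProduct_mulVec, Matrix.mulVec_mulVec,
      ← Matrix.mul_assoc, hb, Matrix.smul_mulVec, dotProduct_smul, smul_eq_mul]
  have hs : r1 ⬝ᵥ (X *ᵥ r0) = r0 ⬝ᵥ (X *ᵥ r1) := by
    rw [Matrix.dotProduct_mulVec, ← Matrix.mulVec_transpose, hX, dotProduct_comm]
  show (fun i => ((a ⊗ₖ b) *ᵥ w) (0, i)) ⬝ᵥ (X *ᵥ fun i => ((a ⊗ₖ b) *ᵥ w) (1, i)) = _
  rw [hrow, hrow, Matrix.det_fin_two]
  simp only [Matrix.mulVec_add, Matrix.mulVec_smul, add_dotProduct, dotProduct_add, smul_dotProduct, dotProduct_smul,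
    smul_eq_mul, hpair, hd, hs, halfQuad]
  linear_combination (a 0 1 * a 1 0 * e * (r0 ⬝ᵥ (X *ᵥ r1))) * h2

variable {ι : Type} [Fintype ι] [DecidableEq ι] {F : Type u} [Field F] [Fintype F]
  (Q : QuadraticForm F (ι → F)) (hQ : (QuadraticMap.polarBilin Q).Nondegenerate)

/-- An invariant semilinear functional on an irreducible space is zero. -/
theorem semilinear_zero {H : Subgroup (GL ι F)} (hirr : ActsIrreducibly (matrixSet H)) (hn : 2 ≤ Fintype.card ι)
    (h2 : (2 : F) = 0) {D : (ι → F) → F} (hadd : ∀ u v, D (u + v) = D u + D v)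
    (hsmul : ∀ (a : F) v, D (a • v) = a ^ 2 * D v) (hinv : ∀ h ∈ H, ∀ v, D ((h : Matrix ι ι F) *ᵥ v) = D v) :
    ∀ v, D v = 0 := by
  haveI : CharP F 2 := CharTwo.of_one_ne_zero_of_two_eq_zero one_ne_zero h2
  haveI : Nonempty ι := Fintype.card_pos_iff.mp (by omega)
  let W : Submodule F (ι → F) :=
    { carrier := {v | D v = 0}
      zero_mem' := by simpa using hsmul 0 0
      add_mem' := fun {u v} hu hv => by
        show D (u + v) = 0
        rw [hadd, show D u = 0 from hu, show D v = 0 from hv, add_zero]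
      smul_mem' := fun a v hv => by
        show D (a • v) = 0
        rw [hsmul, show D v = 0 from hv, mul_zero] }
  rcases (irreducible_iff H).mp hirr W (fun g hg v hv => (hinv g hg v).trans hv) with e | e
  · exfalso
    obtain ⟨u, hu⟩ := exists_ne (0 : ι → F)
    have hDu : D u ≠ 0 := fun h0 => hu ((Submodule.eq_bot_iff _).mp e u h0)
    have htop : Submodule.span F {u} = ⊤ := Submodule.eq_top_iff'.mpr fun v => by
      obtain ⟨a, ha⟩ := FiniteField.isSquare_of_char_two (ringChar.eq F 2) (D v / D u)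
      have h0 : v + a • u = 0 := (Submodule.eq_bot_iff _).mp e _ (show D _ = 0 by
        rw [hadd, hsmul, sq, ← ha, div_mul_cancel₀ _ hDu, ← two_mul, h2, zero_mul])
      exact Submodule.mem_span_singleton.mpr ⟨-a, by rw [neg_smul, eq_comm, eq_neg_iff_add_eq_zero, h0]⟩
    have h1 := finrank_span_singleton (K := F) hu
    rw [htop, finrank_top, finrank_pi_card] at h1
    omega
  · exact fun v => show v ∈ W from e ▸ Submodule.mem_top

/-- An invariant quadratic form with the same polar form is the same form. -/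
theorem eq_of_invariant {H : Subgroup (GL ι F)} (hirr : ActsIrreducibly (matrixSet H)) (hn : 2 ≤ Fintype.card ι)
    (h2 : (2 : F) = 0) (hiso : ∀ g ∈ H, ∀ x, Q ((g : Matrix ι ι F) *ᵥ x) = Q x) {Q' : (ι → F) → F}
    (hs : ∀ (a : F) v, Q' (a • v) = a ^ 2 * Q' v)
    (hp : ∀ u v, QuadraticMap.polar Q' u v = QuadraticMap.polar (⇑Q) u v)
    (hinv : ∀ g ∈ H, ∀ v, Q' ((g : Matrix ι ι F) *ᵥ v) = Q' v) : ∀ v, Q v = Q' v := by
  have hD := semilinear_zero hirr hn h2 (D := fun v => Q v - Q' v) (fun u v => by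
      have h := hp u v
      simp only [QuadraticMap.polar] at h
      linear_combination -h)
    (fun a v => by rw [QuadraticMap.map_smul, hs, smul_eq_mul]; ring)
    (fun g hg v => by rw [hiso g hg, hinv g hg])
  exact fun v => sub_eq_zero.mp (hD v)

/-- A family of mutually orthogonal singular vectors spans a singular subspace. -/
theorem span_singular {κ : Type*} (w : κ → ι → F) (hq : ∀ i, Q (w i) = 0)
    (hp : ∀ i j, QuadraticMap.polar (⇑Q) (w i) (w j) = 0) :
    IsTotallySingularQuad (⇑Q) (Submodule.span F (Set.range w)) := by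
  intro x hx
  have hpol : ∀ i, ∀ y ∈ Submodule.span F (Set.range w), QuadraticMap.polar (⇑Q) (w i) y = 0 := by
    intro i y hy
    induction hy using Submodule.span_induction with
    | mem y hy => obtain ⟨j, rfl⟩ := hy; exact hp i j
    | zero => exact QuadraticMap.polar_zero_right _ _
    | add a b _ _ ha hb => rw [QuadraticMap.polar_add_right, ha, hb, add_zero]
    | smul c a _ ha => rw [QuadraticMap.polar_smul_right, ha, smul_zero]
  have hpol2 : ∀ a ∈ Submodule.span F (Set.range w), ∀ y ∈ Submodule.span F (Set.range w),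
      QuadraticMap.polar (⇑Q) a y = 0 := by
    intro a ha y hy
    induction ha using Submodule.span_induction with
    | mem a ha => obtain ⟨j, rfl⟩ := ha; exact hpol j y hy
    | zero => exact QuadraticMap.polar_zero_left _ _
    | add a b _ _ ha hb => rw [QuadraticMap.polar_add_left, ha, hb, add_zero]
    | smul c a _ ha => rw [QuadraticMap.polar_smul_left, ha, smul_zero]
  induction hx using Submodule.span_induction with
  | mem x hx => obtain ⟨i, rfl⟩ := hx; exact hq i
  | zero => exact QuadraticMap.map_zero Q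
  | add a b ha hb h1 h2 => rw [QuadraticMap.map_add (f := Q), h1, h2, hpol2 a ha b hb, add_zero, add_zero]
  | smul c a _ h1 => rw [QuadraticMap.map_smul, h1, smul_zero]

theorem plus_of_singular {W : Submodule F (ι → F)} (hs : IsTotallySingularQuad (⇑Q) W)
    (hd : 2 * Module.finrank F W = Fintype.card ι) : IsPlusTypeOn (⇑Q) ⊤ :=
  ⟨W, le_top, hs, by rw [finrank_top, finrank_pi_card, hd]⟩

theorem plus_of_family {κ : Type*} [Fintype κ] (hd : 2 * Fintype.card κ = Fintype.card ι) (w : κ → ι → F)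
    (hli : LinearIndependent F w) (hq : ∀ i, Q (w i) = 0) (hp : ∀ i j, QuadraticMap.polar (⇑Q) (w i) (w j) = 0) :
    IsPlusTypeOn (⇑Q) ⊤ :=
  plus_of_singular Q (span_singular Q w hq hp) (by rw [finrank_span_eq_card hli, hd])

include hQ

/-- A square discriminant gives plus type when the degree is divisible by four. -/
theorem plus_of_square (h2 : (2 : F) ≠ 0) {k : ℕ} (hk : Even k) (hn : Fintype.card ι = 2 * k)
    (hsq : IsSquare (gramMatrix (QuadraticMap.polar (⇑Q))).det) : IsPlusTypeOn (⇑Q) ⊤ := by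
  classical
  let b := (Pi.basisFun F ι).reindex (Equiv.ulift.{u}.symm)
  obtain ⟨X, hX, hXi⟩ := Cfsg.Lib.Classical.TensorType.half_of_square k
    (B := QuadraticMap.polarBilin Q) ⟨fun u v => QuadraticMap.polar_comm _ _ _, fun u hu => hQ.1 u hu, h2⟩
    (by rw [finrank_pi_card, hn]) b (by
      rw [hk.neg_one_pow, one_mul]
      have e : Cfsg.Lib.Classical.TensorType.gram (QuadraticMap.polarBilin Q) b =
          (gramMatrix (QuadraticMap.polar (⇑Q))).submatrix Equiv.ulift Equiv.ulift := by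
        ext i j
        simp [Cfsg.Lib.Classical.TensorType.gram, b, gramMatrix]
      rw [e, Matrix.det_submatrix_equiv_self]
      exact hsq)
  refine plus_of_singular Q (W := X) (fun x hx => ?_) (by rw [hX, hn])
  rw [Cfsg.Lib.Classical.PrimeDim.Orth.quad_eq_half Q h2, show QuadraticMap.polar (⇑Q) x x = 0 from hXi x hx x hx,
    zero_div]

theorem gram_cols {κ : Type} [Fintype κ] [DecidableEq κ] (Φ : Matrix ι κ F) (p q : κ) :
    QuadraticMap.polar (⇑Q) (Φ.col p) (Φ.col q) = (orth_refl Q hQ).gramIn Φ p q := by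
  rw [← Matrix.mulVec_single_one, ← Matrix.mulVec_single_one, (orth_refl Q hQ).apply_coords, RingEquiv.coe_refl,
    Function.id_comp, Matrix.mulVec_single_one, single_one_dotProduct]
  rfl

/-- Coordinates with a square Gram determinant. -/
theorem plus_of_coords (h2 : (2 : F) ≠ 0) {k : ℕ} (hk : Even k) (hn : Fintype.card ι = 2 * k) {κ : Type} [Fintype κ]
    [DecidableEq κ] (hκ : Fintype.card ι = Fintype.card κ) (Φ : Matrix ι κ F)
    (hd0 : ((orth_refl Q hQ).gramIn Φ).det ≠ 0) (hsq : IsSquare ((orth_refl Q hQ).gramIn Φ).det) :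
    IsPlusTypeOn (⇑Q) ⊤ := by
  classical
  obtain ⟨e⟩ : Nonempty (ι ≃ κ) := ⟨Fintype.equivOfCardEq hκ⟩
  set Φ' := Φ.submatrix id e
  have e1 : Φ'ᵀ * gramMatrix (QuadraticMap.polar (⇑Q)) * Φ' = ((orth_refl Q hQ).gramIn Φ).submatrix e e := by
    ext i j
    simp [Φ', ReflForm.gramIn, Matrix.mul_apply]
  have e2 := congrArg Matrix.det e1
  rw [Matrix.det_submatrix_equiv_self, Matrix.det_mul, Matrix.det_mul, Matrix.det_transpose] at e2
  obtain ⟨r, hr⟩ := hsq
  have hΦ : Φ'.det ≠ 0 := fun h0 => hd0 (by rw [← e2, h0, mul_zero])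
  refine plus_of_square Q hQ h2 hk hn ⟨r / Φ'.det, ?_⟩
  field_simp
  linear_combination e2 + hr

/-- Half of the coordinates spanning a singular subspace. -/
theorem plus_of_half_cols {μ : Type} [Fintype μ] [DecidableEq μ] {Φ : Matrix ι (Fin 2 × μ) F}
    {Ψ : Matrix (Fin 2 × μ) ι F} (hc : Coords Φ Ψ) (hq : ∀ a, Q (Φ.col (0, a)) = 0)
    (hp : ∀ a b, (orth_refl Q hQ).gramIn Φ (0, a) (0, b) = 0) : IsPlusTypeOn (⇑Q) ⊤ := by
  refine plus_of_family Q (κ := μ) ?_ (fun a => Φ.col (0, a)) ?_ hq fun a b => (gram_cols Q hQ Φ _ _).trans (hp a b)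
  · rw [← hc.card_eq, Fintype.card_prod, Fintype.card_fin]
  · rw [Fintype.linearIndependent_iff]
    intro c hc0 a
    have h1 := congrArg (fun v => (Ψ *ᵥ v) (0, a)) hc0
    simp only [Matrix.mulVec_sum, Matrix.mulVec_smul, Matrix.mulVec_zero, Pi.zero_apply, ← Matrix.mulVec_single_one,
      Matrix.mulVec_mulVec, hc.right, Matrix.one_mulVec, Finset.sum_apply, Pi.smul_apply, smul_eq_mul] at h1
    simpa [Pi.single_apply] using h1

/-- An invariant half form is the form. -/
theorem half_form_eq {H : Subgroup (GL ι F)} (hirr : ActsIrreducibly (matrixSet H))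
    (hiso : ∀ g ∈ H, ∀ x, Q ((g : Matrix ι ι F) *ᵥ x) = Q x) (h2 : (2 : F) = 0) {μ : Type} [Fintype μ] [DecidableEq μ]
    [Nonempty μ] {Φ : Matrix ι (Fin 2 × μ) F} {Ψ : Matrix (Fin 2 × μ) ι F} (hc : Coords Φ Ψ) {g : F} {X : Matrix μ μ F}
    (hX : Xᵀ = X) (hgram : (orth_refl Q hQ).gramIn Φ = g • ((!![0, 1; 1, 0] : Matrix (Fin 2) (Fin 2) F) ⊗ₖ X))
    (hinv : ∀ h ∈ H, ∃ s : F, ∀ v, halfQuad X (Ψ *ᵥ ((h : Matrix ι ι F) *ᵥ v)) = s * halfQuad X (Ψ *ᵥ v)) :
    ∀ v, Q v = g * halfQuad X (Ψ *ᵥ v) := by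
  classical
  have hf := orth_refl Q hQ
  have hcard : Fintype.card ι = 2 * Fintype.card μ := by rw [← hc.card_eq, Fintype.card_prod, Fintype.card_fin]
  have hn : 2 ≤ Fintype.card ι := by have := Fintype.card_pos (α := μ); omega
  haveI : Nonempty ι := Fintype.card_pos_iff.mp (by omega)
  let Q' : (ι → F) → F := fun v => g * halfQuad X (Ψ *ᵥ v)
  have hpol : ∀ u v, QuadraticMap.polar Q' u v = QuadraticMap.polar (⇑Q) u v := fun u v => by
    set x := Ψ *ᵥ u
    set y := Ψ *ᵥ v
    have h1 : QuadraticMap.polar (⇑Q) u v = x ⬝ᵥ (hf.gramIn Φ *ᵥ y) := by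
      conv_lhs => rw [show u = Φ *ᵥ x by rw [Matrix.mulVec_mulVec, hc.left, Matrix.one_mulVec],
        show v = Φ *ᵥ y by rw [Matrix.mulVec_mulVec, hc.left, Matrix.one_mulVec]]
      rw [hf.apply_coords, RingEquiv.coe_refl, Function.id_comp]
    have hs : (fun a => y (0, a)) ⬝ᵥ (X *ᵥ fun a => x (1, a)) = (fun a => x (1, a)) ⬝ᵥ (X *ᵥ fun a => y (0, a)) := by
      rw [Matrix.dotProduct_mulVec, ← Matrix.mulVec_transpose, hX, dotProduct_comm]
    rw [h1, show hf.gramIn Φ = _ from hgram, Matrix.smul_mulVec, dotProduct_smul, smul_eq_mul]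
    simp only [QuadraticMap.polar, Q', Matrix.mulVec_add, halfQuad]
    simp only [show Ψ *ᵥ u = x from rfl, show Ψ *ᵥ v = y from rfl]
    rw [show (fun a => (x + y) (0, a)) = (fun a => x (0, a)) + fun a => y (0, a) from rfl,
      show (fun a => (x + y) (1, a)) = (fun a => x (1, a)) + fun a => y (1, a) from rfl]
    simp only [Matrix.mulVec_add, add_dotProduct, dotProduct_add, hs]
    simp [Matrix.mulVec, dotProduct, Fintype.sum_prod_type, Fin.sum_univ_two]
    ring
  have hsmul : ∀ (a : F) v, Q' (a • v) = a ^ 2 * Q' v := fun a v => by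
    simp only [Q', halfQuad, Matrix.mulVec_smul]
    rw [show (fun i => (a • (Ψ *ᵥ v)) (0, i)) = a • fun i => (Ψ *ᵥ v) (0, i) from rfl,
      show (fun i => (a • (Ψ *ᵥ v)) (1, i)) = a • fun i => (Ψ *ᵥ v) (1, i) from rfl]
    simp only [Matrix.mulVec_smul, smul_dotProduct, dotProduct_smul, smul_eq_mul]
    ring
  have hinv' : ∀ h ∈ H, ∀ v, Q' ((h : Matrix ι ι F) *ᵥ v) = Q' v := fun h hh v => by
    obtain ⟨s, hs⟩ := hinv h hh
    have hs' : ∀ v, Q' ((h : Matrix ι ι F) *ᵥ v) = s * Q' v := fun v => by simp only [Q', hs]; ring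
    obtain ⟨u₀, hu⟩ := exists_ne (0 : ι → F)
    obtain ⟨v₀, hv⟩ := (hf.nondegenerate u₀ hu).2
    have h1 := orth_fixes Q hiso h hh u₀ v₀
    rw [← hpol, ← hpol] at h1
    rw [← hpol] at hv
    have hs1 : (s - 1) * QuadraticMap.polar Q' u₀ v₀ = 0 := by
      simp only [QuadraticMap.polar, ← Matrix.mulVec_add, hs'] at h1 ⊢
      linear_combination h1
    rw [hs', sub_eq_zero.mp ((mul_eq_zero.mp hs1).resolve_right hv), one_mul]
  have heq := eq_of_invariant Q hirr hn h2 hiso hsmul hpol hinv'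
  exact heq

/-- A stabilised pair of coordinates whose half form is invariant up to scalars. -/
theorem plus_of_half_invariant {H : Subgroup (GL ι F)} (hirr : ActsIrreducibly (matrixSet H))
    (hiso : ∀ g ∈ H, ∀ x, Q ((g : Matrix ι ι F) *ᵥ x) = Q x) (h2 : (2 : F) = 0) {μ : Type} [Fintype μ] [DecidableEq μ]
    [Nonempty μ] {Φ : Matrix ι (Fin 2 × μ) F} {Ψ : Matrix (Fin 2 × μ) ι F} (hc : Coords Φ Ψ) {g : F} {X : Matrix μ μ F}
    (hX : Xᵀ = X) (hgram : (orth_refl Q hQ).gramIn Φ = g • ((!![0, 1; 1, 0] : Matrix (Fin 2) (Fin 2) F) ⊗ₖ X))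
    (hinv : ∀ h ∈ H, ∃ s : F, ∀ v, halfQuad X (Ψ *ᵥ ((h : Matrix ι ι F) *ᵥ v)) = s * halfQuad X (Ψ *ᵥ v)) :
    IsPlusTypeOn (⇑Q) ⊤ := by
  classical
  have heq := half_form_eq Q hQ hirr hiso h2 hc hX hgram hinv
  refine plus_of_half_cols Q hQ hc (fun a => ?_) (fun a b => ?_)
  · have hsingle : Ψ *ᵥ Φ.col (0, a) = Pi.single (0, a) 1 := by
      rw [← Matrix.mulVec_single_one, Matrix.mulVec_mulVec, hc.right, Matrix.one_mulVec]
    rw [heq]
    simp only [hsingle, halfQuad]
    simp [Pi.single_apply, dotProduct, Matrix.mulVec]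
  · rw [hgram]
    simp

/-- A tensor product with a plane is of plus type. -/
theorem plus_of_tensor {H : Subgroup (GL ι F)} (hirr : ActsIrreducibly (matrixSet H))
    (hiso : ∀ g ∈ H, ∀ x, Q ((g : Matrix ι ι F) *ᵥ x) = Q x) {k : ℕ} (hk : Even k) {Φ : Matrix ι (Fin 2 × Fin k) F}
    {Ψ : Matrix (Fin 2 × Fin k) ι F} {X₁ : Matrix (Fin 2) (Fin 2) F} {X₂ : Matrix (Fin k) (Fin k) F}
    (hT : TensorForm (RingEquiv.refl F) (QuadraticMap.polar (⇑Q)) H Φ Ψ X₁ X₂) {l : F} (hl : l * l = 1)
    (h1 : X₁ᵀ = l • X₁) (h2' : X₂ᵀ = (1 / l) • X₂) : IsPlusTypeOn (⇑Q) ⊤ := by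
  classical
  have hf := orth_refl Q hQ
  have hgram : hf.gramIn Φ = X₁ ⊗ₖ X₂ := hT.gram
  have hcard : Fintype.card ι = 2 * k := by
    rw [← hT.coords.card_eq, Fintype.card_prod, Fintype.card_fin, Fintype.card_fin]
  haveI : Nonempty (Fin k) := ⟨⟨0, by have := hT.two_right; omega⟩⟩
  by_cases h2 : (2 : F) = 0
  · haveI : CharP F 2 := CharTwo.of_one_ne_zero_of_two_eq_zero one_ne_zero h2
    obtain rfl : l = 1 := by
      rcases mul_self_eq_one_iff.mp hl with e | e
      · exact e
      · rw [e, CharTwo.neg_eq]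
    rw [one_smul] at h1
    rw [div_one, one_smul] at h2'
    have hd1 := hT.swap.diag_right hirr h2 h1
    have hd2 := hT.diag_right hirr h2 h2'
    have hX1 : X₁ = X₁ 0 1 • !![0, 1; 1, 0] := by
      have h10 : X₁ 1 0 = X₁ 0 1 := congrFun (congrFun h1 0) 1
      ext i j; fin_cases i <;> fin_cases j <;> simp [hd1, h10]
    have halt : ∀ v, v ⬝ᵥ (X₂ *ᵥ v) = 0 := fun v => by
      have := (matForm_symplectic hT.det_right (by rw [h2']; exact Matrix.ext fun i j => (CharTwo.neg_eq _).symm) hd2).alternating v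
      simpa [matForm] using this
    refine plus_of_half_invariant Q hQ hirr hiso h2 hT.coords (g := X₁ 0 1) h2' ?_ fun h hh => ?_
    · rw [hgram]
      conv_lhs => rw [hX1]
      rw [Matrix.smul_kronecker]
    · obtain ⟨a, b, c, -, hab, -, hb⟩ := hT.split h hh
      rw [RingEquiv.coe_refl, Matrix.map_id] at hb
      refine ⟨a.det * c⁻¹, fun v => ?_⟩
      rw [← halfQuad_kron h2 h2' halt hb a (Ψ *ᵥ v), Matrix.mulVec_mulVec, Matrix.mulVec_mulVec, ← hab,
        Matrix.mul_assoc _ Φ Ψ, hT.coords.left, Matrix.mul_one]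
  rcases mul_self_eq_one_iff.mp hl with rfl | rfl
  · refine plus_of_coords Q hQ h2 hk hcard hT.coords.card_eq.symm Φ ?_ ?_ <;>
      rw [hgram, Matrix.det_kronecker, Fintype.card_fin, Fintype.card_fin]
    · exact mul_ne_zero (pow_ne_zero _ hT.det_left) (pow_ne_zero _ hT.det_right)
    · obtain ⟨j, rfl⟩ := hk
      exact ⟨X₁.det ^ j * X₂.det, by rw [pow_add]; ring⟩
  · have h00 : X₁ 0 0 = 0 := by
      have := congrFun (congrFun h1 0) 0
      rw [Matrix.transpose_apply, Matrix.smul_apply, smul_eq_mul, neg_one_mul, eq_neg_iff_add_eq_zero, ← two_mul] at this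
      exact (mul_eq_zero.mp this).resolve_left h2
    have hp : ∀ a b, hf.gramIn Φ (0, a) (0, b) = 0 := fun a b => by
      rw [hgram, Matrix.kronecker_apply, h00, zero_mul]
    refine plus_of_half_cols Q hQ hT.coords (fun a => ?_) hp
    rw [Cfsg.Lib.Classical.PrimeDim.Orth.quad_eq_half Q h2, gram_cols Q hQ, hp, zero_div]

/-- An even number of isometric orthogonal blocks is of plus type. -/
theorem plus_of_blocks {s k : ℕ} (hn : Fintype.card ι = (s + s) * k) (hev : Even (s * k))
    (Φ : Matrix ι (Fin (s + s) × Fin k) F) {G : Matrix (Fin k) (Fin k) F} (hG : G.det ≠ 0)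
    (hgram : (orth_refl Q hQ).gramIn Φ = (1 : Matrix (Fin (s + s)) (Fin (s + s)) F) ⊗ₖ G)
    (hq : ∀ i j a, Q (Φ.col (i, a)) = Q (Φ.col (j, a))) : IsPlusTypeOn (⇑Q) ⊤ := by
  classical
  by_cases h2 : (2 : F) = 0
  swap
  · refine plus_of_coords Q hQ h2 hev (by rw [hn]; ring) (by simp [hn]) Φ ?_ ?_ <;>
      rw [hgram, Matrix.det_kronecker, Matrix.det_one, one_pow, one_mul, Fintype.card_fin]
    · exact pow_ne_zero _ hG
    · exact ⟨G.det ^ s, by rw [pow_add]⟩
  haveI : CharP F 2 := CharTwo.of_one_ne_zero_of_two_eq_zero one_ne_zero h2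
  let il : Fin s → Fin (s + s) := Fin.castAdd s
  let ir : Fin s → Fin (s + s) := Fin.natAdd s
  have hne : ∀ i j, il i ≠ ir j := fun i j e => by
    have := congrArg Fin.val e
    simp [il, ir] at this
    omega
  have hpol : ∀ i j a b, QuadraticMap.polar (⇑Q) (Φ.col (i, a)) (Φ.col (j, b)) = if i = j then G a b else 0 :=
    fun i j a b => by
      rw [gram_cols Q hQ, hgram, Matrix.kronecker_apply, Matrix.one_apply, ite_mul, one_mul, zero_mul]
  refine plus_of_family Q (κ := Fin s × Fin k) (by rw [hn, Fintype.card_prod, Fintype.card_fin, Fintype.card_fin]; ring)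
    (fun p => Φ.col (il p.1, p.2) + Φ.col (ir p.1, p.2)) ?_ (fun p => ?_) fun p q => ?_
  · rw [Fintype.linearIndependent_iff]
    intro c hc0
    have h1 : ∀ j b, ∑ a, c (j, a) * G a b = 0 := fun j b => by
      have := congrArg (fun v => QuadraticMap.polarBilin Q v (Φ.col (il j, b))) hc0
      simp only [map_sum, map_smul, map_add, map_zero, LinearMap.coe_sum, Finset.sum_apply, LinearMap.smul_apply,
        LinearMap.add_apply, LinearMap.zero_apply, QuadraticMap.polarBilin_apply_apply, hpol, smul_eq_mul,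
        Fintype.sum_prod_type] at this
      rw [Finset.sum_eq_single j (fun i _ hi => Finset.sum_eq_zero fun a _ => by
        rw [if_neg (fun e => hi ((Fin.castAdd_injective _ _) e)), if_neg (fun e => hne j i e.symm), add_zero,
          mul_zero]) (by simp)] at this
      simpa [(hne j j).symm] using this
    intro p
    exact congrFun (Matrix.eq_zero_of_vecMul_eq_zero hG (funext fun b => h1 p.1 b)) p.2
  · rw [QuadraticMap.map_add (f := Q), hq (ir p.1) (il p.1), hpol, if_neg (hne _ _), add_zero,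
      CharTwo.add_self_eq_zero]
  · rw [QuadraticMap.polar_add_left, QuadraticMap.polar_add_right, QuadraticMap.polar_add_right, hpol, hpol, hpol, hpol,
      if_neg (hne p.1 q.1), if_neg (hne q.1 p.1).symm]
    by_cases h : p.1 = q.1
    · simp [h, CharTwo.add_self_eq_zero]
    · simp [show il p.1 ≠ il q.1 from fun e => h ((Fin.castAdd_injective _ _) e),
        show ir p.1 ≠ ir q.1 from fun e => h ((Fin.natAdd_injective _ _) e)]

/-- A pair of totally isotropic halves is of plus type. -/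
theorem pair_singular {H : Subgroup (GL ι F)} (hirr : ActsIrreducibly (matrixSet H))
    (hiso : ∀ g ∈ H, ∀ x, Q ((g : Matrix ι ι F) *ᵥ x) = Q x) {k : ℕ} (hk : 2 * k = Fintype.card ι)
    {D : Fin 2 → Submodule F (ι → F)} (hD : IsMDecomposition k D)
    (hts : ∀ i, IsTotallySingularFor (QuadraticMap.polar (⇑Q)) (D i)) (hle : H ≤ decompositionStabilizer D) :
    IsTotallySingularQuad (⇑Q) (D 0) := by
  classical
  by_cases h2 : (2 : F) = 0
  swap
  · intro w hw
    rw [Cfsg.Lib.Classical.PrimeDim.Orth.quad_eq_half Q h2, hts 0 w hw w hw, zero_div]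
  have hf := orth_refl Q hQ
  have hc : IsCompl (D 0) (D 1) := by
    refine ⟨hD.indep.pairwiseDisjoint (show (0 : Fin 2) ≠ 1 by decide), codisjoint_iff.mpr ?_⟩
    rw [eq_top_iff, ← hD.iSup_eq_top]
    exact iSup_le fun i => by fin_cases i <;> first | exact le_sup_left | exact le_sup_right
  let p₀ := (D 0).projectionOnto (D 1) hc
  let p₁ := (D 1).projectionOnto (D 0) hc.symm
  have hproj : ∀ x ∈ D 0, ∀ y ∈ D 1, (p₀ (x + y) : ι → F) = x ∧ (p₁ (x + y) : ι → F) = y :=
    fun x hx y hy => by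
      simp only [p₀, p₁, map_add]
      rw [Submodule.projectionOnto_apply_left hc ⟨x, hx⟩, Submodule.projectionOnto_apply_right hc ⟨y, hy⟩,
        Submodule.projectionOnto_apply_left hc.symm ⟨y, hy⟩, Submodule.projectionOnto_apply_right hc.symm ⟨x, hx⟩]
      simp
  have hdec : ∀ v, (p₀ v : ι → F) + p₁ v = v := fun v => by
    obtain ⟨x, hx, y, hy, rfl⟩ := Submodule.mem_sup.mp (show v ∈ D 0 ⊔ D 1 by rw [hc.sup_eq_top]; trivial)
    rw [(hproj x hx y hy).1, (hproj x hx y hy).2]
  let Q' : (ι → F) → F := fun v => QuadraticMap.polar (⇑Q) (p₀ v) (p₁ v)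
  have hQ' : ∀ x ∈ D 0, ∀ y ∈ D 1, Q' (x + y) = QuadraticMap.polar (⇑Q) x y := fun x hx y hy => by
    show QuadraticMap.polar (⇑Q) _ _ = _
    rw [(hproj x hx y hy).1, (hproj x hx y hy).2]
  have hsmul : ∀ (a : F) v, Q' (a • v) = a ^ 2 * Q' v := fun a v => by
    simp only [Q', map_smul, Submodule.coe_smul, QuadraticMap.polar_smul_left, QuadraticMap.polar_smul_right,
      smul_eq_mul]
    ring
  have hpol : ∀ u v, QuadraticMap.polar Q' u v = QuadraticMap.polar (⇑Q) u v := fun u v => by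
    conv_rhs => rw [← hdec u, ← hdec v]
    rw [QuadraticMap.polar]
    simp only [Q', map_add, Submodule.coe_add, QuadraticMap.polar_add_left, QuadraticMap.polar_add_right]
    rw [hts 0 _ (p₀ u).2 _ (p₀ v).2, hts 1 _ (p₁ u).2 _ (p₁ v).2,
      QuadraticMap.polar_comm (⇑Q) (p₁ u : ι → F) (p₀ v : ι → F)]
    ring
  have hinv : ∀ g ∈ H, ∀ v, Q' ((g : Matrix ι ι F) *ᵥ v) = Q' v := fun g hg v => by
    obtain ⟨π, hπ⟩ := hle hg
    have hmem : ∀ i, ∀ x ∈ D i, (g : Matrix ι ι F) *ᵥ x ∈ D (π i) := fun i x hx => by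
      rw [← hπ i]; exact ⟨x, hx, Matrix.toLin'_apply _ _⟩
    have hfix := orth_fixes Q hiso g hg (p₀ v : ι → F) (p₁ v : ι → F)
    conv_lhs => rw [← hdec v, Matrix.mulVec_add]
    by_cases h0 : π 0 = 0
    · have h1 : π 1 = 1 := by
        by_contra hne
        exact absurd (π.injective (h0.trans (show (0 : Fin 2) = π 1 by omega))) (by decide)
      rw [hQ' _ (by have := hmem 0 _ (p₀ v).2; rwa [h0] at this) _ (by have := hmem 1 _ (p₁ v).2; rwa [h1] at this)]
      exact hfix
    · have h0' : π 0 = 1 := by omega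
      have h1 : π 1 = 0 := by
        by_contra hne
        exact absurd (π.injective (h0'.trans (show (1 : Fin 2) = π 1 by omega))) (by decide)
      rw [add_comm, hQ' _ (h1 ▸ hmem 1 _ (p₁ v).2) _ (h0' ▸ hmem 0 _ (p₀ v).2), QuadraticMap.polar_comm]
      exact hfix
  have heq := eq_of_invariant Q hirr (by have := hD.pos; omega) h2 hiso hsmul hpol hinv
  intro w hw
  have := hQ' w hw 0 (D 1).zero_mem
  rw [add_zero, QuadraticMap.polar_zero_right] at this
  rw [heq, this]

/-- An irreducibly stabilised pair of singular halves gives plus type. -/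
theorem plus_of_pair {H : Subgroup (GL ι F)} (hirr : ActsIrreducibly (matrixSet H))
    (hiso : ∀ g ∈ H, ∀ x, Q ((g : Matrix ι ι F) *ᵥ x) = Q x) {k : ℕ} (hk : 2 * k = Fintype.card ι)
    {D : Fin 2 → Submodule F (ι → F)} (hD : IsMDecomposition k D)
    (hts : ∀ i, IsTotallySingularFor (QuadraticMap.polar (⇑Q)) (D i)) (hle : H ≤ decompositionStabilizer D) :
    IsPlusTypeOn (⇑Q) ⊤ :=
  plus_of_singular Q (pair_singular Q hQ hirr hiso hk hD hts hle) (by rw [hD.finrank_eq]; exact hk)

omit hQ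

/-- A rational form has a totally singular half after a quadratic extension. -/
theorem plus_of_index_two (hQ' : (QuadraticMap.polarBilin Q).Nondegenerate) {k : ℕ} (hn : Fintype.card ι = 2 * k)
    (F₁ : Subfield F) (hcard : Fintype.card F = Nat.card F₁ ^ 2) {c : F} (hc : c ≠ 0) (B : GL ι F)
    (hrat : IsQuadFormRationalStructure (fun v => c * Q v) F₁ B) : IsPlusTypeOn (⇑Q) ⊤ := by
  classical
  haveI : Finite F₁ := Finite.of_injective _ Subtype.val_injective
  let inc : (ι → F₁) → (ι → F) := fun u => (B : Matrix ι ι F) *ᵥ fun i => (u i : F)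
  have hadd : ∀ u v, inc (u + v) = inc u + inc v := fun u v => by
    simp only [inc, ← Matrix.mulVec_add]; rfl
  have hsmul : ∀ (a : F₁) u, inc (a • u) = (a : F) • inc u := fun a u => by
    simp only [inc, ← Matrix.mulVec_smul]; rfl
  have hinc0 : ∀ u, inc u = 0 → u = 0 := fun u h => by
    by_contra hu
    refine gl_mulVec_ne_zero B (fun e => hu (funext fun i => Subtype.ext (congrFun e i))) h
  have hpol : ∀ u v, c * QuadraticMap.polar (⇑Q) (inc u) (inc v) =
      c * Q (inc (u + v)) - c * Q (inc u) - c * Q (inc v) := fun u v => by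
    rw [hadd, QuadraticMap.polar]; ring
  let q : (ι → F₁) → F₁ := fun u => ⟨c * Q (inc u), hrat _ fun i => (u i).2⟩
  have hqpol : ∀ u v, ((QuadraticMap.polar q u v : F₁) : F) = c * QuadraticMap.polar (⇑Q) (inc u) (inc v) := fun u v => by
    rw [hpol]; rfl
  let Q₁ : QuadraticForm F₁ (ι → F₁) := QuadraticMap.ofPolar q
    (fun a u => Subtype.ext (by
      show c * Q (inc (a • u)) = ((a * a) • q u : F₁)
      rw [hsmul, QuadraticMap.map_smul, smul_eq_mul]
      show _ = (a : F) * a * (c * Q (inc u))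
      ring))
    (fun x x' y => Subtype.ext (by
      rw [Subfield.coe_add, hqpol, hqpol, hqpol, hadd, QuadraticMap.polar_add_left, mul_add]))
    (fun a x y => Subtype.ext (by
      show _ = (a : F) * (QuadraticMap.polar q x y : F₁)
      rw [hqpol, hqpol, hsmul, QuadraticMap.polar_smul_left, smul_eq_mul]; ring))
  have hQ₁ : ∀ u, ((Q₁ u : F₁) : F) = c * Q (inc u) := fun u => rfl
  have hp₁ : ∀ u v, ((QuadraticMap.polar (⇑Q₁) u v : F₁) : F) = c * QuadraticMap.polar (⇑Q) (inc u) (inc v) := hqpol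
  have hnd : IsNondegenerateOn (QuadraticMap.polar (⇑Q₁)) (⊤ : Submodule F₁ (ι → F₁)) := by
    intro u _ hu
    obtain ⟨v, hv⟩ : ∃ v, QuadraticMap.polar (⇑Q₁) u v ≠ 0 := by
      by_contra hcon
      push Not at hcon
      refine hu (hinc0 u (hQ'.1 _ fun y => ?_))
      have hzero : (QuadraticMap.polarBilin Q (inc u)).comp (Matrix.toLin' (B : Matrix ι ι F)) = 0 :=
        (Pi.basisFun F ι).ext fun i => by
          have h1 := congrArg (fun x : F₁ => (x : F)) (hcon (Pi.single i 1))
          simp only [hp₁, ZeroMemClass.coe_zero, mul_eq_zero, hc, false_or] at h1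
          simp only [LinearMap.comp_apply, Pi.basisFun_apply, Matrix.toLin'_apply, LinearMap.zero_apply,
            QuadraticMap.polarBilin_apply_apply]
          rw [← h1]
          congr 1
          show _ = (B : Matrix ι ι F) *ᵥ fun j => ((Pi.single i 1 : ι → F₁) j : F)
          congr 1
          funext j
          by_cases h : j = i <;> simp [h]
      have := LinearMap.congr_fun hzero (((B⁻¹ : GL ι F) : Matrix ι ι F) *ᵥ y)
      simpa [Cfsg.Lib.Classical.PrimeDim.mulVec_inv_mulVec] using this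
    exact ⟨⟨v, trivial, by rwa [QuadraticMap.polar_comm]⟩, v, trivial, hv⟩
  let sp : Submodule F₁ (ι → F₁) → Submodule F (ι → F) := fun X => Submodule.span F (inc '' (X : Set (ι → F₁)))
  suffices h : ∀ (j : ℕ) (X : Submodule F₁ (ι → F₁)), IsNondegenerateOn (QuadraticMap.polar (⇑Q₁)) X →
      Module.finrank F₁ X = 2 * j → ∃ U ≤ sp X, Module.finrank F U = j ∧ IsTotallySingularQuad (⇑Q) U by
    obtain ⟨U, -, hU, hs⟩ := h k ⊤ hnd (by rw [finrank_top, Module.finrank_fintype_fun_eq_card, hn])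
    exact plus_of_singular Q hs (by rw [hU, hn])
  have hq0 : ∀ u, Q₁ u = 0 → Q (inc u) = 0 := fun u hu => by
    have := hQ₁ u
    rw [hu, ZeroMemClass.coe_zero] at this
    exact (mul_eq_zero.mp this.symm).resolve_left hc
  have hp0 : ∀ u v, QuadraticMap.polar (⇑Q₁) u v = 0 → QuadraticMap.polar (⇑Q) (inc u) (inc v) = 0 := fun u v hu => by
    have := hp₁ u v
    rw [hu, ZeroMemClass.coe_zero] at this
    exact (mul_eq_zero.mp this.symm).resolve_left hc
  intro j
  induction j with
  | zero =>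
    exact fun X _ _ => ⟨⊥, bot_le, finrank_bot F (ι → F), fun w hw => by
      rw [(Submodule.mem_bot F).mp hw, QuadraticMap.map_zero]⟩
  | succ j ih =>
    intro X hX hXd
    rcases Nat.eq_zero_or_pos j with rfl | hj
    · -- a plane
      obtain ⟨x, hx, hx0⟩ := X.exists_mem_ne_zero_of_ne_bot (fun h => by rw [h, finrank_bot] at hXd; omega)
      obtain ⟨y, hy, hxy⟩ : ∃ y ∈ X, y ∉ Submodule.span F₁ {x} := by
        by_contra hcon
        push Not at hcon
        have := Submodule.finrank_mono (show X ≤ Submodule.span F₁ {x} from hcon)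
        rw [finrank_span_singleton hx0, hXd] at this
        omega
      by_cases hx1 : Q₁ x = 0
      · refine ⟨Submodule.span F {inc x}, Submodule.span_mono (by simpa using ⟨x, hx, rfl⟩), ?_, ?_⟩
        · exact finrank_span_singleton fun h => hx0 (hinc0 x h)
        · intro w hw
          obtain ⟨a, rfl⟩ := Submodule.mem_span_singleton.mp hw
          rw [QuadraticMap.map_smul, hq0 x hx1, smul_zero]
      obtain ⟨t, ht⟩ := quad_root F₁ hcard (Q₁ x).2 (QuadraticMap.polar (⇑Q₁) x y).2 (Q₁ y).2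
        (fun h => hx1 (Subtype.ext h))
      have hv0 : t • inc x + inc y ≠ 0 := fun h => by
        obtain ⟨i, hi⟩ := Function.ne_iff.mp hx0
        have h' : t • (fun i => (x i : F)) + (fun i => (y i : F)) = 0 := by
          by_contra hne
          refine gl_mulVec_ne_zero B hne ?_
          rw [Matrix.mulVec_add, Matrix.mulVec_smul]
          exact h
        have htm : t ∈ F₁ := by
          have hi' : (x i : F) ≠ 0 := fun e => hi (Subtype.ext e)
          have := congrFun h' i
          simp only [Pi.add_apply, Pi.smul_apply, smul_eq_mul, Pi.zero_apply] at this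
          rw [show t = -(y i : F) / (x i : F) by field_simp; linear_combination this]
          exact div_mem (neg_mem (y i).2) (x i).2
        refine hxy (Submodule.mem_span_singleton.mpr ⟨-⟨t, htm⟩, funext fun l => Subtype.ext ?_⟩)
        have := congrFun h' l
        simp only [Pi.add_apply, Pi.smul_apply, smul_eq_mul, Pi.zero_apply] at this
        show -t * (x l : F) = (y l : F)
        linear_combination -this
      refine ⟨Submodule.span F {t • inc x + inc y}, ?_, finrank_span_singleton hv0, ?_⟩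
      · rw [Submodule.span_le, Set.singleton_subset_iff]
        exact add_mem (Submodule.smul_mem _ _ (Submodule.subset_span ⟨x, hx, rfl⟩)) (Submodule.subset_span ⟨y, hy, rfl⟩)
      · intro w hw
        obtain ⟨a, rfl⟩ := Submodule.mem_span_singleton.mp hw
        rw [hQ₁, hp₁, hQ₁] at ht
        have h0 : c * Q (t • inc x + inc y) = 0 := by
          rw [QuadraticMap.map_add (f := Q), QuadraticMap.map_smul, QuadraticMap.polar_smul_left, smul_eq_mul, smul_eq_mul]
          linear_combination ht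
        rw [QuadraticMap.map_smul, (mul_eq_zero.mp h0).resolve_left hc, smul_zero]
    · -- a hyperbolic pair
      obtain ⟨w, hw, hw0, hQw⟩ := Cfsg.Lib.Classical.Refl.exists_singular Q₁ X (by omega)
      obtain ⟨-, y, hy, hwy⟩ := hX w hw hw0
      set b := QuadraticMap.polar (⇑Q₁) w y with hb
      have hww : QuadraticMap.polar (⇑Q₁) w w = 0 := by rw [QuadraticMap.polar_self, hQw, smul_zero]
      obtain ⟨r, hr, hQr, hwr⟩ : ∃ r ∈ X, Q₁ r = 0 ∧ QuadraticMap.polar (⇑Q₁) w r = 1 := by
        refine ⟨b⁻¹ • y + (-(b⁻¹ * b⁻¹ * Q₁ y)) • w, add_mem (X.smul_mem _ hy) (X.smul_mem _ hw), ?_, ?_⟩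
        · rw [QuadraticMap.map_add (f := Q₁), QuadraticMap.map_smul, QuadraticMap.map_smul, hQw,
            QuadraticMap.polar_smul_left, QuadraticMap.polar_smul_right, QuadraticMap.polar_comm (⇑Q₁) y w, ← hb,
            smul_eq_mul, smul_eq_mul, smul_eq_mul, smul_eq_mul]
          field_simp
          ring
        · rw [QuadraticMap.polar_add_right, QuadraticMap.polar_smul_right, QuadraticMap.polar_smul_right, hww, ← hb,
            smul_zero, add_zero, smul_eq_mul, inv_mul_cancel₀ hwy]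
      have hrr : QuadraticMap.polar (⇑Q₁) r r = 0 := by rw [QuadraticMap.polar_self, hQr, smul_zero]
      have hrw : QuadraticMap.polar (⇑Q₁) r w = 1 := by rw [QuadraticMap.polar_comm, hwr]
      let S : Submodule F₁ (ι → F₁) := Submodule.span F₁ {w, r}
      let X' := X ⊓ HypQuad.perp Q₁ S
      have hX'mem : ∀ {v}, v ∈ X' ↔ v ∈ X ∧ QuadraticMap.polar (⇑Q₁) w v = 0 ∧ QuadraticMap.polar (⇑Q₁) r v = 0 := by
        intro v
        simp only [X', Submodule.mem_inf, HypQuad.mem_perp]
        refine and_congr_right fun _ => ⟨fun h => ⟨h w (Submodule.subset_span (by simp)), h r (Submodule.subset_span (by simp))⟩,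
          fun h z hz => ?_⟩
        obtain ⟨a, a', rfl⟩ := Submodule.mem_span_pair.mp hz
        rw [QuadraticMap.polar_add_left, QuadraticMap.polar_smul_left, QuadraticMap.polar_smul_left, h.1, h.2]
        simp
      have hdecX : ∀ v ∈ X, v - (QuadraticMap.polar (⇑Q₁) r v • w + QuadraticMap.polar (⇑Q₁) w v • r) ∈ X' := fun v hv => by
        refine hX'mem.mpr ⟨sub_mem hv (add_mem (X.smul_mem _ hw) (X.smul_mem _ hr)), ?_, ?_⟩
        · rw [QuadraticMap.polar_sub_right, QuadraticMap.polar_add_right, QuadraticMap.polar_smul_right,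
            QuadraticMap.polar_smul_right, hww, hwr]; simp
        · rw [QuadraticMap.polar_sub_right, QuadraticMap.polar_add_right, QuadraticMap.polar_smul_right,
            QuadraticMap.polar_smul_right, hrr, hrw]; simp
      have hX'nd : IsNondegenerateOn (QuadraticMap.polar (⇑Q₁)) X' := by
        intro v hv hv0
        obtain ⟨hvX, hwv, hrv⟩ := hX'mem.mp hv
        obtain ⟨-, z, hz, hvz⟩ := hX v hvX hv0
        have h1 : QuadraticMap.polar (⇑Q₁) v (z - (QuadraticMap.polar (⇑Q₁) r z • w + QuadraticMap.polar (⇑Q₁) w z • r)) ≠ 0 := by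
          rw [QuadraticMap.polar_sub_right, QuadraticMap.polar_add_right, QuadraticMap.polar_smul_right,
            QuadraticMap.polar_smul_right, QuadraticMap.polar_comm (⇑Q₁) v w, QuadraticMap.polar_comm (⇑Q₁) v r, hwv, hrv]
          simpa using hvz
        exact ⟨⟨_, hdecX z hz, by rwa [QuadraticMap.polar_comm]⟩, _, hdecX z hz, h1⟩
      have hS : Module.finrank F₁ S = 2 := by
        have hli : LinearIndependent F₁ ![w, r] := LinearIndependent.pair_iff.mpr fun a a' h => by
          have h1 := congrArg (fun v => QuadraticMap.polar (⇑Q₁) r v) h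
          have h2 := congrArg (fun v => QuadraticMap.polar (⇑Q₁) w v) h
          simp only [QuadraticMap.polar_add_right, QuadraticMap.polar_smul_right, QuadraticMap.polar_zero_right, hww,
            hwr, hrr, hrw, smul_eq_mul, mul_one, mul_zero, add_zero, zero_add] at h1 h2
          exact ⟨h1, h2⟩
        have := finrank_span_eq_card hli
        rwa [Matrix.range_cons_cons_empty, Fintype.card_fin] at this
      have hd' : Module.finrank F₁ X' = 2 * j := by
        have hsup : X' ⊔ S = X := by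
          refine le_antisymm (sup_le inf_le_left (Submodule.span_le.mpr (by simp [Set.insert_subset_iff, hw, hr]))) fun v hv => ?_
          rw [← sub_add_cancel v (QuadraticMap.polar (⇑Q₁) r v • w + QuadraticMap.polar (⇑Q₁) w v • r)]
          exact add_mem (Submodule.mem_sup_left (hdecX v hv)) (Submodule.mem_sup_right
            (Submodule.mem_span_pair.mpr ⟨_, _, rfl⟩))
        have hinf : X' ⊓ S = ⊥ := by
          rw [Submodule.eq_bot_iff]
          rintro v ⟨hv, hvS⟩
          obtain ⟨a, a', rfl⟩ := Submodule.mem_span_pair.mp hvS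
          obtain ⟨-, h1, h2⟩ := hX'mem.mp hv
          simp only [QuadraticMap.polar_add_right, QuadraticMap.polar_smul_right, hww, hwr, hrr, hrw, smul_eq_mul,
            mul_one, mul_zero, add_zero, zero_add] at h1 h2
          rw [h1, h2, zero_smul, zero_smul, add_zero]
        have h := Submodule.finrank_sup_add_finrank_inf_eq X' S
        rw [hsup, hinf, finrank_bot, hS, hXd] at h
        omega
      obtain ⟨U, hU, hUd, hUs⟩ := ih X' hX'nd hd'
      have hperp : ∀ z ∈ sp X', QuadraticMap.polar (⇑Q) (inc w) z = 0 ∧ QuadraticMap.polar (⇑Q) (inc r) z = 0 := by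
        intro z hz
        induction hz using Submodule.span_induction with
        | mem z hz =>
          obtain ⟨v, hv, rfl⟩ := hz
          obtain ⟨-, h1, h2⟩ := hX'mem.mp hv
          exact ⟨hp0 w v h1, hp0 r v h2⟩
        | zero => simp [QuadraticMap.polar_zero_right]
        | add a a' _ _ h h' => simp [QuadraticMap.polar_add_right, h, h']
        | smul a z _ h => simp [QuadraticMap.polar_smul_right, h]
      have hwr' : QuadraticMap.polar (⇑Q) (inc r) (inc w) ≠ 0 := fun h => by
        have := hp₁ r w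
        rw [h, mul_zero, hrw] at this
        exact one_ne_zero this
      have hwU : inc w ∉ U := fun h => hwr' (hperp _ (hU h)).2
      refine ⟨U ⊔ Submodule.span F {inc w}, sup_le (hU.trans (Submodule.span_mono (Set.image_mono inf_le_left)))
        (Submodule.span_mono (by simpa using ⟨w, hw, rfl⟩)), ?_, ?_⟩
      · have hw0' : inc w ≠ 0 := fun h => hw0 (hinc0 w h)
        have h := Submodule.finrank_sup_add_finrank_inf_eq U (Submodule.span F {inc w})
        rw [((Submodule.disjoint_span_singleton' hw0').mpr hwU).eq_bot, finrank_bot, finrank_span_singleton hw0',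
          hUd] at h
        omega
      · intro z hz
        obtain ⟨u', hu', z', hz', rfl⟩ := Submodule.mem_sup.mp hz
        obtain ⟨a, rfl⟩ := Submodule.mem_span_singleton.mp hz'
        rw [QuadraticMap.map_add (f := Q), hUs u' hu', QuadraticMap.map_smul, hq0 w hQw,
          QuadraticMap.polar_smul_right, QuadraticMap.polar_comm, (hperp _ (hU hu')).1]
        simp

include hQ in
/-- The subfield structure carries the quadratic form. -/
theorem subfield_quad {H : Subgroup (GL ι F)} (hirr : ActsIrreducibly (matrixSet H)) (hn : 2 ≤ Fintype.card ι)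
    (hiso : ∀ g ∈ H, ∀ x, Q ((g : Matrix ι ι F) *ᵥ x) = Q x) {F₁ : Subfield F} {B : GL ι F}
    (hle : H ≤ subfieldSubgroup F₁ B) {c : F} (hc : c ≠ 0)
    (hs : IsFormRationalStructure (QuadraticMap.polar (⇑Q)) F₁ c B) :
    IsQuadFormRationalStructure (fun v => c * Q v) F₁ B := by
  classical
  by_cases h2 : (2 : F) = 0
  swap
  · intro u hu
    show c * Q _ ∈ F₁
    rw [Cfsg.Lib.Classical.PrimeDim.Orth.quad_eq_half Q h2, mul_div_assoc']
    refine div_mem (hs u u hu hu) ?_
    rw [← one_add_one_eq_two]; exact add_mem (one_mem _) (one_mem _)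
  haveI : CharP F 2 := CharTwo.of_one_ne_zero_of_two_eq_zero one_ne_zero h2
  haveI : Nonempty ι := Fintype.card_pos_iff.mp (by omega)
  set Bm := (B : Matrix ι ι F)
  set Bi := ((B⁻¹ : GL ι F) : Matrix ι ι F)
  have hBB : ∀ u, Bi *ᵥ (Bm *ᵥ u) = u := Cfsg.Lib.Classical.PrimeDim.inv_mulVec_mulVec B
  have hBB' : ∀ u, Bm *ᵥ (Bi *ᵥ u) = u := Cfsg.Lib.Classical.PrimeDim.mulVec_inv_mulVec B
  let ev : ι → F := fun i => c * Q (Bm *ᵥ Pi.single i 1)
  have hsingle : ∀ i, ∀ l, (Pi.single i (1 : F) : ι → F) l ∈ F₁ := fun i l => by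
    rw [Pi.single_apply]; split_ifs
    exacts [one_mem _, zero_mem _]
  have hexp : ∀ u : ι → F, (∀ i, u i ∈ F₁) → ∀ s : Finset ι,
      c * Q (Bm *ᵥ ∑ i ∈ s, u i • Pi.single i (1 : F)) - ∑ i ∈ s, u i ^ 2 * ev i ∈ F₁ := by
    intro u hu s
    induction s using Finset.induction_on with
    | empty => simp
    | insert a s ha ih =>
      rw [Finset.sum_insert ha, Finset.sum_insert ha, Matrix.mulVec_add, QuadraticMap.map_add (f := Q),
        Matrix.mulVec_smul, QuadraticMap.map_smul, smul_eq_mul]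
      have hcross : c * QuadraticMap.polar (⇑Q) (u a • (Bm *ᵥ Pi.single a 1))
          (Bm *ᵥ ∑ i ∈ s, u i • Pi.single i (1 : F)) ∈ F₁ := by
        rw [QuadraticMap.polar_smul_left, smul_eq_mul, mul_left_comm]
        refine mul_mem (hu a) (hs _ _ (hsingle a) fun l => ?_)
        rw [Finset.sum_apply]
        exact sum_mem fun i _ => mul_mem (hu i) (hsingle i l)
      convert add_mem ih hcross using 1
      simp only [ev]
      ring
  -- a functional killing the subfield
  have hall : ∀ ψ : F →ₗ[F₁] F₁, ψ 1 = 0 → ∀ i, ψ (ev i) = 0 := by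
    intro ψ hψ
    have hψ1 : ∀ x ∈ F₁, ψ x = 0 := fun x hx => by
      rw [show x = (⟨x, hx⟩ : F₁) • (1 : F) from (mul_one x).symm, map_smul, hψ, smul_zero]
    let E : (ι → F) → F := fun v => ∑ i, (Bi *ᵥ v) i ^ 2 * (ψ (ev i) : F)
    have hEadd : ∀ u v, E (u + v) = E u + E v := fun u v => by
      simp only [E, ← Finset.sum_add_distrib, Matrix.mulVec_add, Pi.add_apply]
      refine Finset.sum_congr rfl fun i _ => ?_
      linear_combination ((Bi *ᵥ u) i * (Bi *ᵥ v) i * (ψ (ev i) : F)) * h2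
    have hEsm : ∀ (a : F) v, E (a • v) = a ^ 2 * E v := fun a v => by
      simp only [E, Finset.mul_sum, Matrix.mulVec_smul, Pi.smul_apply, smul_eq_mul]
      exact Finset.sum_congr rfl fun i _ => by ring
    have hErat : ∀ u, (∀ i, u i ∈ F₁) → E (Bm *ᵥ u) = (ψ (c * Q (Bm *ᵥ u)) : F) := fun u hu => by
      have h1 := hψ1 _ (hexp u hu Finset.univ)
      rw [← pi_eq_sum_univ' u, map_sub, sub_eq_zero, map_sum] at h1
      rw [h1, AddSubmonoidClass.coe_finset_sum]
      simp only [E, hBB]
      refine Finset.sum_congr rfl fun i _ => ?_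
      rw [show u i ^ 2 * ev i = (⟨u i ^ 2, pow_mem (hu i) 2⟩ : F₁) • ev i from rfl, map_smul]
      rfl
    have hEinv : ∀ g ∈ H, ∀ v, E ((g : Matrix ι ι F) *ᵥ v) = E v := by
      intro g hg
      obtain ⟨x, hx, hxg⟩ := Subgroup.mem_map.mp (hle hg)
      obtain ⟨a, ha, hax⟩ := Cfsg.Lib.Classical.PrimeDim.exists_scaled_entries hx
      have hact : ∀ u, (g : Matrix ι ι F) *ᵥ (Bm *ᵥ u) = a⁻¹ • (Bm *ᵥ ((a • (x : Matrix ι ι F)) *ᵥ u)) := fun u => by
        rw [← hxg, Matrix.smul_mulVec, Matrix.mulVec_smul, smul_smul, inv_mul_cancel₀ ha, one_smul]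
        simp [Bm, Matrix.mulVec_mulVec, mul_assoc]
      have hrat : ∀ u, (∀ i, u i ∈ F₁) → ∀ i, ((a • (x : Matrix ι ι F)) *ᵥ u) i ∈ F₁ := fun u hu i => by
        simp only [Matrix.mulVec, dotProduct, Matrix.smul_apply, smul_eq_mul]
        exact sum_mem fun j _ => mul_mem (hax i j) (hu j)
      have ha2 : a ^ 2 ∈ F₁ := by
        obtain ⟨i, j, hij⟩ : ∃ i j, c * QuadraticMap.polar (⇑Q) (Bm *ᵥ Pi.single i 1) (Bm *ᵥ Pi.single j 1) ≠ 0 := by
          by_contra hcon
          push Not at hcon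
          obtain ⟨u₀, hu₀⟩ := exists_ne (0 : ι → F)
          obtain ⟨v₀, hv₀⟩ := ((orth_refl Q hQ).nondegenerate u₀ hu₀).2
          apply hv₀
          have hz : ((QuadraticMap.polarBilin Q).compl₁₂ (Matrix.toLin' Bm) (Matrix.toLin' Bm)) = 0 :=
            LinearMap.ext_basis (Pi.basisFun F ι) (Pi.basisFun F ι) fun i j => by
              simpa [hc] using hcon i j
          have := LinearMap.congr_fun₂ hz (Bi *ᵥ u₀) (Bi *ᵥ v₀)
          simpa [hBB'] using this
        have h1 := orth_fixes Q hiso g hg (Bm *ᵥ Pi.single i 1) (Bm *ᵥ Pi.single j 1)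
        rw [hact, hact, QuadraticMap.polar_smul_left, QuadraticMap.polar_smul_right, smul_eq_mul, smul_eq_mul] at h1
        have h3 := hs _ _ (hrat _ (hsingle i)) (hrat _ (hsingle j))
        rw [show a ^ 2 = c * QuadraticMap.polar (⇑Q) (Bm *ᵥ ((a • (x : Matrix ι ι F)) *ᵥ Pi.single i 1))
            (Bm *ᵥ ((a • (x : Matrix ι ι F)) *ᵥ Pi.single j 1)) /
            (c * QuadraticMap.polar (⇑Q) (Bm *ᵥ Pi.single i 1) (Bm *ᵥ Pi.single j 1)) by
          rw [eq_div_iff hij, ← h1]; field_simp]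
        exact div_mem h3 (hs _ _ (hsingle i) (hsingle j))
      have hbase : ∀ l, E ((g : Matrix ι ι F) *ᵥ (Bm *ᵥ Pi.single l 1)) = E (Bm *ᵥ Pi.single l 1) := fun l => by
        set r := (a • (x : Matrix ι ι F)) *ᵥ Pi.single l 1
        have hr : ∀ i, r i ∈ F₁ := hrat _ (hsingle l)
        rw [hact, hEsm, hErat r hr, hErat _ (hsingle l)]
        have hval : c * Q (Bm *ᵥ Pi.single l 1) = (a⁻¹) ^ 2 * (c * Q (Bm *ᵥ r)) := by
          rw [← hiso g hg (Bm *ᵥ Pi.single l 1), hact, QuadraticMap.map_smul, smul_eq_mul]; ring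
        rw [hval, show (a⁻¹) ^ 2 * (c * Q (Bm *ᵥ r)) = (⟨(a⁻¹) ^ 2, by rw [inv_pow]; exact inv_mem ha2⟩ : F₁) •
          (c * Q (Bm *ᵥ r)) from rfl, map_smul]
        rfl
      intro v
      rw [← hBB' v, pi_eq_sum_univ' (Bi *ᵥ v), Matrix.mulVec_sum, Matrix.mulVec_sum]
      have hsum : ∀ (w : ι → (ι → F)), E (∑ i, w i) = ∑ i, E (w i) := fun w => map_sum (AddMonoidHom.mk' E hEadd) w _
      rw [hsum, hsum]
      exact Finset.sum_congr rfl fun i _ => by rw [Matrix.mulVec_smul, Matrix.mulVec_smul, hEsm, hEsm, hbase]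
    intro i
    have h0 := semilinear_zero hirr hn h2 hEadd hEsm hEinv (Bm *ᵥ Pi.single i 1)
    rw [hErat _ (hsingle i)] at h0
    exact Subtype.ext h0
  have hev : ∀ i, ev i ∈ F₁ := by
    intro i
    by_contra hi
    have hnot : ev i ∉ Submodule.span F₁ ({1} : Set F) := fun h => hi (by
      obtain ⟨a, ha⟩ := Submodule.mem_span_singleton.mp h
      rw [← ha]
      exact mul_mem a.2 (one_mem _))
    obtain ⟨ψ, hψ, hψ1⟩ := Submodule.exists_dual_map_eq_bot_of_notMem hnot inferInstance
    refine hψ (hall ψ ?_ i)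
    have : ψ 1 ∈ (Submodule.span F₁ ({1} : Set F)).map ψ := Submodule.mem_map_of_mem (Submodule.mem_span_singleton_self 1)
    rwa [hψ1, Submodule.mem_bot] at this
  intro u hu
  have h1 := hexp u hu Finset.univ
  rw [← pi_eq_sum_univ' u] at h1
  have hsum : ∑ i, u i ^ 2 * ev i ∈ F₁ := sum_mem fun i _ => mul_mem (pow_mem (hu i) 2) (hev i)
  have := add_mem h1 hsum
  simpa using this

end OrthEven

end Cfsg.Lib.Classical.Aschbacher
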