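import Cfsg.Agent.Classical.Aschbacher.UnitMax

/-! The types of maximal subgroups of the unitary groups, with parameters. -/

set_option autoImplicit false
set_option linter.unusedSimpArgs false
set_option linter.unusedSectionVars false
set_option linter.style.haveILetI false

namespace Cfsg.Lib.Classical.Aschbacher

open Matrix Cfsg.Geo
open scoped MatrixGroups Kronecker
open Cfsg.Lib.Classical.PrimeDim (finrank_pi_card finrank_map_mulVec gl_det_ne_zero frob frob_apply frob_frob
  frob_ne_refl eq_inf_of_maximal val_inv_mul val_mul_inv gl_mulVec_ne_zero two_le_q exists_skew)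

universe u

variable {F : Type u} [Field F] [Fintype F]

/-- An orthogonal decomposition from coordinates in which the form is block scalar. -/
theorem blocks_of_coords {ι : Type} [Fintype ι] [DecidableEq ι] {σ : F ≃+* F} {ε : F}
    {f : (ι → F) → (ι → F) → F} (hf : ReflForm σ ε f) {t k : ℕ} (ht : 2 ≤ t) (hk : 0 < k)
    {Φ : Matrix ι (Fin t × Fin k) F} {Ψ : Matrix (Fin t × Fin k) ι F} (hco : Coords Φ Ψ) {c : F} (hc : c ≠ 0)
    {G : Matrix (Fin k) (Fin k) F} (hG : G.det ≠ 0)
    (hgram : hf.gramIn Φ = c • ((1 : Matrix (Fin t) (Fin t) F) ⊗ₖ G)) :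
    ∃ D : Fin t → Submodule F (ι → F), IsNondegenerateMDecomposition f k D ∧
      ∀ h : GL ι F, (∃ π : Fin t → Fin t, ∀ p r : Fin t × Fin k, p.1 ≠ π r.1 → (Ψ * (h : Matrix ι ι F) * Φ) p r = 0) →
        h ∈ decompositionStabilizer D := by
  classical
  let D : Fin t → Submodule F (ι → F) := fun i =>
    { carrier := {v | ∀ p : Fin t × Fin k, p.1 ≠ i → (Ψ *ᵥ v) p = 0}
      zero_mem' := fun p _ => by simp
      add_mem' := fun {u v} hu hv p hp => by rw [Matrix.mulVec_add, Pi.add_apply, hu p hp, hv p hp, add_zero]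
      smul_mem' := fun a v hv p hp => by rw [Matrix.mulVec_smul, Pi.smul_apply, hv p hp, smul_zero] }
  let emb : Fin t → (Fin k → F) →ₗ[F] (ι → F) := fun i =>
    { toFun := fun u => Φ *ᵥ fun p => if p.1 = i then u p.2 else 0
      map_add' := fun u u' => by
        rw [← Matrix.mulVec_add]; congr 1; funext p; simp only [Pi.add_apply]; split_ifs <;> simp
      map_smul' := fun a u => by
        rw [RingHom.id_apply, ← Matrix.mulVec_smul]; congr 1; funext p; simp only [Pi.smul_apply]; split_ifs <;> simp }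
  have hΨ : ∀ i u p, (Ψ *ᵥ emb i u) p = if p.1 = i then u p.2 else 0 := fun i u p => by
    show (Ψ *ᵥ (Φ *ᵥ _)) p = _
    rw [Matrix.mulVec_mulVec, hco.right, Matrix.one_mulVec]
  have hinj : ∀ i, Function.Injective (emb i) := fun i u u' h => funext fun a => by
    have := congrArg (fun v => (Ψ *ᵥ v) (i, a)) h
    simpa [hΨ] using this
  have hDe : ∀ i, D i = LinearMap.range (emb i) := fun i => le_antisymm (fun v hv =>
    ⟨fun a => (Ψ *ᵥ v) (i, a), by
      show Φ *ᵥ _ = v
      conv_rhs => rw [← Matrix.one_mulVec v, ← hco.left, ← Matrix.mulVec_mulVec]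
      congr 1
      funext p
      split_ifs with hp
      · rw [← hp]
      · exact (hv p hp).symm⟩) (by
    rintro _ ⟨u, rfl⟩ p hp
    rw [hΨ, if_neg hp])
  have hform : ∀ i j u u', f (emb i u) (emb j u') = if i = j then c * (u ⬝ᵥ (G *ᵥ (σ ∘ u'))) else 0 := fun i j u u' => by
    show f (Φ *ᵥ _) (Φ *ᵥ _) = _
    rw [hf.apply_coords, hgram, Matrix.smul_mulVec, dotProduct_smul, smul_eq_mul]
    simp only [dotProduct, Matrix.mulVec, Fintype.sum_prod_type, Matrix.kroneckerMap_apply, Matrix.one_apply,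
      Function.comp_apply, apply_ite σ, map_zero, mul_ite, ite_mul, one_mul, mul_zero, zero_mul]
    split_ifs with h
    · subst h; simp
    · simp [Finset.sum_ite_irrel, h]
  have hiD : iSupIndep D := by
    rw [iSupIndep_def]
    intro i
    rw [Submodule.disjoint_def]
    intro v hv hv'
    have hle : (⨆ (j) (_ : j ≠ i), D j) ≤
        ({ carrier := {v | ∀ a, (Ψ *ᵥ v) (i, a) = 0}
           zero_mem' := fun a => by simp
           add_mem' := fun {u v} hu hv a => by rw [Matrix.mulVec_add, Pi.add_apply, hu a, hv a, add_zero]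
           smul_mem' := fun r v hv a => by rw [Matrix.mulVec_smul, Pi.smul_apply, hv a, smul_zero] } :
          Submodule F (ι → F)) := iSup₂_le fun j hj v hv a => hv (i, a) (Ne.symm hj)
    rw [← Matrix.one_mulVec v, ← hco.left, ← Matrix.mulVec_mulVec,
      show Ψ *ᵥ v = 0 from funext fun p => by
        by_cases hp : p.1 = i
        · rw [← Prod.mk.eta (p := p), hp]; exact hle hv' p.2
        · exact hv p hp, Matrix.mulVec_zero]
  have hrank : ∀ i, Module.finrank F (D i) = k := fun i => by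
    rw [hDe, LinearMap.finrank_range_of_inj (hinj i), finrank_pi_card, Fintype.card_fin]
  refine ⟨D, ⟨⟨ht, hk, hrank, hiD, ?_⟩, fun i w hw hw0 => ?_, fun i j hij u hu v hv => ?_⟩, fun h hh => ?_⟩
  · refine Submodule.eq_top_iff'.mpr fun v => ?_
    rw [show v = ∑ i, emb i (fun a => (Ψ *ᵥ v) (i, a)) from ?_]
    · exact Submodule.sum_mem _ fun i _ => Submodule.mem_iSup_of_mem i
        (show _ ∈ D i by rw [hDe]; exact LinearMap.mem_range_self _ _)
    · show v = ∑ i, Φ *ᵥ _
      rw [← Matrix.mulVec_sum]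
      conv_lhs => rw [← Matrix.one_mulVec v, ← hco.left, ← Matrix.mulVec_mulVec]
      congr 1
      funext p
      rw [Finset.sum_apply, Finset.sum_eq_single p.1 (fun i _ hi => if_neg (Ne.symm hi)) (by simp), if_pos rfl]
  · rw [hDe] at hw ⊢
    obtain ⟨u, rfl⟩ := hw
    have hu0 : u ≠ 0 := fun e => hw0 (by rw [e, map_zero])
    have hr : ∃ y, f (emb i u) (emb i y) ≠ 0 := by
      by_contra hcon
      push Not at hcon
      refine hu0 (Matrix.eq_zero_of_vecMul_eq_zero hG (funext fun j => ?_))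
      have h1 := hcon (σ.symm ∘ Pi.single j 1)
      rw [hform, if_pos rfl, show σ ∘ (σ.symm ∘ Pi.single j (1 : F)) = Pi.single j 1 from
        funext fun a => σ.apply_symm_apply _, Matrix.dotProduct_mulVec, dotProduct_single, mul_one] at h1
      exact (mul_eq_zero.mp h1).resolve_left hc
    obtain ⟨y, hy⟩ := hr
    exact ⟨⟨_, LinearMap.mem_range_self _ y, fun e => hy (hf.eq_zero_symm e)⟩, ⟨_, LinearMap.mem_range_self _ y, hy⟩⟩
  · rw [hDe] at hu hv
    obtain ⟨a, rfl⟩ := hu
    obtain ⟨b, rfl⟩ := hv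
    rw [hform, if_neg hij]
  obtain ⟨π, hπ⟩ := hh
  have hmap : ∀ j, (D j).map (Matrix.toLin' (h : Matrix ι ι F)) = D (π j) := fun j => by
    refine Submodule.eq_of_le_of_finrank_eq ?_ (by rw [finrank_map_mulVec, hrank, hrank])
    rintro _ ⟨v, hv, rfl⟩ p hp
    rw [Matrix.toLin'_apply]
    obtain ⟨w, rfl⟩ : ∃ w, v = Φ *ᵥ w := ⟨Ψ *ᵥ v, by rw [Matrix.mulVec_mulVec, hco.left, Matrix.one_mulVec]⟩
    rw [Matrix.mulVec_mulVec, Matrix.mulVec_mulVec]
    refine Finset.sum_eq_zero fun r _ => ?_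
    by_cases hr : r.1 = j
    · show (Ψ * (h : Matrix ι ι F) * Φ) p r * w r = 0
      rw [hπ p r (hr ▸ hp), zero_mul]
    · have := hv r hr
      rw [Matrix.mulVec_mulVec, hco.right, Matrix.one_mulVec] at this
      show _ * w r = 0
      rw [this, mul_zero]
  have hinjπ : Function.Injective π := by
    intro j j' e
    by_contra hne
    obtain ⟨v, hv, hv0⟩ := (Submodule.ne_bot_iff (D j)).mp fun e0 => by
      have := hrank j
      rw [e0, finrank_bot] at this
      omega
    obtain ⟨v', hv', hve⟩ : Matrix.toLin' (h : Matrix ι ι F) v ∈ (D j').map (Matrix.toLin' (h : Matrix ι ι F)) := by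
      rw [hmap j', ← e, ← hmap j]; exact Submodule.mem_map_of_mem hv
    rw [Matrix.toLin'_apply, Matrix.toLin'_apply] at hve
    have hvv : v' = v := by
      have := congrArg (fun x => ((h⁻¹ : GL ι F) : Matrix ι ι F) *ᵥ x) hve
      simpa [Matrix.mulVec_mulVec, val_inv_mul] using this
    exact hv0 (Submodule.disjoint_def.mp (hiD.pairwiseDisjoint hne) v hv (hvv ▸ hv'))
  exact ⟨Equiv.ofBijective π (Finite.injective_iff_bijective.mp hinjπ), hmap⟩

variable {n q : ℕ}

theorem norm_four (hF : Fintype.card F = q ^ 2) (hq : q = 2) {x : F} (hx : x ≠ 0) : x * frob hF x = 1 := by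
  subst hq
  rw [frob_apply, ← pow_succ']
  have := FiniteField.pow_card_sub_one_eq_one x hx
  rw [hF] at this
  exact this

/-- Over the field with four elements an isotropic vector in the span of two orthonormal vectors has two non-zero
coordinates, and a non-singular one has one. -/
theorem one_coordinate (hF : Fintype.card F = q ^ 2) (hq : q = 2) {a b : F}
    (h : a * frob hF a + b * frob hF b ≠ 0) : a = 0 ∨ b = 0 := by
  by_contra hcon
  push Not at hcon
  refine h ?_
  rw [norm_four hF hq hcon.1, norm_four hF hq hcon.2]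
  obtain ⟨p, f, hp, hchar, -, hcF⟩ := Cfsg.Lib.Classical.PrimeDim.exists_char_card F
  rw [Nat.card_eq_fintype_card, hF, hq] at hcF
  obtain rfl : p = 2 := (Nat.prime_dvd_prime_iff_eq hp Nat.prime_two).mp (hp.dvd_of_dvd_pow (by
    rw [hcF]; exact dvd_pow_self _ (fun e => by rw [e] at hcF; norm_num at hcF) : p ∣ 2 ^ 2))
  rw [one_add_one_eq_two]
  exact CharP.cast_eq_zero F 2

/-- A stabiliser of orthogonal planes over the field with four elements fixes a finer frame. -/
theorem frame_of_planes (hF : Fintype.card F = q ^ 2) (hq : q = 2) {t : ℕ} {D : Fin t → Submodule F (Fin n → F)}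
    (hD : IsNondegenerateMDecomposition (Cfsg.hermForm n F q) 2 D) :
    ∃ D' : Fin (t * 2) → Submodule F (Fin n → F), IsNondegenerateMDecomposition (Cfsg.hermForm n F q) 1 D' ∧
      decompositionStabilizer D ⊓ Cfsg.GU n F q ≤ decompositionStabilizer D' := by
  classical
  have h2t := hD.decomp.two_le
  have hf := herm_refl (n := n) hF
  set σ := frob hF with hσ
  have hfixed : ∀ v, Cfsg.hermForm n F q v v ≠ 0 → Cfsg.hermForm n F q v v = 1 := fun v hv => by
    have h1 := norm_four hF hq hv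
    have h2 : frob hF (Cfsg.hermForm n F q v v) = Cfsg.hermForm n F q v v := by
      have := hf.herm v v; rw [one_mul] at this; exact this.symm
    rw [h2] at h1
    rcases mul_self_eq_one_iff.mp h1 with e | e
    · exact e
    · have h3 := one_coordinate hF hq (a := (1 : F)) (b := 1)
      by_contra hne
      rw [map_one, one_mul] at h3
      exact hne (e.trans (neg_eq_of_add_eq_zero_left (not_not.mp fun h => by simpa using h3 h)))
  -- orthonormal bases of the planes
  have hbase : ∀ i, ∃ e₁ ∈ D i, ∃ e₂ ∈ D i, Cfsg.hermForm n F q e₁ e₁ = 1 ∧ Cfsg.hermForm n F q e₂ e₂ = 1 ∧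
      Cfsg.hermForm n F q e₁ e₂ = 0 ∧ Cfsg.hermForm n F q e₂ e₁ = 0 ∧
      ∀ x ∈ D i, ∃ a b : F, x = a • e₁ + b • e₂ := by
    intro i
    obtain ⟨e₁, he₁, hne⟩ : ∃ e ∈ D i, Cfsg.hermForm n F q e e ≠ 0 := by
      by_contra hcon
      push Not at hcon
      obtain ⟨u, hu, hu0⟩ := (Submodule.ne_bot_iff (D i)).mp fun e => by
        have := hD.decomp.finrank_eq i; rw [e, finrank_bot] at this; omega
      obtain ⟨-, w, hw, huw⟩ := hD.nondegenerate i u hu hu0
      refine frob_ne_refl hF (RingEquiv.ext fun x => ?_)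
      have key : ∀ y : F, y + σ y = 0 := fun y => by
        have h1 := hcon _ (add_mem ((D i).smul_mem (y / Cfsg.hermForm n F q u w) hu) hw)
        rw [hf.add_left, hf.add_right, hf.add_right, hf.smul_left, hf.smul_left, hf.smul_right, hcon u hu, hcon w hw,
          hf.smul_right, hf.herm u w, one_mul, ← map_mul] at h1
        simpa [div_mul_cancel₀ _ huw] using h1
      have e1 := key 1
      rw [map_one] at e1
      show σ x = x
      linear_combination (key x) - x * e1
    let φ : (D i) →ₗ[F] F :=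
      { toFun := fun x => Cfsg.hermForm n F q (x : Fin n → F) e₁
        map_add' := fun x y => by rw [Submodule.coe_add, hf.add_left]
        map_smul' := fun a x => by rw [Submodule.coe_smul, hf.smul_left]; rfl }
    obtain ⟨⟨e₂, he₂⟩, h21, h20⟩ := (Submodule.ne_bot_iff _).mp (LinearMap.ker_ne_bot_of_finrank_lt (f := φ) (by
      rw [Module.finrank_self, hD.decomp.finrank_eq]; omega))
    replace h21 : Cfsg.hermForm n F q e₂ e₁ = 0 := h21
    replace h20 : e₂ ≠ 0 := fun e => h20 (Subtype.ext e)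
    have h12 : Cfsg.hermForm n F q e₁ e₂ = 0 := hf.eq_zero_symm h21
    have hspan : Submodule.span F {e₁, e₂} = D i := by
      have hli : LinearIndependent F ![e₁, e₂] := by
        rw [LinearIndependent.pair_iff]
        intro a b h
        have h1 := congrArg (fun x => Cfsg.hermForm n F q x e₁) h
        simp only [hf.add_left, hf.smul_left, h21, mul_zero, add_zero, hf.zero_left] at h1
        have ha := (mul_eq_zero.mp h1).resolve_right hne
        rw [ha, zero_smul, zero_add, smul_eq_zero] at h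
        exact ⟨ha, h.resolve_right h20⟩
      refine Submodule.eq_of_le_of_finrank_eq (Submodule.span_le.mpr (Set.insert_subset he₁ (by simpa using he₂))) ?_
      rw [← show Set.range ![e₁, e₂] = {e₁, e₂} by simp [Matrix.range_cons, Matrix.range_empty, Set.pair_comm],
        finrank_span_eq_card hli, Fintype.card_fin, hD.decomp.finrank_eq]
    have hne₂ : Cfsg.hermForm n F q e₂ e₂ ≠ 0 := fun e => by
      obtain ⟨-, x, hx, hx'⟩ := hD.nondegenerate i e₂ he₂ h20
      rw [← hspan, Submodule.mem_span_pair] at hx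
      obtain ⟨a, b, rfl⟩ := hx
      exact hx' (by rw [hf.add_right, hf.smul_right, hf.smul_right, h21, e, mul_zero, mul_zero, add_zero])
    refine ⟨e₁, he₁, e₂, he₂, hfixed _ hne, hfixed _ hne₂, h12, h21, fun x hx => ?_⟩
    rw [← hspan, Submodule.mem_span_pair] at hx
    obtain ⟨a, b, e⟩ := hx
    exact ⟨a, b, e.symm⟩
  choose e₁ he₁ e₂ he₂ h11 h22 h12 h21 hsp using hbase
  let ev : Fin t × Fin 2 → Fin n → F := fun p => if p.2 = 0 then e₁ p.1 else e₂ p.1
  have hev : ∀ p, ev p ∈ D p.1 := fun p => by simp only [ev]; split_ifs <;> [exact he₁ _; exact he₂ _]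
  have hgr : ∀ p r, Cfsg.hermForm n F q (ev p) (ev r) = if p = r then 1 else 0 := by
    rintro ⟨i, a⟩ ⟨j, b⟩
    by_cases hij : i = j
    · subst hij
      fin_cases a <;> fin_cases b <;> simp [ev, h11, h22, h12, h21]
    · rw [if_neg fun e => hij (congrArg Prod.fst e)]
      exact hD.orthogonal i j hij _ (hev (i, a)) _ (hev (j, b))
  let ix : Fin (t * 2) × Fin 1 → Fin t × Fin 2 := fun p => finProdFinEquiv.symm p.1
  have hix : Function.Injective ix := fun p r h => Prod.ext (finProdFinEquiv.symm.injective h) (Subsingleton.elim _ _)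
  let Φ : Matrix (Fin n) (Fin (t * 2) × Fin 1) F := Matrix.of fun r p => ev (ix p) r
  have hcol : ∀ p, Φ *ᵥ Pi.single p 1 = ev (ix p) := fun p => by
    rw [Matrix.mulVec_single_one]; rfl
  have hgram : hf.gramIn Φ = (1 : Matrix (Fin (t * 2) × Fin 1) (Fin (t * 2) × Fin 1) F) := by
    ext p r
    have h1 := hf.apply_coords Φ (Pi.single p 1) (Pi.single r 1)
    rw [hcol, hcol, hgr, show (σ ∘ Pi.single r (1 : F)) = Pi.single r 1 from funext fun a => by
      by_cases ha : a = r
      · subst ha; simp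
      · simp [ha], Matrix.mulVec_single_one, single_one_dotProduct] at h1
    rw [Matrix.one_apply]
    exact h1.symm.trans (if_congr hix.eq_iff rfl rfl)
  have hcard : Fintype.card (Fin n) = Fintype.card (Fin (t * 2) × Fin 1) := by
    rw [Fintype.card_prod, Fintype.card_fin, Fintype.card_fin, Fintype.card_fin, mul_one,
      IsMDecomposition.mul_eq hD.decomp, Fintype.card_fin]
  set Ψ : Matrix (Fin (t * 2) × Fin 1) (Fin n) F := (gramMatrix (Cfsg.hermForm n F q) * Φ.map σ)ᵀ with hΨdef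
  have hΨΦ : Ψ * Φ = 1 := by
    rw [← Matrix.transpose_transpose Φ, ← Matrix.transpose_mul, ← Matrix.transpose_one, ← hgram, ReflForm.gramIn,
      ← Matrix.mul_assoc]
  have hco : Coords Φ Ψ := ⟨(Matrix.mul_eq_one_comm_of_equiv (Fintype.equivOfCardEq hcard)).mpr hΨΦ, hΨΦ⟩
  obtain ⟨D', hD', hst⟩ := blocks_of_coords hf (t := t * 2) (k := 1) (by omega) one_pos hco one_ne_zero
    (G := (1 : Matrix (Fin 1) (Fin 1) F)) (by simp) (by rw [hgram, one_smul, Matrix.one_kronecker_one])
  refine ⟨D', hD', fun h hh => hst h ?_⟩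
  obtain ⟨⟨τ, hτ⟩, hG⟩ := hh
  have himg : ∀ p : Fin (t * 2) × Fin 1, ∃ (r : Fin (t * 2) × Fin 1) (a : F),
      (h : Matrix (Fin n) (Fin n) F) *ᵥ (Φ *ᵥ Pi.single p 1) = Φ *ᵥ (a • Pi.single r 1) := by
    intro p
    have hm : (h : Matrix (Fin n) (Fin n) F) *ᵥ ev (ix p) ∈ D (τ (ix p).1) := by
      rw [← hτ]; exact ⟨_, hev _, Matrix.toLin'_apply _ _⟩
    obtain ⟨a, b, hab⟩ := hsp _ _ hm
    have hn1 : a * σ a + b * σ b = 1 := by
      have h1 := (Cfsg.Lib.Classical.PrimeDim.mem_GU_iff.mp hG) (ev (ix p)) (ev (ix p))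
      rw [hgr, if_pos rfl, hab, hf.add_left, hf.add_right, hf.add_right, hf.smul_left, hf.smul_left, hf.smul_left,
        hf.smul_left, hf.smul_right, hf.smul_right, hf.smul_right, hf.smul_right, h11, h22, h12, h21] at h1
      linear_combination h1
    rcases one_coordinate hF hq (a := a) (b := b) (by rw [← hσ, hn1]; exact one_ne_zero) with e | e
    · refine ⟨(finProdFinEquiv (τ (ix p).1, 1), 0), b, ?_⟩
      rw [hcol, hab, e, zero_smul, zero_add, Matrix.mulVec_smul, hcol]
      simp only [ix, ev, Equiv.symm_apply_apply]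
      simp
    · refine ⟨(finProdFinEquiv (τ (ix p).1, 0), 0), a, ?_⟩
      rw [hcol, hab, e, zero_smul, add_zero, Matrix.mulVec_smul, hcol]
      simp only [ix, ev, Equiv.symm_apply_apply]
      simp
  choose r a hr using himg
  refine ⟨fun i => (r (i, 0)).1, fun p s hps => ?_⟩
  have h1 := congrArg (fun v => (Ψ *ᵥ v) p) (hr s)
  simp only [Matrix.mulVec_mulVec, hco.right, Matrix.one_mulVec] at h1
  rw [← Matrix.mul_assoc, Matrix.mulVec_single_one, Matrix.col_apply] at h1
  rw [h1, Pi.smul_apply, Pi.single_eq_of_ne, smul_zero]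
  intro e
  refine hps ?_
  show p.1 = (r (s.1, 0)).1
  rw [e, show (s.1, (0 : Fin 1)) = s from Prod.ext rfl (Subsingleton.elim _ _)]

/-- A tensor decomposition with a plane factor over the field with four elements gives two orthogonal blocks. -/
theorem blocks_of_tensor_two (hF : Fintype.card F = q ^ 2) (hq : q = 2) {n₂ : ℕ} (hn : 0 < n₂)
    {e : Fin n ≃ Fin 2 × Fin n₂} {P : GL (Fin n) F} {f₁ : (Fin 2 → F) → (Fin 2 → F) → F}
    {f₂ : (Fin n₂ → F) → (Fin n₂ → F) → F} (h1 : IsUnitaryFormPow q f₁) (h2 : IsUnitaryFormPow q f₂)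
    (hs : IsTensorFormStructure (fun x : F => x ^ q) (Cfsg.hermForm n F q) f₁ f₂ e P) :
    ∃ D : Fin 2 → Submodule F (Fin n → F), IsNondegenerateMDecomposition (Cfsg.hermForm n F q) n₂ D ∧
      tensorProductSubgroup 2 n₂ e P ⊓ Cfsg.GU n F q ≤ decompositionStabilizer D := by
  classical
  haveI : Nonempty (Fin n) := ⟨e.symm (0, ⟨0, hn⟩)⟩
  have hf := herm_refl (n := n) hF
  set σ := frob hF with hσ
  have hf₁ := unitaryFormPow_refl hF h1
  have hf₂ := unitaryFormPow_refl hF h2
  set G₁ := gramMatrix f₁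
  set G₂ := gramMatrix f₂
  have hG2 : G₂.det ≠ 0 := hf₂.toIsSesq.det_gram_ne_zero
  have hG1h : G₁ᵀ = G₁.map σ := Matrix.ext fun i j => by
    show f₁ _ _ = σ (f₁ _ _)
    exact (hf₁.herm _ _).trans (one_mul _)
  obtain ⟨A, hA⟩ := exists_congr_one hF (hf₁.toIsSesq.det_gram_ne_zero) hG1h
  set Am : Matrix (Fin 2) (Fin 2) F := (A : Matrix (Fin 2) (Fin 2) F)
  set Ai : Matrix (Fin 2) (Fin 2) F := ((A⁻¹ : GL (Fin 2) F) : Matrix (Fin 2) (Fin 2) F)
  obtain ⟨c, hc, hcs⟩ := hs
  set Φ₀ : Matrix (Fin n) (Fin 2 × Fin n₂) F := (P : Matrix (Fin n) (Fin n) F).submatrix id e.symm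
  set Ψ₀ : Matrix (Fin 2 × Fin n₂) (Fin n) F := ((P⁻¹ : GL (Fin n) F) : Matrix (Fin n) (Fin n) F).submatrix e.symm id
  have hco₀ : Coords Φ₀ Ψ₀ := by
    constructor
    · simp only [Φ₀, Ψ₀]
      rw [Matrix.submatrix_mul_equiv, val_mul_inv, Matrix.submatrix_id_id]
    · simp only [Φ₀, Ψ₀]
      rw [← Matrix.submatrix_mul _ _ e.symm id e.symm Function.bijective_id, val_inv_mul, Matrix.submatrix_one_equiv]
  have hΦ : ∀ x, Φ₀ *ᵥ x = (P : Matrix (Fin n) (Fin n) F) *ᵥ (x ∘ e) := fun x => by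
    funext i
    simp only [Φ₀, Matrix.mulVec, dotProduct, Matrix.submatrix_apply, id, Function.comp_apply]
    exact Fintype.sum_equiv e.symm _ _ fun j => by simp
  have hgram₀ : hf.gramIn Φ₀ = c • (G₁ ⊗ₖ G₂) := by
    ext p r
    have h3 := hf.apply_coords Φ₀ (Pi.single p 1) (Pi.single r 1)
    rw [hΦ, hΦ, hcs, show (σ ∘ Pi.single r (1 : F)) = Pi.single r 1 from funext fun a => by
      by_cases ha : a = r
      · subst ha; simp
      · simp [ha], Matrix.mulVec_single_one, single_one_dotProduct] at h3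
    refine h3.symm.trans ?_
    simp only [formOfGram, dotProduct, Matrix.mulVec, Pi.single_apply, Matrix.smul_apply, smul_eq_mul, G₁, G₂]
    simp [zero_pow (show q ≠ 0 by omega)]
  set M : Matrix (Fin 2 × Fin n₂) (Fin 2 × Fin n₂) F := Am ⊗ₖ (1 : Matrix (Fin n₂) (Fin n₂) F)
  set M' : Matrix (Fin 2 × Fin n₂) (Fin 2 × Fin n₂) F := Ai ⊗ₖ (1 : Matrix (Fin n₂) (Fin n₂) F)
  have hco : Coords (Φ₀ * M) (M' * Ψ₀) := hco₀.comp ⟨by
      rw [← Matrix.mul_kronecker_mul, one_mul, val_mul_inv, Matrix.one_kronecker_one], by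
      rw [← Matrix.mul_kronecker_mul, one_mul, val_inv_mul, Matrix.one_kronecker_one]⟩
  have hgram : hf.gramIn (Φ₀ * M) = c • ((1 : Matrix (Fin 2) (Fin 2) F) ⊗ₖ G₂) := by
    calc hf.gramIn (Φ₀ * M) = Mᵀ * hf.gramIn Φ₀ * M.map σ := by
          simp only [ReflForm.gramIn, Matrix.transpose_mul, Matrix.map_mul, Matrix.mul_assoc]
      _ = c • ((Amᵀ * G₁ * Am.map σ) ⊗ₖ (1 * G₂ * 1)) := by
          rw [hgram₀, Matrix.mul_smul, Matrix.smul_mul]
          congr 1
          rw [show Mᵀ = Amᵀ ⊗ₖ (1 : Matrix (Fin n₂) (Fin n₂) F) by rw [kron_transpose, Matrix.transpose_one],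
            show M.map σ = (Am.map σ) ⊗ₖ (1 : Matrix (Fin n₂) (Fin n₂) F) by
              ext x y
              simp only [M, Matrix.map_apply, Matrix.kroneckerMap_apply, Matrix.one_apply, map_mul]
              split_ifs <;> simp,
            ← Matrix.mul_kronecker_mul, ← Matrix.mul_kronecker_mul]
      _ = _ := by rw [hA, Matrix.one_mul, Matrix.mul_one]
  obtain ⟨D, hD, hst⟩ := blocks_of_coords hf le_rfl hn hco hc hG2 hgram
  refine ⟨D, hD, fun h hh => hst h ?_⟩
  obtain ⟨k, ⟨a, b, hk⟩, hin⟩ := exists_of_mem_conjReindex (K := kroneckerSubgroup 2 n₂ F) e P h hh.1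
  set a' : Matrix (Fin 2) (Fin 2) F := Ai * (a : Matrix (Fin 2) (Fin 2) F) * Am
  set B := (b : Matrix (Fin n₂) (Fin n₂) F)
  have hT : (M' * Ψ₀) * (h : Matrix (Fin n) (Fin n) F) * (Φ₀ * M) = a' ⊗ₖ B := by
    have h0 : Ψ₀ * (h : Matrix (Fin n) (Fin n) F) * Φ₀ = (a : Matrix (Fin 2) (Fin 2) F) ⊗ₖ B := by
      rw [← hk, ← hin]
      ext i j
      simp [inCoords, Φ₀, Ψ₀, Matrix.mul_apply, Units.val_mul]
    calc _ = M' * (Ψ₀ * (h : Matrix (Fin n) (Fin n) F) * Φ₀) * M := by simp only [Matrix.mul_assoc]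
      _ = _ := by rw [h0, ← Matrix.mul_kronecker_mul, ← Matrix.mul_kronecker_mul, Matrix.one_mul, Matrix.mul_one]
  have hfix := hf.gramIn_fix (gu_fixes inf_le_right) hh (hco.act_of_conj hT)
  rw [hgram, Matrix.mul_smul, Matrix.smul_mul] at hfix
  have hfix' := smul_right_injective _ hc hfix
  rw [kron_transpose, show (a' ⊗ₖ B).map σ = a'.map σ ⊗ₖ B.map σ from Matrix.ext fun x y => map_mul σ _ _,
    ← Matrix.mul_kronecker_mul, ← Matrix.mul_kronecker_mul, Matrix.mul_one] at hfix'
  obtain ⟨s, hs0, ha, -⟩ := kron_eq_kron hfix' one_ne_zero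
    (fun e0 => hG2 (by rw [e0]; haveI : Nonempty (Fin n₂) := ⟨⟨0, hn⟩⟩; exact Matrix.det_zero))
  have hcol : ∀ j, a' 0 j = 0 ∨ a' 1 j = 0 := fun j => one_coordinate hF hq (by
    have h3 := congrFun (congrFun ha j) j
    simp only [Matrix.mul_apply, Matrix.transpose_apply, Matrix.map_apply, Fin.sum_univ_two, Matrix.smul_apply,
      Matrix.one_apply_eq, smul_eq_mul, mul_one] at h3
    rw [← hσ, h3]
    exact hs0)
  refine ⟨fun j => if a' 0 j = 0 then 1 else 0, fun p r hpr => ?_⟩
  rw [hT, Matrix.kroneckerMap_apply]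
  obtain ⟨i, i'⟩ := p
  obtain ⟨j, j'⟩ := r
  dsimp only at hpr ⊢
  split_ifs at hpr with h0
  · obtain rfl : i = 0 := by omega
    rw [h0, zero_mul]
  · obtain rfl : i = 1 := by omega
    rw [(hcol j).resolve_left h0, zero_mul]

/-- The types, with the restrictions on the parameters. -/
inductive UType (n : ℕ) (F : Type u) [Field F] [Fintype F] (q : ℕ) (H : Subgroup (GL (Fin n) F)) : Prop
  | singular (W : Submodule F (Fin n → F)) (h0 : W ≠ ⊥) (hs : IsTotallySingularFor (Cfsg.hermForm n F q) W)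
      (hH : H = subspaceStabilizer W ⊓ (Cfsg.GU n F q ⊓ specialLinear (Fin n) F))
  | nondeg (W : Submodule F (Fin n → F)) (h0 : W ≠ ⊥) (hn : IsNondegenerateOn (Cfsg.hermForm n F q) W)
      (hd : 2 * Module.finrank F W < n) (hH : H = subspaceStabilizer W ⊓ (Cfsg.GU n F q ⊓ specialLinear (Fin n) F))
  | decomp (t k : ℕ) (D : Fin t → Submodule F (Fin n → F)) (ht : 2 ≤ t) (hmul : t * k = n) (hq : k = 2 → 3 ≤ q)
      (hD : IsNondegenerateMDecomposition (Cfsg.hermForm n F q) k D)
      (hH : H = decompositionStabilizer D ⊓ (Cfsg.GU n F q ⊓ specialLinear (Fin n) F))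
  | pair (k : ℕ) (D : Fin 2 → Submodule F (Fin n → F)) (hk : 2 * k = n) (hD : IsMDecomposition k D)
      (hs : ∀ i, IsTotallySingularFor (Cfsg.hermForm n F q) (D i))
      (hH : H = decompositionStabilizer D ⊓ (Cfsg.GU n F q ⊓ specialLinear (Fin n) F))
  | subfieldOdd (F₀ : Subfield F) (r : ℕ) (P : GL (Fin n) F) (hr : r.Prime) (ho : Odd r)
      (hc : Fintype.card F = Nat.card F₀ ^ r) (hs : IsFormRationalStructure (Cfsg.hermForm n F q) F₀ 1 P)
      (hH : H = subfieldSubgroup F₀ P ⊓ (Cfsg.GU n F q ⊓ specialLinear (Fin n) F))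
  | subfieldOrth (F₀ : Subfield F) (P : GL (Fin n) F) (hq : Odd q) (hc : Fintype.card F = Nat.card F₀ ^ 2)
      (hs : IsFormRationalStructure (Cfsg.hermForm n F q) F₀ 1 P)
      (hH : H = subfieldSubgroup F₀ P ⊓ (Cfsg.GU n F q ⊓ specialLinear (Fin n) F))
  | subfieldSymp (F₀ : Subfield F) (P : GL (Fin n) F) (ζ : F) (hn : Even n)
      (hc : Fintype.card F = Nat.card F₀ ^ 2) (hζ0 : ζ ≠ 0) (hζ : ζ + ζ ^ q = 0)
      (hs : IsFormRationalStructure (Cfsg.hermForm n F q) F₀ ζ P)
      (halt : ∀ u : Fin n → F, (∀ i, u i ∈ F₀) → Cfsg.hermForm n F q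
        ((P : Matrix (Fin n) (Fin n) F) *ᵥ u) ((P : Matrix (Fin n) (Fin n) F) *ᵥ u) = 0)
      (hH : H = subfieldSubgroup F₀ P ⊓ (Cfsg.GU n F q ⊓ specialLinear (Fin n) F))
  | sympType (r : ℕ) (R : Subgroup (GL (Fin n) F)) (p k : ℕ) (hp : p.Prime) (hR : IsSymplecticTypeGroup r R)
      (ha : ActsAbsolutelyIrreducibly (matrixSet R)) (hs : R ≤ similarityGroup (Cfsg.hermForm n F q)) (hk : n = r ^ k)
      (h2 : r = 2 → q = p ∧ p % 4 = 3 ∧ Nat.card (Subgroup.center R) = 4 ∧ Nat.card R = 2 ^ (2 + 2 * k))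
      (h3 : r = 3 → q = p ∧ p % 3 = 2 ∧ Nat.card (Subgroup.center R) = 3 ∧ Nat.card R = 3 ^ (1 + 2 * k))
      (hH : H = subgroupNormalizer R ⊓ (Cfsg.GU n F q ⊓ specialLinear (Fin n) F))
  | field (r : ℕ) (K : Subalgebra F (Matrix (Fin n) (Fin n) F)) (hr : r.Prime) (ho : Odd r) (hrn : r ∣ n)
      (hK : IsFieldSubalgebra r K) (hs : IsAdjointClosedFor (Cfsg.hermForm n F q) K)
      (hH : H = subalgebraNormalizer K ⊓ (Cfsg.GU n F q ⊓ specialLinear (Fin n) F))
  | tensor (n₁ n₂ : ℕ) (e : Fin n ≃ Fin n₁ × Fin n₂) (P : GL (Fin n) F) (f₁ : (Fin n₁ → F) → (Fin n₁ → F) → F)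
      (f₂ : (Fin n₂ → F) → (Fin n₂ → F) → F) (h2 : 2 ≤ n₁) (h12 : n₁ < n₂) (hmul : n₁ * n₂ = n)
      (hq : n₁ = 2 → 3 ≤ q) (hf₁ : IsUnitaryFormPow q f₁) (hf₂ : IsUnitaryFormPow q f₂)
      (hs : IsTensorFormStructure (fun x : F => x ^ q) (Cfsg.hermForm n F q) f₁ f₂ e P)
      (hH : H = tensorProductSubgroup n₁ n₂ e P ⊓ (Cfsg.GU n F q ⊓ specialLinear (Fin n) F))
  | wreath (k t : ℕ) (e : Fin n ≃ (Fin t → Fin k)) (P : GL (Fin n) F) (f₁ : (Fin k → F) → (Fin k → F) → F)
      (h3 : 3 ≤ k) (ht : 2 ≤ t) (hex : k = 3 → 3 ≤ q) (hmul : k ^ t = n) (hf₁ : IsUnitaryFormPow q f₁)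
      (hs : IsTensorPowerFormStructure (fun x : F => x ^ q) (Cfsg.hermForm n F q) f₁ e P)
      (hH : H = tensorWreathSubgroup k t e P ⊓ (Cfsg.GU n F q ⊓ specialLinear (Fin n) F))
  | residual (h : InUnitaryResidualClass H)

theorem su_types (hF : Fintype.card F = q ^ 2) (hn : 4 ≤ n) {H : Subgroup (GL (Fin n) F)}
    (hH : IsMaximalIn (Cfsg.GU n F q ⊓ specialLinear (Fin n) F) H) : UType n F q H := by
  classical
  have h2q := two_le_q hF
  rcases su_maximal_type hF hn hH with ⟨M, hM, hHM⟩ | hres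
  swap
  · exact .residual hres
  have hle : H ≤ M := hHM.le.trans inf_le_left
  have hGU : H ≤ Cfsg.GU n F q := hH.1.le.trans inf_le_left
  cases hM with
  | singular W h0 hs => exact .singular W h0 hs hHM
  | nondeg W h0 hn' hd => exact .nondeg W h0 hn' hd hHM
  | decomp t k D hmul hD =>
    by_cases hex : k = 2 ∧ q = 2
    · obtain ⟨rfl, hq⟩ := hex
      obtain ⟨D', hD', hle'⟩ := frame_of_planes hF hq hD
      exact .decomp (t * 2) 1 D' hD'.decomp.two_le (by omega) (fun h => absurd h (by norm_num)) hD'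
        (eq_inf_of_maximal hH ((le_inf hle hGU).trans hle') ((UMember.decomp (t * 2) 1 D' (by omega) hD').not_le hF hn))
    refine .decomp t k D hD.decomp.two_le hmul (fun hk => ?_) hD hHM
    by_contra h
    exact hex ⟨hk, by omega⟩
  | pair k D hk hD hs => exact .pair k D hk hD hs hHM
  | subfieldOdd F₀ r P hr ho hc hs => exact .subfieldOdd F₀ r P hr ho hc hs hHM
  | subfieldOrth F₀ P hq hc hs => exact .subfieldOrth F₀ P hq hc hs hHM
  | subfieldSymp F₀ P ζ hn' hc hζ0 hζ hs halt => exact .subfieldSymp F₀ P ζ hn' hc hζ0 hζ hs halt hHM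
  | sympType r R p e k hR ha hs hrp hmin hcase hk =>
    obtain ⟨hp, -, hcard, hz, hmin'⟩ := hmin
    have hp2 := hp.two_le
    have hqp : e = 2 → q = p := fun he => by
      rw [he, hF] at hcard
      exact Nat.pow_left_injective two_ne_zero hcard
    refine .sympType r R p k hp hR ha hs hk (fun hr2 => ?_) (fun hr3 => ?_) hHM
    · subst hr2
      obtain ⟨ho, -⟩ | ⟨-, he, hzc, hcR⟩ := hcase
      · exact absurd ho (Nat.not_odd_iff_even.mpr even_two)
      have h1 := hmin' 1 one_pos (by omega)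
      rw [hzc, pow_one] at h1
      have := hp.eq_two_or_odd.resolve_left (Ne.symm hrp)
      exact ⟨hqp he, by omega, hzc, hcR⟩
    · subst hr3
      obtain ⟨-, hzc, -, hcR⟩ | ⟨h, -⟩ := hcase
      swap
      · omega
      have he : e = 2 := by
        rcases Nat.lt_trichotomy e 2 with h | h | h
        · exfalso
          interval_cases e
          · rw [pow_zero, hF, sq] at hcard
            have := Nat.eq_one_of_mul_eq_one_right hcard
            omega
          · rw [pow_one, hF] at hcard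
            exact hp.not_isSquare ⟨q, by rw [← hcard, sq]⟩
        · exact h
        · refine absurd ?_ (hmin' 2 two_pos h)
          rw [hzc]
          have h3 : p % 3 ≠ 0 := fun h0 =>
            hrp ((Nat.prime_dvd_prime_iff_eq Nat.prime_three hp).mp (Nat.dvd_of_mod_eq_zero h0))
          have : p ^ 2 % 3 = 1 := by
            rw [Nat.pow_mod]
            have : p % 3 < 3 := Nat.mod_lt _ (by norm_num)
            interval_cases h4 : p % 3 <;> simp_all
          omega
      have h1 := hmin' 1 one_pos (by omega)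
      rw [hzc, pow_one] at h1
      have h3 : p % 3 ≠ 0 := fun h0 =>
        hrp ((Nat.prime_dvd_prime_iff_eq Nat.prime_three hp).mp (Nat.dvd_of_mod_eq_zero h0))
      exact ⟨hqp he, by omega, hzc, hcR⟩
  | field r K hr ho hrn hK hs => exact .field r K hr ho hrn hK hs hHM
  | tensor n₁ n₂ e P f₁ f₂ h2 h12 hmul hf₁ hf₂ hs =>
    by_cases hex : n₁ = 2 ∧ q = 2
    · obtain ⟨rfl, hq⟩ := hex
      obtain ⟨D, hD, hle'⟩ := blocks_of_tensor_two hF hq (by omega) hf₁ hf₂ hs
      exact .decomp 2 n₂ D le_rfl hmul (fun h => absurd h (by omega)) hD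
        (eq_inf_of_maximal hH ((le_inf hle hGU).trans hle') ((UMember.decomp 2 n₂ D hmul hD).not_le hF hn))
    refine .tensor n₁ n₂ e P f₁ f₂ h2 h12 hmul (fun hk => ?_) hf₁ hf₂ hs hHM
    by_contra h
    exact hex ⟨hk, by omega⟩
  | wreath k t e P f₁ h3 ht hex hmul hf₁ hs =>
    refine .wreath k t e P f₁ h3 ht (fun hk => ?_) hmul hf₁ hs hHM
    by_contra h
    exact hex ⟨by omega, hk⟩

end Cfsg.Lib.Classical.Aschbacher
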