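import Cfsg.Agent.Classical.Aschbacher.OrthOdd
import Cfsg.Agent.Classical.Aschbacher.UnitTypes

/-! The members of the orthogonal classes do not contain `Ω`. -/

set_option autoImplicit false
set_option linter.unusedSimpArgs false
set_option linter.unusedSectionVars false
set_option linter.style.haveILetI false

namespace Cfsg.Lib.Classical.Aschbacher

open Matrix Cfsg.Geo
open scoped MatrixGroups Kronecker
open Cfsg.Lib.Classical.PrimeDim (Invariant finrank_pi_card finrank_map_mulVec eq_inf_of_maximal val_inv_mul val_mul_inv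
  mem_scalars_of_val_eq gl_det_ne_zero)
open Cfsg.Lib.Classical (HypQuad.perp HypQuad.mem_perp HypQuad.finrank_perp)
open Cfsg.Lib.Classical.Refl (siegelG mat_siegelG siegelMap siegelG_mem_omega mem_omegaGL omega_eq_closure_all
  siegelG_mul)
open Cfsg.Lib.Classical.PrimeDim.Orth (omega_not_le_subspace exists_perp_norm_one nondeg_top)

universe u

/-- A tensor product fixing a subspace of codimension two is trivial. -/
theorem kron_fix_codim_two {F : Type u} [Field F] [Fintype F] {n₁ n₂ : ℕ} (h1 : 3 ≤ n₁) (h2 : 3 ≤ n₂)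
    {a : Matrix (Fin n₁) (Fin n₁) F}
    {b : Matrix (Fin n₂) (Fin n₂) F} (φ : (Fin n₁ × Fin n₂ → F) →ₗ[F] F × F)
    (hfix : ∀ x, φ x = 0 → (a ⊗ₖ b) *ᵥ x = x) : a ⊗ₖ b = 1 := by
  classical
  haveI : Nonempty (Fin n₁) := ⟨⟨0, by omega⟩⟩
  haveI : Nonempty (Fin n₂) := ⟨⟨0, by omega⟩⟩
  let pr : (Fin n₁ → F) → (Fin n₂ → F) → (Fin n₁ × Fin n₂ → F) := fun u w p => u p.1 * w p.2
  have happ : ∀ u w, (a ⊗ₖ b) *ᵥ pr u w = pr (a *ᵥ u) (b *ᵥ w) := fun u w => funext fun p => by
    simp only [pr, Matrix.mulVec, dotProduct, Finset.sum_mul_sum, Fintype.sum_prod_type, Matrix.kroneckerMap_apply]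
    exact Finset.sum_congr rfl fun x _ => Finset.sum_congr rfl fun y _ => by
      show a p.1 x * b p.2 y * _ = _
      ring
  have hker : ∀ {n : ℕ}, 3 ≤ n → ∀ ψ : (Fin n → F) →ₗ[F] F × F, ∃ w, w ≠ 0 ∧ ψ w = 0 := fun {n} hn ψ => by
    obtain ⟨w, hw, hw0⟩ := (Submodule.ne_bot_iff _).mp (LinearMap.ker_ne_bot_of_finrank_lt (f := ψ) (by
      rw [Module.finrank_prod, Module.finrank_self, Module.finrank_pi, Fintype.card_fin]; omega))
    exact ⟨w, hw0, hw⟩
  have hA : ∀ u, ∃ s : F, a *ᵥ u = s • u := fun u => by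
    obtain ⟨w, hw0, hw⟩ := hker h2 (φ.comp ({
        toFun := fun w => pr u w
        map_add' := fun w w' => funext fun p => mul_add _ _ _
        map_smul' := fun c w => funext fun p => mul_left_comm (u p.1) c (w p.2) } :
      (Fin n₂ → F) →ₗ[F] Fin n₁ × Fin n₂ → F))
    have h : (a ⊗ₖ b) *ᵥ pr u w = pr u w := hfix _ hw
    rw [happ] at h
    obtain ⟨j, hj⟩ := Function.ne_iff.mp hw0
    have hbj : (b *ᵥ w) j ≠ 0 ∨ ∀ i, u i = 0 := by
      refine or_iff_not_imp_left.mpr fun e i => ?_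
      rw [not_not] at e
      have := congrFun h (i, j)
      simp only [pr, e, mul_zero] at this
      exact (mul_eq_zero.mp this.symm).resolve_right hj
    rcases hbj with hbj | hu
    · refine ⟨w j / (b *ᵥ w) j, funext fun i => ?_⟩
      have := congrFun h (i, j)
      simp only [pr] at this
      rw [Pi.smul_apply, smul_eq_mul, div_mul_eq_mul_div, eq_div_iff hbj, this, mul_comm]
    · exact ⟨1, by rw [show u = 0 from funext hu, Matrix.mulVec_zero, smul_zero]⟩
  have hB : ∀ w, ∃ s : F, b *ᵥ w = s • w := fun w => by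
    obtain ⟨u, hu0, hu⟩ := hker h1 (φ.comp ({
        toFun := fun u => pr u w
        map_add' := fun u u' => funext fun p => add_mul _ _ _
        map_smul' := fun c u => funext fun p => mul_assoc c (u p.1) (w p.2) } :
      (Fin n₁ → F) →ₗ[F] Fin n₁ × Fin n₂ → F))
    have h : (a ⊗ₖ b) *ᵥ pr u w = pr u w := hfix _ hu
    rw [happ] at h
    obtain ⟨j, hj⟩ := Function.ne_iff.mp hu0
    have haj : (a *ᵥ u) j ≠ 0 ∨ ∀ i, w i = 0 := by
      refine or_iff_not_imp_left.mpr fun e i => ?_
      rw [not_not] at e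
      have := congrFun h (j, i)
      simp only [pr, e, zero_mul] at this
      exact (mul_eq_zero.mp this.symm).resolve_left hj
    rcases haj with haj | hw
    · refine ⟨u j / (a *ᵥ u) j, funext fun i => ?_⟩
      have := congrFun h (j, i)
      simp only [pr] at this
      rw [Pi.smul_apply, smul_eq_mul, div_mul_eq_mul_div, eq_div_iff haj, ← this, mul_comm]
    · exact ⟨1, by rw [show w = 0 from funext hw, Matrix.mulVec_zero, smul_zero]⟩
  obtain ⟨s, hs⟩ := scalar_of_eigen hA
  obtain ⟨s', hs'⟩ := scalar_of_eigen hB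
  have hab : a ⊗ₖ b = (s * s') • (1 : Matrix (Fin n₁ × Fin n₂) (Fin n₁ × Fin n₂) F) := by
    rw [hs, hs', Matrix.smul_kronecker, Matrix.kronecker_smul, Matrix.one_kronecker_one, smul_smul]
  obtain ⟨x, hx, hx0⟩ := (Submodule.ne_bot_iff _).mp (LinearMap.ker_ne_bot_of_finrank_lt (f := φ) (by
    rw [Module.finrank_prod, Module.finrank_self, Module.finrank_pi, Fintype.card_prod, Fintype.card_fin,
      Fintype.card_fin]
    nlinarith))
  have h := hfix x hx
  rw [hab, Matrix.smul_mulVec, Matrix.one_mulVec] at h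
  rw [hab, smul_left_injective F hx0 (show (s * s') • x = (1 : F) • x by rw [h, one_smul]), one_smul]

variable {ι : Type} [Fintype ι] [DecidableEq ι] {F : Type u} [Field F] [Fintype F] (Q : QuadraticForm F (ι → F))
  (hQ : (QuadraticMap.polarBilin Q).Nondegenerate)

include hQ in
/-- A subgroup containing all Siegel transformations contains `Ω`. -/
theorem omega_le_of_siegel (hn : 5 ≤ Fintype.card ι) (M : Subgroup (GL ι F))
    (h : ∀ (u z : ι → F) (hu : Q u = 0) (huz : QuadraticMap.polar (⇑Q) u z = 0) (g : GL ι F), g ∈ omegaGL (⇑Q) →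
      (∀ x, (g : Matrix ι ι F) *ᵥ x = siegelMap Q u z x) → g ∈ M) : omegaGL (⇑Q) ≤ M := by
  intro g hg
  obtain ⟨g', hg', rfl⟩ := (mem_omegaGL Q g).mp hg
  have hle : Cfsg.Omega F (⇑Q) ≤ M.comap (Cfsg.isometryGroup F (⇑Q)).subtype := by
    rw [omega_eq_closure_all Q hQ hn, Subgroup.closure_le]
    rintro _ ⟨u, z, hu, huz, rfl⟩
    exact h u z hu huz _ ((mem_omegaGL Q _).mpr ⟨_, siegelG_mem_omega Q hQ hn hu huz, rfl⟩) (mat_siegelG Q hu huz)
  exact hle hg'

theorem siegel_fix {u z x : ι → F} (h1 : QuadraticMap.polar (⇑Q) u x = 0) (h2 : QuadraticMap.polar (⇑Q) z x = 0) :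
    siegelMap Q u z x = x := by
  simp [siegelMap, h1, h2]

/-- The two functionals cutting out the fixed space of a Siegel map. -/
noncomputable def siegelCut (u z : ι → F) : (ι → F) →ₗ[F] F × F :=
  ((QuadraticMap.polarBilin Q) u).prod ((QuadraticMap.polarBilin Q) z)

theorem siegelCut_fix {u z x : ι → F} (h : siegelCut Q u z x = 0) : siegelMap Q u z x = x :=
  siegel_fix Q (congrArg Prod.fst h) (congrArg Prod.snd h)

include hQ in
theorem exists_singular_ne (hn : 7 ≤ Fintype.card ι) : ∃ u : ι → F, u ≠ 0 ∧ Q u = 0 := by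
  haveI : Nonempty ι := Fintype.card_pos_iff.mp (by omega)
  obtain ⟨w, hw⟩ := exists_ne (0 : ι → F)
  obtain ⟨u, -, hu, huw⟩ := Cfsg.Lib.Classical.Refl.exists_singular_partner Q hQ (nondeg_top Q hQ)
    (by rw [finrank_top, finrank_pi_card]; omega) (Submodule.mem_top (x := w)) hw
  refine ⟨u, fun e => ?_, hu⟩
  rw [e, QuadraticMap.polar_zero_left] at huw
  exact zero_ne_one huw

include hQ in
theorem omega_not_le_blocks (h2 : (2 : F) ≠ 0) (hn : 7 ≤ Fintype.card ι) {t k : ℕ}
    {D : Fin t → Submodule F (ι → F)} (hk : 3 ≤ k) (hD : IsMDecomposition k D) :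
    ¬ omegaGL (⇑Q) ≤ decompositionStabilizer D := fun hle => by
  classical
  have ht := hD.two_le
  let i₀ : Fin t := ⟨0, by omega⟩
  refine omega_not_le_subspace Q hQ h2 hn (W := D i₀) (fun e => ?_) (fun e => ?_)
    (omega_le_of_siegel Q hQ (by omega) _ fun u z hu huz g hg hgx => ?_)
  · have := hD.finrank_eq i₀; rw [e, finrank_bot] at this; omega
  · have h1 := hD.finrank_eq i₀
    rw [e, finrank_top, finrank_pi_card, ← IsMDecomposition.mul_eq hD] at h1
    nlinarith
  · obtain ⟨π, hπ⟩ := hle hg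
    obtain ⟨⟨x, hx⟩, hker, hx0⟩ := (Submodule.ne_bot_iff _).mp (LinearMap.ker_ne_bot_of_finrank_lt
      (f := (siegelCut Q u z).comp (D i₀).subtype) (by
        rw [Module.finrank_prod, Module.finrank_self, hD.finrank_eq]; omega))
    have hgfix : (g : Matrix ι ι F) *ᵥ x = x := (hgx x).trans (siegelCut_fix Q hker)
    have hπ0 : π i₀ = i₀ := by
      by_contra hne
      refine hx0 (Subtype.ext (Submodule.disjoint_def.mp (hD.indep.pairwiseDisjoint (Ne.symm hne)) x hx ?_))
      rw [← hπ i₀]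
      exact ⟨x, hx, (Matrix.toLin'_apply _ _).trans hgfix⟩
    have hmap := hπ i₀
    rw [hπ0] at hmap
    refine (show Invariant (Subgroup.closure {g}) (D i₀) from fun y hy v hv => ?_).le_stabilizer
      (Subgroup.subset_closure rfl)
    induction hy using Subgroup.closure_induction generalizing v with
    | mem y hy =>
      obtain rfl : y = g := hy
      rw [← hmap]
      exact ⟨v, hv, Matrix.toLin'_apply _ _⟩
    | one => simpa using hv
    | mul a b _ _ iha ihb => rw [Units.val_mul, ← Matrix.mulVec_mulVec]; exact iha _ (ihb _ hv)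
    | inv a _ iha =>
      have hb : (D i₀).map (Matrix.toLin' (a : Matrix ι ι F)) = D i₀ := Submodule.eq_of_le_of_finrank_eq
        (by rintro _ ⟨w, hw, rfl⟩; rw [Matrix.toLin'_apply]; exact iha w hw) (finrank_map_mulVec a _)
      rw [← hb] at hv
      obtain ⟨w, hw, rfl⟩ := hv
      rwa [Matrix.toLin'_apply, Cfsg.Lib.Classical.PrimeDim.inv_mulVec_mulVec]

include hQ in
theorem omega_not_le_field (h2 : (2 : F) ≠ 0) (hn : 7 ≤ Fintype.card ι) {r : ℕ} (hr : 1 < r)
    {K : Subalgebra F (Matrix ι ι F)} (hK : IsFieldSubalgebra r K) :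
    ¬ omegaGL (⇑Q) ≤ subalgebraNormalizer K := fun hle => by
  classical
  haveI : Nonempty ι := Fintype.card_pos_iff.mp (by omega)
  -- every Siegel transformation commutes with the field
  have hcom : ∀ k ∈ K, ∀ (u z : ι → F) (g : GL ι F), g ∈ omegaGL (⇑Q) →
      (∀ x, (g : Matrix ι ι F) *ᵥ x = siegelMap Q u z x) → (g : Matrix ι ι F) * k = k * (g : Matrix ι ι F) := by
    intro k hk u z g hg hgx
    set D : Matrix ι ι F := (g : Matrix ι ι F) * k * ((g⁻¹ : GL ι F) : Matrix ι ι F) - k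
    have hD : D ∈ K := sub_mem ((hle hg k).mp hk) hk
    obtain ⟨x, hker, hx0⟩ := (Submodule.ne_bot_iff _).mp (LinearMap.ker_ne_bot_of_finrank_lt
      (f := (siegelCut Q u z).prod ((siegelCut Q u z).comp (Matrix.toLin' k))) (by
        rw [Module.finrank_prod, Module.finrank_prod, Module.finrank_self, finrank_pi_card]; omega))
    have hgfix : (g : Matrix ι ι F) *ᵥ x = x := (hgx x).trans (siegelCut_fix Q (congrArg Prod.fst hker))
    have hgk : (g : Matrix ι ι F) *ᵥ (k *ᵥ x) = k *ᵥ x := by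
      have e : siegelCut Q u z (k *ᵥ x) = 0 := by
        rw [← Matrix.toLin'_apply]; exact congrArg Prod.snd hker
      exact (hgx _).trans (siegelCut_fix Q e)
    have hDx : D *ᵥ x = 0 := by
      have hi : ((g⁻¹ : GL ι F) : Matrix ι ι F) *ᵥ x = x := by
        conv_lhs => rw [← hgfix]
        exact Cfsg.Lib.Classical.PrimeDim.inv_mulVec_mulVec g x
      simp only [D]
      rw [Matrix.sub_mulVec, ← Matrix.mulVec_mulVec, hi, ← Matrix.mulVec_mulVec, hgk, sub_self]
    have hD0 : D = 0 := by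
      by_contra h0
      obtain ⟨E, -, hE⟩ := hK.inv D hD h0
      rw [mul_eq_one_comm] at hE
      exact hx0 (by rw [← Matrix.one_mulVec x, ← hE, ← Matrix.mulVec_mulVec, hDx, Matrix.mulVec_zero])
    have h1 := congrArg (fun A => A * (g : Matrix ι ι F)) (sub_eq_zero.mp hD0)
    simp only [mul_assoc, val_inv_mul, mul_one] at h1
    exact h1
  obtain ⟨u, hu0, hu⟩ := exists_singular_ne Q hQ hn
  obtain ⟨y, hy⟩ : ∃ y, QuadraticMap.polar (⇑Q) u y ≠ 0 := by
    by_contra hc
    push Not at hc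
    exact hu0 (hQ.1 u hc)
  have hsc : ∀ k ∈ K, ∃ a : F, k = a • 1 := by
    intro k hk
    have hline : ∀ z, QuadraticMap.polar (⇑Q) u z = 0 → z ∉ Submodule.span F {u} →
        k *ᵥ u ∈ Submodule.span F {u, z} := by
      intro z huz hz
      obtain ⟨g, hg, hgx⟩ := Cfsg.Lib.Classical.PrimeDim.Orth.exists_siegel_gl Q hQ (by omega) hu huz
      obtain ⟨x, hux, hzx⟩ : ∃ x, QuadraticMap.polar (⇑Q) u x = 0 ∧ QuadraticMap.polar (⇑Q) z x ≠ 0 := by
        by_contra hc
        push Not at hc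
        refine hz ?_
        rw [← Cfsg.Lib.Classical.Refl.perp_perp Q hQ (Submodule.span F {u}), HypQuad.mem_perp]
        intro w hw
        rw [QuadraticMap.polar_comm]
        exact hc w ((HypQuad.mem_perp Q).mp hw u (Submodule.mem_span_singleton_self u))
      have h1 := congrArg (fun A : Matrix ι ι F => A *ᵥ x) (hcom k hk u z g hg hgx)
      simp only [← Matrix.mulVec_mulVec, hgx, siegelMap, hux, zero_smul, add_zero, mul_zero, sub_zero, Matrix.mulVec_add,
        Matrix.mulVec_smul] at h1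
      have h1' : (-QuadraticMap.polar (⇑Q) z x) • (k *ᵥ u) = QuadraticMap.polar (⇑Q) u (k *ᵥ x) • z +
          (-QuadraticMap.polar (⇑Q) z (k *ᵥ x) - Q z * QuadraticMap.polar (⇑Q) u (k *ᵥ x)) • u :=
        add_left_cancel (h1.symm.trans (add_assoc _ _ _))
      have hmem : (-QuadraticMap.polar (⇑Q) z x) • (k *ᵥ u) ∈ Submodule.span F {u, z} := by
        rw [h1']
        exact add_mem (Submodule.smul_mem _ _ (Submodule.subset_span (by simp)))
          (Submodule.smul_mem _ _ (Submodule.subset_span (by simp)))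
      exact (Submodule.smul_mem_iff _ (neg_ne_zero.mpr hzx)).mp hmem
    obtain ⟨z, huz, hz⟩ := exists_perp_norm_one Q (by omega) hQ u
    have hzu : z ∉ Submodule.span F {u} := fun h => by
      obtain ⟨c, rfl⟩ := Submodule.mem_span_singleton.mp h
      rw [QuadraticMap.map_smul, hu, smul_zero] at hz
      exact zero_ne_one hz
    obtain ⟨z', hz', hz'2⟩ : ∃ z', QuadraticMap.polar (⇑Q) u z' = 0 ∧ z' ∉ Submodule.span F {u, z} := by
      by_contra hc
      push Not at hc
      have h1 : HypQuad.perp Q (Submodule.span F {u}) ≤ Submodule.span F {u, z} := fun w hw =>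
        hc w ((HypQuad.mem_perp Q).mp hw u (Submodule.mem_span_singleton_self u))
      have h2' := Submodule.finrank_mono h1
      rw [HypQuad.finrank_perp Q hQ, finrank_pi_card, finrank_span_singleton hu0] at h2'
      have := Cfsg.Lib.Classical.Refl.finrank_pair_le u z
      omega
    have ha := hline z huz hzu
    have hb := hline z' hz' fun h => hz'2 (Submodule.span_mono (by simp) h)
    obtain ⟨μ, hμ⟩ : ∃ μ : F, k *ᵥ u = μ • u := by
      obtain ⟨c, d, e1⟩ := Submodule.mem_span_pair.mp ha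
      obtain ⟨c', d', e2⟩ := Submodule.mem_span_pair.mp hb
      refine ⟨c', e2.symm.trans ?_⟩
      have hd : d' = 0 := by
        by_contra hd
        refine hz'2 ((Submodule.smul_mem_iff _ hd).mp (Submodule.mem_span_pair.mpr ⟨c - c', d, ?_⟩))
        rw [sub_smul, ← sub_eq_iff_eq_add'.mpr e2.symm, ← e1]
        abel
      rw [hd, zero_smul, add_zero]
    let W : Submodule F (ι → F) := LinearMap.ker (Matrix.toLin' k - μ • LinearMap.id)
    have hmem : ∀ x, x ∈ W ↔ k *ᵥ x = μ • x := fun x => by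
      simp only [W, LinearMap.mem_ker, LinearMap.sub_apply, LinearMap.smul_apply, LinearMap.id_apply,
        Matrix.toLin'_apply, sub_eq_zero]
    have hW : W = ⊤ := by
      by_contra hW
      refine omega_not_le_subspace Q hQ h2 hn (fun e => hu0 ((Submodule.eq_bot_iff _).mp e u ((hmem u).mpr hμ))) hW
        (omega_le_of_siegel Q hQ (by omega) _ fun u' z' _ _ g hg hgx x => ?_)
      have hc := hcom k hk u' z' g hg hgx
      change x ∈ W ↔ (g : Matrix ι ι F) *ᵥ x ∈ W
      rw [hmem, hmem, Matrix.mulVec_mulVec, ← hc, ← Matrix.mulVec_mulVec, ← Matrix.mulVec_smul]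
      exact ⟨fun e => by rw [e], fun e => by
        simpa [Cfsg.Lib.Classical.PrimeDim.inv_mulVec_mulVec] using
          congrArg (fun v => ((g⁻¹ : GL ι F) : Matrix ι ι F) *ᵥ v) e⟩
    exact ⟨μ, Matrix.toLin'.injective (LinearMap.ext fun x => by
      rw [Matrix.toLin'_apply, Matrix.toLin'_apply, Matrix.smul_mulVec, Matrix.one_mulVec]
      exact (hmem x).mp (hW ▸ Submodule.mem_top))⟩
  have h1 : K ≤ ⊥ := fun k hk => by
    obtain ⟨a, rfl⟩ := hsc k hk
    exact Algebra.mem_bot.mpr ⟨a, (Algebra.algebraMap_eq_smul_one a)⟩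
  have h2' : Module.finrank F K ≤ 1 := by
    rw [← Subalgebra.finrank_bot (F := F) (E := Matrix ι ι F)]
    exact Submodule.finrank_mono (s := Subalgebra.toSubmodule K) (t := Subalgebra.toSubmodule ⊥) h1
  rw [hK.finrank_eq] at h2'
  omega

include hQ in
theorem inCoords_siegel_fix {κ : Type} [Fintype κ] [DecidableEq κ] (e : ι ≃ κ) (P g : GL ι F) {u z : ι → F}
    (hgx : ∀ x, (g : Matrix ι ι F) *ᵥ x = siegelMap Q u z x) :
    ∃ φ : (κ → F) →ₗ[F] F × F, ∀ x, φ x = 0 → inCoords e P g *ᵥ x = x := by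
  refine ⟨(siegelCut Q u z).comp ((Matrix.toLin' (P : Matrix ι ι F)).comp
    (LinearEquiv.funCongrLeft F F e).toLinearMap), fun x hx => ?_⟩
  have hx' : siegelCut Q u z ((P : Matrix ι ι F) *ᵥ (x ∘ e)) = 0 := by
    rw [← Matrix.toLin'_apply]; exact hx
  rw [inCoords, Matrix.submatrix_mulVec_equiv, Units.val_mul, Units.val_mul, ← Matrix.mulVec_mulVec,
    ← Matrix.mulVec_mulVec, Equiv.symm_symm, hgx, siegelCut_fix Q hx', Matrix.mulVec_mulVec, val_inv_mul,
    Matrix.one_mulVec]
  funext a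
  simp

theorem inCoords_eq_one {κ : Type} [Fintype κ] [DecidableEq κ] {e : ι ≃ κ} {P g : GL ι F}
    (h : inCoords e P g = 1) : g = 1 := by
  have h1 : P⁻¹ * g * P = (1 : GL ι F) := Units.ext (by
    have := congrArg (fun M : Matrix κ κ F => M.submatrix e e) h
    simp only [inCoords, Matrix.submatrix_submatrix, Matrix.submatrix_one_equiv] at this
    simpa using this)
  rw [mul_assoc, inv_mul_eq_one] at h1
  exact mul_right_cancel (h1.symm.trans (one_mul P).symm)

theorem inCoords_mul {κ : Type} [Fintype κ] [DecidableEq κ] (e : ι ≃ κ) (P g h : GL ι F) :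
    inCoords e P (g * h) = inCoords e P g * inCoords e P h := by
  rw [inCoords, inCoords, inCoords, Matrix.submatrix_mul_equiv, ← Units.val_mul]
  congr 2
  group

include hQ in
theorem exists_siegel_ne_one (hn : 7 ≤ Fintype.card ι) : ∃ (u z : ι → F) (g : GL ι F), Q u = 0 ∧
    QuadraticMap.polar (⇑Q) u z = 0 ∧ g ∈ omegaGL (⇑Q) ∧
    (∀ x, (g : Matrix ι ι F) *ᵥ x = siegelMap Q u z x) ∧ g ≠ 1 := by
  obtain ⟨u, hu0, hu⟩ := exists_singular_ne Q hQ hn
  obtain ⟨z, huz, hz⟩ := exists_perp_norm_one Q (by omega) hQ u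
  obtain ⟨g, hg, hgx⟩ := Cfsg.Lib.Classical.PrimeDim.Orth.exists_siegel_gl Q hQ (by omega) hu huz
  refine ⟨u, z, g, hu, huz, hg, hgx, fun e => ?_⟩
  obtain ⟨x, hx⟩ : ∃ x, QuadraticMap.polar (⇑Q) u x ≠ 0 := by
    by_contra hc
    push Not at hc
    exact hu0 (hQ.1 u hc)
  have h1 := hgx x
  rw [e, Units.val_one, Matrix.one_mulVec, siegelMap, add_assoc, left_eq_add, add_eq_zero_iff_eq_neg, ← neg_smul] at h1
  set c := -(-QuadraticMap.polar (⇑Q) z x - Q z * QuadraticMap.polar (⇑Q) u x)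
  have h2' := congrArg Q h1
  rw [QuadraticMap.map_smul, QuadraticMap.map_smul, hu, hz, smul_zero, smul_eq_mul, mul_one] at h2'
  exact hx (mul_self_eq_zero.mp h2')

include hQ in
theorem omega_not_le_tensor (hn : 7 ≤ Fintype.card ι) {n₁ n₂ : ℕ} (h1 : 3 ≤ n₁) (h2' : 3 ≤ n₂)
    (e : ι ≃ Fin n₁ × Fin n₂) (P : GL ι F) : ¬ omegaGL (⇑Q) ≤ tensorProductSubgroup n₁ n₂ e P := fun hle => by
  obtain ⟨u, z, g, -, -, hg, hgx, hne⟩ := exists_siegel_ne_one Q hQ hn
  obtain ⟨k, ⟨a, b, hk⟩, hcc⟩ := exists_of_mem_conjReindex (K := kroneckerSubgroup n₁ n₂ F) e P _ (hle hg)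
  obtain ⟨φ, hφ⟩ := inCoords_siegel_fix Q hQ e P g hgx
  rw [hcc, hk] at hφ
  exact hne (inCoords_eq_one (hcc.trans (hk.trans (kron_fix_codim_two h1 h2' φ hφ))))

theorem wreath_two_sq {k : ℕ} (π : Equiv.Perm (Fin 2)) (a : Fin 2 → GL (Fin k) F) :
    (permMat F π * piKron (d := fun _ => k) fun i => (a i : Matrix (Fin k) (Fin k) F)) *
      (permMat F π * piKron (d := fun _ => k) fun i => (a i : Matrix (Fin k) (Fin k) F)) =
    (((a (π 0) : Matrix (Fin k) (Fin k) F) * (a 0 : Matrix (Fin k) (Fin k) F)) ⊗ₖ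
      ((a (π 1) : Matrix (Fin k) (Fin k) F) * (a 1 : Matrix (Fin k) (Fin k) F))).submatrix (fun x => (x 0, x 1))
        (fun x => (x 0, x 1)) := by
  have e : piKron (d := fun _ => k) (fun i => (a i : Matrix (Fin k) (Fin k) F)) * permMat F π =
      permMat F π * piKron (d := fun _ => k) fun i => (a (π i) : Matrix (Fin k) (Fin k) F) := by
    rw [permMat_piKron]
    simp
  have hsq : ∀ σ : Equiv.Perm (Fin 2), ∀ i, σ (σ i) = i := by decide
  have e2 : (permMat (m := k) F π * permMat F π : Matrix (Fin 2 → Fin k) (Fin 2 → Fin k) F) = 1 := by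
    ext x y
    rw [permMat_apply_mul]
    have hxx : (x ∘ π) ∘ π = x := funext fun i => congrArg x (hsq π i)
    simp [permMat, Matrix.one_apply, hxx, eq_comm]
  rw [← piKron_two (fun i => (a (π i) : Matrix (Fin k) (Fin k) F) * (a i : Matrix (Fin k) (Fin k) F))]
  calc _ = permMat F π * (piKron (d := fun _ => k) (fun i => (a i : Matrix (Fin k) (Fin k) F)) * permMat F π) *
        piKron (d := fun _ => k) fun i => (a i : Matrix (Fin k) (Fin k) F) := by simp only [Matrix.mul_assoc]
    _ = _ := by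
      rw [e, ← Matrix.mul_assoc, e2, Matrix.one_mul, piKron_mul]
      rfl

include hQ in
theorem omega_not_le_wreath_two (h2 : (2 : F) ≠ 0) (hn : 7 ≤ Fintype.card ι) {k : ℕ} (hk : 3 ≤ k)
    (e : ι ≃ (Fin 2 → Fin k)) (P : GL ι F) : ¬ omegaGL (⇑Q) ≤ tensorWreathSubgroup k 2 e P := fun hle => by
  obtain ⟨u, z, g, hu, huz, hg, hgx, hne⟩ := exists_siegel_ne_one Q hQ hn
  have huz' : QuadraticMap.polar (⇑Q) u ((2 : F)⁻¹ • z) = 0 := by
    rw [QuadraticMap.polar_smul_right, huz, smul_zero]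
  let h : GL ι F := ((siegelG Q hu huz' : Cfsg.isometryGroup F (⇑Q)) : GL ι F)
  have hh : h ∈ omegaGL (⇑Q) := (mem_omegaGL Q _).mpr ⟨_, siegelG_mem_omega Q hQ (by omega) hu huz', rfl⟩
  have hhg : h * h = g := by
    refine Units.ext (Matrix.toLin'.injective (LinearMap.ext fun x => ?_))
    rw [Matrix.toLin'_apply, Matrix.toLin'_apply, hgx]
    simp only [h, ← Subgroup.coe_mul, siegelG_mul]
    refine (mat_siegelG Q hu _ x).trans ?_
    rw [← add_smul, show (2 : F)⁻¹ + (2 : F)⁻¹ = 1 by field_simp; ring, one_smul]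
  obtain ⟨π, a, hcc⟩ := exists_isWreath_of_mem e P _ (hle hh)
  obtain ⟨φ, hφ⟩ := inCoords_siegel_fix Q hQ e P g hgx
  rw [← hhg, inCoords_mul, hcc, wreath_two_sq] at hφ
  let ε : (Fin 2 → Fin k) ≃ Fin k × Fin k := finTwoArrowEquiv (Fin k)
  have hε : ⇑ε = fun x => (x 0, x 1) := rfl
  refine hne (inCoords_eq_one (e := e) (P := P) ?_)
  rw [← hhg, inCoords_mul, hcc, wreath_two_sq, ← hε, kron_fix_codim_two hk hk
    (φ.comp (LinearEquiv.funCongrLeft F F ε).toLinearMap) fun x hx => ?_, Matrix.submatrix_one_equiv]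
  have h1 := hφ (x ∘ ε) hx
  rw [← hε, Matrix.submatrix_mulVec_equiv] at h1
  funext p
  have h3 := congrFun h1 (ε.symm p)
  simpa [Function.comp_def] using h3

/-- Over three elements a decomposition into three-spaces refines to a frame. -/
theorem frame_of_threes (hq : Fintype.card F = 3) {t : ℕ} {D : Fin t → Submodule F (ι → F)}
    (hQ : (QuadraticMap.polarBilin Q).Nondegenerate) (hD : IsOrthogonalMDecomposition (⇑Q) 3 D)
    {H : Subgroup (GL ι F)} (hiso : ∀ g ∈ H, ∀ x, Q ((g : Matrix ι ι F) *ᵥ x) = Q x)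
    (hle : H ≤ decompositionStabilizer D) :
    ∃ D' : Fin (t * 3) → Submodule F (ι → F), IsNondegenerateMDecomposition (QuadraticMap.polar (⇑Q)) 1 D' ∧
      H ≤ decompositionStabilizer D' := by
  classical
  have h2t := hD.decomp.decomp.two_le
  have hf := orth_refl Q hQ
  let B := QuadraticMap.polar (⇑Q)
  let i₀ : Fin t := ⟨0, by omega⟩
  let b := Module.finBasisOfFinrankEq F (D i₀) (hD.decomp.decomp.finrank_eq i₀)
  let G : Matrix (Fin 3) (Fin 3) F := Matrix.of fun i j => B (b i) (b j)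
  have hGs : Gᵀ = G := Matrix.ext fun i j => QuadraticMap.polar_comm _ _ _
  have hsum : ∀ (x : Fin 3 → F) (v : ι → F), B ((∑ i, x i • b i : D i₀) : ι → F) v = ∑ i, x i * B (b i) v := by
    intro x v
    simp [B, Fin.sum_univ_three, QuadraticMap.polar_add_left, QuadraticMap.polar_smul_left]
  have hGd : G.det ≠ 0 := fun h0 => by
    obtain ⟨x, hx0, hx⟩ := Matrix.exists_vecMul_eq_zero_iff.mpr h0
    have hv0 : (∑ i, x i • b i) ≠ 0 := fun e => hx0 (funext fun i => by
      simpa using Fintype.linearIndependent_iff.mp b.linearIndependent x e i)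
    obtain ⟨-, w, hw, hne⟩ := hD.decomp.nondegenerate i₀ _ (∑ i, x i • b i).2 (fun e => hv0 (Subtype.ext e))
    apply hne
    obtain ⟨y, hy⟩ : ∃ y : Fin 3 → F, (w : ι → F) = ((∑ j, y j • b j : D i₀) : ι → F) :=
      ⟨fun j => b.repr ⟨w, hw⟩ j, (congrArg Subtype.val (b.sum_repr ⟨w, hw⟩)).symm⟩
    have hxj : ∀ j, ∑ i, x i * B (b i) (b j) = 0 := fun j => congrFun hx j
    show B _ w = 0
    rw [hsum, hy]
    calc ∑ i, x i * B (b i) ((∑ j, y j • b j : D i₀) : ι → F) = ∑ i, x i * ∑ j, y j * B (b i) (b j) :=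
          Finset.sum_congr rfl fun i _ => by
            congr 1
            show B _ _ = _
            rw [show B (b i) _ = B ((∑ j, y j • b j : D i₀) : ι → F) (b i) from QuadraticMap.polar_comm _ _ _, hsum]
            exact Finset.sum_congr rfl fun j _ => congrArg (y j * ·) (QuadraticMap.polar_comm _ _ _)
      _ = ∑ j, y j * ∑ i, x i * B (b i) (b j) := by
          simp only [Finset.mul_sum]
          rw [Finset.sum_comm]
          exact Finset.sum_congr rfl fun j _ => Finset.sum_congr rfl fun i _ => by ring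
      _ = 0 := by simp [hxj]
  obtain ⟨A, κ, hκ, hA⟩ := congr_scalar_three hq hGs hGd
  let e₀ : Fin 3 → D i₀ := fun j => ∑ i, (A : Matrix (Fin 3) (Fin 3) F) i j • b i
  have he₀ : ∀ j l, B (e₀ j) (e₀ l) = if j = l then κ else 0 := fun j l => by
    have e := congrFun (congrFun hA j) l
    rw [Matrix.smul_apply, Matrix.one_apply, smul_eq_mul, mul_ite, mul_one, mul_zero] at e
    rw [← e, hsum]
    calc ∑ i, (A : Matrix (Fin 3) (Fin 3) F) i j * B (b i) (e₀ l)
        = ∑ i, (A : Matrix (Fin 3) (Fin 3) F) i j * ∑ i', (A : Matrix (Fin 3) (Fin 3) F) i' l * G i' i :=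
          Finset.sum_congr rfl fun i _ => by
            congr 1
            rw [show B (b i) _ = B (e₀ l : ι → F) (b i) from QuadraticMap.polar_comm _ _ _, hsum]
            rfl
      _ = _ := by
          simp only [Matrix.mul_apply, Matrix.transpose_apply, Finset.mul_sum, Finset.sum_mul]
          rw [Finset.sum_comm]
          exact Finset.sum_congr rfl fun i _ => Finset.sum_congr rfl fun i' _ => by
            rw [show G i i' = G i' i from congrFun (congrFun hGs i') i]
            ring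
  have hisoD := fun i => hD.isometric i₀ i
  choose φ hφ using hisoD
  let ev : Fin t × Fin 3 → ι → F := fun p => (φ p.1 (e₀ p.2) : D p.1)
  have hev : ∀ p, ev p ∈ D p.1 := fun p => (φ p.1 (e₀ p.2)).2
  have hpol : ∀ i (x y : D i₀), B ((φ i x : D i) : ι → F) ((φ i y : D i) : ι → F) = B x y := fun i x y => by
    simp only [B, QuadraticMap.polar, ← Submodule.coe_add, ← map_add, hφ]
  have hgr : ∀ p r, B (ev p) (ev r) = if p = r then κ else 0 := by
    rintro ⟨i, a⟩ ⟨j, c⟩
    by_cases hij : i = j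
    · subst hij
      rw [hpol, he₀]
      simp
    · rw [if_neg fun e => hij (congrArg Prod.fst e)]
      exact hD.decomp.orthogonal i j hij _ (hev (i, a)) _ (hev (j, c))
  let ix : Fin (t * 3) × Fin 1 → Fin t × Fin 3 := fun p => finProdFinEquiv.symm p.1
  have hix : Function.Injective ix := fun p r h => Prod.ext (finProdFinEquiv.symm.injective h) (Subsingleton.elim _ _)
  let Φ : Matrix ι (Fin (t * 3) × Fin 1) F := Matrix.of fun r p => ev (ix p) r
  have hcol : ∀ p, Φ *ᵥ Pi.single p 1 = ev (ix p) := fun p => by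
    rw [Matrix.mulVec_single_one]; rfl
  have hgram : hf.gramIn Φ = κ • (1 : Matrix (Fin (t * 3) × Fin 1) (Fin (t * 3) × Fin 1) F) := by
    ext p r
    have h1 := hf.apply_coords Φ (Pi.single p 1) (Pi.single r 1)
    rw [hcol, hcol, RingEquiv.coe_refl, Function.id_comp, Matrix.mulVec_single_one, single_one_dotProduct] at h1
    rw [Matrix.smul_apply, Matrix.one_apply, smul_eq_mul, mul_ite, mul_one, mul_zero]
    exact h1.symm.trans ((hgr _ _).trans (if_congr hix.eq_iff rfl rfl))
  have hcard : Fintype.card ι = Fintype.card (Fin (t * 3) × Fin 1) := by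
    rw [Fintype.card_prod, Fintype.card_fin, Fintype.card_fin, mul_one, IsMDecomposition.mul_eq hD.decomp.decomp]
  set Ψ : Matrix (Fin (t * 3) × Fin 1) ι F := κ⁻¹ • (Φᵀ * gramMatrix B) with hΨdef
  have hΨΦ : Ψ * Φ = 1 := by
    have e : Φᵀ * gramMatrix B * Φ = κ • 1 := by
      rw [← hgram, ReflForm.gramIn, RingEquiv.coe_refl, Matrix.map_id]
    rw [hΨdef, Matrix.smul_mul, e, smul_smul, inv_mul_cancel₀ hκ, one_smul]
  have hco : Coords Φ Ψ := ⟨(Matrix.mul_eq_one_comm_of_equiv (Fintype.equivOfCardEq hcard)).mpr hΨΦ, hΨΦ⟩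
  obtain ⟨D', hD', hst⟩ := blocks_of_coords hf (t := t * 3) (k := 1) (by omega) one_pos hco hκ
    (G := (1 : Matrix (Fin 1) (Fin 1) F)) (by simp) (by rw [hgram, Matrix.one_kronecker_one])
  refine ⟨D', hD', fun h hh => hst h ?_⟩
  obtain ⟨τ, hτ⟩ := hle hh
  have hval : ∀ (v : ι → F) p, B v (ev (ix p)) = κ * (Ψ *ᵥ v) p := fun v p => by
    conv_lhs => rw [show v = Φ *ᵥ (Ψ *ᵥ v) by rw [Matrix.mulVec_mulVec, hco.left, Matrix.one_mulVec], ← hcol p]
    show QuadraticMap.polar (⇑Q) _ _ = _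
    rw [hf.apply_coords, hgram, RingEquiv.coe_refl, Function.id_comp, Matrix.smul_mulVec κ, Matrix.one_mulVec,
      dotProduct_smul, dotProduct_single, mul_one, smul_eq_mul]
  have himg : ∀ s : Fin (t * 3) × Fin 1, ∃ r, ∀ p, p ≠ r →
      (Ψ *ᵥ ((h : Matrix ι ι F) *ᵥ ev (ix s))) p = 0 := by
    intro s
    set v := (h : Matrix ι ι F) *ᵥ ev (ix s)
    set a := Ψ *ᵥ v
    have hm : v ∈ D (τ (ix s).1) := by rw [← hτ]; exact ⟨_, hev _, Matrix.toLin'_apply _ _⟩
    have hout : ∀ p, (ix p).1 ≠ τ (ix s).1 → a p = 0 := fun p hp => by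
      have h1 := hval v p
      rw [show B v (ev (ix p)) = 0 from hD.decomp.orthogonal _ _ (Ne.symm hp) v hm _ (hev _)] at h1
      exact (mul_eq_zero.mp h1.symm).resolve_left hκ
    have hnorm : ∑ p, a p * a p = 1 := by
      have h1 : B v v = κ := by
        have := orth_fixes Q hiso h hh (ev (ix s)) (ev (ix s))
        exact this.trans ((hgr _ _).trans (if_pos rfl))
      conv at h1 => lhs; rw [show v = Φ *ᵥ a by rw [Matrix.mulVec_mulVec, hco.left, Matrix.one_mulVec]]
      change QuadraticMap.polar (⇑Q) _ _ = _ at h1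
      rw [hf.apply_coords, hgram, RingEquiv.coe_refl, Function.id_comp, Matrix.smul_mulVec, Matrix.one_mulVec,
        dotProduct_smul, smul_eq_mul] at h1
      exact mul_left_cancel₀ hκ (h1.trans (mul_one κ).symm)
    let back : Fin 3 → Fin (t * 3) × Fin 1 := fun c => (finProdFinEquiv (τ (ix s).1, c), 0)
    have hback : Function.Injective back := fun c c' e => by
      simpa [back] using e
    have hsupp : ∀ p, (∀ c, p ≠ back c) → a p = 0 := fun p hp => hout p fun e => hp (ix p).2 (Prod.ext (by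
      show p.1 = finProdFinEquiv _
      rw [← e]; exact (finProdFinEquiv.apply_symm_apply p.1).symm) (Subsingleton.elim _ _))
    rw [← Finset.sum_subset (Finset.subset_univ (Finset.univ.image back)) fun p _ hp => by
      rw [hsupp p fun c e => hp (Finset.mem_image.mpr ⟨c, Finset.mem_univ _, e.symm⟩), zero_mul],
      Finset.sum_image fun c _ c' _ e => hback e, Fin.sum_univ_three] at hnorm
    have h3 := three_zero hq
    have key : ∀ x y z : F, x * x + y * y + z * z = 1 → y = 0 ∧ z = 0 ∨ x = 0 ∧ z = 0 ∨ x = 0 ∧ y = 0 := by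
      intro x y z e
      have hs : ∀ x : F, x ≠ 0 → x * x = 1 := fun x hx => by
        rcases three_elts hq x with rfl | rfl | rfl
        · exact absurd rfl hx
        · exact one_mul 1
        · ring
      rcases eq_or_ne x 0 with rfl | hx <;> rcases eq_or_ne y 0 with rfl | hy <;>
        rcases eq_or_ne z 0 with rfl | hz
      · exact Or.inl ⟨rfl, rfl⟩
      · exact Or.inr (Or.inr ⟨rfl, rfl⟩)
      · exact Or.inr (Or.inl ⟨rfl, rfl⟩)
      · rw [hs _ hy, hs _ hz] at e
        exact absurd (show (1 : F) = 0 by linear_combination e) one_ne_zero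
      · exact Or.inl ⟨rfl, rfl⟩
      · rw [hs _ hx, hs _ hz] at e
        exact absurd (show (1 : F) = 0 by linear_combination e) one_ne_zero
      · rw [hs _ hx, hs _ hy] at e
        exact absurd (show (1 : F) = 0 by linear_combination e) one_ne_zero
      · rw [hs _ hx, hs _ hy, hs _ hz] at e
        exact absurd (show (1 : F) = 0 by linear_combination h3 - e) one_ne_zero
    have hcases := key _ _ _ hnorm
    rcases hcases with ⟨e1, e2⟩ | ⟨e1, e2⟩ | ⟨e1, e2⟩
    · refine ⟨back 0, fun p hp => ?_⟩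
      by_cases hb : ∀ c, p ≠ back c
      · exact hsupp p hb
      · push Not at hb; obtain ⟨c, rfl⟩ := hb
        fin_cases c
        exacts [absurd rfl hp, e1, e2]
    · refine ⟨back 1, fun p hp => ?_⟩
      by_cases hb : ∀ c, p ≠ back c
      · exact hsupp p hb
      · push Not at hb; obtain ⟨c, rfl⟩ := hb
        fin_cases c
        exacts [e1, absurd rfl hp, e2]
    · refine ⟨back 2, fun p hp => ?_⟩
      by_cases hb : ∀ c, p ≠ back c
      · exact hsupp p hb
      · push Not at hb; obtain ⟨c, rfl⟩ := hb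
        fin_cases c
        exacts [e1, e2, absurd rfl hp]
  choose r hr using himg
  refine ⟨fun i => (r (i, 0)).1, fun p s hps => ?_⟩
  have h1 := hr s p fun e => hps (by
    show p.1 = (r (s.1, 0)).1
    rw [e, show (s.1, (0 : Fin 1)) = s from Prod.ext rfl (Subsingleton.elim _ _)])
  rw [← hcol, Matrix.mulVec_mulVec, Matrix.mulVec_mulVec] at h1
  simpa using h1

end Cfsg.Lib.Classical.Aschbacher
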