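import Cfsg.Agent.Classical.Aschbacher.OrthEvenBase
import Cfsg.Agent.Classical.Aschbacher.OrthOddMax

/-! `Ω` lies in no stabiliser of a subspace, extension field or subfield structure, in any characteristic. -/

set_option autoImplicit false
set_option linter.unusedSimpArgs false
set_option linter.unusedSectionVars false
set_option linter.style.haveILetI false

namespace Cfsg.Lib.Classical.Aschbacher

open Matrix Cfsg.Geo
open scoped MatrixGroups
open Cfsg.Lib.Classical.PrimeDim (Invariant finrank_map_mulVec exists_scaled_entries exists_char_card finrank_pi_card mulVec_inv_mulVec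
  inv_mulVec_mulVec val_inv_mul val_mul_inv)
open Cfsg.Lib.Classical (HypQuad.perp HypQuad.mem_perp HypQuad.finrank_perp)
open Cfsg.Lib.Classical.Refl (mat siegelG mat_siegelG siegelMap siegelG_mem_omega mem_omegaGL mem_iff)
open Cfsg.Lib.Classical.PrimeDim.Orth (exists_perp_norm_one nondeg_top exists_siegel_gl)

universe u

namespace OrthEven

variable {ι : Type} [Fintype ι] [DecidableEq ι] {F : Type u} [Field F] [Fintype F] (Q : QuadraticForm F (ι → F))
  (hQ : (QuadraticMap.polarBilin Q).Nondegenerate)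

include hQ in
theorem omega_not_le_subspace' (hn : 7 ≤ Fintype.card ι) {W : Submodule F (ι → F)} (h0 : W ≠ ⊥)
    (h1 : W ≠ ⊤) : ¬ omegaGL (⇑Q) ≤ subspaceStabilizer W := by
  intro hle
  have hV : Module.finrank F (ι → F) = Fintype.card ι := Module.finrank_fintype_fun_eq_card F
  have hinv : ∀ (u z : ι → F) (hu : Q u = 0) (huz : QuadraticMap.polar (⇑Q) u z = 0), ∀ w ∈ W,
      siegelMap Q u z w ∈ W := by
    intro u z hu huz w hw
    obtain ⟨g, hg, hgx⟩ := exists_siegel_gl Q hQ (by omega) hu huz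
    rw [← hgx]
    exact (hle hg w).mp hw
  have hA : ∀ u w, Q u = 0 → w ∈ W → QuadraticMap.polar (⇑Q) u w ≠ 0 → u ∈ W := by
    intro u w hu hw huw
    obtain ⟨z, huz, hz⟩ := exists_perp_norm_one Q (by omega) hQ u
    obtain ⟨z₂, huz₂, hzz⟩ : ∃ z₂, QuadraticMap.polar (⇑Q) u z₂ = 0 ∧ QuadraticMap.polar (⇑Q) z z₂ ≠ 0 := by
      by_contra hc
      push Not at hc
      have hzu : z ∈ Submodule.span F {u} := by
        rw [← Cfsg.Lib.Classical.Refl.perp_perp Q hQ (Submodule.span F {u}), HypQuad.mem_perp]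
        intro x hx
        rw [QuadraticMap.polar_comm]
        exact hc x ((HypQuad.mem_perp Q).mp hx u (Submodule.mem_span_singleton_self u))
      obtain ⟨c, rfl⟩ := Submodule.mem_span_singleton.mp hzu
      rw [QuadraticMap.map_smul, hu, smul_zero] at hz
      exact zero_ne_one hz
    have hsum : QuadraticMap.polar (⇑Q) u (z + z₂) = 0 := by rw [QuadraticMap.polar_add_right, huz, huz₂, add_zero]
    have h := sub_mem (sub_mem (hinv u (z + z₂) hu hsum w hw) (hinv u z hu huz w hw)) (sub_mem (hinv u z₂ hu huz₂ w hw) hw)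
    have e : siegelMap Q u (z + z₂) w - siegelMap Q u z w - (siegelMap Q u z₂ w - w) =
        (-(QuadraticMap.polar (⇑Q) z z₂ * QuadraticMap.polar (⇑Q) u w)) • u := by
      funext i
      simp only [siegelMap, Pi.add_apply, Pi.sub_apply, Pi.smul_apply, smul_eq_mul,
        QuadraticMap.polar_add_left, QuadraticMap.map_add (f := Q) z z₂]
      ring
    rw [e] at h
    have := W.smul_mem (-(QuadraticMap.polar (⇑Q) z z₂ * QuadraticMap.polar (⇑Q) u w))⁻¹ h
    rwa [smul_smul, inv_mul_cancel₀ (neg_ne_zero.mpr (mul_ne_zero hzz huw)), one_smul] at this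
  obtain ⟨w, hw, hw0⟩ := (Submodule.ne_bot_iff W).mp h0
  obtain ⟨u, -, hu, huw⟩ := Cfsg.Lib.Classical.Refl.exists_singular_partner Q hQ (nondeg_top Q hQ)
    (by rw [finrank_top, hV]; omega) (Submodule.mem_top (x := w)) hw0
  have huW : u ∈ W := hA u w hu hw (by rw [huw]; exact one_ne_zero)
  obtain ⟨y, hy, hy0⟩ := (Submodule.ne_bot_iff (HypQuad.perp Q W)).mp (fun e => h1 (by
    have := congrArg (fun X : Submodule F (ι → F) => Module.finrank F X) e
    simp only [HypQuad.finrank_perp Q hQ, hV, finrank_bot] at this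
    refine Submodule.eq_top_of_finrank_eq ?_
    have := Submodule.finrank_le W
    omega))
  obtain ⟨u', -, hu', huy⟩ := Cfsg.Lib.Classical.Refl.exists_singular_partner Q hQ (nondeg_top Q hQ)
    (by rw [finrank_top, hV]; omega) (Submodule.mem_top (x := y)) hy0
  have hu'W : u' ∉ W := fun h => one_ne_zero (huy.symm.trans ((HypQuad.mem_perp Q).mp hy u' h))
  have hperp : ∀ w ∈ W, QuadraticMap.polar (⇑Q) u' w = 0 := fun w hw => by_contra fun h => hu'W (hA u' w hu' hw h)
  have hu'0 : u' ≠ 0 := fun e => hu'W (e ▸ W.zero_mem)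
  obtain ⟨c, hc⟩ : ∃ c : F, c • u' = u := by
    refine Submodule.mem_span_singleton.mp ?_
    rw [← Cfsg.Lib.Classical.Refl.perp_perp Q hQ (Submodule.span F {u'}), HypQuad.mem_perp]
    intro z hz
    by_contra hzu
    have huz : QuadraticMap.polar (⇑Q) u' z = 0 := (HypQuad.mem_perp Q).mp hz u' (Submodule.mem_span_singleton_self u')
    have h := sub_mem (hinv u' z hu' huz u huW) huW
    have e : siegelMap Q u' z u - u = (-QuadraticMap.polar (⇑Q) z u) • u' := by
      funext i
      simp only [siegelMap, Pi.add_apply, Pi.sub_apply, Pi.smul_apply, smul_eq_mul, hperp u huW]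
      ring
    rw [e] at h
    have := W.smul_mem (-QuadraticMap.polar (⇑Q) z u)⁻¹ h
    rw [smul_smul, inv_mul_cancel₀ (neg_ne_zero.mpr hzu), one_smul] at this
    exact hu'W this
  have hc0 : c ≠ 0 := fun e => by
    rw [e, zero_smul] at hc
    rw [← hc, QuadraticMap.polar_zero_left] at huw
    exact zero_ne_one huw
  exact hu'W (by
    have := W.smul_mem c⁻¹ (hc ▸ huW)
    rwa [smul_smul, inv_mul_cancel₀ hc0, one_smul] at this)

include hQ in
theorem omega_not_le_field' (hn : 7 ≤ Fintype.card ι) {r : ℕ} (hr : 1 < r)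
    {K : Subalgebra F (Matrix ι ι F)} (hK : IsFieldSubalgebra r K) :
    ¬ omegaGL (⇑Q) ≤ subalgebraNormalizer K := fun hle => by
  classical
  haveI : Nonempty ι := Fintype.card_pos_iff.mp (by omega)
  -- every Siegel transformation commutes with the field
  have hcom : ∀ k ∈ K, ∀ (u z : ι → F) (g : GL ι F), g ∈ omegaGL (⇑Q) →
      (∀ x, (g : Matrix ι ι F) *ᵥ x = siegelMap Q u z x) → (g : Matrix ι ι F) * k = k * (g : Matrix ι ι F) := by
    intro k hk u z g hg hgx
    set D : Matrix ι ι F := (g : Matrix ι ι F) * k * ((g⁻¹ : GL ι F) : Matrix ι ι F) - k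
    have hD : D ∈ K := sub_mem ((hle hg k).mp hk) hk
    obtain ⟨x, hker, hx0⟩ := (Submodule.ne_bot_iff _).mp (LinearMap.ker_ne_bot_of_finrank_lt
      (f := (siegelCut Q u z).prod ((siegelCut Q u z).comp (Matrix.toLin' k))) (by
        rw [Module.finrank_prod, Module.finrank_prod, Module.finrank_self, finrank_pi_card]; omega))
    have hgfix : (g : Matrix ι ι F) *ᵥ x = x := (hgx x).trans (siegelCut_fix Q (congrArg Prod.fst hker))
    have hgk : (g : Matrix ι ι F) *ᵥ (k *ᵥ x) = k *ᵥ x := by
      have e : siegelCut Q u z (k *ᵥ x) = 0 := by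
        rw [← Matrix.toLin'_apply]; exact congrArg Prod.snd hker
      exact (hgx _).trans (siegelCut_fix Q e)
    have hDx : D *ᵥ x = 0 := by
      have hi : ((g⁻¹ : GL ι F) : Matrix ι ι F) *ᵥ x = x := by
        conv_lhs => rw [← hgfix]
        exact Cfsg.Lib.Classical.PrimeDim.inv_mulVec_mulVec g x
      simp only [D]
      rw [Matrix.sub_mulVec, ← Matrix.mulVec_mulVec, hi, ← Matrix.mulVec_mulVec, hgk, sub_self]
    have hD0 : D = 0 := by
      by_contra h0
      obtain ⟨E, -, hE⟩ := hK.inv D hD h0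
      rw [mul_eq_one_comm] at hE
      exact hx0 (by rw [← Matrix.one_mulVec x, ← hE, ← Matrix.mulVec_mulVec, hDx, Matrix.mulVec_zero])
    have h1 := congrArg (fun A => A * (g : Matrix ι ι F)) (sub_eq_zero.mp hD0)
    simp only [mul_assoc, val_inv_mul, mul_one] at h1
    exact h1
  obtain ⟨u, hu0, hu⟩ := exists_singular_ne Q hQ hn
  obtain ⟨y, hy⟩ : ∃ y, QuadraticMap.polar (⇑Q) u y ≠ 0 := by
    by_contra hc
    push Not at hc
    exact hu0 (hQ.1 u hc)
  have hsc : ∀ k ∈ K, ∃ a : F, k = a • 1 := by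
    intro k hk
    have hline : ∀ z, QuadraticMap.polar (⇑Q) u z = 0 → z ∉ Submodule.span F {u} →
        k *ᵥ u ∈ Submodule.span F {u, z} := by
      intro z huz hz
      obtain ⟨g, hg, hgx⟩ := Cfsg.Lib.Classical.PrimeDim.Orth.exists_siegel_gl Q hQ (by omega) hu huz
      obtain ⟨x, hux, hzx⟩ : ∃ x, QuadraticMap.polar (⇑Q) u x = 0 ∧ QuadraticMap.polar (⇑Q) z x ≠ 0 := by
        by_contra hc
        push Not at hc
        refine hz ?_
        rw [← Cfsg.Lib.Classical.Refl.perp_perp Q hQ (Submodule.span F {u}), HypQuad.mem_perp]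
        intro w hw
        rw [QuadraticMap.polar_comm]
        exact hc w ((HypQuad.mem_perp Q).mp hw u (Submodule.mem_span_singleton_self u))
      have h1 := congrArg (fun A : Matrix ι ι F => A *ᵥ x) (hcom k hk u z g hg hgx)
      simp only [← Matrix.mulVec_mulVec, hgx, siegelMap, hux, zero_smul, add_zero, mul_zero, sub_zero, Matrix.mulVec_add,
        Matrix.mulVec_smul] at h1
      have h1' : (-QuadraticMap.polar (⇑Q) z x) • (k *ᵥ u) = QuadraticMap.polar (⇑Q) u (k *ᵥ x) • z +
          (-QuadraticMap.polar (⇑Q) z (k *ᵥ x) - Q z * QuadraticMap.polar (⇑Q) u (k *ᵥ x)) • u :=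
        add_left_cancel (h1.symm.trans (add_assoc _ _ _))
      have hmem : (-QuadraticMap.polar (⇑Q) z x) • (k *ᵥ u) ∈ Submodule.span F {u, z} := by
        rw [h1']
        exact add_mem (Submodule.smul_mem _ _ (Submodule.subset_span (by simp)))
          (Submodule.smul_mem _ _ (Submodule.subset_span (by simp)))
      exact (Submodule.smul_mem_iff _ (neg_ne_zero.mpr hzx)).mp hmem
    obtain ⟨z, huz, hz⟩ := exists_perp_norm_one Q (by omega) hQ u
    have hzu : z ∉ Submodule.span F {u} := fun h => by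
      obtain ⟨c, rfl⟩ := Submodule.mem_span_singleton.mp h
      rw [QuadraticMap.map_smul, hu, smul_zero] at hz
      exact zero_ne_one hz
    obtain ⟨z', hz', hz'2⟩ : ∃ z', QuadraticMap.polar (⇑Q) u z' = 0 ∧ z' ∉ Submodule.span F {u, z} := by
      by_contra hc
      push Not at hc
      have h1 : HypQuad.perp Q (Submodule.span F {u}) ≤ Submodule.span F {u, z} := fun w hw =>
        hc w ((HypQuad.mem_perp Q).mp hw u (Submodule.mem_span_singleton_self u))
      have h2' := Submodule.finrank_mono h1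
      rw [HypQuad.finrank_perp Q hQ, finrank_pi_card, finrank_span_singleton hu0] at h2'
      have := Cfsg.Lib.Classical.Refl.finrank_pair_le u z
      omega
    have ha := hline z huz hzu
    have hb := hline z' hz' fun h => hz'2 (Submodule.span_mono (by simp) h)
    obtain ⟨μ, hμ⟩ : ∃ μ : F, k *ᵥ u = μ • u := by
      obtain ⟨c, d, e1⟩ := Submodule.mem_span_pair.mp ha
      obtain ⟨c', d', e2⟩ := Submodule.mem_span_pair.mp hb
      refine ⟨c', e2.symm.trans ?_⟩
      have hd : d' = 0 := by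
        by_contra hd
        refine hz'2 ((Submodule.smul_mem_iff _ hd).mp (Submodule.mem_span_pair.mpr ⟨c - c', d, ?_⟩))
        rw [sub_smul, ← sub_eq_iff_eq_add'.mpr e2.symm, ← e1]
        abel
      rw [hd, zero_smul, add_zero]
    let W : Submodule F (ι → F) := LinearMap.ker (Matrix.toLin' k - μ • LinearMap.id)
    have hmem : ∀ x, x ∈ W ↔ k *ᵥ x = μ • x := fun x => by
      simp only [W, LinearMap.mem_ker, LinearMap.sub_apply, LinearMap.smul_apply, LinearMap.id_apply,
        Matrix.toLin'_apply, sub_eq_zero]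
    have hW : W = ⊤ := by
      by_contra hW
      refine omega_not_le_subspace' Q hQ hn (fun e => hu0 ((Submodule.eq_bot_iff _).mp e u ((hmem u).mpr hμ))) hW
        (omega_le_of_siegel Q hQ (by omega) _ fun u' z' _ _ g hg hgx x => ?_)
      have hc := hcom k hk u' z' g hg hgx
      change x ∈ W ↔ (g : Matrix ι ι F) *ᵥ x ∈ W
      rw [hmem, hmem, Matrix.mulVec_mulVec, ← hc, ← Matrix.mulVec_mulVec, ← Matrix.mulVec_smul]
      exact ⟨fun e => by rw [e], fun e => by
        simpa [Cfsg.Lib.Classical.PrimeDim.inv_mulVec_mulVec] using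
          congrArg (fun v => ((g⁻¹ : GL ι F) : Matrix ι ι F) *ᵥ v) e⟩
    exact ⟨μ, Matrix.toLin'.injective (LinearMap.ext fun x => by
      rw [Matrix.toLin'_apply, Matrix.toLin'_apply, Matrix.smul_mulVec, Matrix.one_mulVec]
      exact (hmem x).mp (hW ▸ Submodule.mem_top))⟩
  have h1 : K ≤ ⊥ := fun k hk => by
    obtain ⟨a, rfl⟩ := hsc k hk
    exact Algebra.mem_bot.mpr ⟨a, (Algebra.algebraMap_eq_smul_one a)⟩
  have h2' : Module.finrank F K ≤ 1 := by
    rw [← Subalgebra.finrank_bot (F := F) (E := Matrix ι ι F)]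
    exact Submodule.finrank_mono (s := Subalgebra.toSubmodule K) (t := Subalgebra.toSubmodule ⊥) h1
  rw [hK.finrank_eq] at h2'
  omega

include hQ in
theorem omega_not_le_subfieldSubgroup' (hn : 7 ≤ Fintype.card ι) {F₀ : Subfield F}
    (hne : F₀ ≠ ⊤) (P : GL ι F) : ¬ omegaGL (⇑Q) ≤ subfieldSubgroup F₀ P := by
  intro hle
  classical
  haveI : Nonempty ι := Fintype.card_pos_iff.mp (by omega)
  obtain ⟨p, f, hp, hchar, hf0, hf⟩ := exists_char_card F
  haveI := Fact.mk hp
  obtain ⟨w, hw⟩ := exists_ne (0 : ι → F)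
  obtain ⟨u, -, hu, huw⟩ := Cfsg.Lib.Classical.Refl.exists_singular_partner Q hQ (nondeg_top Q hQ)
    (by rw [finrank_top, Module.finrank_fintype_fun_eq_card]; omega) (Submodule.mem_top (x := w)) hw
  obtain ⟨z, hz, -, hzp, hzu⟩ := Cfsg.Lib.Classical.Refl.exists_singular_in Q hQ ⊤ (Submodule.span F {u}) (by
    have : Module.finrank F (Submodule.span F ({u} : Set (ι → F))) ≤ 1 := (finrank_span_le_card _).trans (by simp)
    rw [finrank_top, Module.finrank_fintype_fun_eq_card]; omega)
  have huz : QuadraticMap.polar (⇑Q) u z = 0 := (HypQuad.mem_perp Q).mp hzp u (Submodule.mem_span_singleton_self u)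
  have huzt : ∀ t : F, QuadraticMap.polar (⇑Q) u (t • z) = 0 := fun t => by
    rw [QuadraticMap.polar_smul_right, huz, smul_zero]
  set Pi' := ((P⁻¹ : GL ι F) : Matrix ι ι F)
  set Pm := (P : Matrix ι ι F)
  have hent : ∀ (t : F) i j, (Pi' *ᵥ siegelMap Q u (t • z) (Pm *ᵥ Pi.single j 1)) i ∈ F₀ := by
    intro t i j
    set g : GL ι F := ((siegelG Q hu (huzt t) : Cfsg.isometryGroup F (⇑Q)) : GL ι F) with hg
    have hgΩ : g ∈ omegaGL (⇑Q) := (mem_omegaGL Q _).mpr ⟨_, siegelG_mem_omega Q hQ (by omega) hu (huzt t), rfl⟩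
    obtain ⟨x, hx, hxe⟩ := Subgroup.mem_map.mp (hle hgΩ)
    obtain ⟨a, ha, hae⟩ := exists_scaled_entries hx
    have hgp : g ^ p = 1 := by
      have hpow : ∀ k : ℕ, (siegelG Q hu (huzt t)) ^ (k + 1) =
          siegelG Q hu (huzt (((k + 1 : ℕ) : F) * t)) := by
        intro k
        induction k with
        | zero => simp
        | succ k ih =>
          rw [pow_succ, ih, Cfsg.Lib.Classical.Refl.siegelG_mul]
          congr 1
          rw [← add_smul]
          congr 1
          push_cast
          ring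
      have h := hpow (p - 1)
      rw [Nat.sub_add_cancel hp.one_le, CharP.cast_eq_zero] at h
      rw [hg, ← Subgroup.coe_pow, h]
      refine Units.ext (Matrix.toLin'.injective (LinearMap.ext fun y => ?_))
      rw [Matrix.toLin'_apply, Matrix.toLin'_apply, Units.val_one, Matrix.one_mulVec]
      exact (mat_siegelG Q hu (huzt (0 * t)) y).trans (by rw [zero_mul, zero_smul, Cfsg.Lib.Classical.Refl.siegel_zero])
    have hxg : x = P⁻¹ * g * P := by
      rw [← hxe, MulEquiv.coe_toMonoidHom, MulAut.conj_apply]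
      simp [mul_assoc]
    have hxp : x ^ p = 1 := by
      rw [hxg, show P⁻¹ * g * P = P⁻¹ * g * (P⁻¹)⁻¹ by rw [inv_inv], conj_pow, hgp, mul_one, mul_inv_cancel]
    let A : Matrix ι ι F₀ := Matrix.of fun i j => ⟨_, hae i j⟩
    have hA : A.map (F₀.subtype : F₀ →+* F) = a • (x : Matrix ι ι F) := Matrix.ext fun i j => rfl
    have hap : a ^ p ∈ F₀ := by
      have h1 : (A ^ p).map (F₀.subtype : F₀ →+* F) = a ^ p • (1 : Matrix ι ι F) := by
        rw [Matrix.map_pow, hA, _root_.smul_pow, ← Units.val_pow_eq_pow_val, hxp, Units.val_one]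
      have h2' := congrFun (congrFun h1 (Classical.arbitrary ι)) (Classical.arbitrary ι)
      rw [Matrix.smul_apply, Matrix.one_apply_eq, smul_eq_mul, mul_one, Matrix.map_apply] at h2'
      rw [← h2']
      exact Subtype.mem _
    have haF : a ∈ F₀ := by
      haveI : CharP F₀ p := (F₀.subtype : F₀ →+* F).charP Subtype.val_injective p
      haveI : Finite F₀ := Finite.of_injective _ Subtype.val_injective
      obtain ⟨b, hb⟩ := (bijective_frobenius F₀ p).2 ⟨a ^ p, hap⟩
      have hb' : (b : F) ^ p = a ^ p := congrArg Subtype.val hb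
      rw [← frobenius_inj F p hb']
      exact b.2
    have hxe' : (Pi' *ᵥ ((g : Matrix ι ι F) *ᵥ (Pm *ᵥ Pi.single j 1))) i = (x : Matrix ι ι F) i j := by
      rw [hxg, Units.val_mul, Units.val_mul, Matrix.mulVec_mulVec, Matrix.mulVec_mulVec, Matrix.mulVec_single_one,
        mul_assoc]
      rfl
    rw [← mat_siegelG Q hu (huzt t)]
    show (Pi' *ᵥ ((g : Matrix ι ι F) *ᵥ (Pm *ᵥ Pi.single j 1))) i ∈ F₀
    rw [hxe']
    have := div_mem (hae i j) haF
    rwa [mul_div_cancel_left₀ _ ha] at this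
  let T : (ι → F) →ₗ[F] (ι → F) :=
    { toFun := fun x => QuadraticMap.polar (⇑Q) u x • z - QuadraticMap.polar (⇑Q) z x • u
      map_add' := fun x y => by
        funext i
        simp only [QuadraticMap.polar_add_right, Pi.add_apply, Pi.sub_apply, Pi.smul_apply, smul_eq_mul]
        ring
      map_smul' := fun c x => by
        funext i
        simp only [QuadraticMap.polar_smul_right, RingHom.id_apply, Pi.sub_apply, Pi.smul_apply, smul_eq_mul]
        ring }
  have hT : ∀ (t : F) i j, t * (Pi' *ᵥ T (Pm *ᵥ Pi.single j 1)) i ∈ F₀ := by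
    intro t i j
    have h := sub_mem (hent t i j) (hent 0 i j)
    set y := Pm *ᵥ Pi.single j 1
    have e : siegelMap Q u (t • z) y - siegelMap Q u ((0 : F) • z) y = t • T y := by
      funext i
      simp only [siegelMap, T, LinearMap.coe_mk, AddHom.coe_mk, Pi.add_apply, Pi.sub_apply, Pi.smul_apply,
        smul_eq_mul, QuadraticMap.polar_smul_left, QuadraticMap.map_smul, hz]
      ring
    rw [← Pi.sub_apply, ← Matrix.mulVec_sub, e, Matrix.mulVec_smul, Pi.smul_apply, smul_eq_mul] at h
    exact h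
  obtain ⟨i, j, hij⟩ : ∃ i j, (Pi' *ᵥ T (Pm *ᵥ Pi.single j 1)) i ≠ 0 := by
    by_contra hc
    push Not at hc
    have hT0 : T ∘ₗ Matrix.toLin' Pm = 0 := (Pi.basisFun F ι).ext fun j => by
      rw [Pi.basisFun_apply, LinearMap.comp_apply, Matrix.toLin'_apply, LinearMap.zero_apply]
      have := congrArg (fun v => Pm *ᵥ v) (funext fun i => hc i j : Pi' *ᵥ T (Pm *ᵥ Pi.single j 1) = 0)
      simpa [Pm, Pi', mulVec_inv_mulVec] using this
    have hTw := LinearMap.congr_fun hT0 (Pi' *ᵥ w)
    rw [LinearMap.comp_apply, Matrix.toLin'_apply, mulVec_inv_mulVec, LinearMap.zero_apply] at hTw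
    change QuadraticMap.polar (⇑Q) u w • z - QuadraticMap.polar (⇑Q) z w • u = 0 at hTw
    rw [huw, one_smul, sub_eq_zero] at hTw
    exact hzu (hTw ▸ Submodule.smul_mem _ _ (Submodule.mem_span_singleton_self u))
  refine hne (eq_top_iff.mpr fun x _ => ?_)
  have := hT (x / (Pi' *ᵥ T (Pm *ᵥ Pi.single j 1)) i) i j
  rwa [div_mul_cancel₀ _ hij] at this

include hQ in
theorem omega_not_le_blocks' (hn : 7 ≤ Fintype.card ι) {t k : ℕ}
    {D : Fin t → Submodule F (ι → F)} (hk : 3 ≤ k) (hD : IsMDecomposition k D) :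
    ¬ omegaGL (⇑Q) ≤ decompositionStabilizer D := fun hle => by
  classical
  have ht := hD.two_le
  let i₀ : Fin t := ⟨0, by omega⟩
  refine omega_not_le_subspace' Q hQ hn (W := D i₀) (fun e => ?_) (fun e => ?_)
    (omega_le_of_siegel Q hQ (by omega) _ fun u z hu huz g hg hgx => ?_)
  · have := hD.finrank_eq i₀; rw [e, finrank_bot] at this; omega
  · have h1 := hD.finrank_eq i₀
    rw [e, finrank_top, finrank_pi_card, ← IsMDecomposition.mul_eq hD] at h1
    nlinarith
  · obtain ⟨π, hπ⟩ := hle hg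
    obtain ⟨⟨x, hx⟩, hker, hx0⟩ := (Submodule.ne_bot_iff _).mp (LinearMap.ker_ne_bot_of_finrank_lt
      (f := (siegelCut Q u z).comp (D i₀).subtype) (by
        rw [Module.finrank_prod, Module.finrank_self, hD.finrank_eq]; omega))
    have hgfix : (g : Matrix ι ι F) *ᵥ x = x := (hgx x).trans (siegelCut_fix Q hker)
    have hπ0 : π i₀ = i₀ := by
      by_contra hne
      refine hx0 (Subtype.ext (Submodule.disjoint_def.mp (hD.indep.pairwiseDisjoint (Ne.symm hne)) x hx ?_))
      rw [← hπ i₀]
      exact ⟨x, hx, (Matrix.toLin'_apply _ _).trans hgfix⟩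
    have hmap := hπ i₀
    rw [hπ0] at hmap
    refine (show Invariant (Subgroup.closure {g}) (D i₀) from fun y hy v hv => ?_).le_stabilizer
      (Subgroup.subset_closure rfl)
    induction hy using Subgroup.closure_induction generalizing v with
    | mem y hy =>
      obtain rfl : y = g := hy
      rw [← hmap]
      exact ⟨v, hv, Matrix.toLin'_apply _ _⟩
    | one => simpa using hv
    | mul a b _ _ iha ihb => rw [Units.val_mul, ← Matrix.mulVec_mulVec]; exact iha _ (ihb _ hv)
    | inv a _ iha =>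
      have hb : (D i₀).map (Matrix.toLin' (a : Matrix ι ι F)) = D i₀ := Submodule.eq_of_le_of_finrank_eq
        (by rintro _ ⟨w, hw, rfl⟩; rw [Matrix.toLin'_apply]; exact iha w hw) (finrank_map_mulVec a _)
      rw [← hb] at hv
      obtain ⟨w, hw, rfl⟩ := hv
      rwa [Matrix.toLin'_apply, Cfsg.Lib.Classical.PrimeDim.inv_mulVec_mulVec]

end OrthEven

end Cfsg.Lib.Classical.Aschbacher
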