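import Cfsg.Agent.Classical.Aschbacher.FormField
import Cfsg.Agent.Classical.Aschbacher.FormComponents
import Cfsg.Agent.Classical.Aschbacher.FormTensor
import Cfsg.Agent.Classical.Symp.Matrix

/-! The geometric classes of the symplectic groups, with degrees, and the structures that lead to them. -/

set_option autoImplicit false
set_option linter.unusedSimpArgs false
set_option linter.unusedSectionVars false
set_option linter.style.haveILetI false

namespace Cfsg.Lib.Classical.Aschbacher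

open Matrix Cfsg.Geo
open scoped MatrixGroups Kronecker
open Cfsg.Lib.Classical.PrimeDim (Normalises finrank_pi_card finrank_map_mulVec mem_matrixSet val_inv_mul val_mul_inv
  mulVec_inv_mulVec inv_mulVec_mulVec irreducible_iff Invariant comm)

universe u

variable {m : ℕ} {F : Type u} [Field F]

theorem sympForm_isSymplectic (m : ℕ) (F : Type u) [Field F] : IsSymplecticForm (Cfsg.sympForm m F) := by
  have e : ∀ u v, Cfsg.Lib.Classical.sympBilin m F u v = Cfsg.sympForm m F u v :=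
    Cfsg.Lib.Classical.sympBilin_eq_sympForm
  refine ⟨⟨fun x y v => ?_, fun c x v => ?_, fun v x y => ?_, fun c v x => ?_⟩, fun v w => ?_, fun v => ?_, fun v hv => ?_⟩
  · simp only [← e, map_add, LinearMap.add_apply]
  · simp only [← e, map_smul, LinearMap.smul_apply, smul_eq_mul]
  · simp only [← e, map_add]
  · simp only [← e, map_smul, smul_eq_mul]
  · simp only [← e]; exact (LinearMap.IsAlt.neg (Cfsg.Lib.Classical.sympBilin_isAlt m F) w v).symm
  · rw [← e]; exact Cfsg.Lib.Classical.sympBilin_isAlt m F v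
  · have hn := Cfsg.Lib.Classical.sympBilin_nondegenerate m F
    constructor
    · by_contra hc
      push Not at hc
      exact hv (hn.2 v fun x => (e x v).trans (hc x))
    · by_contra hc
      push Not at hc
      exact hv (hn.1 v fun x => (e v x).trans (hc x))

theorem symplectic_refl {ι : Type} [Fintype ι] {f : (ι → F) → (ι → F) → F} (h : IsSymplecticForm f) :
    ReflForm (RingEquiv.refl F) (-1) f where
  add_left := h.bilinear.add_left
  smul_left := h.bilinear.smul_left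
  add_right := h.bilinear.add_right
  smul_right := h.bilinear.smul_right
  nondegenerate := h.nondegenerate
  inv := fun _ => rfl
  herm u v := by rw [RingEquiv.refl_apply, neg_one_mul]; exact h.skew v u

theorem sp_refl (m : ℕ) (F : Type u) [Field F] : ReflForm (RingEquiv.refl F) (-1) (Cfsg.sympForm m F) :=
  symplectic_refl (sympForm_isSymplectic m F)

theorem mem_spGL {g : GL (Fin m ⊕ Fin m) F} : g ∈ Cfsg.spGL m F ↔ ∀ u v,
    Cfsg.sympForm m F ((g : Matrix _ _ F) *ᵥ u) ((g : Matrix _ _ F) *ᵥ v) = Cfsg.sympForm m F u v := Iff.rfl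

theorem sp_fixes {H : Subgroup (GL (Fin m ⊕ Fin m) F)} (hH : H ≤ Cfsg.spGL m F) : Fixes (Cfsg.sympForm m F) H :=
  fun _ hg => mem_spGL.mp (hH hg)

theorem card_sum_fin (m : ℕ) : Fintype.card (Fin m ⊕ Fin m) = 2 * m := by
  rw [Fintype.card_sum, Fintype.card_fin]; ring

theorem odd_card_iff [Fintype F] : Odd (Fintype.card F) ↔ (2 : F) ≠ 0 :=
  ⟨Cfsg.Lib.Classical.PrimeDim.two_ne_zero_of_odd, odd_card_of_two_ne_zero⟩

variable [Fintype F]

/-- The members of the classes, before intersecting with the symplectic group. -/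
inductive SpMember (m : ℕ) (F : Type u) [Field F] [Fintype F] : Subgroup (GL (Fin m ⊕ Fin m) F) → Prop
  | singular (W : Submodule F (Fin m ⊕ Fin m → F)) (h0 : W ≠ ⊥)
      (hs : IsTotallySingularFor (Cfsg.sympForm m F) W) : SpMember m F (subspaceStabilizer W)
  | nondeg (W : Submodule F (Fin m ⊕ Fin m → F)) (h0 : W ≠ ⊥)
      (hn : IsNondegenerateOn (Cfsg.sympForm m F) W) (hd : Module.finrank F W < m) :
      SpMember m F (subspaceStabilizer W)
  | decomp (t k : ℕ) (D : Fin t → Submodule F (Fin m ⊕ Fin m → F))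
      (hD : IsNondegenerateMDecomposition (Cfsg.sympForm m F) k D) : SpMember m F (decompositionStabilizer D)
  | pair (D : Fin 2 → Submodule F (Fin m ⊕ Fin m → F)) (ho : Odd (Fintype.card F)) (hD : IsMDecomposition m D)
      (hs : ∀ i, IsTotallySingularFor (Cfsg.sympForm m F) (D i)) : SpMember m F (decompositionStabilizer D)
  | field (r : ℕ) (K : Subalgebra F (Matrix (Fin m ⊕ Fin m) (Fin m ⊕ Fin m) F)) (hr : r.Prime) (hrm : r ∣ m)
      (hK : IsFieldSubalgebra r K) (hs : IsSelfAdjointFor (Cfsg.sympForm m F) K)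
      (ha : ∀ k ∈ K, ∀ v, Cfsg.sympForm m F (k *ᵥ v) v = 0) : SpMember m F (subalgebraNormalizer K)
  | unitField (K : Subalgebra F (Matrix (Fin m ⊕ Fin m) (Fin m ⊕ Fin m) F)) (ho : Odd (Fintype.card F))
      (hK : IsFieldSubalgebra 2 K) (hs : IsAdjointClosedFor (Cfsg.sympForm m F) K)
      (hns : ¬ IsSelfAdjointFor (Cfsg.sympForm m F) K) : SpMember m F (subalgebraNormalizer K)
  | tensor (n₁ n₂ : ℕ) (e : (Fin m ⊕ Fin m) ≃ Fin n₁ × Fin n₂) (P : GL (Fin m ⊕ Fin m) F)
      (f₁ : (Fin n₁ → F) → (Fin n₁ → F) → F) (f₂ : (Fin n₂ → F) → (Fin n₂ → F) → F)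
      (ho : Odd (Fintype.card F)) (h3 : 3 ≤ n₂) (he : Even n₁) (h1 : IsSymplecticForm f₁) (h2 : IsSymmetricForm f₂)
      (hs : IsTensorFormStructure id (Cfsg.sympForm m F) f₁ f₂ e P) : SpMember m F (tensorProductSubgroup n₁ n₂ e P)
  | subfield (F₀ : Subfield F) (r : ℕ) (P : GL (Fin m ⊕ Fin m) F) (ζ : F) (hr : r.Prime)
      (hc : Fintype.card F = Nat.card F₀ ^ r) (hζ : ζ ≠ 0)
      (hs : IsFormRationalStructure (Cfsg.sympForm m F) F₀ ζ P) : SpMember m F (subfieldSubgroup F₀ P)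
  | sympType (R : Subgroup (GL (Fin m ⊕ Fin m) F)) (p k : ℕ) (hR : IsSymplecticTypeGroup 2 R)
      (ha : ActsAbsolutelyIrreducibly (matrixSet R)) (hs : R ≤ similarityGroup (Cfsg.sympForm m F)) (hp : p.Prime)
      (ho : Odd p) (hc : Fintype.card F = p) (hcard : Nat.card R = 2 ^ (1 + 2 * k))
      (hz : Nat.card (Subgroup.center R) = 2) (hm : IsOfMinusType k R) (hk : 2 * m = 2 ^ k)
      (hx : ∃ x ∈ R, x ∈ Cfsg.spGL m F ∧ x * x = 1 ∧ x ∉ scalars (Fin m ⊕ Fin m) F) :
      SpMember m F (subgroupNormalizer R)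
  | wreath (k t : ℕ) (e : (Fin m ⊕ Fin m) ≃ (Fin t → Fin k)) (P : GL (Fin m ⊕ Fin m) F)
      (f₁ : (Fin k → F) → (Fin k → F) → F) (ho : Odd (Fintype.card F)) (hto : Odd t) (h3 : 3 ≤ t)
      (hex : ¬ (Fintype.card F = 3 ∧ k = 2)) (hke : Even k) (h1 : IsSymplecticForm f₁)
      (hs : IsTensorPowerFormStructure id (Cfsg.sympForm m F) f₁ e P) : SpMember m F (tensorWreathSubgroup k t e P)
  | quadratic (Q : (Fin m ⊕ Fin m → F) → F) (he : ¬ Odd (Fintype.card F)) (hQ : IsNondegenerateQuadraticForm Q)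
      (hp : ∀ u v, QuadraticMap.polar Q u v = Cfsg.sympForm m F u v) : SpMember m F (quadSimilarityGroup Q)

theorem SpMember.inClass {M : Subgroup (GL (Fin m ⊕ Fin m) F)} (h : SpMember m F M) :
    InSymplecticClass m F (M ⊓ Cfsg.spGL m F) := by
  cases h with
  | singular W h0 hs => exact Or.inl (Or.inl ⟨W, h0, hs, rfl⟩)
  | nondeg W h0 hn hd => exact Or.inl (Or.inr (Or.inl ⟨W, h0, hn, hd, rfl⟩))
  | decomp t k D hD => exact Or.inl (Or.inr (Or.inr (Or.inl ⟨t, k, D, hD, rfl⟩)))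
  | pair D ho hD hs => exact Or.inl (Or.inr (Or.inr (Or.inr (Or.inl ⟨D, ho, hD, hs, rfl⟩))))
  | field r K hr _ hK hs ha => exact Or.inr (Or.inl ⟨r, K, hr, hK, hs, ha, rfl⟩)
  | unitField K ho hK hs hns => exact Or.inr (Or.inr (Or.inl ⟨K, ho, hK, hs, hns, rfl⟩))
  | tensor n₁ n₂ e P f₁ f₂ ho h3 _ h1 h2 hs =>
    exact Or.inr (Or.inr (Or.inr (Or.inl ⟨n₁, n₂, e, P, f₁, f₂, ho, h3, h1, h2, hs, rfl⟩)))
  | subfield F₀ r P ζ hr hc hζ hs =>
    exact Or.inl (Or.inr (Or.inr (Or.inr (Or.inr (Or.inl ⟨F₀, r, P, ζ, hr, hc, hζ, hs, rfl⟩)))))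
  | sympType R p k hR ha hs hp ho hc hcard hz hm _ _ =>
    exact Or.inl (Or.inr (Or.inr (Or.inr (Or.inr (Or.inr (Or.inl
      ⟨R, p, k, hR, ha, hs, hp, ho, hc, hcard, hz, hm, rfl⟩))))))
  | wreath k t e P f₁ ho hto h3 hex _ h1 hs =>
    exact Or.inr (Or.inr (Or.inr (Or.inr ⟨k, t, e, P, f₁, ho, hto, h3, hex, h1, hs, rfl⟩)))
  | quadratic Q he hQ hp =>
    exact Or.inl (Or.inr (Or.inr (Or.inr (Or.inr (Or.inr (Or.inr ⟨Q, he, hQ, hp, rfl⟩))))))

/-- Some member of the classes contains `H`. -/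
def InSpLE (H : Subgroup (GL (Fin m ⊕ Fin m) F)) : Prop := ∃ M, SpMember m F M ∧ H ≤ M

theorem InSpLE.exists_class {H : Subgroup (GL (Fin m ⊕ Fin m) F)} (hH : H ≤ Cfsg.spGL m F) (h : InSpLE H) :
    ∃ M, InSymplecticClass m F M ∧ H ≤ M :=
  let ⟨_, hM, hle⟩ := h; ⟨_, hM.inClass, le_inf hle hH⟩

variable {H : Subgroup (GL (Fin m ⊕ Fin m) F)}

theorem exists_field_basis {ι : Type} [Fintype ι] [DecidableEq ι] {r : ℕ} [Nonempty ι]
    {K : Subalgebra F (Matrix ι ι F)} (hK : IsFieldSubalgebra r K) {f : (ι → F) → (ι → F) → F}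
    (hf : IsSymplecticForm f) (hsa : IsSelfAdjointFor f K) (ha : ∀ k ∈ K, ∀ v, f (k *ᵥ v) v = 0) :
    2 * r ∣ Fintype.card ι := by
  classical
  letI : Field K := (isField_of_fieldSub hK).toField
  have hsmul : ∀ (k : K) (v : ι → F), k • v = (k : Matrix ι ι F) *ᵥ v := fun k v => rfl
  haveI : IsScalarTower F K (ι → F) := IsScalarTower.of_algebraMap_smul fun c v => by
    rw [hsmul]
    show (algebraMap F (Matrix ι ι F) c) *ᵥ v = _
    rw [Algebra.algebraMap_eq_smul_one, Matrix.smul_mulVec, Matrix.one_mulVec]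
  haveI : FiniteDimensional F K := FiniteDimensional.finiteDimensional_subalgebra K
  haveI : Module.Finite K (ι → F) := Module.Finite.of_restrictScalars_finite F K (ι → F)
  obtain ⟨l, hl⟩ := Module.Projective.exists_dual_ne_zero F (one_ne_zero (α := K))
  let φ : K →ₗ[F] Module.Dual F K := (Algebra.lmul F K).toLinearMap.compr₂ l
  have hφ : ∀ a b, φ a b = l (a * b) := fun a b => rfl
  have hinj : Function.Injective φ := (injective_iff_map_eq_zero φ).mpr fun a ha0 => by
    by_contra hne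
    apply hl
    have := LinearMap.congr_fun ha0 a⁻¹
    rwa [hφ, mul_inv_cancel₀ hne] at this
  let ψ : K ≃ₗ[F] Module.Dual F K :=
    LinearMap.linearEquivOfInjective φ hinj Subspace.dual_finrank_eq.symm
  let T : (ι → F) → (ι → F) → Module.Dual F K := fun u v =>
    { toFun := fun b => f ((b : Matrix ι ι F) *ᵥ u) v
      map_add' := fun a b => by rw [Subalgebra.coe_add, Matrix.add_mulVec, hf.bilinear.add_left]
      map_smul' := fun c b => by rw [Subalgebra.coe_smul, Matrix.smul_mulVec, hf.bilinear.smul_left]; rfl }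
  let g : (ι → F) → (ι → F) → K := fun u v => ψ.symm (T u v)
  have hg : ∀ u v a, l (g u v * a) = f ((a : Matrix ι ι F) *ᵥ u) v := fun u v a =>
    LinearMap.congr_fun (ψ.apply_symm_apply (T u v)) a
  have huniq : ∀ x y : K, (∀ a, l (x * a) = l (y * a)) → x = y := fun x y h => hinj (LinearMap.ext h)
  have hmove : ∀ (b a : K) u v, f ((a : Matrix ι ι F) *ᵥ (b • u)) v = f (((b * a : K) : Matrix ι ι F) *ᵥ u) v :=
    fun b a u v => by
      rw [hsmul, Matrix.mulVec_mulVec, ← hK.comm _ b.2 _ a.2]; rfl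
  let B : LinearMap.BilinForm K (ι → F) := LinearMap.mk₂ K g
    (fun x y v => huniq _ _ fun a => by
      rw [add_mul, map_add, hg, hg, hg, Matrix.mulVec_add, hf.bilinear.add_left])
    (fun b x v => huniq _ _ fun a => by
      rw [hg, hmove, ← hg x v (b * a), smul_eq_mul]; congr 1; ring)
    (fun v x y => huniq _ _ fun a => by
      rw [add_mul, map_add, hg, hg, hg, hf.bilinear.add_right])
    (fun b v x => huniq _ _ fun a => by
      rw [hg, hsmul, ← hsa _ b.2, Matrix.mulVec_mulVec]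
      rw [show ((b : Matrix ι ι F) * (a : Matrix ι ι F)) = ((b * a : K) : Matrix ι ι F) from rfl, ← hg v x (b * a),
        smul_eq_mul]
      congr 1; ring)
  have halt : ∀ v, B v v = 0 := fun v => huniq _ _ fun a => by
    show l (g v v * a) = _
    rw [hg, zero_mul, map_zero]
    exact ha _ a.2 v
  have hnd : B.Nondegenerate := by
    refine ⟨fun v hv => ?_, fun v hv => ?_⟩
    · by_contra h0
      obtain ⟨x, hx⟩ := (hf.nondegenerate v h0).2
      apply hx
      have h1 : l (g v x * 1) = 0 := by rw [show g v x = 0 from hv x, zero_mul, map_zero]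
      rwa [hg, OneMemClass.coe_one, Matrix.one_mulVec] at h1
    · by_contra h0
      obtain ⟨x, hx⟩ := (hf.nondegenerate v h0).1
      apply hx
      have h1 : l (g x v * 1) = 0 := by rw [show g x v = 0 from hv x, zero_mul, map_zero]
      rwa [hg, OneMemClass.coe_one, Matrix.one_mulVec] at h1
  obtain ⟨s, hs⟩ := Cfsg.Lib.Classical.even_finrank_of_symplectic (B := B) halt hnd
  refine ⟨s, ?_⟩
  rw [← finrank_pi_card (F := F), ← Module.finrank_mul_finrank F K (ι → F), hK.finrank_eq, hs]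
  ring

/-- A self-adjoint or adjoint-closed field of prime degree. -/
theorem inSpLE_of_field (hH : H ≤ Cfsg.spGL m F) (hm : 0 < m) {r : ℕ} (hr : r.Prime)
    {K : Subalgebra F (Matrix (Fin m ⊕ Fin m) (Fin m ⊕ Fin m) F)} (hK : IsFieldSubalgebra r K)
    (hadj : ∀ k ∈ K, (sp_refl m F).adj k ∈ K) (hn : H ≤ subalgebraNormalizer K) : InSpLE H := by
  haveI : Nonempty (Fin m ⊕ Fin m) := ⟨Sum.inl ⟨0, hm⟩⟩
  have hb := sympForm_isSymplectic m F
  by_cases hsa : IsSelfAdjointFor (Cfsg.sympForm m F) K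
  · have ha := fieldSub_alternating hK hb hsa
    obtain ⟨c, hc⟩ := exists_field_basis hK hb hsa ha
    rw [card_sum_fin, mul_assoc] at hc
    exact ⟨_, .field r K hr ⟨c, Nat.eq_of_mul_eq_mul_left two_pos hc⟩ hK hsa ha, hn⟩
  rcases hr.eq_two_or_odd' with rfl | ho
  · by_cases h2 : (2 : F) = 0
    · obtain ⟨Q, hQ, hp, hle⟩ := exists_quadratic_of_field hK hb h2 (sp_fixes hH) hn (adjClosed_of (sp_refl m F) hadj) hsa
      exact ⟨_, .quadratic Q (fun ho => odd_card_iff.mp ho h2) hQ hp, hle⟩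
    · exact ⟨_, .unitField K (odd_card_iff.mpr h2) hK (adjClosed_of (sp_refl m F) hadj) hsa, hn⟩
  · exact absurd (selfAdjoint_of_odd hK hr ho (sp_refl m F) hadj) hsa

/-- An invariant subspace gives one of the classes. -/
theorem inSpLE_of_invariant (hH : H ≤ Cfsg.spGL m F) {W : Submodule F (Fin m ⊕ Fin m → F)} (h0 : W ≠ ⊥) (h1 : W ≠ ⊤)
    (hW : Invariant H W) : InSpLE H := by
  have hf := sp_refl m F
  obtain ⟨U, hU0, hU1, hU, hs | ⟨hn, hle⟩⟩ := hf.reducible (sp_fixes hH) h0 h1 hW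
  · exact ⟨_, .singular U hU0 hs, hU.le_stabilizer⟩
  rw [card_sum_fin] at hle
  rcases eq_or_lt_of_le (show Module.finrank F U ≤ m by omega) with he | hlt
  swap
  · exact ⟨_, .nondeg U hU0 (hf.nondegenerateOn hn) hlt, hU.le_stabilizer⟩
  have hperp := hf.perp_invariant (sp_fixes hH) hU
  have hm : 0 < m := by
    rw [← he]; exact Nat.pos_of_ne_zero fun e => hU0 (Submodule.finrank_eq_zero.mp e)
  have hdim := hf.finrank_perp U
  rw [card_sum_fin, he] at hdim
  have hc := hf.isCompl_perp hn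
  have hfix : ∀ h ∈ H, ∀ V : Submodule F (Fin m ⊕ Fin m → F), Invariant H V →
      V.map (Matrix.toLin' (h : Matrix (Fin m ⊕ Fin m) (Fin m ⊕ Fin m) F)) = V := fun h hh V hV => by
    refine Submodule.eq_of_le_of_finrank_eq ?_ (finrank_map_mulVec _ _)
    rintro _ ⟨v, hv, rfl⟩
    rw [Matrix.toLin'_apply]; exact hV h hh v hv
  refine ⟨_, .decomp 2 m ![U, hf.perp U] ⟨⟨le_rfl, hm, fun i => ?_, ?_, ?_⟩, fun i => ?_, fun i j hij => ?_⟩,
    fun h hh => ⟨1, fun i => ?_⟩⟩
  · fin_cases i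
    · exact he
    · show Module.finrank F (hf.perp U) = m; omega
  · exact (iSupIndep_pair (i := (0 : Fin 2)) (j := 1) (by decide) (fun k => by fin_cases k <;> simp)).mpr hc.disjoint
  · exact top_le_iff.mp (hc.sup_eq_top ▸ sup_le (le_iSup (![U, hf.perp U]) 0) (le_iSup (![U, hf.perp U]) 1))
  · fin_cases i
    · exact hf.nondegenerateOn hn
    · exact hf.nondegenerateOn (hf.perp_inf_perp_perp hn)
  · fin_cases i <;> fin_cases j
    · exact absurd rfl hij
    · exact fun u hu v hv => hf.eq_zero_symm (hv u hu)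
    · exact fun u hu v hv => hu v hv
    · exact absurd rfl hij
  · fin_cases i
    · exact hfix h hh _ hU
    · exact hfix h hh _ hperp

end Cfsg.Lib.Classical.Aschbacher
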