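import Cfsg.Agent.Classical.Aschbacher.OrthEvenBase
import Cfsg.Agent.Classical.Aschbacher.SympMembers

/-! Degree two fields attached to groups of isometries of quadratic forms. -/

set_option autoImplicit false
set_option linter.unusedSimpArgs false
set_option linter.unusedSectionVars false
set_option linter.style.haveILetI false

namespace Cfsg.Lib.Classical.Aschbacher

open Matrix Cfsg.Geo
open scoped MatrixGroups
open Cfsg.Lib.Classical.PrimeDim (exists_char_card powField mem_powField card_powField val_inv_mul val_mul_inv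
  mem_comm comm finrank_pi_card inv_mulVec_mulVec mulVec_inv_mulVec)

universe u

namespace OrthEven

variable {ι : Type} [Fintype ι] [DecidableEq ι] {F : Type u} [Field F] [Fintype F]

/-- A normalised field contains a normalised subfield of a given prime degree dividing its degree. -/
theorem exists_subalgebra_of_prime_dvd [Nonempty ι] {K : Subalgebra F (Matrix ι ι F)} {e : ℕ} (hK : IsFieldSubalgebra e K)
    {r : ℕ} (hr : r.Prime) (hre : r ∣ e) {H : Subgroup (GL ι F)} (hH : H ≤ subalgebraNormalizer K) :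
    ∃ (K₀ : Subalgebra F (Matrix ι ι F)), IsFieldSubalgebra r K₀ ∧ K₀ ≤ K ∧
      H ≤ subalgebraNormalizer K₀ := by
  classical
  obtain ⟨p, f, hp, hchar, hf0, hf⟩ := exists_char_card F
  haveI := Fact.mk hp
  haveI : CharP (Matrix ι ι F) p :=
    charP_of_injective_algebraMap (algebraMap F (Matrix ι ι F)).injective p
  set m := f * r
  let K₀ : Subalgebra F (Matrix ι ι F) :=
    { carrier := {x | x ∈ K ∧ x ^ p ^ m = x}
      mul_mem' := fun {a b} ha hb => ⟨mul_mem ha.1 hb.1, by
        rw [(show Commute a b from hK.comm a ha.1 b hb.1).mul_pow, ha.2, hb.2]⟩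
      add_mem' := fun {a b} ha hb => ⟨add_mem ha.1 hb.1, by
        rw [add_pow_char_pow_of_commute p m (h := (hK.comm a ha.1 b hb.1 : Commute a b)), ha.2, hb.2]⟩
      algebraMap_mem' := fun c => ⟨Subalgebra.algebraMap_mem K c, by
        rw [← map_pow]
        congr 1
        have hc : ∀ n : ℕ, c ^ p ^ (f * n) = c := fun n => by
          induction n with
          | zero => simp
          | succ n ih =>
            rw [Nat.mul_succ, pow_add, pow_mul, ih]
            letI := Fintype.ofFinite F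
            rw [← hf, Nat.card_eq_fintype_card, FiniteField.pow_card]
        exact hc r⟩ }
  have hmem : ∀ x, x ∈ K₀ ↔ x ∈ K ∧ x ^ p ^ m = x := fun x => Iff.rfl
  have hcomm : ∀ a b : K, a * b = b * a := fun a b => Subtype.ext (hK.comm a a.2 b b.2)
  haveI : Nontrivial K := ⟨⟨0, 1, fun h => zero_ne_one (congrArg Subtype.val h)⟩⟩
  have hfield : IsField K := ⟨exists_pair_ne _, hcomm, fun {a} ha => by
    obtain ⟨y, hy, h⟩ := hK.inv a a.2 fun h => ha (Subtype.ext h)
    exact ⟨⟨y, hy⟩, Subtype.ext h⟩⟩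
  letI : Field K := hfield.toField
  haveI : Finite K := Finite.of_injective _ Subtype.val_injective
  haveI : CharP K p := charP_of_injective_algebraMap (FaithfulSMul.algebraMap_injective F K) p
  have hcardK : Nat.card K = p ^ (f * e) := by
    rw [Module.natCard_eq_pow_finrank (K := F) (V := K), hf, ← pow_mul, hK.finrank_eq]
  have hcard0 : Nat.card K₀ = p ^ m := by
    rw [← card_powField (F := K) (p := p) (m := m) (f := f * e) (Nat.mul_pos hf0 hr.pos) hcardK
      (Nat.mul_dvd_mul_left f hre)]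
    exact Nat.card_congr
      { toFun := fun x => ⟨⟨(x : Matrix ι ι F), x.2.1⟩, mem_powField.mpr (Subtype.ext x.2.2)⟩
        invFun := fun x => ⟨((x : K) : Matrix ι ι F), (hmem _).mpr ⟨(x : K).2,
          congrArg Subtype.val (mem_powField.mp x.2)⟩⟩
        left_inv := fun x => rfl
        right_inv := fun x => rfl }
  refine ⟨K₀, ⟨fun x hx y hy => hK.comm x hx.1 y hy.1, fun x hx h0 => ?_, ?_⟩, fun x hx => hx.1,
    fun h hh x => ?_⟩
  · obtain ⟨y, hy, hxy⟩ := hK.inv x hx.1 h0
    refine ⟨y, ⟨hy, ?_⟩, hxy⟩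
    have h1 : x * y ^ p ^ m = 1 := by
      conv_lhs => rw [← hx.2]
      rw [← (show Commute x y from hK.comm x hx.1 y hy).mul_pow, hxy, one_pow]
    calc y ^ p ^ m = (y * x) * y ^ p ^ m := by rw [← hK.comm x hx.1 y hy, hxy, one_mul]
      _ = y := by rw [mul_assoc, h1, mul_one]
  · haveI : Finite K₀ := Finite.of_injective _ Subtype.val_injective
    have h := Module.natCard_eq_pow_finrank (K := F) (V := K₀)
    rw [hcard0, hf, ← pow_mul] at h
    exact (Nat.eq_of_mul_eq_mul_left hf0 (Nat.pow_right_injective hp.two_le h)).symm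
  · rw [hmem, hmem, hH hh x]
    refine and_congr_right fun _ => ?_
    have hconj : ((h : Matrix ι ι F) * x * ((h⁻¹ : GL ι F) : Matrix ι ι F)) ^ p ^ m =
        (h : Matrix ι ι F) * x ^ p ^ m * ((h⁻¹ : GL ι F) : Matrix ι ι F) := by
      induction p ^ m with
      | zero => simp [← Units.val_mul]
      | succ n ih =>
        rw [pow_succ, pow_succ, ih]
        simp only [mul_assoc]
        congr 2
        rw [← mul_assoc ((h⁻¹ : GL ι F) : Matrix ι ι F), val_inv_mul, one_mul]
    rw [hconj]
    refine ⟨fun e => by rw [e], fun e => ?_⟩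
    have := congrArg (fun z => ((h⁻¹ : GL ι F) : Matrix ι ι F) * z * (h : Matrix ι ι F)) e
    simp only [← mul_assoc, val_inv_mul, one_mul] at this
    simpa [mul_assoc, val_inv_mul] using this

variable (Q : QuadraticForm F (ι → F)) (hQ : (QuadraticMap.polarBilin Q).Nondegenerate)

include hQ in
theorem polar_symplectic (h2 : (2 : F) = 0) : IsSymplecticForm (QuadraticMap.polar (⇑Q)) where
  bilinear := ⟨QuadraticMap.polar_add_left Q, fun c x v => by rw [QuadraticMap.polar_smul_left, smul_eq_mul],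
    QuadraticMap.polar_add_right Q, fun c v x => by rw [QuadraticMap.polar_smul_right, smul_eq_mul]⟩
  skew v w := by
    rw [QuadraticMap.polar_comm, eq_neg_iff_add_eq_zero, ← two_mul, h2, zero_mul]
  alternating v := by rw [QuadraticMap.polar_self, two_nsmul, ← two_mul, h2, zero_mul]
  nondegenerate := (orth_refl Q hQ).nondegenerate

include hQ in
/-- No self-adjoint field of degree two in characteristic two when half the degree is odd. -/
theorem not_selfAdjoint_two [Nonempty ι] (h2 : (2 : F) = 0) (h4 : ¬ 4 ∣ Fintype.card ι)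
    {K : Subalgebra F (Matrix ι ι F)} (hK : IsFieldSubalgebra 2 K) :
    ¬ IsSelfAdjointFor (QuadraticMap.polar (⇑Q)) K := fun hsa => by
  have hb := polar_symplectic Q hQ h2
  exact h4 (exists_field_basis hK hb hsa (fieldSub_alternating hK hb hsa))

include hQ in
/-- A normalised unitary field of degree two acts by similarities. -/
theorem similarity_of_unitary {H : Subgroup (GL ι F)} (hirr : ActsIrreducibly (matrixSet H))
    (hn : 2 ≤ Fintype.card ι) (hiso : ∀ g ∈ H, ∀ x, Q ((g : Matrix ι ι F) *ᵥ x) = Q x)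
    {K : Subalgebra F (Matrix ι ι F)} (hK : IsFieldSubalgebra 2 K) (hle : H ≤ subalgebraNormalizer K)
    (hadj : IsAdjointClosedFor (QuadraticMap.polar (⇑Q)) K)
    (hns : ¬ IsSelfAdjointFor (QuadraticMap.polar (⇑Q)) K) :
    ∀ k ∈ K, ∃ c : F, ∀ v, Q (k *ᵥ v) = c * Q v := by
  classical
  haveI : Nonempty ι := Fintype.card_pos_iff.mp (by omega)
  have hf := orth_refl Q hQ
  have hK' : ∀ k ∈ K, hf.adj k ∈ K := fun k hk => by
    obtain ⟨k', hk', e⟩ := hadj k hk
    rwa [hf.adj_unique e]
  obtain ⟨ω, hω, hωne⟩ : ∃ ω ∈ K, hf.adj ω ≠ ω := by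
    by_contra hc
    push Not at hc
    exact hns ((selfAdjoint_iff hf).mpr hc)
  haveI : Nontrivial K := ⟨⟨0, 1, fun h => zero_ne_one (congrArg Subtype.val h)⟩⟩
  have hfix : ∀ x ∈ K, hf.adj x = x → ∃ c : F, x = c • (1 : Matrix ι ι F) := by
    intro x hx hxf
    have hind : LinearIndependent F ![(1 : K), ⟨ω, hω⟩] := by
      rw [LinearIndependent.pair_iff' one_ne_zero]
      intro c hc
      apply hωne
      have e : c • (1 : Matrix ι ι F) = ω := congrArg Subtype.val hc
      rw [← e, hf.adj_smul_one]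
      rfl
    have hspan := hind.span_eq_top_of_card_eq_finrank (by rw [Fintype.card_fin]; exact hK.finrank_eq.symm)
    obtain ⟨c, hc⟩ := (Submodule.mem_span_range_iff_exists_fun F).mp (hspan.ge (Submodule.mem_top (x := (⟨x, hx⟩ : K))))
    have e : c 0 • (1 : Matrix ι ι F) + c 1 • ω = x := by
      have := congrArg Subtype.val hc
      simpa [Fin.sum_univ_two] using this
    have hsmul : hf.adj (c 1 • ω) = c 1 • hf.adj ω := by
      rw [← Matrix.mul_one (c 1 • ω), Matrix.smul_mul, ← Matrix.mul_smul, hf.adj_mul, hf.adj_smul_one,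
        Matrix.smul_mul, Matrix.one_mul]
      rfl
    rw [← e, hf.adj_add, hf.adj_smul_one, hsmul, RingEquiv.refl_apply, add_right_inj] at hxf
    refine ⟨c 0, ?_⟩
    rw [← e, show c 1 = 0 from by_contra fun h1 => hωne (smul_right_injective _ h1 hxf), zero_smul, add_zero]
  intro k hk
  obtain ⟨t, ht⟩ := hfix _ (add_mem hk (hK' k hk)) (by rw [hf.adj_add, hf.adj_adj, add_comm])
  obtain ⟨c, hc⟩ := hfix _ (mul_mem (hK' k hk) hk) (by rw [hf.adj_mul, hf.adj_adj])
  have hpolk : ∀ u v, QuadraticMap.polar (⇑Q) (k *ᵥ u) (k *ᵥ v) = c * QuadraticMap.polar (⇑Q) u v := fun u v => by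
    rw [hf.adj_spec, Matrix.mulVec_mulVec, hc, Matrix.smul_mulVec, Matrix.one_mulVec, hf.smul_right]
    rfl
  refine ⟨c, ?_⟩
  by_cases h2 : (2 : F) = 0
  swap
  · intro v
    rw [Cfsg.Lib.Classical.PrimeDim.Orth.quad_eq_half Q h2, Cfsg.Lib.Classical.PrimeDim.Orth.quad_eq_half Q h2, hpolk,
      mul_div_assoc]
  have hswap : ∀ u v, QuadraticMap.polar (⇑Q) (k *ᵥ v) u =
      t * QuadraticMap.polar (⇑Q) u v - QuadraticMap.polar (⇑Q) (k *ᵥ u) v := fun u v => by
    rw [hf.adj_spec k u v, show hf.adj k = t • 1 - k from eq_sub_of_add_eq' ht, Matrix.sub_mulVec, Matrix.smul_mulVec,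
      Matrix.one_mulVec, QuadraticMap.polar_sub_right, QuadraticMap.polar_smul_right, smul_eq_mul,
      QuadraticMap.polar_comm (⇑Q) u (k *ᵥ v)]
    ring
  have hroot : ∀ g ∈ H, (((g⁻¹ : GL ι F) : Matrix ι ι F) * k * (g : Matrix ι ι F) = k ∨
      ((g⁻¹ : GL ι F) : Matrix ι ι F) * k * (g : Matrix ι ι F) = hf.adj k) := by
    intro g hg
    set x := ((g⁻¹ : GL ι F) : Matrix ι ι F) * k * (g : Matrix ι ι F) with hx
    have hxK : x ∈ K := by
      have := (hle (H.inv_mem hg) k).mp hk
      rwa [inv_inv] at this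
    have hcancel : ∀ A B : Matrix ι ι F, ((g⁻¹ : GL ι F) : Matrix ι ι F) * A * (g : Matrix ι ι F) *
        (((g⁻¹ : GL ι F) : Matrix ι ι F) * B * (g : Matrix ι ι F)) =
        ((g⁻¹ : GL ι F) : Matrix ι ι F) * (A * B) * (g : Matrix ι ι F) := fun A B => by
      simp only [mul_assoc]
      rw [← mul_assoc (g : Matrix ι ι F) ((g⁻¹ : GL ι F) : Matrix ι ι F), val_mul_inv, one_mul]
    have hkk : k * k = t • k - c • 1 := by
      rw [← hc, ← smul_one_mul t k, ← ht, add_mul, add_sub_cancel_right]
    have hxx : x * x = t • x - c • 1 := by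
      rw [hx, hcancel, hkk, mul_sub, sub_mul, Matrix.mul_smul, Matrix.smul_mul, Matrix.mul_smul, Matrix.mul_one,
        Matrix.smul_mul, val_inv_mul]
    have hprod : (x - k) * (x - hf.adj k) = 0 := by
      rw [sub_mul, mul_sub, mul_sub, hxx, hK.comm k hk x hxK, hK.comm k hk _ (hK' k hk), hc,
        show x * hf.adj k = t • x - x * k by
          rw [show hf.adj k = t • 1 - k from eq_sub_of_add_eq' ht, mul_sub, Matrix.mul_smul, Matrix.mul_one]]
      abel
    by_cases h0 : x - k = 0
    · exact Or.inl (sub_eq_zero.mp h0)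
    obtain ⟨y, hy, hyx⟩ := hK.inv _ (sub_mem hxK hk) h0
    refine Or.inr (sub_eq_zero.mp ?_)
    have := congrArg (fun Z => y * Z) hprod
    rwa [← mul_assoc, hK.comm y hy _ (sub_mem hxK hk), hyx, one_mul, mul_zero] at this
  have hconj : ∀ g ∈ H, ∀ v, k *ᵥ ((g : Matrix ι ι F) *ᵥ v) =
      (g : Matrix ι ι F) *ᵥ ((((g⁻¹ : GL ι F) : Matrix ι ι F) * k * (g : Matrix ι ι F)) *ᵥ v) := fun g _ v => by
    rw [Matrix.mulVec_mulVec, Matrix.mulVec_mulVec, ← mul_assoc, ← mul_assoc, val_mul_inv, one_mul]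
  have hψ := semilinear_zero hirr hn h2 (D := fun v => QuadraticMap.polar (⇑Q) (k *ᵥ v) v - t * Q v)
    (fun u v => by
      simp only [Matrix.mulVec_add, QuadraticMap.polar_add_left, QuadraticMap.polar_add_right, hswap u v,
        QuadraticMap.map_add (f := Q)]
      ring)
    (fun a v => by
      simp only [Matrix.mulVec_smul, QuadraticMap.polar_smul_left, QuadraticMap.polar_smul_right,
        QuadraticMap.map_smul, smul_eq_mul]
      ring)
    (fun g hg v => by
      show _ - _ = _ - _
      rw [hiso g hg, hconj g hg, orth_fixes Q hiso g hg]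
      rcases hroot g hg with e | e <;> rw [e]
      rw [hf.adj_spec, hf.adj_adj, QuadraticMap.polar_comm])
  have hD := semilinear_zero hirr hn h2 (D := fun v => Q (k *ᵥ v) - c * Q v)
    (fun u v => by
      simp only [Matrix.mulVec_add, QuadraticMap.map_add (f := Q), hpolk]
      ring)
    (fun a v => by
      simp only [Matrix.mulVec_smul, QuadraticMap.map_smul, smul_eq_mul]
      ring)
    (fun g hg v => by
      show _ - _ = _ - _
      rw [hiso g hg, hconj g hg, hiso g hg]
      rcases hroot g hg with e | e <;> rw [e]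
      rw [show hf.adj k = t • 1 - k from eq_sub_of_add_eq' ht, Matrix.sub_mulVec, Matrix.smul_mulVec,
        Matrix.one_mulVec, sub_eq_add_neg (t • v), ← neg_one_smul F (k *ᵥ v), QuadraticMap.map_add (f := Q),
        QuadraticMap.map_smul, QuadraticMap.map_smul, QuadraticMap.polar_smul_left, QuadraticMap.polar_smul_right,
        QuadraticMap.polar_comm (⇑Q) v (k *ᵥ v), show QuadraticMap.polar (⇑Q) (k *ᵥ v) v = t * Q v from
          sub_eq_zero.mp (hψ v)]
      simp only [smul_eq_mul]
      ring)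
  exact fun v => sub_eq_zero.mp (hD v)

/-- An additive combination of squares in a finite field. -/
theorem mem_of_squares {E : Type*} [Field E] [Finite E] {V : Type*} [AddCommGroup V] (φ ψ : E →+ V)
    (h : ∀ k : E, φ (k * k) = ψ (k * k)) : φ = ψ := by
  haveI : Fintype E := Fintype.ofFinite E
  ext x
  by_cases h2 : (2 : E) = 0
  · haveI : CharP E 2 := CharTwo.of_one_ne_zero_of_two_eq_zero one_ne_zero h2
    obtain ⟨r, rfl⟩ := FiniteField.isSquare_of_char_two (ringChar.eq E 2) x
    exact h r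
  · obtain ⟨a, b, hab⟩ := Cfsg.Lib.Classical.Refl.binary_universal h2 one_ne_zero one_ne_zero x
    rw [← hab, mul_one, mul_one, map_add, map_add, h, h]

include hQ in
set_option maxHeartbeats 2000000 in
/-- A binary anisotropic structure over a field gives a normalised unitary field of degree two. -/
theorem field_two_of_binary' [Nonempty ι] {H : Subgroup (GL ι F)}
    (hiso : ∀ g ∈ H, ∀ x, Q ((g : Matrix ι ι F) *ᵥ x) = Q x) {r : ℕ} {K : Subalgebra F (Matrix ι ι F)}
    (hK : IsFieldSubalgebra r K) (hr : Fintype.card ι = 2 * r) (hsa : IsSelfAdjointFor (QuadraticMap.polar (⇑Q)) K)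
    (hle : H ≤ subalgebraNormalizer K)
    (hani : ∀ v : ι → F, v ≠ 0 → ∃ k ∈ K, Q (k *ᵥ v) ≠ 0) :
    ∃ L : Subalgebra F (Matrix ι ι F), IsFieldSubalgebra 2 L ∧ IsAdjointClosedFor (QuadraticMap.polar (⇑Q)) L ∧
      H ≤ subalgebraNormalizer L := by
  classical
  have hf := orth_refl Q hQ
  letI : Field K := (isField_of_fieldSub hK).toField
  haveI : Finite K := Finite.of_injective _ Subtype.val_injective
  let B := QuadraticMap.polar (⇑Q)
  let μ : K → (ι → F) → (ι → F) := fun k v => (k : Matrix ι ι F) *ᵥ v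
  have μ_mul : ∀ a b v, μ (a * b) v = μ a (μ b v) := fun a b v => by
    simp only [μ, Matrix.mulVec_mulVec]; rfl
  have hsq : ∀ (k : K) u v, B (μ k u) (μ k v) = B (μ (k * k) u) v := fun k u v => by
    rw [μ_mul]
    exact (hsa k k.2 _ v).symm
  -- the multiples of the form
  obtain ⟨T, hT⟩ : ∃ T : (ι → F) → (K →ₗ[F] F), ∀ v (k : K), T v (k * k) = Q (μ k v) := by
    by_cases h2 : (2 : F) = 0
    swap
    · refine ⟨fun v =>
        { toFun := fun k => B (μ k v) v / 2
          map_add' := fun a b => by simp only [μ, B, Subalgebra.coe_add, Matrix.add_mulVec, QuadraticMap.polar_add_left, add_div]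
          map_smul' := fun c a => by
            simp only [μ, B, Subalgebra.coe_smul, Matrix.smul_mulVec, QuadraticMap.polar_smul_left, smul_eq_mul,
              RingHom.id_apply, mul_div_assoc] }, fun v k => ?_⟩
      show B (μ (k * k) v) v / 2 = _
      rw [← hsq, Cfsg.Lib.Classical.PrimeDim.Orth.quad_eq_half Q h2]
    haveI : CharP F 2 := CharTwo.of_one_ne_zero_of_two_eq_zero one_ne_zero h2
    haveI : CharP K 2 := charP_of_injective_algebraMap (FaithfulSMul.algebraMap_injective F K) 2
    choose s hs using fun a : K =>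
      (Finite.injective_iff_surjective.mp (CharTwo.sq_injective : Function.Injective fun x : K => x ^ 2)) a
    have hss : ∀ a, s a * s a = a := fun a => by rw [← sq]; exact hs a
    have hs_inj : ∀ {x y : K}, x * x = y * y → x = y := fun {x y} e =>
      CharTwo.sq_injective (show x ^ 2 = y ^ 2 by rw [sq, sq, e])
    refine ⟨fun v =>
      { toFun := fun a => Q (μ (s a) v)
        map_add' := fun a b => ?_
        map_smul' := fun c a => ?_ }, fun v k => ?_⟩
    · have e : s (a + b) = s a + s b := hs_inj (by rw [CharTwo.add_mul_self, hss, hss, hss])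
      have hz : B (μ (s a) v) (μ (s b) v) = 0 := by
        have e1 : μ (s a * s b) v = μ (s (s a * s b)) (μ (s (s a * s b)) v) := by rw [← μ_mul, hss]
        have e2 : B (μ (s a) v) (μ (s b) v) = B (μ (s a * s b) v) v := by
          rw [mul_comm, μ_mul]
          exact (hsa _ (s b).2 _ v).symm
        rw [e2, e1, ← μ_mul, ← hsq]
        simp only [B, QuadraticMap.polar_self, two_nsmul, ← two_mul, h2, zero_mul]
      show Q (μ (s (a + b)) v) = _
      rw [e]
      simp only [μ, Subalgebra.coe_add, Matrix.add_mulVec]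
      rw [QuadraticMap.map_add (f := Q)]
      show _ + B (μ (s a) v) (μ (s b) v) = _
      rw [hz, add_zero]
    · obtain ⟨c', hc'⟩ := FiniteField.isSquare_of_char_two (ringChar.eq F 2) c
      have e : s (c • a) = c' • s a := hs_inj (by rw [hss, smul_mul_smul_comm, hss, hc'])
      show Q (μ (s (c • a)) v) = c * Q (μ (s a) v)
      rw [e]
      simp only [μ, Subalgebra.coe_smul, Matrix.smul_mulVec, QuadraticMap.map_smul, smul_eq_mul, hc']
    · show Q (μ (s (k * k)) v) = _
      rw [hs_inj (hss (k * k))]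
  have hText : ∀ (v : ι → F) (φ : K →+ F), (∀ k, φ (k * k) = Q (μ k v)) → ∀ a, φ a = T v a := fun v φ h a =>
    DFunLike.congr_fun (mem_of_squares φ (T v).toAddMonoidHom fun k => (h k).trans (hT v k).symm) a
  have hTmul : ∀ v (k a : K), T (μ k v) a = T v (a * (k * k)) := fun v k a =>
    (hText (μ k v) ((T v).toAddMonoidHom.comp (AddMonoidHom.mulRight (k * k))) (fun m => by
      show T v (m * m * (k * k)) = _
      rw [show m * m * (k * k) = (m * k) * (m * k) by ring, hT, μ_mul]) a).symm
  have hTadd : ∀ u v (a : K), T (u + v) a = T u a + T v a + B (μ a u) v := fun u v a =>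
    (hText (u + v) ((T u).toAddMonoidHom + (T v).toAddMonoidHom + AddMonoidHom.mk' (fun a => B (μ a u) v)
        (fun a b => by simp only [μ, B, Subalgebra.coe_add, Matrix.add_mulVec, QuadraticMap.polar_add_left]))
      (fun m => by
        show T u (m * m) + T v (m * m) + B (μ (m * m) u) v = _
        rw [hT, hT, ← hsq]
        simp only [μ, Matrix.mulVec_add]
        rw [QuadraticMap.map_add (f := Q)]) a).symm
  have hTne : ∀ {v : ι → F}, v ≠ 0 → ∀ a : K, a ≠ 0 → ∃ b : K, T v (a * (b * b)) ≠ 0 := by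
    intro v hv a ha
    by_contra hcon
    push Not at hcon
    have h0 : ∀ b, T v b = 0 := fun b => by
      have := DFunLike.congr_fun (mem_of_squares ((T v).toAddMonoidHom.comp (AddMonoidHom.mulLeft a)) 0
        (fun m => hcon m)) (a⁻¹ * b)
      simpa [← mul_assoc, mul_inv_cancel₀ ha] using this
    obtain ⟨k, hk, hne⟩ := hani v hv
    exact hne ((hT v ⟨k, hk⟩).symm.trans (h0 _))
  -- the algebra
  let CK := comm ((K : Subalgebra F (Matrix ι ι F)) : Set (Matrix ι ι F))
  have hCK : ∀ {x : Matrix ι ι F}, x ∈ CK → ∀ (k : K) v, x *ᵥ μ k v = μ k (x *ᵥ v) := fun {x} hx k v => by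
    simp only [μ, Matrix.mulVec_mulVec]
    rw [mem_comm.mp hx _ k.2]
  have hKCK : ∀ k : K, (k : Matrix ι ι F) ∈ CK := fun k => mem_comm.mpr fun y hy => hK.comm _ k.2 y hy
  let S : Submodule F (Matrix ι ι F) :=
    { carrier := {x | x ∈ CK ∧ ∃ t : K, ∀ v, B (x *ᵥ v) v = T v t}
      zero_mem' := ⟨zero_mem _, 0, fun v => by simp [B]⟩
      add_mem' := fun {x y} ⟨hx, t, ht⟩ ⟨hy, t', ht'⟩ => ⟨add_mem hx hy, t + t', fun v => by
        rw [map_add, ← ht, ← ht']
        simp only [B, Matrix.add_mulVec, QuadraticMap.polar_add_left]⟩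
      smul_mem' := fun c x ⟨hx, t, ht⟩ => ⟨CK.smul_mem hx c, c • t, fun v => by
        rw [map_smul, ← ht]
        simp only [B, Matrix.smul_mulVec, QuadraticMap.polar_smul_left]⟩ }
  have hS : ∀ {x}, x ∈ S ↔ x ∈ CK ∧ ∃ t : K, ∀ v, B (x *ᵥ v) v = T v t := Iff.rfl
  have hBz : ∀ x y : ι → F, B x y = B y x := fun x y => QuadraticMap.polar_comm _ _ _
  have hTK : ∀ v (k : K), B (μ k v) v = T v k + T v k := fun v k => by
    have := hText v (AddMonoidHom.mk' (fun a : K => B (μ a v) v - T v a) (fun a b => by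
      simp only [μ, B, Subalgebra.coe_add, Matrix.add_mulVec, QuadraticMap.polar_add_left, map_add]
      ring)) (fun m => by
      show B (μ (m * m) v) v - T v (m * m) = _
      rw [← hsq, hT]
      simp only [B, QuadraticMap.polar_self, two_nsmul, add_sub_cancel_right]) k
    exact sub_eq_iff_eq_add.mp this
  have hKS : ∀ k : K, (k : Matrix ι ι F) ∈ S := fun k =>
    hS.mpr ⟨hKCK k, k + k, fun v => by rw [map_add]; exact hTK v k⟩
  -- a basis over the field
  obtain ⟨u, hu⟩ := exists_ne (0 : ι → F)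
  let ev : (ι → F) → (K →ₗ[F] (ι → F)) := fun v =>
    { toFun := fun k => μ k v
      map_add' := fun x y => by simp only [μ, Subalgebra.coe_add, Matrix.add_mulVec]
      map_smul' := fun c x => by simp only [μ, Subalgebra.coe_smul, Matrix.smul_mulVec, RingHom.id_apply] }
  have hμz : ∀ k : K, μ k 0 = 0 := fun k => Matrix.mulVec_zero _
  have hμadd : ∀ (k : K) x y, μ k (x + y) = μ k x + μ k y := fun k x y => Matrix.mulVec_add _ _ _
  have hμ1 : ∀ v, μ 1 v = v := fun v => by
    show ((1 : K) : Matrix ι ι F) *ᵥ v = v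
    rw [OneMemClass.coe_one, Matrix.one_mulVec]
  have hμ0 : ∀ {k : K} {v}, μ k v = 0 → v ≠ 0 → k = 0 := fun {k v} h hv => by
    by_contra hk
    apply hv
    rw [← hμ1 v, ← inv_mul_cancel₀ hk, μ_mul, h, hμz]
  have hrK : Module.finrank F K = r := hK.finrank_eq
  have hevinj : ∀ {v}, v ≠ 0 → Function.Injective (ev v) := fun {v} hv =>
    (injective_iff_map_eq_zero _).mpr fun k hk => hμ0 hk hv
  have hpair : ∀ {v w : ι → F}, v ≠ 0 → w ∉ LinearMap.range (ev v) →
      Function.Bijective ((ev v).coprod (ev w)) := fun {v w} hv hw => by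
    have hinj : Function.Injective ((ev v).coprod (ev w)) := (injective_iff_map_eq_zero _).mpr fun p hp => by
      obtain ⟨k, k'⟩ := p
      change μ k v + μ k' w = 0 at hp
      by_cases hk' : k' = 0
      · subst hk'
        rw [show μ 0 w = 0 by simp [μ], add_zero] at hp
        rw [hμ0 hp hv]
        rfl
      · refine absurd ⟨-(k'⁻¹ * k), ?_⟩ hw
        show μ (-(k'⁻¹ * k)) v = w
        have e : μ k' w = -μ k v := eq_neg_of_add_eq_zero_right hp
        rw [← hμ1 w, ← inv_mul_cancel₀ hk', μ_mul, e]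
        simp only [μ, Subalgebra.coe_neg, Subalgebra.coe_mul, Matrix.neg_mulVec, Matrix.mulVec_neg,
          Matrix.mulVec_mulVec]
    exact ⟨hinj, (LinearMap.injective_iff_surjective_of_finrank_eq_finrank (by
      rw [Module.finrank_prod, hrK, finrank_pi_card, hr, two_mul])).mp hinj⟩
  have hrpos : 0 < r := by have := Fintype.card_pos (α := ι); omega
  have hexw : ∀ {v : ι → F}, v ≠ 0 → ∃ w, w ∉ LinearMap.range (ev v) := fun {v} hv => by
    by_contra hcon
    push Not at hcon
    have h := congrArg (fun W : Submodule F (ι → F) => Module.finrank F W) (Submodule.eq_top_iff'.mpr hcon)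
    simp only [LinearMap.finrank_range_of_inj (hevinj hv), hrK, finrank_top, finrank_pi_card] at h
    omega
  have hkey : ∀ {x}, x ∈ S → ∀ {v}, v ≠ 0 → x *ᵥ v = 0 → x = 0 := fun {x} hx {v} hv hxv => by
    obtain ⟨hxC, t, ht⟩ := hS.mp hx
    obtain ⟨w, hw⟩ := hexw hv
    have hxK : ∀ k, x *ᵥ μ k v = 0 := fun k => by rw [hCK hxC, hxv, hμz]
    have ht0 : t = 0 := by
      by_contra ht0
      obtain ⟨b, hb⟩ := hTne hv t ht0
      apply hb
      rw [← hTmul, ← ht, hxK]
      simp [B]
    have hzero : ∀ y, B (x *ᵥ y) y = 0 := fun y => by rw [ht, ht0, map_zero]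
    have hw1 : ∀ a : K, B (μ a (x *ᵥ w)) w = 0 := fun a =>
      DFunLike.congr_fun (mem_of_squares (AddMonoidHom.mk' (fun a : K => B (μ a (x *ᵥ w)) w) (fun a b => by
        simp only [μ, B, Subalgebra.coe_add, Matrix.add_mulVec, QuadraticMap.polar_add_left])) 0 (fun m => by
        show B (μ (m * m) (x *ᵥ w)) w = 0
        rw [← hsq, ← hCK hxC, hzero])) a
    have hxw : x *ᵥ w = 0 := by
      by_contra h0
      obtain ⟨y, hy⟩ := (hf.nondegenerate _ h0).2
      apply hy
      obtain ⟨⟨k, k'⟩, rfl⟩ := (hpair hv hw).2 y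
      show B (x *ᵥ w) (μ k v + μ k' w) = 0
      have e1 : B (x *ᵥ w) (μ k v) = 0 := by
        have h := hzero (μ k v + w)
        rw [Matrix.mulVec_add, hxK, zero_add] at h
        have h2 := hzero w
        simp only [B, QuadraticMap.polar_add_right] at h h2 ⊢
        rwa [h2, add_zero] at h
      have e2 : B (x *ᵥ w) (μ k' w) = 0 := by
        have h := hw1 k'
        rwa [show B (μ k' (x *ᵥ w)) w = B (x *ᵥ w) (μ k' w) from hsa _ k'.2 _ w] at h
      simp only [B, QuadraticMap.polar_add_right] at e1 e2 ⊢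
      rw [e1, e2, add_zero]
    apply Matrix.toLin'.injective
    refine LinearMap.ext fun y => ?_
    obtain ⟨⟨k, k'⟩, rfl⟩ := (hpair hv hw).2 y
    rw [map_zero, LinearMap.zero_apply, Matrix.toLin'_apply]
    show x *ᵥ (μ k v + μ k' w) = 0
    rw [Matrix.mulVec_add, hxK, hCK hxC, hxw, hμz, add_zero]
  obtain ⟨w, hw⟩ := hexw hu
  let eVK : (K × K) ≃ₗ[F] (ι → F) := LinearEquiv.ofBijective _ (hpair hu hw)
  have heVK : ∀ k k', eVK (k, k') = μ k u + μ k' w := fun _ _ => rfl
  -- the dimension
  let atu : S →ₗ[F] (ι → F) :=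
    { toFun := fun x => (x : Matrix ι ι F) *ᵥ u
      map_add' := fun x y => Matrix.add_mulVec _ _ _
      map_smul' := fun c x => Matrix.smul_mulVec _ _ _ }
  have hatu : Function.Injective atu := (injective_iff_map_eq_zero _).mpr fun x hx =>
    Subtype.ext (hkey x.2 hu hx)
  let bK : (ι → F) → (ι → F) → (K →ₗ[F] F) := fun a y =>
    { toFun := fun k => B (μ k a) y
      map_add' := fun p q => by simp only [μ, B, Subalgebra.coe_add, Matrix.add_mulVec, QuadraticMap.polar_add_left]
      map_smul' := fun c p => by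
        simp only [μ, B, Subalgebra.coe_smul, Matrix.smul_mulVec, QuadraticMap.polar_smul_left, RingHom.id_apply] }
  let mk : ((ι → F) × (ι → F) × K) → Matrix ι ι F := fun p =>
    LinearMap.toMatrix' (((ev p.1).coprod (ev p.2.1)).comp eVK.symm.toLinearMap)
  have hmk : ∀ p k k', mk p *ᵥ (μ k u + μ k' w) = μ k p.1 + μ k' p.2.1 := fun p k k' => by
    rw [← Matrix.toLin'_apply, show Matrix.toLin' (mk p) = _ from Matrix.toLin'_toMatrix' _]
    show ((ev p.1).coprod (ev p.2.1)) (eVK.symm (μ k u + μ k' w)) = _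
    rw [← heVK, LinearEquiv.symm_apply_apply]
    rfl
  let Θ : ((ι → F) × (ι → F) × K) →ₗ[F] (K →ₗ[F] F) × (K →ₗ[F] F) × (K →ₗ[F] F) :=
    { toFun := fun p =>
        (bK p.1 u - (T u).comp (LinearMap.mulLeft F p.2.2), bK p.2.1 w - (T w).comp (LinearMap.mulLeft F p.2.2),
          bK p.1 w + bK p.2.1 u - (bK u w).comp (LinearMap.mulLeft F p.2.2))
      map_add' := fun p q => by
        refine Prod.ext ?_ (Prod.ext ?_ ?_) <;>
          · refine LinearMap.ext fun k => ?_
            simp only [bK, μ, B, Prod.fst_add, Prod.snd_add, LinearMap.coe_mk, AddHom.coe_mk, LinearMap.sub_apply,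
              LinearMap.add_apply, LinearMap.comp_apply, LinearMap.mulLeft_apply, Matrix.mulVec_add,
              QuadraticMap.polar_add_left, add_mul, map_add, Subalgebra.coe_add, Matrix.add_mulVec]
            ring
      map_smul' := fun c p => by
        refine Prod.ext ?_ (Prod.ext ?_ ?_) <;>
          · refine LinearMap.ext fun k => ?_
            simp only [bK, μ, B, Prod.smul_fst, Prod.smul_snd, RingHom.id_apply, LinearMap.coe_mk, AddHom.coe_mk,
              LinearMap.sub_apply, LinearMap.add_apply, LinearMap.comp_apply, LinearMap.mulLeft_apply,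
              LinearMap.smul_apply, Matrix.mulVec_smul, QuadraticMap.polar_smul_left, smul_mul_assoc, map_smul,
              Subalgebra.coe_smul, Matrix.smul_mulVec, smul_eq_mul]
            ring }
  have hmkS : ∀ p, Θ p = 0 → mk p ∈ S := by
    rintro ⟨a, b, t⟩ hp
    have g1 : ∀ k, B (μ k a) u = T u (t * k) := fun k =>
      sub_eq_zero.mp (LinearMap.congr_fun (congrArg Prod.fst hp) k)
    have g2 : ∀ k, B (μ k b) w = T w (t * k) := fun k =>
      sub_eq_zero.mp (LinearMap.congr_fun (congrArg (fun z => z.2.1) hp) k)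
    have g3 : ∀ k, B (μ k a) w + B (μ k b) u = B (μ (t * k) u) w := fun k =>
      sub_eq_zero.mp (LinearMap.congr_fun (congrArg (fun z => z.2.2) hp) k)
    have hC : mk (a, b, t) ∈ CK := mem_comm.mpr fun m hm => Matrix.toLin'.injective (LinearMap.ext fun y => by
      obtain ⟨⟨k, k'⟩, rfl⟩ := eVK.surjective y
      rw [heVK, Matrix.toLin'_apply, Matrix.toLin'_apply, ← Matrix.mulVec_mulVec, ← Matrix.mulVec_mulVec, hmk]
      show mk (a, b, t) *ᵥ μ ⟨m, hm⟩ (μ k u + μ k' w) = μ ⟨m, hm⟩ (μ k a + μ k' b)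
      rw [hμadd, hμadd, ← μ_mul, ← μ_mul, hmk, μ_mul, μ_mul])
    refine hS.mpr ⟨hC, t, fun y => ?_⟩
    obtain ⟨⟨k, k'⟩, rfl⟩ := eVK.surjective y
    rw [heVK, hmk]
    have hmove : ∀ (p q : K) x z, B (μ p x) (μ q z) = B (μ (q * p) x) z := fun p q x z => by
      rw [μ_mul]
      exact (hsa _ q.2 _ z).symm
    rw [hTadd, hTmul, hTmul]
    rw [show B (μ k a + μ k' b) (μ k u + μ k' w) = B (μ k a) (μ k u) + B (μ k a) (μ k' w) + (B (μ k' b) (μ k u) +
      B (μ k' b) (μ k' w)) by
        simp only [B, QuadraticMap.polar_add_left, QuadraticMap.polar_add_right]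
        ring,
      ← μ_mul t k, hmove, hmove, hmove, hmove, hmove, g1, g2]
    have := g3 (k' * k)
    rw [mul_comm k k', show k' * (t * k) = t * (k' * k) by ring]
    linear_combination this
  have hdimS : Module.finrank F S = Fintype.card ι := by
    refine le_antisymm ((LinearMap.finrank_le_finrank_of_injective hatu).trans (finrank_pi_card).le) ?_
    let mkS : LinearMap.ker Θ →ₗ[F] S :=
      { toFun := fun p => ⟨mk p.1, hmkS p.1 p.2⟩
        map_add' := fun p q => Subtype.ext (Matrix.toLin'.injective (LinearMap.ext fun y => by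
          obtain ⟨⟨k, k'⟩, rfl⟩ := eVK.surjective y
          rw [heVK, Matrix.toLin'_apply, Matrix.toLin'_apply]
          simp only [Submodule.coe_add, Matrix.add_mulVec, hmk]
          simp only [μ, Prod.fst_add, Prod.snd_add, Matrix.mulVec_add]
          abel))
        map_smul' := fun c p => Subtype.ext (Matrix.toLin'.injective (LinearMap.ext fun y => by
          obtain ⟨⟨k, k'⟩, rfl⟩ := eVK.surjective y
          rw [heVK, Matrix.toLin'_apply, Matrix.toLin'_apply]
          simp only [Submodule.coe_smul, RingHom.id_apply, Matrix.smul_mulVec, hmk]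
          simp only [μ, Prod.smul_fst, Prod.smul_snd, Matrix.mulVec_smul, smul_add])) }
    have hmkinj : Function.Injective mkS := (injective_iff_map_eq_zero _).mpr fun p hp => by
      obtain ⟨⟨a, b, t⟩, hp0⟩ := p
      have h0 : mk (a, b, t) = 0 := congrArg Subtype.val hp
      have ha : a = 0 := by
        have := hmk (a, b, t) 1 0
        rw [h0, Matrix.zero_mulVec, hμ1] at this
        simpa [μ] using this.symm
      have hb : b = 0 := by
        have := hmk (a, b, t) 0 1
        rw [h0, Matrix.zero_mulVec, hμ1] at this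
        simpa [μ] using this.symm
      subst ha hb
      have ht : t = 0 := by
        by_contra ht0
        obtain ⟨c, hc⟩ := hTne hu t ht0
        apply hc
        have h := LinearMap.congr_fun (congrArg Prod.fst (show Θ (0, 0, t) = 0 from hp0)) (c * c)
        change B (μ (c * c) 0) u - T u (t * (c * c)) = 0 at h
        rw [hμz] at h
        simpa [B] using h
      subst ht
      rfl
    have h1 := LinearMap.finrank_le_finrank_of_injective hmkinj
    have h2 := LinearMap.finrank_range_add_finrank_ker Θ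
    have h3 := Submodule.finrank_le (LinearMap.range Θ)
    simp only [Module.finrank_prod, Module.finrank_linearMap, Module.finrank_self, finrank_pi_card, hrK, mul_one] at h2 h3
    omega
  have hsurj : Function.Surjective atu :=
    (LinearMap.injective_iff_surjective_of_finrank_eq_finrank (by rw [hdimS, finrank_pi_card])).mp hatu
  obtain ⟨⟨J, hJ⟩, hJu⟩ := hsurj w
  change J *ᵥ u = w at hJu
  have hkmul : ∀ (k : K) {x}, x ∈ S → (k : Matrix ι ι F) * x ∈ S := fun k {x} hx => by
    obtain ⟨hxC, t, ht⟩ := hS.mp hx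
    refine hS.mpr ⟨mul_mem (hKCK k) hxC, t * k, fun v => ?_⟩
    have := DFunLike.congr_fun (mem_of_squares (AddMonoidHom.mk' (fun a : K => B (μ a (x *ᵥ v)) v) (fun a b => by
      simp only [μ, B, Subalgebra.coe_add, Matrix.add_mulVec, QuadraticMap.polar_add_left]))
      ((T v).comp (LinearMap.mulLeft F t)).toAddMonoidHom (fun m => by
      show B (μ (m * m) (x *ᵥ v)) v = T v (t * (m * m))
      rw [← hsq, ← hCK hxC, ht, hTmul])) k
    rw [← Matrix.mulVec_mulVec]
    exact this
  have hcommK : ∀ {x}, x ∈ CK → ∀ k : K, x * (k : Matrix ι ι F) = (k : Matrix ι ι F) * x := fun {x} hx k =>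
    mem_comm.mp hx _ k.2
  have hJC : J ∈ CK := (hS.mp hJ).1
  have hlin : ∀ {x}, x ∈ S → ∃ α β : K, x = (α : Matrix ι ι F) + (β : Matrix ι ι F) * J := fun {x} hx => by
    obtain ⟨⟨α, β⟩, hab⟩ := eVK.surjective (x *ᵥ u)
    refine ⟨α, β, sub_eq_zero.mp (hkey (S.sub_mem hx (S.add_mem (hKS α) (hkmul β hJ))) hu ?_)⟩
    rw [Matrix.sub_mulVec, Matrix.add_mulVec, ← Matrix.mulVec_mulVec, hJu, ← hab, heVK, sub_self]
  have hJJ : J * J ∈ S := by
    obtain ⟨⟨α, β⟩, hab⟩ := eVK.surjective (J *ᵥ w)
    set z := J * J - ((α : Matrix ι ι F) + (β : Matrix ι ι F) * J) with hz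
    have hzC : z ∈ CK := sub_mem (mul_mem hJC hJC) (add_mem (hKCK α) (mul_mem (hKCK β) hJC))
    have hzJ : z * J = J * z := by
      rw [hz, sub_mul, mul_sub, add_mul, mul_add, mul_assoc, mul_assoc, ← mul_assoc J (β : Matrix ι ι F) J,
        hcommK hJC β, hcommK hJC α, mul_assoc]
    have hzu : z *ᵥ u = 0 := by
      rw [hz, Matrix.sub_mulVec, Matrix.add_mulVec, ← Matrix.mulVec_mulVec, ← Matrix.mulVec_mulVec, hJu, ← hab, heVK,
        sub_self]
    have hzw : z *ᵥ w = 0 := by rw [← hJu, Matrix.mulVec_mulVec, hzJ, ← Matrix.mulVec_mulVec, hzu, Matrix.mulVec_zero]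
    have hz0 : z = 0 := Matrix.toLin'.injective (LinearMap.ext fun y => by
      obtain ⟨⟨k, k'⟩, rfl⟩ := eVK.surjective y
      rw [heVK, map_zero, LinearMap.zero_apply, Matrix.toLin'_apply, Matrix.mulVec_add, hCK hzC, hCK hzC, hzu, hzw,
        hμz, hμz, add_zero])
    rw [sub_eq_zero.mp hz0]
    exact S.add_mem (hKS α) (hkmul β hJ)
  have hprod : ∀ a b c d : K, ((a : Matrix ι ι F) + (b : Matrix ι ι F) * J) * ((c : Matrix ι ι F) + (d : Matrix ι ι F) * J) =
      ((a * c : K) : Matrix ι ι F) + ((a * d : K) : Matrix ι ι F) * J +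
        (((b * c : K) : Matrix ι ι F) * J + ((b * d : K) : Matrix ι ι F) * (J * J)) := fun a b c d => by
    simp only [Subalgebra.coe_mul, add_mul, mul_add, mul_assoc]
    rw [hcommK hJC c, ← mul_assoc J (d : Matrix ι ι F) J, hcommK hJC d, mul_assoc (d : Matrix ι ι F)]
    abel
  have hmulmem : ∀ {x y}, x ∈ S → y ∈ S → x * y ∈ S := fun {x y} hx hy => by
    obtain ⟨α, β, rfl⟩ := hlin hx
    obtain ⟨γ, δ, rfl⟩ := hlin hy
    rw [hprod]
    exact S.add_mem (S.add_mem (hKS _) (hkmul _ hJ)) (S.add_mem (hkmul _ hJ) (hkmul _ hJJ))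
  have hone : (1 : Matrix ι ι F) ∈ S := by simpa using hKS 1
  let L : Subalgebra F (Matrix ι ι F) := S.toSubalgebra hone fun x y => hmulmem
  have hmemL : ∀ {x}, x ∈ L ↔ x ∈ S := Iff.rfl
  have hLf : IsFieldSubalgebra (2 * r) L := by
    refine ⟨fun x hx y hy => ?_, fun x hx h0 => ?_, hdimS.trans hr⟩
    · obtain ⟨α, β, rfl⟩ := hlin hx
      obtain ⟨γ, δ, rfl⟩ := hlin hy
      rw [hprod, hprod, mul_comm γ α, mul_comm γ β, mul_comm δ α, mul_comm δ β]
      abel
    · let m : L →ₗ[F] L := LinearMap.mulLeft F ⟨x, hx⟩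
      have hm : Function.Injective m := (injective_iff_map_eq_zero _).mpr fun y hy => by
        refine Subtype.ext ?_
        by_contra hy0
        have hxy : x * (y : Matrix ι ι F) = 0 := congrArg Subtype.val hy
        obtain ⟨v, hv⟩ : ∃ v, (y : Matrix ι ι F) *ᵥ v ≠ 0 := by
          by_contra hcon
          push Not at hcon
          exact hy0 (Matrix.toLin'.injective (LinearMap.ext fun v => by simpa using hcon v))
        exact h0 (hkey hx hv (by rw [Matrix.mulVec_mulVec, hxy, Matrix.zero_mulVec]))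
      obtain ⟨y, hy⟩ := (LinearMap.injective_iff_surjective.mp hm) 1
      exact ⟨y, y.2, congrArg Subtype.val hy⟩
  have hadjS : ∀ {x}, x ∈ S → hf.adj x ∈ S := fun {x} hx => by
    obtain ⟨-, t, ht⟩ := hS.mp hx
    rw [hf.adj_unique (A := (t : Matrix ι ι F) - x) fun a b => ?_]
    · exact S.sub_mem (hKS t) hx
    have h := ht (a + b)
    rw [hTadd, ← ht, ← ht] at h
    rw [Matrix.sub_mulVec, QuadraticMap.polar_sub_right, ← hsa _ t.2, QuadraticMap.polar_comm (⇑Q) a (x *ᵥ b)]
    simp only [B, μ, Matrix.mulVec_add, QuadraticMap.polar_add_left, QuadraticMap.polar_add_right] at h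
    linear_combination h
  have hnorm : ∀ g ∈ H, ∀ x ∈ S, (g : Matrix ι ι F) * x * ((g⁻¹ : GL ι F) : Matrix ι ι F) ∈ S := by
    intro g hg x hx
    obtain ⟨hxC, t, ht⟩ := hS.mp hx
    let σ : K →+ K := AddMonoidHom.mk' (fun k => ⟨(g : Matrix ι ι F) * k * ((g⁻¹ : GL ι F) : Matrix ι ι F),
      (hle hg k).mp k.2⟩) (fun a b => Subtype.ext (by simp [mul_add, add_mul]))
    have hσact : ∀ (k : K) y, μ (σ k) ((g : Matrix ι ι F) *ᵥ y) = (g : Matrix ι ι F) *ᵥ μ k y := fun k y => by
      simp only [μ, σ, AddMonoidHom.mk'_apply, Matrix.mulVec_mulVec, mul_assoc, val_inv_mul, mul_one]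
    have hTg : ∀ y (a : K), T ((g : Matrix ι ι F) *ᵥ y) (σ a) = T y a := fun y a =>
      hText y ((T ((g : Matrix ι ι F) *ᵥ y)).toAddMonoidHom.comp σ) (fun m => by
        show T _ (σ (m * m)) = _
        rw [show σ (m * m) = σ m * σ m from Subtype.ext (by
          show (g : Matrix ι ι F) * ((m : Matrix ι ι F) * m) * _ =
            (g : Matrix ι ι F) * m * ((g⁻¹ : GL ι F) : Matrix ι ι F) *
              ((g : Matrix ι ι F) * m * ((g⁻¹ : GL ι F) : Matrix ι ι F))
          simp only [mul_assoc]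
          rw [← mul_assoc ((g⁻¹ : GL ι F) : Matrix ι ι F) (g : Matrix ι ι F), val_inv_mul, one_mul]),
          hT, hσact, hiso g hg]) a
    refine hS.mpr ⟨mem_comm.mpr fun m hm => ?_, σ t, fun v => ?_⟩
    · set m' := ((g⁻¹ : GL ι F) : Matrix ι ι F) * m * (g : Matrix ι ι F) with hm'
      have hm'K : m' ∈ K := by
        have := (hle (H.inv_mem hg) m).mp hm
        rwa [inv_inv] at this
      have e : m = (g : Matrix ι ι F) * m' * ((g⁻¹ : GL ι F) : Matrix ι ι F) := by
        simp only [hm', mul_assoc, val_mul_inv, mul_one]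
        rw [← mul_assoc (g : Matrix ι ι F), val_mul_inv, one_mul]
      have e' := mem_comm.mp hxC _ hm'K
      rw [e]
      simp only [mul_assoc]
      rw [← mul_assoc ((g⁻¹ : GL ι F) : Matrix ι ι F) (g : Matrix ι ι F), val_inv_mul, one_mul,
        ← mul_assoc ((g⁻¹ : GL ι F) : Matrix ι ι F) (g : Matrix ι ι F), val_inv_mul, one_mul, ← mul_assoc x,
        ← mul_assoc m', e']
    · obtain ⟨y, rfl⟩ : ∃ y, v = (g : Matrix ι ι F) *ᵥ y :=
        ⟨((g⁻¹ : GL ι F) : Matrix ι ι F) *ᵥ v, (mulVec_inv_mulVec g v).symm⟩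
      rw [hTg, ← ht, ← Matrix.mulVec_mulVec, ← Matrix.mulVec_mulVec, inv_mulVec_mulVec]
      exact orth_fixes Q hiso g hg _ _
  have hnL : H ≤ subalgebraNormalizer L := fun g hg x => ⟨hnorm g hg x, fun hx => by
    have := hnorm g⁻¹ (H.inv_mem hg) _ hx
    rw [inv_inv] at this
    simp only [← mul_assoc, val_inv_mul, one_mul] at this
    rw [mul_assoc, val_inv_mul, mul_one] at this
    exact this⟩
  obtain ⟨L₂, hL₂, hle₂, hn₂⟩ := exists_subalgebra_of_prime_dvd hLf Nat.prime_two (dvd_mul_right 2 r) hnL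
  exact ⟨L₂, hL₂, adjClosed_of hf fun k hk => mem_of_pow_card hLf hL₂ hle₂ (hadjS (hle₂ hk))
    (by rw [← hf.adj_pow, fieldSub_pow_card hL₂ hk]), hn₂⟩

include hQ in
/-- A binary structure in minus type gives a normalised field of degree two. -/
theorem field_two_of_binary [Nonempty ι] (hminus : ¬ IsPlusTypeOn (⇑Q) ⊤) {H : Subgroup (GL ι F)}
    (hiso : ∀ g ∈ H, ∀ x, Q ((g : Matrix ι ι F) *ᵥ x) = Q x) {r : ℕ} {K : Subalgebra F (Matrix ι ι F)}
    (hK : IsFieldSubalgebra r K) (hr : Fintype.card ι = 2 * r) (hsa : IsSelfAdjointFor (QuadraticMap.polar (⇑Q)) K)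
    (hle : H ≤ subalgebraNormalizer K) :
    ∃ L : Subalgebra F (Matrix ι ι F), IsFieldSubalgebra 2 L ∧ IsAdjointClosedFor (QuadraticMap.polar (⇑Q)) L ∧
      H ≤ subalgebraNormalizer L := by
  refine field_two_of_binary' Q hQ hiso hK hr hsa hle fun v hv => ?_
  by_contra hc
  push Not at hc
  let ev : K →ₗ[F] (ι → F) :=
    { toFun := fun k => (k : Matrix ι ι F) *ᵥ v
      map_add' := fun x y => by simp only [Subalgebra.coe_add, Matrix.add_mulVec]
      map_smul' := fun c x => by simp only [Subalgebra.coe_smul, Matrix.smul_mulVec, RingHom.id_apply] }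
  have hev : Function.Injective ev := (injective_iff_map_eq_zero ev).mpr fun k hk => by
    by_contra hk0
    obtain ⟨y, hy, e⟩ := hK.inv k k.2 fun h => hk0 (Subtype.ext h)
    apply hv
    have h1 : (y * (k : Matrix ι ι F)) *ᵥ v = 0 := by
      rw [← Matrix.mulVec_mulVec, show (k : Matrix ι ι F) *ᵥ v = 0 from hk, Matrix.mulVec_zero]
    rwa [hK.comm y hy k k.2, e, Matrix.one_mulVec] at h1
  refine hminus (plus_of_singular Q (W := LinearMap.range ev) ?_ ?_)
  · rintro _ ⟨k, rfl⟩
    exact hc k k.2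
  · rw [LinearMap.finrank_range_of_inj hev, hr]
    exact congrArg (2 * ·) hK.finrank_eq

end OrthEven

end Cfsg.Lib.Classical.Aschbacher
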