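import Cfsg.Agent.Classical.Aschbacher.OrthOddMax

/-! The maximal subgroups of `Ω` in degree nine. -/

set_option autoImplicit false
set_option linter.unusedSimpArgs false
set_option linter.unusedSectionVars false
set_option linter.style.haveILetI false

namespace Cfsg.Lib.Classical.Aschbacher

open Matrix Cfsg.Geo
open scoped MatrixGroups
open Cfsg.Lib.Classical.PrimeDim (Invariant finrank_pi_card irreducible_iff eq_inf_of_maximal)
open Cfsg.Lib.Classical (HypQuad.perp HypQuad.mem_perp HypQuad.finrank_perp)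
open Cfsg.Lib.Classical.PrimeDim.Orth (omega_not_le_subspace omega_not_le_decomposition omega_not_le_subfieldSubgroup
  omega_preserves' plane_point perp_invariant exists_perp_norm_one)

universe u

variable {ι : Type} [Fintype ι] [DecidableEq ι] {F : Type u} [Field F] [Fintype F] (Q : QuadraticForm F (ι → F))
  (hQ : (QuadraticMap.polarBilin Q).Nondegenerate)

include hQ in
/-- A maximal subgroup of `Ω` in odd degree which has an invariant subspace. -/
theorem omega_reducible_cases {m : ℕ} (hm : Fintype.card ι = 2 * m + 1) (hm3 : 3 ≤ m) (h2 : (2 : F) ≠ 0)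
    {H : Subgroup (GL ι F)} (hH : IsMaximalIn (omegaGL (⇑Q)) H) {W : Submodule F (ι → F)} (h0 : W ≠ ⊥) (h1 : W ≠ ⊤)
    (hinv : Invariant H W) :
    (∃ W : Submodule F (ι → F), W ≠ ⊥ ∧ IsTotallySingularQuad (⇑Q) W ∧
      H = subspaceStabilizer W ⊓ omegaGL (⇑Q)) ∨
    (∃ W : Submodule F (ι → F), W ≠ ⊥ ∧ Even (Module.finrank F W) ∧
      IsNondegenerateOn (QuadraticMap.polar (⇑Q)) W ∧
      ¬ (Fintype.card F = 3 ∧ Module.finrank F W = 2 ∧ IsPlusTypeOn (⇑Q) W) ∧
      H = subspaceStabilizer W ⊓ omegaGL (⇑Q)) := by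
  classical
  haveI : Nonempty ι := Fintype.card_pos_iff.mp (by omega)
  have hV : Module.finrank F (ι → F) = 2 * m + 1 := by rw [finrank_pi_card, hm]
  have hf := orth_refl Q hQ
  have hiso : ∀ g ∈ H, ∀ x, Q ((g : Matrix ι ι F) *ᵥ x) = Q x := fun g hg => omega_preserves' Q (hH.1.le hg)
  have hmem : ∀ {U : Submodule F (ι → F)}, U ≠ ⊥ → U ≠ ⊤ → Invariant H U →
      H = subspaceStabilizer U ⊓ omegaGL (⇑Q) := fun hU0 hU1 hU =>
    eq_inf_of_maximal hH hU.le_stabilizer (omega_not_le_subspace Q hQ h2 (by omega) hU0 hU1)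
  obtain ⟨U, hU0, hU1, hU, hs | ⟨hn, -⟩⟩ := hf.reducible (orth_fixes Q hiso) h0 h1 hinv
  · refine Or.inl ⟨U, hU0, fun w hw => ?_, hmem hU0 hU1 hU⟩
    rw [Cfsg.Lib.Classical.PrimeDim.Orth.quad_eq_half Q h2, hs w hw w hw, zero_div]
  have hnd := hf.nondegenerateOn hn
  obtain ⟨hcompl, hndperp⟩ := Cfsg.Lib.Classical.Refl.nondeg_perp Q hQ hnd
  have hsum := Submodule.finrank_add_eq_of_isCompl hcompl
  rw [hV] at hsum
  have hpos : 0 < Module.finrank F U := Nat.pos_of_ne_zero fun e => hU0 (Submodule.finrank_eq_zero.mp e)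
  have hlt : Module.finrank F U < 2 * m + 1 := hV ▸ Submodule.finrank_lt hU1
  obtain ⟨X, hX0, hXlt, hXev, hXnd, hXinv⟩ : ∃ X : Submodule F (ι → F), 0 < Module.finrank F X ∧
      Module.finrank F X < 2 * m + 1 ∧ Even (Module.finrank F X) ∧ IsNondegenerateOn (QuadraticMap.polar (⇑Q)) X ∧
      Invariant H X := by
    rcases Nat.even_or_odd (Module.finrank F U) with he | he
    · exact ⟨U, hpos, hlt, he, hnd, hU⟩
    · refine ⟨HypQuad.perp Q U, by omega, by omega, ?_, hndperp, perp_invariant Q hQ hH.1.le hU⟩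
      obtain ⟨k, hk⟩ := he
      exact ⟨m - k, by omega⟩
  have hne : ∀ {X : Submodule F (ι → F)}, 0 < Module.finrank F X → Module.finrank F X < 2 * m + 1 → X ≠ ⊥ ∧ X ≠ ⊤ :=
    fun ha hb => ⟨fun e => by rw [e, finrank_bot] at ha; omega, fun e => by rw [e, finrank_top, hV] at hb; omega⟩
  by_cases hex : Fintype.card F = 3 ∧ Module.finrank F X = 2 ∧ IsPlusTypeOn (⇑Q) X
  · obtain ⟨e, he, heinv⟩ := plane_point Q hQ hex.1 h2 hex.2.1 hXnd hex.2.2 hH.1.le hXinv
    have he0 : e ≠ 0 := fun h => by rw [h, QuadraticMap.map_zero] at he; exact zero_ne_one he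
    have hend : IsNondegenerateOn (QuadraticMap.polar (⇑Q)) (Submodule.span F {e}) := by
      intro w hw hw0
      obtain ⟨c, rfl⟩ := Submodule.mem_span_singleton.mp hw
      have hee : QuadraticMap.polar (⇑Q) (c • e) e ≠ 0 := by
        rw [QuadraticMap.polar_smul_left, QuadraticMap.polar_self, he]
        simpa [h2] using fun h : c = 0 => hw0 (by rw [h, zero_smul])
      exact ⟨⟨e, Submodule.mem_span_singleton_self e, by rwa [QuadraticMap.polar_comm]⟩,
        e, Submodule.mem_span_singleton_self e, hee⟩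
    obtain ⟨hc', hnd'⟩ := Cfsg.Lib.Classical.Refl.nondeg_perp Q hQ hend
    have hs' := Submodule.finrank_add_eq_of_isCompl hc'
    rw [hV, finrank_span_singleton he0] at hs'
    obtain ⟨ha, hb⟩ := hne (X := HypQuad.perp Q (Submodule.span F {e})) (by omega) (by omega)
    exact Or.inr ⟨_, ha, ⟨m, by omega⟩, hnd', fun h => by omega, hmem ha hb (perp_invariant Q hQ hH.1.le heinv)⟩
  · obtain ⟨ha, hb⟩ := hne hX0 hXlt
    exact Or.inr ⟨X, ha, hXev, hXnd, hex, hmem ha hb hXinv⟩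

include hQ in
/-- The maximal subgroups of `Ω` in degree nine. -/
theorem omega_nine (h9 : Fintype.card ι = 9) (hoddq : Odd (Fintype.card F))
    (hdisc : (gramMatrix (QuadraticMap.polar (⇑Q))).det = 2 ∨ (gramMatrix (QuadraticMap.polar (⇑Q))).det = -2)
    {H : Subgroup (GL ι F)} (hH : IsMaximalIn (omegaGL (⇑Q)) H) :
    (∃ W : Submodule F (ι → F), W ≠ ⊥ ∧ IsTotallySingularQuad (⇑Q) W ∧
      H = subspaceStabilizer W ⊓ omegaGL (⇑Q)) ∨
    (∃ W : Submodule F (ι → F), W ≠ ⊥ ∧ Even (Module.finrank F W) ∧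
      IsNondegenerateOn (QuadraticMap.polar (⇑Q)) W ∧
      ¬ (Fintype.card F = 3 ∧ Module.finrank F W = 2 ∧ IsPlusTypeOn (⇑Q) W) ∧
      H = subspaceStabilizer W ⊓ omegaGL (⇑Q)) ∨
    ((Fintype.card F).Prime ∧ ∃ D : Fin 9 → Submodule F (ι → F), IsOrthogonalMDecomposition (⇑Q) 1 D ∧
      H = decompositionStabilizer D ⊓ omegaGL (⇑Q)) ∨
    (5 ≤ Fintype.card F ∧ ∃ D : Fin 3 → Submodule F (ι → F), IsOrthogonalMDecomposition (⇑Q) 3 D ∧
      H = decompositionStabilizer D ⊓ omegaGL (⇑Q)) ∨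
    (∃ K : Subalgebra F (Matrix ι ι F), IsFieldSubalgebra 3 K ∧ IsSelfAdjointFor (QuadraticMap.polar (⇑Q)) K ∧
      H = subalgebraNormalizer K ⊓ omegaGL (⇑Q)) ∨
    (∃ (F₀ : Subfield F) (r : ℕ) (P : GL ι F), r.Prime ∧ Fintype.card F = Nat.card F₀ ^ r ∧
      IsQuadFormRationalStructure (⇑Q) F₀ P ∧ H = subfieldSubgroup F₀ P ⊓ omegaGL (⇑Q)) ∨
    (5 ≤ Fintype.card F ∧ ∃ (e : ι ≃ (Fin 2 → Fin 3)) (P : GL ι F) (f₁ : (Fin 3 → F) → (Fin 3 → F) → F),
      IsSymmetricForm f₁ ∧ IsTensorPowerFormStructure id (QuadraticMap.polar (⇑Q)) f₁ e P ∧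
      H = tensorWreathSubgroup 3 2 e P ⊓ omegaGL (⇑Q)) ∨
    InOrthogonalResidualClass H := by
  classical
  have h2 : (2 : F) ≠ 0 := Cfsg.Lib.Classical.Refl.two_ne_zero_of_odd hoddq
  have hq : Fintype.card F ≠ 3 → 5 ≤ Fintype.card F := fun h => by
    have : 1 < Fintype.card F := Fintype.one_lt_card
    rw [Nat.odd_iff] at hoddq
    omega
  haveI : Nonempty ι := Fintype.card_pos_iff.mp (by omega)
  have hiso : ∀ g ∈ H, ∀ x, Q ((g : Matrix ι ι F) *ᵥ x) = Q x := fun g hg => omega_preserves' Q (hH.1.le hg)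
  by_cases hW : ∃ W : Submodule F (ι → F), W ≠ ⊥ ∧ W ≠ ⊤ ∧ Invariant H W
  · obtain ⟨W, h0, h1, hinv⟩ := hW
    rcases omega_reducible_cases Q hQ (m := 4) h9 (by norm_num) h2 hH h0 h1 hinv with h | h
    · exact Or.inl h
    · exact Or.inr (Or.inl h)
  push Not at hW
  have hirr : ActsIrreducibly (matrixSet H) := (irreducible_iff H).mpr fun W hinv =>
    or_iff_not_imp_left.mpr fun h0 => by_contra fun h1 => hW W h0 h1 hinv
  have hsub : ∀ {W : Submodule F (ι → F)}, W ≠ ⊥ → W ≠ ⊤ → H ≤ subspaceStabilizer W → False :=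
    fun {W} h0 h1 hle => hW W h0 h1 fun g hg w hw => (hle hg w).mp hw
  have hframe : ∀ {D : Fin 9 → Submodule F (ι → F)}, (Fintype.card F).Prime →
      IsOrthogonalMDecomposition (⇑Q) 1 D → H ≤ decompositionStabilizer D →
      H = decompositionStabilizer D ⊓ omegaGL (⇑Q) := fun {D} _ hD hle =>
    eq_inf_of_maximal hH hle (omega_not_le_decomposition Q hQ h2 (by omega) hD.decomp)
  rcases orth_structure Q hQ (m := 4) h9 h2 hiso hdisc (by norm_num) with ⟨M, hM, hle⟩ | hres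
  swap
  · exact Or.inr (Or.inr (Or.inr (Or.inr (Or.inr (Or.inr (Or.inr hres))))))
  cases hM with
  | singular W h0 hs =>
    refine (hsub h0 (fun e => ?_) hle).elim
    subst e
    obtain ⟨z, -, hz⟩ := exists_perp_norm_one Q (by omega) hQ 0
    exact one_ne_zero (hz.symm.trans (hs z Submodule.mem_top))
  | nondeg W h0 h1 hn => exact (hsub h0 h1 hle).elim
  | decomp t k D hk hmul hD =>
    have h2t := hD.decomp.decomp.two_le
    rw [h9] at hmul
    have hk4 : k ≤ 4 := by nlinarith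
    obtain rfl : k = 3 := by interval_cases k <;> omega
    obtain rfl : t = 3 := by omega
    by_cases h3 : Fintype.card F = 3
    · obtain ⟨D', hD', hle'⟩ := frame_of_threes Q h3 hQ hD hiso hle
      have hp : (Fintype.card F).Prime := h3 ▸ Nat.prime_three
      have hiD := isometric_of_irreducible Q hQ hiso hirr hD' hle'
      exact Or.inr (Or.inr (Or.inl ⟨hp, D', hiD, hframe hp hiD hle'⟩))
    · exact Or.inr (Or.inr (Or.inr (Or.inl ⟨hq h3, D, hD,
        eq_inf_of_maximal hH hle (omega_not_le_blocks Q hQ h2 (by omega) le_rfl hD.decomp.decomp)⟩)))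
  | frame t D hp hmul hD =>
    rw [h9] at hmul
    subst hmul
    exact Or.inr (Or.inr (Or.inl ⟨hp, D, hD, hframe hp hD hle⟩))
  | field r K hr hdvd hne hK hs =>
    rw [h9] at hdvd
    obtain rfl : r = 3 := by
      have h3 : r ∣ 3 ^ 2 := by norm_num; exact hdvd
      exact (Nat.prime_dvd_prime_iff_eq hr Nat.prime_three).mp (hr.dvd_of_dvd_pow h3)
    exact Or.inr (Or.inr (Or.inr (Or.inr (Or.inl ⟨K, hK, hs,
      eq_inf_of_maximal hH hle (omega_not_le_field Q hQ h2 (by omega) (by norm_num) hK)⟩))))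
  | tensor n₁ n₂ e P f₁ f₂ h3 h12 hmul h1 hf2 hs =>
    rw [h9] at hmul
    nlinarith
  | subfield F₀ r P hr hc hs =>
    have hne : F₀ ≠ ⊤ := fun h => by
      rw [h, Nat.card_congr Subfield.topEquiv.toEquiv, Nat.card_eq_fintype_card] at hc
      have h1 : Fintype.card F < Fintype.card F ^ r := lt_self_pow₀ Fintype.one_lt_card hr.one_lt
      omega
    exact Or.inr (Or.inr (Or.inr (Or.inr (Or.inr (Or.inl ⟨F₀, r, P, hr, hc, hs,
      eq_inf_of_maximal hH hle (omega_not_le_subfieldSubgroup Q hQ h2 (by omega) hne P)⟩)))))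
  | wreath k t e P f₁ h3 ht hex hmul h1 hs =>
    rw [h9] at hmul
    have hkk : k ^ 2 ≤ 9 := hmul ▸ Nat.pow_le_pow_right (by omega) ht
    obtain rfl : k = 3 := by nlinarith
    obtain rfl : t = 2 := Nat.pow_right_injective (by norm_num : 2 ≤ 3) (hmul.trans (by norm_num))
    exact Or.inr (Or.inr (Or.inr (Or.inr (Or.inr (Or.inr (Or.inl ⟨hq fun h => hex ⟨h, rfl⟩, e, P, f₁, h1, hs,
      eq_inf_of_maximal hH hle (omega_not_le_wreath_two Q hQ h2 (by omega) le_rfl e P)⟩))))))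

end Cfsg.Lib.Classical.Aschbacher
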