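import Mathlib

/-! Congruence of symmetric matrices over finite fields of odd order. -/

set_option autoImplicit false
set_option linter.unusedSimpArgs false
set_option linter.unusedSectionVars false

namespace Cfsg.Lib.Classical.SymmCongr

open Matrix

universe u

variable {F : Type u} [Field F] {κ : Type} [Fintype κ] [DecidableEq κ]

theorem congr_det_ne {A X : Matrix κ κ F} (hA : A.det ≠ 0) (hX : X.det ≠ 0) : (Aᵀ * X * A).det ≠ 0 := by
  rw [det_mul, det_mul, det_transpose]; exact mul_ne_zero (mul_ne_zero hA hX) hA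

theorem exists_diagonal (h2 : (2 : F) ≠ 0) {X : Matrix κ κ F} (hs : Xᵀ = X) :
    ∃ (A : Matrix κ κ F) (a : κ → F), A.det ≠ 0 ∧ Aᵀ * X * A = diagonal a := by
  classical
  haveI : Invertible (2 : F) := invertibleOfNonzero h2
  let B : LinearMap.BilinForm F (κ → F) := Matrix.toBilin' X
  have hB : LinearMap.IsSymm B := ⟨fun x y => by
    simp only [B, Matrix.toBilin'_apply', RingHom.id_apply]
    rw [dotProduct_mulVec, ← mulVec_transpose, hs, dotProduct_comm]⟩
  obtain ⟨e, he⟩ := LinearMap.BilinForm.exists_orthogonal_basis hB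
  let ix : κ ≃ Fin (Module.finrank F (κ → F)) := Fintype.equivFinOfCardEq
    (Module.finrank_fintype_fun_eq_card F).symm
  let e' := e.reindex ix.symm
  have h1 := LinearMap.BilinForm.toMatrix_mul_basis_toMatrix (Pi.basisFun F κ) (B := B) e'
  refine ⟨(Pi.basisFun F κ).toMatrix e', fun i => B (e' i) (e' i), ?_, ?_⟩
  · have := congrArg Matrix.det (Module.Basis.toMatrix_mul_toMatrix_flip (Pi.basisFun F κ) e')
    rw [det_mul, det_one] at this
    exact left_ne_zero_of_mul (this ▸ one_ne_zero)
  · have hX : LinearMap.BilinForm.toMatrix (Pi.basisFun F κ) B = X := by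
      ext i j
      rw [LinearMap.BilinForm.toMatrix_apply]
      simp [B, Matrix.toBilin'_single]
    rw [hX] at h1
    rw [h1]
    ext i j
    rw [LinearMap.BilinForm.toMatrix_apply, diagonal_apply]
    split_ifs with h
    · rw [h]
    · simp only [e', Module.Basis.reindex_apply, Equiv.symm_symm]
      exact he fun h' => h (ix.injective h')

/-- Two entries of a diagonal form can be replaced by their product and one. -/
theorem merge [Fintype F] (h2 : (2 : F) ≠ 0) {a : κ → F} (ha : ∀ i, a i ≠ 0) {i₀ i : κ} (hne : i ≠ i₀) :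
    ∃ A : Matrix κ κ F, A.det ≠ 0 ∧
      Aᵀ * diagonal a * A = diagonal (Function.update (Function.update a i 1) i₀ (a i₀ * a i)) := by
  classical
  obtain ⟨x, y, hxy⟩ : ∃ x y : F, a i₀ * x ^ 2 + a i * y ^ 2 = 1 := by
    obtain ⟨x, y, h⟩ := FiniteField.exists_root_sum_quadratic
      (f := Polynomial.C (a i₀) * Polynomial.X ^ 2) (g := Polynomial.C (a i) * Polynomial.X ^ 2 - Polynomial.C 1)
      (Polynomial.degree_C_mul_X_pow 2 (ha i₀))
      (by rw [Polynomial.degree_sub_C (by rw [Polynomial.degree_C_mul_X_pow 2 (ha i)]; norm_num)]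
          exact Polynomial.degree_C_mul_X_pow 2 (ha i))
      (FiniteField.odd_card_of_char_ne_two fun h => by
        haveI : CharP F 2 := ringChar.of_eq h
        exact h2 (CharP.cast_eq_zero F 2))
    simp only [Polynomial.eval_mul, Polynomial.eval_C, Polynomial.eval_pow, Polynomial.eval_X,
      Polynomial.eval_sub] at h
    exact ⟨x, y, by linear_combination h⟩
  let A : Matrix κ κ F := Matrix.of fun l j =>
    if j = i₀ then (if l = i₀ then -(a i) * y else if l = i then a i₀ * x else 0)
    else if j = i then (if l = i₀ then x else if l = i then y else 0)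
    else if l = j then 1 else 0
  set b := Function.update (Function.update a i 1) i₀ (a i₀ * a i) with hb
  have hprod : Aᵀ * diagonal a * A = diagonal b := by
    ext j k
    rw [Matrix.mul_apply]
    simp only [Matrix.mul_diagonal, transpose_apply]
    have hsum : ∀ l, l ≠ i₀ → l ≠ i → A l j * a l * A l k = if l = j ∧ l = k then a l else 0 := by
      intro l h0 hi
      simp only [A, Matrix.of_apply, if_neg h0, if_neg hi]
      by_cases h1 : l = j
      · subst h1
        by_cases h2' : l = k
        · subst h2'; simp [h0, hi]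
        · simp only [if_neg h0, if_neg hi, if_pos rfl, h2', and_false, if_false]
          split_ifs <;> simp
      · simp only [h1, false_and, if_false]
        split_ifs <;> simp
    rw [← Finset.add_sum_erase _ _ (Finset.mem_univ i₀),
      ← Finset.add_sum_erase _ _ (Finset.mem_erase.mpr ⟨hne, Finset.mem_univ i⟩),
      Finset.sum_congr rfl fun l hl => hsum l (Finset.ne_of_mem_erase (Finset.mem_of_mem_erase hl))
        (Finset.ne_of_mem_erase hl)]
    by_cases hjk : j = k
    · subst hjk
      rw [diagonal_apply_eq]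
      by_cases hj0 : j = i₀
      · subst hj0
        rw [Finset.sum_eq_zero fun l hl => if_neg fun h =>
          Finset.ne_of_mem_erase (Finset.mem_of_mem_erase hl) h.1]
        simp [A, hb, hne]
        linear_combination (a j * a i) * hxy
      · by_cases hji : j = i
        · subst hji
          rw [Finset.sum_eq_zero fun l hl => if_neg fun h => Finset.ne_of_mem_erase hl h.1]
          simp [A, hb, hne]
          linear_combination hxy
        · rw [Finset.sum_eq_single j (fun l _ hl => if_neg fun h => hl h.1)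
            (fun h => absurd (Finset.mem_erase.mpr ⟨hji, Finset.mem_erase.mpr ⟨hj0, Finset.mem_univ j⟩⟩) h)]
          simp [A, hb, hj0, hji, Ne.symm hj0, Ne.symm hji]
    · rw [diagonal_apply_ne _ hjk, Finset.sum_eq_zero fun l _ => if_neg fun h => hjk (h.1.symm.trans h.2)]
      simp only [A, Matrix.of_apply, if_pos rfl, if_neg hne, add_zero]
      split_ifs <;> first
        | (exfalso; apply hjk; simp_all; done)
        | (ring; done)
        | simp_all
  refine ⟨A, fun h0 => ?_, hprod⟩
  have := congrArg Matrix.det hprod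
  rw [det_mul, h0, mul_zero, det_diagonal, eq_comm, Finset.prod_eq_zero_iff] at this
  obtain ⟨l, -, hl⟩ := this
  simp only [hb, Function.update_apply] at hl
  split_ifs at hl
  · exact mul_ne_zero (ha i₀) (ha i) hl
  · exact one_ne_zero hl
  · exact ha l hl

theorem exists_normal_aux [Fintype F] (h2 : (2 : F) ≠ 0) (i₀ : κ) : ∀ (s : Finset κ), i₀ ∉ s →
    ∀ a : κ → F, (∀ i, a i ≠ 0) → (∀ i, i ≠ i₀ → i ∉ s → a i = 1) →
      ∃ (A : Matrix κ κ F) (δ : F), A.det ≠ 0 ∧ Aᵀ * diagonal a * A = diagonal (Function.update (fun _ => 1) i₀ δ) := by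
  intro s
  induction s using Finset.induction_on with
  | empty =>
    intro _ a ha h1
    refine ⟨1, a i₀, by rw [det_one]; exact one_ne_zero, ?_⟩
    rw [transpose_one, Matrix.one_mul, Matrix.mul_one]
    congr 1
    funext i
    by_cases h : i = i₀
    · subst h; simp
    · rw [Function.update_of_ne h, h1 i h (Finset.notMem_empty i)]
  | insert i s hi ih =>
    intro hn a ha h1
    rw [Finset.mem_insert, not_or] at hn
    obtain ⟨A, hA, hAe⟩ := merge h2 ha (i₀ := i₀) (i := i) (Ne.symm hn.1)
    obtain ⟨B, δ, hB, hBe⟩ := ih hn.2 (Function.update (Function.update a i 1) i₀ (a i₀ * a i))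
      (fun l => by
        simp only [Function.update_apply]
        split_ifs
        exacts [mul_ne_zero (ha i₀) (ha i), one_ne_zero, ha l])
      (fun l hl hls => by
        rw [Function.update_of_ne hl]
        by_cases h : l = i
        · subst h; simp
        · rw [Function.update_of_ne h]; exact h1 l hl (by simp [h, hls]))
    refine ⟨A * B, δ, by rw [det_mul]; exact mul_ne_zero hA hB, ?_⟩
    rw [← hBe, ← hAe, transpose_mul]
    simp only [Matrix.mul_assoc]

/-- The normal form of a symmetric matrix. -/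
theorem exists_normal [Fintype F] (h2 : (2 : F) ≠ 0) (i₀ : κ) {X : Matrix κ κ F} (hX : X.det ≠ 0) (hs : Xᵀ = X) :
    ∃ (A : Matrix κ κ F) (δ : F), A.det ≠ 0 ∧ Aᵀ * X * A = diagonal (Function.update (fun _ => 1) i₀ δ) := by
  obtain ⟨A, a, hA, hAe⟩ := exists_diagonal h2 hs
  have ha : ∀ i, a i ≠ 0 := fun i => by
    have h := congr_det_ne hA hX
    rw [hAe, det_diagonal] at h
    exact Finset.prod_ne_zero_iff.mp h i (Finset.mem_univ i)
  obtain ⟨B, δ, hB, hBe⟩ := exists_normal_aux h2 i₀ (Finset.univ.erase i₀) (by simp) a ha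
    (fun i hi hni => absurd (by simp [hi] : i ∈ Finset.univ.erase i₀) hni)
  exact ⟨A * B, δ, by rw [det_mul]; exact mul_ne_zero hA hB, by
    rw [← hBe, ← hAe, transpose_mul]; simp only [Matrix.mul_assoc]⟩

theorem det_normal (i₀ : κ) (δ : F) : (diagonal (Function.update (fun _ : κ => (1 : F)) i₀ δ)).det = δ := by
  rw [det_diagonal, ← Finset.mul_prod_erase _ _ (Finset.mem_univ i₀), Function.update_self,
    Finset.prod_eq_one fun l hl => Function.update_of_ne (Finset.ne_of_mem_erase hl) δ (fun _ => (1 : F)), mul_one]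

/-- Symmetric matrices with the same discriminant are congruent. -/
theorem exists_congr [Fintype F] (h2 : (2 : F) ≠ 0) {X Y : Matrix κ κ F} (hX : X.det ≠ 0) (hXs : Xᵀ = X)
    (hY : Y.det ≠ 0) (hYs : Yᵀ = Y) (hd : IsSquare (X.det / Y.det)) :
    ∃ A : Matrix κ κ F, A.det ≠ 0 ∧ Aᵀ * X * A = Y := by
  classical
  cases isEmpty_or_nonempty κ with
  | inl h => exact ⟨1, by simp, Matrix.ext fun i => h.elim i⟩
  | inr h =>
    obtain ⟨i₀⟩ := h
    obtain ⟨A, δ, hA, hAe⟩ := exists_normal h2 i₀ hX hXs
    obtain ⟨B, ε, hB, hBe⟩ := exists_normal h2 i₀ hY hYs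
    have eA := congrArg Matrix.det hAe
    have eB := congrArg Matrix.det hBe
    rw [det_mul, det_mul, det_transpose, det_normal] at eA eB
    obtain ⟨s, hs⟩ := hd
    rw [div_eq_iff hY] at hs
    have hs0 : s ≠ 0 := fun e => hX (by rw [hs, e, zero_mul, zero_mul])
    obtain ⟨t, ht⟩ : ∃ t, t = B.det / (A.det * s) := ⟨_, rfl⟩
    have ht0 : t ≠ 0 := ht ▸ div_ne_zero hB (mul_ne_zero hA hs0)
    let T : Matrix κ κ F := diagonal (Function.update (fun _ : κ => (1 : F)) i₀ t)
    have hT : Tᵀ * diagonal (Function.update (fun _ : κ => (1 : F)) i₀ δ) * T =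
        diagonal (Function.update (fun _ : κ => (1 : F)) i₀ ε) := by
      rw [diagonal_transpose, diagonal_mul_diagonal, diagonal_mul_diagonal]
      congr 1
      funext l
      by_cases hl : l = i₀
      · subst hl
        simp only [Function.update_self]
        rw [← eA, ← eB, hs, ht]
        field_simp
      · simp only [Function.update_of_ne hl, mul_one]
    refine ⟨A * T * B⁻¹, ?_, ?_⟩
    · rw [det_mul, det_mul, det_normal, det_nonsing_inv, Ring.inverse_eq_inv']
      exact mul_ne_zero (mul_ne_zero hA ht0) (inv_ne_zero hB)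
    · have hBu : IsUnit B.det := isUnit_iff_ne_zero.mpr hB
      calc (A * T * B⁻¹)ᵀ * X * (A * T * B⁻¹) = (B⁻¹)ᵀ * (Tᵀ * (Aᵀ * X * A) * T) * B⁻¹ := by
            simp only [transpose_mul, Matrix.mul_assoc]
        _ = (B * B⁻¹)ᵀ * Y * (B * B⁻¹) := by
            rw [hAe, hT, ← hBe, transpose_mul]
            simp only [Matrix.mul_assoc]
        _ = Y := by rw [Matrix.mul_nonsing_inv _ hBu, transpose_one, Matrix.one_mul, Matrix.mul_one]

/-- In odd degree symmetric matrices are congruent up to a scalar. -/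
theorem exists_congr_smul [Fintype F] (h2 : (2 : F) ≠ 0) (hodd : Odd (Fintype.card κ)) {X Y : Matrix κ κ F}
    (hX : X.det ≠ 0) (hXs : Xᵀ = X) (hY : Y.det ≠ 0) (hYs : Yᵀ = Y) :
    ∃ (A : Matrix κ κ F) (c : F), A.det ≠ 0 ∧ c ≠ 0 ∧ Aᵀ * X * A = c • Y := by
  have hc : X.det / Y.det ≠ 0 := div_ne_zero hX hY
  obtain ⟨j, hj⟩ := hodd
  obtain ⟨A, hA, hAe⟩ := exists_congr h2 hX hXs (Y := (X.det / Y.det) • Y)
    (by rw [det_smul]; exact mul_ne_zero (pow_ne_zero _ hc) hY) (by rw [transpose_smul, hYs]) (by
      refine ⟨((X.det / Y.det) ^ j)⁻¹, ?_⟩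
      rw [det_smul, hj, pow_succ, two_mul, pow_add]
      field_simp)
  exact ⟨A, _, hA, hc, hAe⟩

end Cfsg.Lib.Classical.SymmCongr
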