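import Cfsg.Agent.Classical.Aschbacher.SympMax
import Mathlib.LinearAlgebra.QuadraticForm.Basic

/-! Small exceptions among the classes of the symplectic groups. -/

set_option autoImplicit false
set_option linter.unusedSimpArgs false
set_option linter.unusedSectionVars false
set_option linter.style.haveILetI false

namespace Cfsg.Lib.Classical.Aschbacher

open Matrix Cfsg.Geo
open scoped MatrixGroups Kronecker
open Cfsg.Lib.Classical.PrimeDim (val_inv_mul val_mul_inv finrank_pi_card gl_det_ne_zero IsSesq)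

universe u

variable {m : ℕ} {F : Type u} [Field F]

/-- Non-degenerate subspaces have even dimension. -/
theorem even_finrank_nondeg {W : Submodule F (Fin m ⊕ Fin m → F)}
    (hW : IsNondegenerateOn (Cfsg.sympForm m F) W) : Even (Module.finrank F W) := by
  have e : ∀ u v, Cfsg.Lib.Classical.sympBilin m F u v = Cfsg.sympForm m F u v :=
    Cfsg.Lib.Classical.sympBilin_eq_sympForm
  refine Cfsg.Lib.Classical.even_finrank_of_symplectic (B := (Cfsg.Lib.Classical.sympBilin m F).restrict W)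
    (fun v => Cfsg.Lib.Classical.sympBilin_isAlt m F v) ⟨fun v hv => ?_, fun v hv => ?_⟩
  · by_contra h0
    obtain ⟨x, hx, hne⟩ := (hW v v.2 (fun e0 => h0 (Subtype.ext e0))).2
    exact hne ((e _ _).symm.trans (hv ⟨x, hx⟩))
  · by_contra h0
    obtain ⟨x, hx, hne⟩ := (hW v v.2 (fun e0 => h0 (Subtype.ext e0))).1
    exact hne ((e _ _).symm.trans (hv ⟨x, hx⟩))

variable [Fintype F]

/-- Planes over two elements carry a quadratic form. -/
theorem quadratic_of_planes (hF : Fintype.card F = 2) {t : ℕ} {D : Fin t → Submodule F (Fin m ⊕ Fin m → F)}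
    (hD : IsNondegenerateMDecomposition (Cfsg.sympForm m F) 2 D) {H : Subgroup (GL (Fin m ⊕ Fin m) F)}
    (hH : H ≤ Cfsg.spGL m F) (hle : H ≤ decompositionStabilizer D) :
    ∃ M, SpMember m F M ∧ H ≤ M ∧
      ∃ Q : (Fin m ⊕ Fin m → F) → F, M = quadSimilarityGroup Q ∧ IsNondegenerateQuadraticForm Q ∧
        ∀ u v, QuadraticMap.polar Q u v = Cfsg.sympForm m F u v := by
  classical
  have hf := sp_refl m F
  have hne : ¬ Odd (Fintype.card F) := by rw [hF]; decide
  have h2 : (2 : F) = 0 := by_contra fun h => hne (odd_card_iff.mpr h)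
  have hF2 : ∀ a : F, a = 0 ∨ a = 1 := by
    intro a
    by_contra h
    push Not at h
    have := Finset.card_le_univ ({0, 1, a} : Finset F)
    rw [Finset.card_insert_of_notMem (by simp [h.1.symm]), Finset.card_pair h.2.symm, hF] at this
    omega
  have hint : DirectSum.IsInternal D :=
    DirectSum.isInternal_submodule_of_iSupIndep_of_iSup_eq_top hD.decomp.indep hD.decomp.iSup_eq_top
  let e : (∀ i, D i) ≃ₗ[F] (Fin m ⊕ Fin m → F) :=
    (DirectSum.linearEquivFunOnFintype F (Fin t) (fun i => D i)).symm.trans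
      (LinearEquiv.ofBijective (DirectSum.coeLinearMap D) hint)
  have he : ∀ x : ∀ i, D i, e x = ∑ i, (x i : Fin m ⊕ Fin m → F) := fun x => by
    show (DirectSum.coeLinearMap D) ((DirectSum.linearEquivFunOnFintype F (Fin t) (fun i => D i)).symm x) = _
    rw [DirectSum.coeLinearMap_eq_dfinsuppSum, DFinsupp.sum_eq_sum_fintype]
    · exact Finset.sum_congr rfl fun i _ => rfl
    · exact fun i => rfl
  let q : (Fin m ⊕ Fin m → F) → F := fun w => if w = 0 then 0 else 1
  let Q : (Fin m ⊕ Fin m → F) → F := fun v => ∑ i, q (e.symm v i : Fin m ⊕ Fin m → F)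
  have hone : ∀ i, ∀ u ∈ D i, ∀ w ∈ D i, u ≠ 0 → w ≠ 0 → u ≠ w → Cfsg.sympForm m F u w = 1 := by
    intro i u hu w hw hu0 hw0 huw
    refine (hF2 _).resolve_left fun h0 => ?_
    have hspan : Submodule.span F {u, w} = D i := by
      refine Submodule.eq_of_le_of_finrank_le ?_ ?_
      · rw [Submodule.span_le]; simp [Set.insert_subset_iff, hu, hw]
      rw [hD.decomp.finrank_eq i]
      have hli : LinearIndependent F ![u, w] := by
        rw [LinearIndependent.pair_iff' hu0]
        intro a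
        rcases hF2 a with rfl | rfl
        · simpa using hw0.symm
        · simpa using huw
      have := finrank_span_eq_card hli
      rw [Fintype.card_fin, Matrix.range_cons, Matrix.range_cons, Matrix.range_empty, Set.union_empty] at this
      rw [show ({u, w} : Set (Fin m ⊕ Fin m → F)) = {u} ∪ {w} from Set.insert_eq u {w}, this]
    obtain ⟨⟨x, hx, hne'⟩, -⟩ := hD.nondegenerate i u hu hu0
    rw [← hspan, Submodule.mem_span_pair] at hx
    obtain ⟨a, b, rfl⟩ := hx
    exact hne' (by rw [hf.add_left, hf.smul_left, hf.smul_left, sympForm_self, hf.eq_zero_symm h0, mul_zero, mul_zero,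
      add_zero])
  have hqp : ∀ i, ∀ u ∈ D i, ∀ w ∈ D i, q (u + w) - q u - q w = Cfsg.sympForm m F u w := by
    intro i u hu w hw
    by_cases hu0 : u = 0
    · subst hu0; simp [q, hf.zero_left]
    by_cases hw0 : w = 0
    · subst hw0; simp [q, hf.zero_right]
    by_cases huw : u = w
    · subst huw
      have : u + u = 0 := by rw [← two_smul F u, h2, zero_smul]
      simp [q, this, hu0, sympForm_self]
      linear_combination -h2
    have hs : u + w ≠ 0 := fun e0 => huw (by
      rw [eq_neg_of_add_eq_zero_left e0]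
      rw [neg_eq_iff_add_eq_zero, ← two_smul F w, h2, zero_smul])
    simp only [q, if_neg hu0, if_neg hw0, if_neg hs]
    rw [hone i u hu w hw hu0 hw0 huw]
    linear_combination -h2
  have hforth : ∀ x y : ∀ i, D i, Cfsg.sympForm m F (e x) (e y) =
      ∑ i, Cfsg.sympForm m F (x i : Fin m ⊕ Fin m → F) (y i) := by
    intro x y
    have hl : ∀ (s : Finset (Fin t)) z, Cfsg.sympForm m F (∑ i ∈ s, (x i : Fin m ⊕ Fin m → F)) z =
        ∑ i ∈ s, Cfsg.sympForm m F (x i : Fin m ⊕ Fin m → F) z := fun s z => by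
      induction s using Finset.induction_on with
      | empty => simp [hf.zero_left]
      | insert a s ha ih => rw [Finset.sum_insert ha, Finset.sum_insert ha, hf.left_add, ih]
    have hr : ∀ (s : Finset (Fin t)) z, Cfsg.sympForm m F z (∑ i ∈ s, (y i : Fin m ⊕ Fin m → F)) =
        ∑ i ∈ s, Cfsg.sympForm m F z (y i : Fin m ⊕ Fin m → F) := fun s z => by
      induction s using Finset.induction_on with
      | empty => simp [hf.zero_right]
      | insert a s ha ih => rw [Finset.sum_insert ha, Finset.sum_insert ha, hf.add_right, ih]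
    rw [he, he, hl]
    refine Finset.sum_congr rfl fun i _ => ?_
    rw [hr, Finset.sum_eq_single i (fun j _ hji => hD.orthogonal i j (Ne.symm hji) _ (x i).2 _ (y j).2) (by simp)]
  have hpol : ∀ u v, QuadraticMap.polar Q u v = Cfsg.sympForm m F u v := fun u v => by
    conv_rhs => rw [← e.apply_symm_apply u, ← e.apply_symm_apply v, hforth]
    simp only [QuadraticMap.polar, Q, map_add, Pi.add_apply, Submodule.coe_add, ← Finset.sum_sub_distrib]
    exact Finset.sum_congr rfl fun i _ => hqp i _ (e.symm u i).2 _ (e.symm v i).2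
  have hp2 : QuadraticMap.polar Q = Cfsg.sympForm m F := funext fun u => funext fun v => hpol u v
  have hsmul : ∀ (a : F) v, Q (a • v) = a ^ 2 * Q v := fun a v => by
    rcases hF2 a with rfl | rfl
    · simp [Q, q]
    · simp
  have hQ : IsNondegenerateQuadraticForm Q :=
    ⟨hsmul, hp2 ▸ (sympForm_isSymplectic m F).bilinear, hp2 ▸ hf.nondegenerate⟩
  refine ⟨_, .quadratic Q hne hQ hpol, fun h hh => ⟨1, fun v => ?_⟩, Q, rfl, hQ, hpol⟩
  rw [Units.val_one, one_mul]
  obtain ⟨π, hπ⟩ := hle hh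
  set x := e.symm v
  let y : ∀ i, D i := fun i => ⟨(h : Matrix (Fin m ⊕ Fin m) (Fin m ⊕ Fin m) F) *ᵥ (x (π.symm i) : Fin m ⊕ Fin m → F), by
    have := hπ (π.symm i)
    rw [Equiv.apply_symm_apply] at this
    rw [← this]
    exact ⟨(x (π.symm i) : Fin m ⊕ Fin m → F), (x (π.symm i)).2, Matrix.toLin'_apply _ _⟩⟩
  have hy : e.symm ((h : Matrix (Fin m ⊕ Fin m) (Fin m ⊕ Fin m) F) *ᵥ v) = y := by
    rw [LinearEquiv.symm_apply_eq, he]
    conv_lhs => rw [← e.apply_symm_apply v, he, Matrix.mulVec_sum]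
    exact (Equiv.sum_comp π.symm fun i => (h : Matrix (Fin m ⊕ Fin m) (Fin m ⊕ Fin m) F) *ᵥ
      (x i : Fin m ⊕ Fin m → F)).symm
  simp only [Q, hy]
  rw [← Equiv.sum_comp π.symm fun i => q (x i : Fin m ⊕ Fin m → F)]
  refine Finset.sum_congr rfl fun i _ => ?_
  show q ((h : Matrix (Fin m ⊕ Fin m) (Fin m ⊕ Fin m) F) *ᵥ (x (π.symm i) : Fin m ⊕ Fin m → F)) = _
  by_cases h0 : (x (π.symm i) : Fin m ⊕ Fin m → F) = 0
  · simp [q, h0]
  · simp only [q, if_neg h0, if_neg (Cfsg.Lib.Classical.PrimeDim.gl_mulVec_ne_zero h h0)]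

/-- Elements of a tensor member are pairs of similitudes. -/
theorem tensor_member_split [Nonempty (Fin m ⊕ Fin m)] {n₁ n₂ : ℕ} {e : (Fin m ⊕ Fin m) ≃ Fin n₁ × Fin n₂} {P : GL (Fin m ⊕ Fin m) F}
    {f₁ : (Fin n₁ → F) → (Fin n₁ → F) → F} {f₂ : (Fin n₂ → F) → (Fin n₂ → F) → F}
    (h1 : (gramMatrix f₁).det ≠ 0) (h2 : (gramMatrix f₂).det ≠ 0)
    (hs : IsTensorFormStructure id (Cfsg.sympForm m F) f₁ f₂ e P) :
    ∃ (Φ : Matrix (Fin m ⊕ Fin m) (Fin n₁ × Fin n₂) F) (Ψ : Matrix (Fin n₁ × Fin n₂) (Fin m ⊕ Fin m) F) (c : F),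
      c ≠ 0 ∧ Coords Φ Ψ ∧
      (∀ x y, Cfsg.sympForm m F (Φ *ᵥ x) (Φ *ᵥ y) = c * (x ⬝ᵥ ((gramMatrix f₁ ⊗ₖ gramMatrix f₂) *ᵥ y))) ∧
      ∀ h ∈ tensorProductSubgroup n₁ n₂ e P ⊓ Cfsg.spGL m F, ∃ (a : GL (Fin n₁) F) (b : GL (Fin n₂) F) (s : F), s ≠ 0 ∧
        Ψ * (h : Matrix (Fin m ⊕ Fin m) (Fin m ⊕ Fin m) F) * Φ =
          (a : Matrix (Fin n₁) (Fin n₁) F) ⊗ₖ (b : Matrix (Fin n₂) (Fin n₂) F) ∧
        (b : Matrix (Fin n₂) (Fin n₂) F)ᵀ * gramMatrix f₂ * (b : Matrix (Fin n₂) (Fin n₂) F) = s • gramMatrix f₂ ∧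
        (a : Matrix (Fin n₁) (Fin n₁) F)ᵀ * gramMatrix f₁ * (a : Matrix (Fin n₁) (Fin n₁) F) = s⁻¹ • gramMatrix f₁ := by
  classical
  obtain ⟨c, hc, hcs⟩ := hs
  set G := gramMatrix f₁ ⊗ₖ gramMatrix f₂
  set Φ : Matrix (Fin m ⊕ Fin m) (Fin n₁ × Fin n₂) F :=
    (P : Matrix (Fin m ⊕ Fin m) (Fin m ⊕ Fin m) F).submatrix id e.symm
  set Ψ : Matrix (Fin n₁ × Fin n₂) (Fin m ⊕ Fin m) F :=
    ((P⁻¹ : GL (Fin m ⊕ Fin m) F) : Matrix (Fin m ⊕ Fin m) (Fin m ⊕ Fin m) F).submatrix e.symm id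
  have hco : Coords Φ Ψ := by
    constructor
    · simp only [Φ, Ψ]
      rw [Matrix.submatrix_mul_equiv, val_mul_inv, Matrix.submatrix_id_id]
    · simp only [Φ, Ψ]
      rw [← Matrix.submatrix_mul _ _ e.symm id e.symm Function.bijective_id, val_inv_mul, Matrix.submatrix_one_equiv]
  have hΦ : ∀ x, Φ *ᵥ x = (P : Matrix (Fin m ⊕ Fin m) (Fin m ⊕ Fin m) F) *ᵥ (x ∘ e) := fun x => by
    funext i
    simp only [Φ, Matrix.mulVec, dotProduct, Matrix.submatrix_apply, id, Function.comp_apply]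
    exact Fintype.sum_equiv e.symm _ _ fun j => by simp
  have happ : ∀ x y, Cfsg.sympForm m F (Φ *ᵥ x) (Φ *ᵥ y) = c * (x ⬝ᵥ (G *ᵥ y)) := fun x y => by
    rw [hΦ, hΦ, hcs]
    simp only [formOfGram, dotProduct, Matrix.mulVec, Finset.mul_sum, id, G, mul_assoc]
  refine ⟨Φ, Ψ, c, hc, hco, happ, fun h hh => ?_⟩
  obtain ⟨k, ⟨a, b, hk⟩, hin⟩ := exists_of_mem_conjReindex (K := kroneckerSubgroup n₁ n₂ F) e P h hh.1
  set A := (a : Matrix (Fin n₁) (Fin n₁) F)
  set B := (b : Matrix (Fin n₂) (Fin n₂) F)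
  have hT : Ψ * (h : Matrix (Fin m ⊕ Fin m) (Fin m ⊕ Fin m) F) * Φ = A ⊗ₖ B := by
    rw [← hk, ← hin]
    ext i j
    simp [inCoords, Φ, Ψ, Matrix.mul_apply, Units.val_mul]
  have hfix : (A ⊗ₖ B)ᵀ * G * (A ⊗ₖ B) = G := by
    ext i j
    have h1 := mem_spGL.mp hh.2 (Φ *ᵥ Pi.single i 1) (Φ *ᵥ Pi.single j 1)
    rw [Matrix.mulVec_mulVec, Matrix.mulVec_mulVec, hco.act_of_conj hT, ← Matrix.mulVec_mulVec, ← Matrix.mulVec_mulVec,
      happ, happ] at h1
    have h2 := mul_left_cancel₀ hc h1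
    rw [Matrix.dotProduct_mulVec, ← Matrix.vecMul_transpose, Matrix.vecMul_vecMul, Matrix.dotProduct_mulVec,
      Matrix.vecMul_vecMul, ← Matrix.dotProduct_mulVec] at h2
    simpa [Matrix.mulVec_single_one, single_one_dotProduct] using h2
  rw [kron_transpose, ← Matrix.mul_kronecker_mul, ← Matrix.mul_kronecker_mul] at hfix
  have hne : ∀ {n : ℕ} {X : Matrix (Fin n) (Fin n) F}, 0 < n → X.det ≠ 0 → X ≠ 0 := fun {n X} hn hX e0 => by
    haveI : Nonempty (Fin n) := ⟨⟨0, hn⟩⟩
    exact hX (by rw [e0, Matrix.det_zero])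
  obtain ⟨i₀⟩ := (inferInstance : Nonempty (Fin m ⊕ Fin m))
  obtain ⟨s, hs0, hA, hB⟩ := kron_eq_kron hfix (hne (Fin.pos (e i₀).1) h1) (hne (Fin.pos (e i₀).2) h2)
  exact ⟨a, b, s⁻¹, inv_ne_zero hs0, hT, hB, by rw [inv_inv]; exact hA⟩

theorem three_elts (hF : Fintype.card F = 3) : ∀ x : F, x = 0 ∨ x = 1 ∨ x = -1 := fun x => by
  by_cases hx : x = 0
  · exact Or.inl hx
  · have h := FiniteField.pow_card_sub_one_eq_one x hx
    rw [hF, show 3 - 1 = 2 from rfl] at h
    exact Or.inr (sq_eq_one_iff.mp h)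

theorem three_zero (hF : Fintype.card F = 3) : (3 : F) = 0 := by
  have h4 : ((Fintype.card F : ℕ) : F) = 0 := FiniteField.cast_card_eq_zero F
  rw [hF] at h4
  exact_mod_cast h4

/-- A non-degenerate symmetric pairing in three variables over three elements is a scalar one. -/
theorem congr_scalar_three (hF : Fintype.card F = 3) {G : Matrix (Fin 3) (Fin 3) F} (hG : Gᵀ = G) (hd : G.det ≠ 0) :
    ∃ (B : GL (Fin 3) F) (κ : F), κ ≠ 0 ∧
      (B : Matrix (Fin 3) (Fin 3) F)ᵀ * G * (B : Matrix (Fin 3) (Fin 3) F) = κ • 1 := by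
  classical
  have h2 : (2 : F) ≠ 0 := fun e => one_ne_zero (α := F) (by linear_combination three_zero hF - e)
  haveI := invertibleOfNonzero h2
  have hGs : ∀ i j, G i j = G j i := fun i j => congrFun (congrFun hG j) i
  obtain ⟨v, hv⟩ := LinearMap.BilinForm.exists_orthogonal_basis (B := Matrix.toBilin' G) ⟨fun x y => by
    rw [Matrix.toBilin'_apply', Matrix.toBilin'_apply', Matrix.dotProduct_mulVec, ← Matrix.mulVec_transpose, hG,
      dotProduct_comm]; rfl⟩
  have hn : Module.finrank F (Fin 3 → F) = 3 := by simp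
  let w := v.reindex (finCongr hn)
  let W : Matrix (Fin 3) (Fin 3) F := Matrix.of fun a j => w j a
  have hW : ∀ i j, (Wᵀ * G * W) i j = Matrix.toBilin' G (w i) (w j) := fun i j => by
    rw [Matrix.toBilin'_apply', Matrix.mul_assoc, Matrix.mul_apply]
    simp [W, dotProduct, Matrix.mulVec, Matrix.mul_apply]
  have hWo : ∀ i j, i ≠ j → (Wᵀ * G * W) i j = 0 := fun i j hij => by
    rw [hW]
    simp only [w, Module.Basis.reindex_apply]
    exact hv fun h => hij ((finCongr hn).symm.injective h)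
  have hWd : W.det ≠ 0 := fun h0 => by
    obtain ⟨u, hu, hu'⟩ := Matrix.exists_mulVec_eq_zero_iff.mpr h0
    refine hu (funext fun j => Fintype.linearIndependent_iff.mp w.linearIndependent u ?_ j)
    rw [← hu']
    funext a
    simp [W, Matrix.mulVec, dotProduct, Finset.sum_apply, mul_comm]
  set d : Fin 3 → F := fun i => (Wᵀ * G * W) i i
  have hdiag : Wᵀ * G * W = Matrix.diagonal d := Matrix.ext fun i j => by
    by_cases h : i = j
    · subst h; rw [Matrix.diagonal_apply_eq]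
    · rw [Matrix.diagonal_apply_ne _ h, hWo i j h]
  have hd0 : ∀ i, d i ≠ 0 := fun i e => by
    have h1 := congrArg Matrix.det hdiag
    rw [Matrix.det_mul, Matrix.det_mul, Matrix.det_transpose, Matrix.det_diagonal,
      Finset.prod_eq_zero (Finset.mem_univ i) e] at h1
    exact mul_ne_zero (mul_ne_zero hWd hd) hWd h1
  obtain ⟨i, j, hij, hde⟩ : ∃ i j : Fin 3, i ≠ j ∧ d i = d j := by
    rcases three_elts hF (d 0) with a | a | a <;> rcases three_elts hF (d 1) with b | b | b <;>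
      rcases three_elts hF (d 2) with c | c | c <;>
      first
        | exact absurd a (hd0 0)
        | exact absurd b (hd0 1)
        | exact absurd c (hd0 2)
        | exact ⟨0, 1, by decide, a.trans b.symm⟩
        | exact ⟨0, 2, by decide, a.trans c.symm⟩
        | exact ⟨1, 2, by decide, b.trans c.symm⟩
  obtain ⟨k, hki, hkj⟩ := (show ∀ i j : Fin 3, i ≠ j → ∃ k, k ≠ i ∧ k ≠ j by decide) i j hij
  by_cases hk : d k = d i
  · refine ⟨Matrix.GeneralLinearGroup.mkOfDetNeZero W hWd, d i, hd0 i, ?_⟩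
    show Wᵀ * G * W = _
    rw [hdiag, Matrix.smul_one_eq_diagonal]
    congr 1
    funext l
    rcases eq_or_ne l i with rfl | hl
    · rfl
    rcases eq_or_ne l j with rfl | hl'
    · exact hde.symm
    have : l = k := (show ∀ i j k l : Fin 3, i ≠ j → k ≠ i → k ≠ j → l ≠ i → l ≠ j → l = k by decide) i j k l hij hki hkj hl hl'
    rw [this, hk]
  have hkneg : d k = -d i := by
    rcases three_elts hF (d k) with h | h | h
    · exact absurd h (hd0 k)
    all_goals rcases three_elts hF (d i) with h' | h' | h'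
    all_goals first
      | exact absurd h' (hd0 i)
      | exact absurd (h.trans h'.symm) hk
      | simp [h, h']
  -- replace two equal entries by their opposites
  let S : Matrix (Fin 3) (Fin 3) F := Matrix.of fun a b =>
    if b = k then (if a = k then 1 else 0) else
      if a = k then 0 else if a = i then 1 else if b = i then 1 else -1
  have hS : Sᵀ * Matrix.diagonal d * S = d k • 1 := by
    ext a b
    rw [Matrix.mul_apply, Fin.sum_univ_three]
    simp only [Matrix.mul_diagonal, Matrix.transpose_apply, S, Matrix.of_apply, Matrix.smul_apply, Matrix.one_apply,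
      smul_eq_mul]
    have e3 := three_zero hF
    fin_cases i <;> fin_cases j <;> fin_cases k <;>
      simp_all (config := { decide := true }) <;> fin_cases a <;> fin_cases b <;>
      simp_all (config := { decide := true }) <;>
      first
        | linear_combination (0 : F)
        | linear_combination (d 0) * e3
        | linear_combination (d 1) * e3
        | linear_combination (d 2) * e3
        | linear_combination -(d 0) * e3
        | linear_combination -(d 1) * e3
        | linear_combination -(d 2) * e3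
  have hSd : S.det ≠ 0 := fun h0 => by
    have := congrArg Matrix.det hS
    rw [Matrix.det_mul, h0, mul_zero, Matrix.det_smul, Matrix.det_one, mul_one] at this
    exact pow_ne_zero _ (hd0 k) this.symm
  refine ⟨Matrix.GeneralLinearGroup.mkOfDetNeZero (W * S) (by rw [Matrix.det_mul]; exact mul_ne_zero hWd hSd), d k,
    hd0 k, ?_⟩
  show (W * S)ᵀ * G * (W * S) = _
  rw [← hS, ← hdiag, Matrix.transpose_mul]
  simp only [Matrix.mul_assoc]

/-- Similitudes of the scalar pairing in three variables over three elements are monomial. -/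
theorem monomial_three (hF : Fintype.card F = 3) {b : Matrix (Fin 3) (Fin 3) F} {s : F} (hs : s ≠ 0)
    (hb : bᵀ * b = s • 1) : ∀ j, ∃ i, ∀ l, l ≠ i → b l j = 0 := by
  have h3 := three_zero hF
  have hone : ∀ x : F, x ≠ 0 → x * x = 1 := fun x hx => by
    rcases three_elts hF x with h | h | h
    · exact absurd h hx
    all_goals simp [h]
  have hs1 : s = 1 := by
    have h1 := congrArg Matrix.det hb
    rw [Matrix.det_mul, Matrix.det_transpose, Matrix.det_smul, Matrix.det_one, mul_one, Fintype.card_fin, pow_succ,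
      pow_two, hone s hs, one_mul] at h1
    rw [← h1, hone]
    intro e
    rw [e, mul_zero] at h1
    exact hs h1.symm
  intro j
  have hsum : b 0 j * b 0 j + b 1 j * b 1 j + b 2 j * b 2 j = 1 := by
    have := congrFun (congrFun hb j) j
    rw [Matrix.mul_apply, Fin.sum_univ_three, hs1, one_smul, Matrix.one_apply_eq] at this
    simpa [Matrix.transpose_apply] using this
  have h20 : (2 : F) ≠ 1 := fun e => one_ne_zero (α := F) (by linear_combination e)
  by_cases h0 : b 0 j = 0 <;> by_cases h1 : b 1 j = 0 <;> by_cases h2 : b 2 j = 0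
  · exact ⟨0, fun l _ => by fin_cases l <;> assumption⟩
  · exact ⟨2, fun l hl => by fin_cases l <;> first | assumption | exact absurd rfl hl⟩
  · exact ⟨1, fun l hl => by fin_cases l <;> first | assumption | exact absurd rfl hl⟩
  · exfalso; rw [h0, hone _ h1, hone _ h2] at hsum; exact h20 (by linear_combination hsum)
  · exact ⟨0, fun l hl => by fin_cases l <;> first | assumption | exact absurd rfl hl⟩
  · exfalso; rw [h1, hone _ h0, hone _ h2] at hsum; exact h20 (by linear_combination hsum)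
  · exfalso; rw [h2, hone _ h0, hone _ h1] at hsum; exact h20 (by linear_combination hsum)
  · exfalso; rw [hone _ h0, hone _ h1, hone _ h2] at hsum; exact one_ne_zero (α := F) (by linear_combination h3 - hsum)

/-- Over three elements a tensor member with three symmetric variables stabilises a decomposition. -/
theorem decomposition_of_tensor_three (hF : Fintype.card F = 3) {n₁ : ℕ} (hn : 0 < n₁)
    {e : (Fin m ⊕ Fin m) ≃ Fin n₁ × Fin 3}
    {P : GL (Fin m ⊕ Fin m) F} {f₁ : (Fin n₁ → F) → (Fin n₁ → F) → F} {f₂ : (Fin 3 → F) → (Fin 3 → F) → F}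
    (h1 : IsSymplecticForm f₁) (h2 : IsSymmetricForm f₂)
    (hs : IsTensorFormStructure id (Cfsg.sympForm m F) f₁ f₂ e P) :
    ∃ D : Fin 3 → Submodule F (Fin m ⊕ Fin m → F), IsNondegenerateMDecomposition (Cfsg.sympForm m F) n₁ D ∧
      tensorProductSubgroup n₁ 3 e P ⊓ Cfsg.spGL m F ≤ decompositionStabilizer D := by
  classical
  haveI : Nonempty (Fin m ⊕ Fin m) := ⟨e.symm (⟨0, hn⟩, 0)⟩
  have hf := sp_refl m F
  have hG1 : (gramMatrix f₁).det ≠ 0 := (symplectic_refl h1).toIsSesq.det_gram_ne_zero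
  have hG2 : (gramMatrix f₂).det ≠ 0 := (IsSesq.mk h2.bilinear.add_left h2.bilinear.smul_left h2.bilinear.add_right
    h2.bilinear.smul_right h2.nondegenerate : IsSesq (RingEquiv.refl F) f₂).det_gram_ne_zero
  obtain ⟨Φ₀, Ψ₀, c, hc, hco₀, happ, hsplit⟩ := tensor_member_split hG1 hG2 hs
  obtain ⟨B, κ, hκ, hB⟩ := congr_scalar_three hF (G := gramMatrix f₂) (Matrix.ext fun i j => h2.symm _ _) hG2
  set Bm : Matrix (Fin 3) (Fin 3) F := (B : Matrix (Fin 3) (Fin 3) F)
  set Bi : Matrix (Fin 3) (Fin 3) F := ((B⁻¹ : GL (Fin 3) F) : Matrix (Fin 3) (Fin 3) F)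
  set Φ := Φ₀ * ((1 : Matrix (Fin n₁) (Fin n₁) F) ⊗ₖ Bm)
  set Ψ := ((1 : Matrix (Fin n₁) (Fin n₁) F) ⊗ₖ Bi) * Ψ₀
  have hco : Coords Φ Ψ := hco₀.comp ⟨by
      rw [← Matrix.mul_kronecker_mul, one_mul, val_mul_inv, Matrix.one_kronecker_one], by
      rw [← Matrix.mul_kronecker_mul, one_mul, val_inv_mul, Matrix.one_kronecker_one]⟩
  have happ' : ∀ x y, Cfsg.sympForm m F (Φ *ᵥ x) (Φ *ᵥ y) =
      c * κ * (x ⬝ᵥ ((gramMatrix f₁ ⊗ₖ (1 : Matrix (Fin 3) (Fin 3) F)) *ᵥ y)) := fun x y => by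
    simp only [Φ, ← Matrix.mulVec_mulVec]
    rw [happ, ← Matrix.vecMul_transpose, ← Matrix.dotProduct_mulVec, Matrix.mulVec_mulVec, Matrix.mulVec_mulVec,
      kron_transpose, ← Matrix.mul_kronecker_mul, ← Matrix.mul_kronecker_mul, Matrix.transpose_one, Matrix.one_mul,
      Matrix.mul_one, hB, Matrix.kronecker_smul, Matrix.smul_mulVec, dotProduct_smul, smul_eq_mul, mul_assoc]
  let D : Fin 3 → Submodule F (Fin m ⊕ Fin m → F) := fun i =>
    { carrier := {v | ∀ p : Fin n₁ × Fin 3, p.2 ≠ i → (Ψ *ᵥ v) p = 0}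
      zero_mem' := fun p _ => by simp
      add_mem' := fun {u v} hu hv p hp => by rw [Matrix.mulVec_add, Pi.add_apply, hu p hp, hv p hp, add_zero]
      smul_mem' := fun a v hv p hp => by rw [Matrix.mulVec_smul, Pi.smul_apply, hv p hp, smul_zero] }
  let emb : Fin 3 → (Fin n₁ → F) →ₗ[F] (Fin m ⊕ Fin m → F) := fun i =>
    { toFun := fun u => Φ *ᵥ fun p => if p.2 = i then u p.1 else 0
      map_add' := fun u u' => by
        rw [← Matrix.mulVec_add]; congr 1; funext p; simp only [Pi.add_apply]; split_ifs <;> simp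
      map_smul' := fun a u => by
        rw [RingHom.id_apply, ← Matrix.mulVec_smul]; congr 1; funext p; simp only [Pi.smul_apply]; split_ifs <;> simp }
  have hΨ : ∀ i u p, (Ψ *ᵥ emb i u) p = if p.2 = i then u p.1 else 0 := fun i u p => by
    show (Ψ *ᵥ (Φ *ᵥ _)) p = _
    rw [Matrix.mulVec_mulVec, hco.right, Matrix.one_mulVec]
  have hinj : ∀ i, Function.Injective (emb i) := fun i u u' h => funext fun a => by
    have := congrArg (fun v => (Ψ *ᵥ v) (a, i)) h
    simpa [hΨ] using this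
  have hDe : ∀ i, D i = LinearMap.range (emb i) := fun i => le_antisymm (fun v hv =>
    ⟨fun a => (Ψ *ᵥ v) (a, i), by
      show Φ *ᵥ _ = v
      conv_rhs => rw [← Matrix.one_mulVec v, ← hco.left, ← Matrix.mulVec_mulVec]
      congr 1
      funext p
      split_ifs with hp
      · rw [← hp]
      · exact (hv p hp).symm⟩) (by
    rintro _ ⟨u, rfl⟩ p hp
    rw [hΨ, if_neg hp])
  have hcard : n₁ * 3 = 2 * m := by
    have := Fintype.card_congr e
    simp only [card_sum_fin, Fintype.card_prod, Fintype.card_fin] at this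
    omega
  have hform : ∀ i j u u', Cfsg.sympForm m F (emb i u) (emb j u') =
      if i = j then c * κ * (u ⬝ᵥ (gramMatrix f₁ *ᵥ u')) else 0 := fun i j u u' => by
    show Cfsg.sympForm m F (Φ *ᵥ _) (Φ *ᵥ _) = _
    rw [happ']
    simp only [dotProduct, Matrix.mulVec, Fintype.sum_prod_type, Matrix.kroneckerMap_apply, Matrix.one_apply, mul_ite,
      ite_mul, mul_one, mul_zero, zero_mul, Finset.sum_ite_eq, Finset.sum_ite_eq', Finset.mem_univ, if_true]
    split_ifs with h
    · subst h; rfl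
    · simp
  have hiD : iSupIndep D := by
    rw [iSupIndep_def]
    intro i
    rw [Submodule.disjoint_def]
    intro v hv hv'
    have hle : (⨆ (j) (_ : j ≠ i), D j) ≤
        ({ carrier := {v | ∀ a, (Ψ *ᵥ v) (a, i) = 0}
           zero_mem' := fun a => by simp
           add_mem' := fun {u v} hu hv a => by rw [Matrix.mulVec_add, Pi.add_apply, hu a, hv a, add_zero]
           smul_mem' := fun r v hv a => by rw [Matrix.mulVec_smul, Pi.smul_apply, hv a, smul_zero] } :
          Submodule F (Fin m ⊕ Fin m → F)) := iSup₂_le fun j hj v hv a => hv (a, i) (Ne.symm hj)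
    rw [← Matrix.one_mulVec v, ← hco.left, ← Matrix.mulVec_mulVec,
      show Ψ *ᵥ v = 0 from funext fun p => by
        by_cases hp : p.2 = i
        · rw [← Prod.mk.eta (p := p), hp]; exact hle hv' p.1
        · exact hv p hp, Matrix.mulVec_zero]
  refine ⟨D, ⟨⟨by norm_num, hn, fun i => ?_, hiD, ?_⟩, fun i w hw hw0 => ?_, fun i j hij u hu v hv => ?_⟩,
    fun h hh => ?_⟩
  · rw [hDe, LinearMap.finrank_range_of_inj (hinj i), finrank_pi_card, Fintype.card_fin]
  · refine Submodule.eq_top_iff'.mpr fun v => ?_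
    rw [show v = ∑ i, emb i (fun a => (Ψ *ᵥ v) (a, i)) from ?_]
    · exact Submodule.sum_mem _ fun i _ => Submodule.mem_iSup_of_mem i
        (show _ ∈ D i by rw [hDe]; exact LinearMap.mem_range_self _ _)
    · show v = ∑ i, Φ *ᵥ _
      rw [← Matrix.mulVec_sum]
      conv_lhs => rw [← Matrix.one_mulVec v, ← hco.left, ← Matrix.mulVec_mulVec]
      congr 1
      funext p
      rw [Finset.sum_apply, Finset.sum_eq_single p.2 (fun i _ hi => if_neg (Ne.symm hi)) (by simp), if_pos rfl]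
  · rw [hDe] at hw ⊢
    obtain ⟨u, rfl⟩ := hw
    have hu0 : u ≠ 0 := fun e => hw0 (by rw [e, map_zero])
    have hg1 : ∀ x y, x ⬝ᵥ (gramMatrix f₁ *ᵥ y) = f₁ x y := fun x y =>
      ((symplectic_refl h1).toIsSesq.apply_eq x y).symm
    obtain ⟨⟨x, hx⟩, ⟨y, hy⟩⟩ := h1.nondegenerate u hu0
    refine ⟨⟨_, LinearMap.mem_range_self _ x, ?_⟩, ⟨_, LinearMap.mem_range_self _ y, ?_⟩⟩
    · rw [hform, if_pos rfl, hg1]; exact mul_ne_zero (mul_ne_zero hc hκ) hx
    · rw [hform, if_pos rfl, hg1]; exact mul_ne_zero (mul_ne_zero hc hκ) hy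
  · rw [hDe] at hu hv
    obtain ⟨a, rfl⟩ := hu
    obtain ⟨b, rfl⟩ := hv
    rw [hform, if_neg hij]
  obtain ⟨a, b, s, hs0, hT, hb, -⟩ := hsplit h hh
  set b' : Matrix (Fin 3) (Fin 3) F := Bi * (b : Matrix (Fin 3) (Fin 3) F) * Bm
  have hb' : b'ᵀ * b' = s • 1 := by
    have e1 : b'ᵀ * (κ • (1 : Matrix (Fin 3) (Fin 3) F)) * b' = s • (κ • 1) := by
      rw [← hB]
      have e2 : Bm * b' = (b : Matrix (Fin 3) (Fin 3) F) * Bm := by
        simp only [b', ← Matrix.mul_assoc, Bm, Bi, val_mul_inv, Matrix.one_mul]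
      calc b'ᵀ * (Bmᵀ * gramMatrix f₂ * Bm) * b' = (Bm * b')ᵀ * gramMatrix f₂ * (Bm * b') := by
            rw [Matrix.transpose_mul Bm b']; simp only [Matrix.mul_assoc]
        _ = Bmᵀ * ((b : Matrix (Fin 3) (Fin 3) F)ᵀ * gramMatrix f₂ * (b : Matrix (Fin 3) (Fin 3) F)) * Bm := by
            rw [e2, Matrix.transpose_mul]; simp only [Matrix.mul_assoc]
        _ = _ := by rw [hb, Matrix.mul_smul, Matrix.smul_mul]
    rw [Matrix.mul_smul, Matrix.smul_mul, Matrix.mul_one, smul_comm s κ] at e1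
    exact smul_right_injective _ hκ e1
  choose π hπ using monomial_three hF hs0 hb'
  have hT' : Ψ * (h : Matrix (Fin m ⊕ Fin m) (Fin m ⊕ Fin m) F) * Φ = (a : Matrix (Fin n₁) (Fin n₁) F) ⊗ₖ b' := by
    calc _ = ((1 : Matrix (Fin n₁) (Fin n₁) F) ⊗ₖ Bi) * (Ψ₀ * (h : Matrix (Fin m ⊕ Fin m) (Fin m ⊕ Fin m) F) * Φ₀) *
          ((1 : Matrix (Fin n₁) (Fin n₁) F) ⊗ₖ Bm) := by simp only [Φ, Ψ, Matrix.mul_assoc]
      _ = _ := by rw [hT, ← Matrix.mul_kronecker_mul, ← Matrix.mul_kronecker_mul, Matrix.one_mul, Matrix.mul_one]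
  have hmap : ∀ j, ∀ v ∈ D j, (h : Matrix (Fin m ⊕ Fin m) (Fin m ⊕ Fin m) F) *ᵥ v ∈ D (π j) := fun j v hv p hp => by
    obtain ⟨w, rfl⟩ : ∃ w, v = Φ *ᵥ w := ⟨Ψ *ᵥ v, by rw [Matrix.mulVec_mulVec, hco.left, Matrix.one_mulVec]⟩
    rw [Matrix.mulVec_mulVec, Matrix.mulVec_mulVec, hT']
    have hv' : ∀ q : Fin n₁ × Fin 3, q.2 ≠ j → w q = 0 := fun q hq => by
      have := hv q hq
      rwa [Matrix.mulVec_mulVec, hco.right, Matrix.one_mulVec] at this
    simp only [Matrix.mulVec, dotProduct, Matrix.kroneckerMap_apply]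
    refine Finset.sum_eq_zero fun q _ => ?_
    by_cases hq : q.2 = j
    · rw [hq, hπ j p.2 hp, mul_zero, zero_mul]
    · rw [hv' q hq, mul_zero]
  have hinjπ : Function.Injective π := by
    intro j j' e
    by_contra hne
    have h1 : (D j).map (Matrix.toLin' (h : Matrix (Fin m ⊕ Fin m) (Fin m ⊕ Fin m) F)) = D (π j) ∧
        (D j').map (Matrix.toLin' (h : Matrix (Fin m ⊕ Fin m) (Fin m ⊕ Fin m) F)) = D (π j) := by
      constructor
      · refine Submodule.eq_of_le_of_finrank_eq ?_ ?_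
        · rintro _ ⟨v, hv, rfl⟩; rw [Matrix.toLin'_apply]; exact hmap j v hv
        · rw [Cfsg.Lib.Classical.PrimeDim.finrank_map_mulVec, hDe, hDe, LinearMap.finrank_range_of_inj (hinj _),
            LinearMap.finrank_range_of_inj (hinj _)]
      · refine Submodule.eq_of_le_of_finrank_eq ?_ ?_
        · rintro _ ⟨v, hv, rfl⟩; rw [Matrix.toLin'_apply, e]; exact hmap j' v hv
        · rw [Cfsg.Lib.Classical.PrimeDim.finrank_map_mulVec, hDe, hDe, LinearMap.finrank_range_of_inj (hinj _),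
            LinearMap.finrank_range_of_inj (hinj _)]
    obtain ⟨v, hv, hv0⟩ := (Submodule.ne_bot_iff (D j)).mp fun e0 => by
      have := LinearMap.finrank_range_of_inj (hinj j)
      rw [← hDe, e0, finrank_bot, finrank_pi_card, Fintype.card_fin] at this
      omega
    obtain ⟨v', hv', hve⟩ : Matrix.toLin' (h : Matrix (Fin m ⊕ Fin m) (Fin m ⊕ Fin m) F) v ∈
        (D j').map (Matrix.toLin' (h : Matrix (Fin m ⊕ Fin m) (Fin m ⊕ Fin m) F)) := by
      rw [h1.2, ← h1.1]; exact Submodule.mem_map_of_mem hv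
    rw [Matrix.toLin'_apply, Matrix.toLin'_apply] at hve
    have hvv : v' = v := by
      have := congrArg (fun x => ((h⁻¹ : GL (Fin m ⊕ Fin m) F) : Matrix (Fin m ⊕ Fin m) (Fin m ⊕ Fin m) F) *ᵥ x) hve
      simpa [Matrix.mulVec_mulVec, val_inv_mul] using this
    exact hv0 (Submodule.disjoint_def.mp (hiD.pairwiseDisjoint hne) v hv (hvv ▸ hv'))
  refine ⟨Equiv.ofBijective π (Finite.injective_iff_bijective.mp hinjπ), fun j => ?_⟩
  refine Submodule.eq_of_le_of_finrank_eq ?_ ?_
  · rintro _ ⟨v, hv, rfl⟩; rw [Matrix.toLin'_apply]; exact hmap j v hv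
  · rw [Cfsg.Lib.Classical.PrimeDim.finrank_map_mulVec, hDe, hDe, LinearMap.finrank_range_of_inj (hinj _),
      LinearMap.finrank_range_of_inj (hinj _)]

end Cfsg.Lib.Classical.Aschbacher
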