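import Cfsg.Agent.Classical.Aschbacher.UnitTypes
import Cfsg.Agent.Classical.Aschbacher.SymmCongr
import Cfsg.Agent.Classical.Aschbacher.SympExclusions
import Cfsg.Agent.Classical.Aschbacher.FormCases
import Cfsg.Agent.Classical.PrimeDim.OrthMain

/-! Subgroup structure of the orthogonal groups of odd degree: geometric classes or almost simple. -/

set_option autoImplicit false
set_option linter.unusedSimpArgs false
set_option linter.unusedSectionVars false
set_option linter.style.haveILetI false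

namespace Cfsg.Lib.Classical.Aschbacher

open Matrix Cfsg.Geo
open scoped MatrixGroups Kronecker commutatorElement
open Cfsg.Lib.Classical.PrimeDim (Normalises IsPreCore forall_matrixSet mem_matrixSet irreducible_iff Invariant
  IsSesq gl_det_ne_zero finrank_pi_card exists_char_card powField card_powField exists_prime_index_subfield
  inv_mulVec_mulVec gl_mulVec_ne_zero mem_scalars_of_val_eq val_inv_mul val_mul_inv)

universe u

variable {ι : Type} [Fintype ι] [DecidableEq ι] {F : Type u} [Field F] [Fintype F]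

/-- A tensor decomposition with congruent factors is a tensor square. -/
theorem TensorForm.square_smul {σ : F ≃+* F} {f : (ι → F) → (ι → F) → F} {H : Subgroup (GL ι F)} {k : ℕ}
    {Φ : Matrix ι (Fin k × Fin k) F} {Ψ : Matrix (Fin k × Fin k) ι F} {X₁ X₂ : Matrix (Fin k) (Fin k) F}
    (hT : TensorForm σ f H Φ Ψ X₁ X₂) (A : GL (Fin k) F) {c₀ : F}
    (hA : (A : Matrix (Fin k) (Fin k) F)ᵀ * X₂ * (A : Matrix (Fin k) (Fin k) F).map σ = c₀ • X₁) (hc₀ : c₀ ≠ 0) :
    ∃ (Φ' : Matrix ι (Fin 2 → Fin k) F) (Ψ' : Matrix (Fin 2 → Fin k) ι F), WreathForm σ f H Φ' Ψ' X₁ c₀ := by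
  classical
  let φ : (Fin 2 → Fin k) ≃ Fin k × Fin k := finTwoArrowEquiv (Fin k)
  have hφ : ⇑φ = fun x => (x 0, x 1) := rfl
  let U : Matrix (Fin k × Fin k) (Fin k × Fin k) F := (1 : Matrix (Fin k) (Fin k) F) ⊗ₖ (A : Matrix (Fin k) (Fin k) F)
  let V : Matrix (Fin k × Fin k) (Fin k × Fin k) F :=
    (1 : Matrix (Fin k) (Fin k) F) ⊗ₖ ((A⁻¹ : GL (Fin k) F) : Matrix (Fin k) (Fin k) F)
  have hUV : Coords U V := ⟨by
      simp only [U, V, ← Matrix.mul_kronecker_mul, Matrix.one_mul, val_mul_inv, Matrix.one_kronecker_one], by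
      simp only [U, V, ← Matrix.mul_kronecker_mul, Matrix.one_mul, val_inv_mul, Matrix.one_kronecker_one]⟩
  have hc := hT.coords.comp hUV
  refine ⟨(Φ * U).submatrix id φ, (V * Ψ).submatrix φ id, ⟨?_, ?_⟩, le_rfl, hT.two_left, hc₀, ?_, hT.det_left,
    fun h hh => ?_⟩
  · rw [Matrix.submatrix_mul_equiv, hc.left, Matrix.submatrix_id_id]
  · rw [← Matrix.submatrix_mul _ _ φ id φ Function.bijective_id, hc.right, Matrix.submatrix_one_equiv]
  · rw [piKron_two, ← hφ, Matrix.transpose_submatrix, ← Matrix.submatrix_map]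
    rw [show ((Φ * U)ᵀ.submatrix φ id * gramMatrix f * ((Φ * U).map σ).submatrix id φ) =
      ((Φ * U)ᵀ * gramMatrix f * (Φ * U).map σ).submatrix φ φ from rfl]
    rw [← Pi.smul_apply, ← Pi.smul_apply, ← Matrix.submatrix_smul]
    congr 1
    calc (Φ * U)ᵀ * gramMatrix f * (Φ * U).map σ = Uᵀ * (Φᵀ * gramMatrix f * Φ.map σ) * U.map σ := by
          rw [Matrix.transpose_mul, Matrix.map_mul]; simp only [Matrix.mul_assoc]
      _ = _ := by
          rw [hT.gram]
          simp only [U]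
          rw [kron_transpose, kron_map, ← Matrix.mul_kronecker_mul, ← Matrix.mul_kronecker_mul, hA, Matrix.transpose_one,
            Matrix.map_one σ (map_zero σ) (map_one σ), Matrix.one_mul, Matrix.mul_one, Matrix.kronecker_smul]
  · obtain ⟨a, b, c, -, hab, -, -⟩ := hT.split h hh
    have hdet := hT.coords.det_conj_ne_zero h
    rw [hab, Matrix.det_kronecker, Fintype.card_fin] at hdet
    have ha : a.det ≠ 0 := fun e => left_ne_zero_of_mul hdet (by rw [e, zero_pow]; have := hT.two_left; omega)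
    have hb : b.det ≠ 0 := fun e => right_ne_zero_of_mul hdet (by rw [e, zero_pow]; have := hT.two_left; omega)
    refine ⟨1, ![Matrix.GeneralLinearGroup.mkOfDetNeZero a ha, A⁻¹ * Matrix.GeneralLinearGroup.mkOfDetNeZero b hb * A], ?_⟩
    rw [show permMat (m := k) F (1 : Equiv.Perm (Fin 2)) = 1 by ext x y; simp [permMat, Matrix.one_apply, eq_comm],
      Matrix.one_mul, piKron_two, ← hφ,
      show (V * Ψ).submatrix φ id * (h : Matrix ι ι F) * (Φ * U).submatrix id φ =
        (V * Ψ * (h : Matrix ι ι F) * (Φ * U)).submatrix φ φ from rfl]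
    congr 1
    calc V * Ψ * (h : Matrix ι ι F) * (Φ * U) = V * (Ψ * (h : Matrix ι ι F) * Φ) * U := by simp only [Matrix.mul_assoc]
      _ = _ := by
        rw [hab]
        simp only [U, V, ← Matrix.mul_kronecker_mul, Matrix.one_mul, Matrix.mul_one, Matrix.cons_val_zero,
          Matrix.cons_val_one, Units.val_mul]
        rfl

section

variable (Q : QuadraticForm F (ι → F)) (hQ : (QuadraticMap.polarBilin Q).Nondegenerate)

/-- The members of the classes, before intersecting with the isometry group. -/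
inductive OMember : Subgroup (GL ι F) → Prop
  | singular (W : Submodule F (ι → F)) (h0 : W ≠ ⊥) (hs : IsTotallySingularQuad (⇑Q) W) :
      OMember (subspaceStabilizer W)
  | nondeg (W : Submodule F (ι → F)) (h0 : W ≠ ⊥) (h1 : W ≠ ⊤)
      (hn : IsNondegenerateOn (QuadraticMap.polar (⇑Q)) W) : OMember (subspaceStabilizer W)
  | decomp (t k : ℕ) (D : Fin t → Submodule F (ι → F)) (hk : 1 < k) (hmul : t * k = Fintype.card ι)
      (hD : IsOrthogonalMDecomposition (⇑Q) k D) : OMember (decompositionStabilizer D)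
  | frame (t : ℕ) (D : Fin t → Submodule F (ι → F)) (hp : (Fintype.card F).Prime) (hmul : t = Fintype.card ι)
      (hD : IsOrthogonalMDecomposition (⇑Q) 1 D) : OMember (decompositionStabilizer D)
  | field (r : ℕ) (K : Subalgebra F (Matrix ι ι F)) (hr : r.Prime) (hdvd : r ∣ Fintype.card ι)
      (hne : Fintype.card ι ≠ r) (hK : IsFieldSubalgebra r K)
      (hs : IsSelfAdjointFor (QuadraticMap.polar (⇑Q)) K) : OMember (subalgebraNormalizer K)
  | tensor (n₁ n₂ : ℕ) (e : ι ≃ Fin n₁ × Fin n₂) (P : GL ι F) (f₁ : (Fin n₁ → F) → (Fin n₁ → F) → F)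
      (f₂ : (Fin n₂ → F) → (Fin n₂ → F) → F) (h3 : 3 ≤ n₁) (h12 : n₁ < n₂) (hmul : n₁ * n₂ = Fintype.card ι)
      (h1 : IsSymmetricForm f₁) (h2 : IsSymmetricForm f₂)
      (hs : IsTensorFormStructure id (QuadraticMap.polar (⇑Q)) f₁ f₂ e P) : OMember (tensorProductSubgroup n₁ n₂ e P)
  | subfield (F₀ : Subfield F) (r : ℕ) (P : GL ι F) (hr : r.Prime) (hc : Fintype.card F = Nat.card F₀ ^ r)
      (hs : IsQuadFormRationalStructure (⇑Q) F₀ P) : OMember (subfieldSubgroup F₀ P)
  | wreath (k t : ℕ) (e : ι ≃ (Fin t → Fin k)) (P : GL ι F) (f₁ : (Fin k → F) → (Fin k → F) → F) (h3 : 3 ≤ k)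
      (ht : 2 ≤ t) (hex : ¬ (Fintype.card F = 3 ∧ k = 3)) (hmul : k ^ t = Fintype.card ι) (h1 : IsSymmetricForm f₁)
      (hs : IsTensorPowerFormStructure id (QuadraticMap.polar (⇑Q)) f₁ e P) :
      OMember (tensorWreathSubgroup k t e P)

/-- Some member of the classes contains `H`. -/
def InOLE (H : Subgroup (GL ι F)) : Prop := ∃ M, OMember Q M ∧ H ≤ M

include hQ in
theorem orth_refl : ReflForm (RingEquiv.refl F) 1 (QuadraticMap.polar (⇑Q)) where
  toIsSesq := Cfsg.Lib.Classical.PrimeDim.Orth.quad_isSesq Q hQ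
  inv := fun _ => rfl
  herm u v := by rw [one_mul, RingEquiv.refl_apply]; exact QuadraticMap.polar_comm _ _ _

theorem orth_fixes {H : Subgroup (GL ι F)} (hiso : ∀ g ∈ H, ∀ x, Q ((g : Matrix ι ι F) *ᵥ x) = Q x) :
    Fixes (QuadraticMap.polar (⇑Q)) H := fun g hg u v => by
  simp only [QuadraticMap.polar, ← Matrix.mulVec_add, hiso g hg]

theorem matForm_symmetric {k : ℕ} {X : Matrix (Fin k) (Fin k) F} (hX : X.det ≠ 0) (hs : Xᵀ = X) :
    IsSymmetricForm (matForm (RingEquiv.refl F) X) := by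
  have happ : ∀ u v, matForm (RingEquiv.refl F) X u v = u ⬝ᵥ (X *ᵥ v) := fun u v => by
    simp [matForm]
  have hsym : ∀ u v, matForm (RingEquiv.refl F) X u v = matForm (RingEquiv.refl F) X v u := fun u v => by
    rw [happ, happ, dotProduct_mulVec, ← mulVec_transpose, hs, dotProduct_comm]
  refine ⟨⟨fun x y v => ?_, fun c x v => ?_, fun v x y => ?_, fun c v x => ?_⟩, hsym, fun v hv => ?_⟩
  · simp only [happ, add_dotProduct]
  · simp only [happ, smul_dotProduct, smul_eq_mul]
  · simp only [happ, Matrix.mulVec_add, dotProduct_add]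
  · simp only [happ, Matrix.mulVec_smul, dotProduct_smul, smul_eq_mul]
  · have h1 : ∃ y, matForm (RingEquiv.refl F) X v y ≠ 0 := by
      by_contra hc
      push Not at hc
      refine hv (Matrix.eq_zero_of_vecMul_eq_zero hX (funext fun j => ?_))
      have := hc (Pi.single j 1)
      rwa [happ, dotProduct_mulVec, dotProduct_single, mul_one] at this
    obtain ⟨y, hy⟩ := h1
    exact ⟨⟨y, fun e => hy ((hsym v y).trans e)⟩, y, hy⟩

variable {m : ℕ} (hm : Fintype.card ι = 2 * m + 1) (h2 : (2 : F) ≠ 0) {H : Subgroup (GL ι F)}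
  (hiso : ∀ g ∈ H, ∀ x, Q ((g : Matrix ι ι F) *ᵥ x) = Q x)

include hQ hiso in
theorem isometric_of_irreducible (hirr : ActsIrreducibly (matrixSet H)) {t k : ℕ}
    {D : Fin t → Submodule F (ι → F)} (hD : IsNondegenerateMDecomposition (QuadraticMap.polar (⇑Q)) k D)
    (hle : H ≤ decompositionStabilizer D) : IsOrthogonalMDecomposition (⇑Q) k D := by
  refine ⟨hD, fun i j => ?_⟩
  obtain ⟨h, hh, hmap⟩ := exists_translate hirr hD.decomp hle i j
  have hinj : Function.Injective (Matrix.toLin' (h : Matrix ι ι F)) := fun x y e => by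
    rw [Matrix.toLin'_apply, Matrix.toLin'_apply] at e
    rw [← inv_mulVec_mulVec h x, e, inv_mulVec_mulVec]
  refine ⟨(Submodule.equivMapOfInjective _ hinj (D i)).trans (LinearEquiv.ofEq _ _ hmap), fun w => ?_⟩
  rw [LinearEquiv.trans_apply, LinearEquiv.coe_ofEq_apply, Submodule.coe_equivMapOfInjective_apply,
    Matrix.toLin'_apply, hiso h hh]

variable (hdisc : (gramMatrix (QuadraticMap.polar (⇑Q))).det = 2 ∨ (gramMatrix (QuadraticMap.polar (⇑Q))).det = -2)

include hQ hm h2 hiso hdisc in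
theorem inOLE_of_decomp (hirr : ActsIrreducibly (matrixSet H)) {t k : ℕ}
    {D : Fin t → Submodule F (ι → F)} (hD : IsNondegenerateMDecomposition (QuadraticMap.polar (⇑Q)) k D)
    (hle : H ≤ decompositionStabilizer D) : InOLE Q H := by
  classical
  have hiD := isometric_of_irreducible Q hQ hiso hirr hD hle
  have hmul := IsMDecomposition.mul_eq hD.decomp
  rcases Nat.lt_or_ge 1 k with hk | hk
  · exact ⟨_, .decomp t k D hk hmul hiD, hle⟩
  obtain rfl : k = 1 := by have := hD.decomp.pos; omega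
  rw [mul_one] at hmul
  by_cases hpr : (Fintype.card F).Prime
  · exact ⟨_, .frame t D hpr hmul hiD, hle⟩
  -- a basis of vectors with the same value
  have h2t := hD.decomp.two_le
  obtain ⟨⟨v, hv⟩, hv0', hline⟩ := finrank_eq_one_iff'.mp (hD.decomp.finrank_eq ⟨0, by omega⟩)
  have hv0 : v ≠ 0 := fun e => hv0' (Subtype.ext e)
  have ha : Q v ≠ 0 := fun e => by
    obtain ⟨⟨x, hx, hne⟩, -⟩ := hD.nondegenerate _ v hv hv0
    obtain ⟨c, hc⟩ := hline ⟨x, hx⟩
    obtain rfl : c • v = x := congrArg Subtype.val hc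
    rw [QuadraticMap.polar_smul_left, QuadraticMap.polar_self, e, smul_zero, smul_zero] at hne
    exact hne rfl
  have hb : ∀ i, ∃ b, b ∈ D i ∧ b ≠ 0 ∧ Q b = Q v ∧ ∀ w ∈ D i, ∃ c : F, w = c • b := fun i => by
    obtain ⟨h, hh, hmap⟩ := exists_translate hirr hD.decomp hle ⟨0, by omega⟩ i
    refine ⟨(h : Matrix ι ι F) *ᵥ v, hmap ▸ ⟨v, hv, Matrix.toLin'_apply _ _⟩, gl_mulVec_ne_zero _ hv0, hiso h hh v,
      fun w hw => ?_⟩
    rw [← hmap] at hw
    obtain ⟨x, hx, rfl⟩ := hw
    obtain ⟨c, hc⟩ := hline ⟨x, hx⟩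
    obtain rfl : c • v = x := congrArg Subtype.val hc
    exact ⟨c, by rw [map_smul, Matrix.toLin'_apply]⟩
  choose b hb using hb
  obtain ⟨p, f, hp, hchar, hf0, hf⟩ := exists_char_card F
  haveI := Fact.mk hp
  have hne : powField F p 1 ≠ ⊤ := fun e => by
    have h1 := card_powField (F := F) (p := p) (m := 1) (f := f) one_pos hf (one_dvd f)
    rw [e, Nat.card_congr Subfield.topEquiv.toEquiv, Nat.card_eq_fintype_card, pow_one] at h1
    exact hpr (h1 ▸ hp)
  obtain ⟨F₁, r, -, hr, hc⟩ := exists_prime_index_subfield hne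
  rw [Nat.card_eq_fintype_card] at hc
  obtain ⟨B, hle', hstr⟩ := Cfsg.Lib.Classical.PrimeDim.Orth.frame_subfield Q hQ h2 hm hmul.symm hdisc hiso hD hle ha
    hb F₁
  exact ⟨_, .subfield F₁ r B hr hc hstr, hle'⟩

include hQ hm h2 hiso hdisc in
theorem inOLE_of_wreath (hirr : ActsIrreducibly (matrixSet H)) {t k : ℕ} {Φ : Matrix ι (Fin t → Fin k) F}
    {Ψ : Matrix (Fin t → Fin k) ι F} {X : Matrix (Fin k) (Fin k) F} {c : F}
    (hW : WreathForm (RingEquiv.refl F) (QuadraticMap.polar (⇑Q)) H Φ Ψ X c) (hX : Xᵀ = X) : InOLE Q H := by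
  classical
  haveI : Nonempty ι := Fintype.card_pos_iff.mp (by omega)
  have hf := orth_refl Q hQ
  have ht := hW.two_le_t
  have hcard : Fintype.card ι = k ^ t := by
    rw [← hW.coords.card_eq, Fintype.card_fun, Fintype.card_fin, Fintype.card_fin]
  have h3 : 3 ≤ k := by
    have := hW.two_le_k
    by_contra h
    obtain rfl : k = 2 := by omega
    rw [hm] at hcard
    have : 2 ∣ 2 ^ t := dvd_pow_self 2 (by omega)
    omega
  by_cases hex : Fintype.card F = 3 ∧ k = 3
  swap
  · let e : ι ≃ (Fin t → Fin k) := Fintype.equivOfCardEq (by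
      rw [hcard, Fintype.card_fun, Fintype.card_fin, Fintype.card_fin])
    have hs := hW.structure' hf e
    rw [show (⇑(RingEquiv.refl F) : F → F) = id from rfl] at hs
    exact ⟨_, .wreath k t e _ _ h3 ht hex hcard.symm (matForm_symmetric hW.det_ne_zero hX) hs, hW.le_stabilizer e⟩
  obtain ⟨hq3, rfl⟩ := hex
  obtain ⟨A, κ, hκ, hA⟩ := congr_scalar_three hq3 hX hW.det_ne_zero
  have hW' := hW.congr A
  rw [RingEquiv.coe_refl, Matrix.map_id, hA] at hW'
  clear hW hA hX
  obtain ⟨Φ', Ψ', hW⟩ : ∃ Φ' Ψ', WreathForm (RingEquiv.refl F) (QuadraticMap.polar (⇑Q)) H Φ' Ψ'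
      (κ • (1 : Matrix (Fin 3) (Fin 3) F)) c := ⟨_, _, hW'⟩
  clear hW'
  let ε : Fin (3 ^ t) × Fin 1 ≃ (Fin t → Fin 3) := Fintype.equivOfCardEq (by
    rw [Fintype.card_prod, Fintype.card_fin, Fintype.card_fin, Fintype.card_fun, Fintype.card_fin, Fintype.card_fin,
      mul_one])
  have hc := hW.coords
  have hone : (piKron (d := fun _ => 3) fun _ : Fin t => κ • (1 : Matrix (Fin 3) (Fin 3) F)) =
      (κ ^ t) • (1 : Matrix (Fin t → Fin 3) (Fin t → Fin 3) F) := by
    rw [piKron_smul (d := fun _ => 3) (fun _ : Fin t => κ) (fun _ => (1 : Matrix (Fin 3) (Fin 3) F)),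
      Finset.prod_const, Finset.card_univ, Fintype.card_fin]
    congr 1
    exact piKron_one (F := F) (fun _ : Fin t => 3)
  have hco : Coords (Φ'.submatrix id ε) (Ψ'.submatrix ε id) := ⟨by
      rw [Matrix.submatrix_mul_equiv, hc.left, Matrix.submatrix_id_id], by
      rw [← Matrix.submatrix_mul _ _ ε id ε Function.bijective_id, hc.right, Matrix.submatrix_one_equiv]⟩
  have hgram : hf.gramIn (Φ'.submatrix id ε) =
      (c * κ ^ t) • ((1 : Matrix (Fin (3 ^ t)) (Fin (3 ^ t)) F) ⊗ₖ (1 : Matrix (Fin 1) (Fin 1) F)) := by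
    rw [Matrix.one_kronecker_one, ReflForm.gramIn, Matrix.transpose_submatrix, ← Matrix.submatrix_map,
      show (Φ'ᵀ.submatrix ε id * gramMatrix (QuadraticMap.polar (⇑Q)) * (Φ'.map ⇑(RingEquiv.refl F)).submatrix id ε) =
        (Φ'ᵀ * gramMatrix (QuadraticMap.polar (⇑Q)) * Φ'.map ⇑(RingEquiv.refl F)).submatrix ε ε from rfl,
      hW.gram, hone, smul_smul, Matrix.submatrix_smul, Pi.smul_apply, Pi.smul_apply, Matrix.submatrix_one_equiv]
  obtain ⟨D, hD, hst⟩ := blocks_of_coords hf (t := 3 ^ t) (k := 1)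
    (le_trans (by norm_num) (Nat.le_self_pow (by omega) 3)) one_pos hco
    (mul_ne_zero hW.ne_zero (pow_ne_zero _ hκ)) (by simp) hgram
  refine inOLE_of_decomp Q hQ hm h2 hiso hdisc hirr hD fun h hh => hst h ?_
  obtain ⟨π, a, ha⟩ := hW.stab h hh
  have hfix := hf.gramIn_fix (orth_fixes Q hiso) hh (hc.act_of_conj ha)
  rw [ReflForm.gramIn, hW.gram, Matrix.mul_smul, Matrix.smul_mul, wreath_congr] at hfix
  have hmon : ∀ i, ∃ σ : Fin 3 → Fin 3, ∀ j x, x ≠ σ j → (a i : Matrix (Fin 3) (Fin 3) F) x j = 0 := fun i => by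
    obtain ⟨e, he, h3'⟩ := piKron_eq_piKron (smul_right_injective _ hW.ne_zero hfix)
      (fun _ e0 => smul_ne_zero hκ (one_ne_zero (α := Matrix (Fin 3) (Fin 3) F)) e0) i
    rw [RingEquiv.coe_refl, Matrix.map_id, Matrix.mul_smul, Matrix.smul_mul, Matrix.mul_one, smul_comm e κ] at h3'
    choose σ hσ using monomial_three hq3 he (smul_right_injective _ hκ h3')
    exact ⟨σ, hσ⟩
  choose σ hσ using hmon
  refine ⟨fun r => (ε.symm fun i => σ (π.symm i) (ε (r, 0) (π.symm i))).1, fun p r hpr => ?_⟩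
  rw [show Ψ'.submatrix ε id * (h : Matrix ι ι F) * Φ'.submatrix id ε =
      (Ψ' * (h : Matrix ι ι F) * Φ').submatrix ε ε from rfl, ha, Matrix.submatrix_apply, Matrix.mul_apply]
  refine Finset.sum_eq_zero fun w _ => ?_
  rw [piKron_apply]
  by_cases hw : ∀ i, w i = σ i (ε r i)
  · refine mul_eq_zero_of_left ?_ _
    simp only [permMat, Matrix.of_apply]
    rw [if_neg]
    intro hpw
    refine hpr ?_
    show p.1 = (ε.symm fun i => σ (π.symm i) (ε (r.1, 0) (π.symm i))).1
    rw [show ((r.1 : Fin (3 ^ t)), (0 : Fin 1)) = r from Prod.ext rfl (Subsingleton.elim _ _),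
      show (fun i => σ (π.symm i) (ε r (π.symm i))) = ε p from funext fun i => ?_, Equiv.symm_apply_apply]
    rw [← hw, hpw, Function.comp_apply, Equiv.apply_symm_apply]
  · push Not at hw
    obtain ⟨i, hi⟩ := hw
    exact mul_eq_zero_of_right _ (Finset.prod_eq_zero (Finset.mem_univ i) (hσ i _ _ hi))

include hQ hm h2 hiso hdisc in
theorem inOLE_of_tensor (hirr : ActsIrreducibly (matrixSet H)) {d k : ℕ} {Φ : Matrix ι (Fin d × Fin k) F}
    {Ψ : Matrix (Fin d × Fin k) ι F} {X₁ : Matrix (Fin d) (Fin d) F} {X₂ : Matrix (Fin k) (Fin k) F}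
    (hT : TensorForm (RingEquiv.refl F) (QuadraticMap.polar (⇑Q)) H Φ Ψ X₁ X₂) {l : F} (hl : l * l = 1)
    (h1 : X₁ᵀ = l • X₁) (h2' : X₂ᵀ = (1 / l) • X₂) : InOLE Q H := by
  classical
  haveI : Nonempty ι := Fintype.card_pos_iff.mp (by omega)
  have hcard : Fintype.card ι = d * k := by
    rw [← hT.coords.card_eq, Fintype.card_prod, Fintype.card_fin, Fintype.card_fin]
  have hodd : Odd d ∧ Odd k := Nat.odd_mul.mp (hcard ▸ ⟨m, hm⟩)
  have hl1 : l = 1 := by
    rcases mul_self_eq_one_iff.mp hl with e | e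
    · exact e
    · exfalso
      have := congrArg Matrix.det h1
      rw [Matrix.det_transpose, Matrix.det_smul, Fintype.card_fin, e, hodd.1.neg_one_pow, neg_one_mul,
        eq_neg_iff_add_eq_zero, ← two_mul] at this
      exact mul_ne_zero h2 hT.det_left this
  subst hl1
  rw [one_smul] at h1
  rw [div_one, one_smul] at h2'
  rcases eq_or_ne d k with rfl | hne
  · obtain ⟨A, c, hA, hc, hAe⟩ := SymmCongr.exists_congr_smul h2 (by rw [Fintype.card_fin]; exact hodd.1)
      hT.det_right h2' hT.det_left h1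
    obtain ⟨Φ', Ψ', hW⟩ := hT.square_smul (Matrix.GeneralLinearGroup.mkOfDetNeZero A hA) (c₀ := c)
      (by rw [RingEquiv.coe_refl, Matrix.map_id]; exact hAe) hc
    exact inOLE_of_wreath Q hQ hm h2 hiso hdisc hirr hW h1
  have main : ∀ {d' k' : ℕ} {Φ' : Matrix ι (Fin d' × Fin k') F} {Ψ' : Matrix (Fin d' × Fin k') ι F}
      {Y₁ : Matrix (Fin d') (Fin d') F} {Y₂ : Matrix (Fin k') (Fin k') F},
      TensorForm (RingEquiv.refl F) (QuadraticMap.polar (⇑Q)) H Φ' Ψ' Y₁ Y₂ → Y₁ᵀ = Y₁ → Y₂ᵀ = Y₂ → Odd d' →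
        d' < k' → InOLE Q H := by
    intro d' k' Φ' Ψ' Y₁ Y₂ hY e1 e2 ho hlt
    have hmul : d' * k' = Fintype.card ι := by
      rw [← hY.coords.card_eq, Fintype.card_prod, Fintype.card_fin, Fintype.card_fin]
    let e : ι ≃ Fin d' × Fin k' := Fintype.equivOfCardEq (by
      rw [Fintype.card_prod, Fintype.card_fin, Fintype.card_fin, hmul])
    have hs := hY.structure' (orth_refl Q hQ) e
    rw [show (⇑(RingEquiv.refl F) : F → F) = id from rfl] at hs
    have h3 : 3 ≤ d' := by have := hY.two_left; obtain ⟨j, rfl⟩ := ho; omega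
    exact ⟨_, .tensor d' k' e _ _ _ h3 hlt hmul (matForm_symmetric hY.det_left e1) (matForm_symmetric hY.det_right e2)
      hs, hY.le_stabilizer e⟩
  rcases hne.lt_or_gt with hlt | hgt
  · exact main hT h1 h2' hodd.1 hlt
  · exact main hT.swap h2' h1 hodd.2 hgt

include hQ hm h2 hiso in
/-- No group of symplectic type consists of isometries in odd degree. -/
theorem no_sympN {r : ℕ} {N : Subgroup (GL ι F)} (hm1 : 1 ≤ m) (hN : SympN r N) (hNH : N ≤ H) : False := by
  classical
  haveI : Nonempty ι := Fintype.card_pos_iff.mp (by omega)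
  have hf := orth_refl Q hQ
  obtain ⟨a, ha, b, hb, hab⟩ : ∃ a ∈ N, ∃ b ∈ N, ⁅a, b⁆ ≠ 1 := by
    by_contra hcon
    push Not at hcon
    refine hN.ns fun a ha => ?_
    obtain ⟨c, hc⟩ := hN.absIrred.2 (a : Matrix ι ι F) (forall_matrixSet.mpr fun g hg => by
      rw [← Units.val_mul, ← Units.val_mul, (commutatorElement_eq_one_iff_mul_comm.mp (hcon a ha g hg))])
    exact mem_scalars_of_val_eq hc
  have hz := hN.comm a ha b hb
  have hpow : ∀ j : ℕ, ⁅a, b ^ j⁆ = ⁅a, b⁆ ^ j := fun j => by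
    induction j with
    | zero => simp
    | succ j ih => rw [pow_succ, hN.comm_mul ha hb, ih, pow_succ]
  have hzr : ⁅a, b⁆ ^ r = 1 := by
    rw [← hpow, commutatorElement_eq_one_iff_mul_comm]
    obtain ⟨c, hc⟩ := (mem_scalars_iff _).mp (hN.pow_mem b hb)
    refine Units.ext ?_
    rw [Units.val_mul, Units.val_mul, hc, Matrix.mul_smul, Matrix.smul_mul, Matrix.mul_one, Matrix.one_mul]
  obtain ⟨ζ, hζ⟩ := (mem_scalars_iff _).mp hz
  have hzN : ⁅a, b⁆ ∈ H := hNH (by
    rw [commutatorElement_def]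
    exact mul_mem (mul_mem (mul_mem ha hb) (inv_mem ha)) (inv_mem hb))
  have hsq : (ζ : F) * ζ = 1 := by
    obtain ⟨u, hu⟩ := exists_ne (α := ι → F) 0
    obtain ⟨v, hv⟩ := (hf.nondegenerate u hu).2
    have h1 := orth_fixes Q hiso _ hzN u v
    rw [hζ, Matrix.smul_mulVec, Matrix.smul_mulVec, Matrix.one_mulVec, Matrix.one_mulVec, hf.smul_left, hf.smul_right,
      RingEquiv.refl_apply, ← mul_assoc] at h1
    exact (mul_eq_right₀ hv).mp h1
  have hr2 : r ≠ 2 := fun e => by
    obtain ⟨k, hk, -⟩ := (hN.card_classes).2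
    rw [hm, e] at hk
    rcases Nat.eq_zero_or_pos k with rfl | hk0
    · simp at hk; omega
    · have : 2 ∣ 2 ^ k := dvd_pow_self 2 hk0.ne'
      omega
  obtain ⟨j, hj⟩ := hN.prime.odd_of_ne_two hr2
  refine hab (Units.ext ?_)
  have hone : ⁅a, b⁆ ^ 2 = 1 := Units.ext (by
    rw [pow_two, Units.val_mul, hζ, Matrix.smul_mul, Matrix.one_mul, smul_smul, hsq, one_smul, Units.val_one])
  rw [hj, pow_succ, pow_mul, hone, one_pow, one_mul] at hzr
  rw [hzr]

include hQ hm h2 hiso hdisc in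
/-- A non-scalar normalised subgroup is absolutely irreducible, or a class occurs. -/
theorem absIrred_or_inOLE (hirr : ActsIrreducibly (matrixSet H)) {K : Subgroup (GL ι F)} (hKH : K ≤ H)
    (hK : Normalises H K) (hns : ¬ K ≤ scalars ι F) : ActsAbsolutelyIrreducibly (matrixSet K) ∨ InOLE Q H := by
  classical
  haveI : Nonempty ι := Fintype.card_pos_iff.mp (by omega)
  have hf := orth_refl Q hQ
  have hHf := orth_fixes Q hiso
  have hKf := hHf.mono hKH
  rcases homog_or_components hirr hK with ⟨d, k, Φ, Ψ, ρ, hh⟩ | ⟨d, k, t, Φ, Ψ, ρ, cls, D, hC⟩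
  · by_cases habs : AbsIrr ρ
    · rcases Nat.lt_or_ge k 2 with hk | hk
      · exact Or.inl (hh.absIrred_of_one habs (by have := hh.pos; omega))
      · rcases Nat.lt_or_ge d 2 with hd | hd
        · refine absurd (hh.scalar_of_one ?_) hns
          have : 0 < d := Fin.pos_iff_nonempty.mpr habs.nonempty
          omega
        · obtain ⟨X₁, X₂, l, hl, h1, h2', hT⟩ := hh.tensorForm habs hK hf hKf hHf hd hk
          rw [RingEquiv.refl_apply] at hl
          rw [RingEquiv.coe_refl, Matrix.map_id] at h1 h2'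
          exact Or.inr (inOLE_of_tensor Q hQ hm h2 hiso hdisc hirr hT hl h1 h2')
    · obtain ⟨r, L, hr, hL, hadj, hcomm, hle⟩ := hh.form_field hK hf hKf habs
      have hdvd : r ∣ Fintype.card ι := IsFieldSubalgebra.dvd_card hL
      have ho : Odd r := (hr.eq_two_or_odd').resolve_left fun e => by
        rw [e, hm] at hdvd; omega
      have hsa := selfAdjoint_of_odd hL hr ho hf hadj
      refine Or.inr ⟨_, .field r L hr hdvd (fun e => hns ?_) hL hsa, hle⟩
      subst e
      exact scalar_of_full_field hf hKf hL hcomm hsa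
  · rcases hC.formDecomp hf hHf hKf hirr with ⟨t', k', D', hD, hle⟩ | ⟨k', D', hk', -, -, -⟩
    · exact Or.inr (inOLE_of_decomp Q hQ hm h2 hiso hdisc hirr hD hle)
    · omega

include hQ hm h2 hiso in
/-- An invariant subspace gives one of the classes. -/
theorem inOLE_of_invariant {W : Submodule F (ι → F)} (h0 : W ≠ ⊥) (h1 : W ≠ ⊤) (hW : Invariant H W) :
    InOLE Q H := by
  have hf := orth_refl Q hQ
  obtain ⟨U, hU0, hU1, hU, hs | ⟨hn, -⟩⟩ := hf.reducible (orth_fixes Q hiso) h0 h1 hW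
  · refine ⟨_, .singular U hU0 (fun w hw => ?_), hU.le_stabilizer⟩
    rw [Cfsg.Lib.Classical.PrimeDim.Orth.quad_eq_half Q h2, hs w hw w hw, zero_div]
  · exact ⟨_, .nondeg U hU0 hU1 (hf.nondegenerateOn hn), hU.le_stabilizer⟩

include hQ hm h2 hiso hdisc in
/-- Subgroup structure of the orthogonal groups of odd degree. -/
theorem orth_structure (hm1 : 1 ≤ m) : InOLE Q H ∨ InOrthogonalResidualClass H := by
  classical
  haveI : Nonempty ι := Fintype.card_pos_iff.mp (by omega)
  by_cases hcls : InOLE Q H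
  · exact Or.inl hcls
  have hf := orth_refl Q hQ
  have hirr : ActsIrreducibly (matrixSet H) := (irreducible_iff H).mpr fun W hinv => by
    by_contra hc
    push Not at hc
    exact hcls (inOLE_of_invariant Q hQ hm h2 hiso hc.1 hc.2 hinv)
  rcases aschbacher_cases (by rw [hm]; omega) hirr
    (fun K hKH hK hns => (absIrred_or_inOLE Q hQ hm h2 hiso hdisc hirr hKH hK hns).resolve_right hcls) with
    ⟨N, r, hNH, hN, -, -⟩ | ⟨t, k, M, Φ, Ψ, ρ, ht, hFac, hMH, hai, hperm, htrans⟩ | ⟨P, hP⟩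
  · exact absurd hNH fun h => no_sympN Q hQ hm h2 hiso hm1 hN h
  · obtain ⟨Φ', Ψ', X, c, l, hll, hX, -, hW⟩ := hFac.wreathForm ht hai hf ((orth_fixes Q hiso).mono hMH)
      (orth_fixes Q hiso) hperm htrans
    rw [RingEquiv.refl_apply] at hll
    rw [RingEquiv.coe_refl, Matrix.map_id] at hX
    have hk : Odd k := by
      have hcard : Fintype.card ι = k ^ t := by
        rw [← hW.coords.card_eq, Fintype.card_fun, Fintype.card_fin, Fintype.card_fin]
      exact (Nat.odd_pow_iff (by omega : t ≠ 0)).mp (by rw [← hcard]; exact ⟨m, hm⟩)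
    have hl1 : l = 1 := by
      rcases mul_self_eq_one_iff.mp hll with e | e
      · exact e
      · exfalso
        have := congrArg Matrix.det hX
        rw [Matrix.det_transpose, Matrix.det_smul, Fintype.card_fin, e, hk.neg_one_pow, neg_one_mul,
          eq_neg_iff_add_eq_zero, ← two_mul] at this
        exact mul_ne_zero h2 hW.det_ne_zero this
    rw [hl1, one_smul] at hX
    exact absurd (inOLE_of_wreath Q hQ hm h2 hiso hdisc hirr hW hX) hcls
  · have hPiso : ∀ g ∈ P, ∀ x, Q ((g : Matrix ι ι F) *ᵥ x) = Q x := fun g hg => hiso g (hP.le hg)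
    by_cases hreal : ∃ F₀ : Subfield F, F₀ ≠ ⊤ ∧ RealisableOver F₀ (matrixSet P)
    · obtain ⟨F₀, hne, hreal⟩ := hreal
      obtain ⟨F₁, r, B, hr, hc, -, hle, hstr⟩ :=
        Cfsg.Lib.Classical.PrimeDim.Orth.orth_subfield Q hQ h2 hm hdisc hP.normal hPiso hP.absIrred hne hreal
      exact Or.inl ⟨_, .subfield F₁ r B hr hc hstr, hle⟩
    refine Or.inr ⟨P, hP.residualCore fun F₀ hne hr => hreal ⟨F₀, hne, hr⟩, ?_⟩
    rintro ⟨σ, f, hu, hfix⟩
    exact hreal (Cfsg.Lib.Classical.PrimeDim.Orth.realisable_of_unitary Q hQ hm hPiso hP.absIrred hu hfix)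

end

end Cfsg.Lib.Classical.Aschbacher
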