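import Cfsg.Agent.Classical.Aschbacher.OrthTenMinus
import Cfsg.Agent.Classical.Orth.FamilyOvergroups

/-! Tools for orthogonal groups of plus type in degree twice an odd number. -/

set_option autoImplicit false
set_option linter.unusedSimpArgs false
set_option linter.unusedSectionVars false
set_option linter.style.haveILetI false

namespace Cfsg.Lib.Classical.Aschbacher

open Matrix Cfsg.Geo
open scoped MatrixGroups Kronecker
open Cfsg.Lib.Classical.PrimeDim.Orth (omega_preserves')
open Cfsg.Lib.Classical.PrimeDim (Invariant finrank_pi_card irreducible_iff finrank_map_mulVec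
  mem_powField card_powField powField exists_char_card val_inv_mul val_mul_inv mem_range_sup_scalars
  inv_mulVec_mulVec gl_mulVec_ne_zero)
open Cfsg.Lib.Classical (HypQuad.perp HypQuad.mem_perp)

universe u

namespace OrthEven

variable {ι : Type} [Fintype ι] [DecidableEq ι] {F : Type u} [Field F] [Fintype F] (Q : QuadraticForm F (ι → F))
  (hQ : (QuadraticMap.polarBilin Q).Nondegenerate)

include hQ in
/-- A maximal singular subspace is not moved to a disjoint one when half the degree is odd. -/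
theorem max_false {k : ℕ} (hk : Odd k) (hn : Fintype.card ι = 2 * k) {H : Subgroup (GL ι F)}
    (hirr : ActsIrreducibly (matrixSet H)) (hH : H ≤ omegaGL (⇑Q)) {U : Submodule F (ι → F)}
    (hU : Cfsg.Lib.Classical.HypQuad.IsMax Q k U)
    (hmove : ∀ g ∈ H, U.map (Matrix.toLin' (g : Matrix ι ι F)) = U ∨
      U ⊓ U.map (Matrix.toLin' (g : Matrix ι ι F)) = ⊥) : False := by
  have hinv : Invariant H U := fun g hg v hv => by
    rcases hmove g hg with e | e
    · exact e ▸ ⟨v, hv, Matrix.toLin'_apply _ _⟩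
    exfalso
    obtain ⟨x, hx, hxg⟩ := (Cfsg.Lib.Classical.Refl.mem_omegaGL Q g).mp (hH hg)
    have h := Cfsg.Lib.Classical.Refl.even_codim_inf Q hQ hn hU x (Cfsg.Lib.Classical.Refl.dickson_omega Q hQ x hx)
    rw [show Cfsg.Lib.Classical.Refl.mat Q x = (g : Matrix ι ι F) by rw [← hxg], e, finrank_bot, add_zero] at h
    exact (Nat.not_even_iff_odd.mpr hk) h
  have := hk.pos
  rcases (irreducible_iff H).mp hirr U hinv with e | e
  · have := hU.1; rw [e, finrank_bot] at this; omega
  · have := hU.1; rw [e, finrank_top, finrank_pi_card] at this; omega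

include hQ in
/-- A singular pair of halves of odd dimension is not irreducibly stabilised in `Ω`. -/
theorem pair_false {k : ℕ} (hk : Odd k) {H : Subgroup (GL ι F)} (hirr : ActsIrreducibly (matrixSet H))
    (hH : H ≤ omegaGL (⇑Q)) {D : Fin 2 → Submodule F (ι → F)} (hn : 2 * k = Fintype.card ι)
    (hD : IsMDecomposition k D) (hts : ∀ i, IsTotallySingularFor (QuadraticMap.polar (⇑Q)) (D i))
    (hle : H ≤ decompositionStabilizer D) : False := by
  have hs := pair_singular Q hQ hirr (fun g hg => omega_preserves' Q (hH hg)) hn hD hts hle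
  refine max_false Q hQ hk hn.symm hirr hH (U := D 0) ⟨hD.finrank_eq 0, hs⟩ fun g hg => ?_
  obtain ⟨π, hπ⟩ := hle hg
  rw [hπ 0]
  by_cases h : π 0 = 0
  · exact Or.inl (by rw [h])
  · exact Or.inr (hD.indep.pairwiseDisjoint (Ne.symm h)).eq_bot

include hQ in
/-- A unitary field of degree two forbids plus type when half the degree is odd. -/
theorem not_plus_of_unitary [Nonempty ι] {k : ℕ} (hk : Odd k) (hn : Fintype.card ι = 2 * k)
    {K : Subalgebra F (Matrix ι ι F)} (hK : IsFieldSubalgebra 2 K)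
    (hsim : ∀ a ∈ K, ∃ c : F, ∀ v, Q (a *ᵥ v) = c * Q v) : ¬ IsPlusTypeOn (⇑Q) ⊤ := by
  classical
  rintro ⟨U, -, hUs, hUd⟩
  rw [finrank_top, finrank_pi_card, hn] at hUd
  have hmax : Cfsg.Lib.Classical.HypQuad.IsMax Q k U := ⟨by omega, hUs⟩
  have hperp := Cfsg.Lib.Classical.HypQuad.perp_eq Q hQ (by rw [finrank_pi_card, hn]) hmax
  haveI : Nontrivial K := ⟨⟨0, 1, fun h => zero_ne_one (congrArg Subtype.val h)⟩⟩
  obtain ⟨ω, hω⟩ : ∃ ω : K, ω ∉ Submodule.span F {(1 : K)} := by
    by_contra hc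
    push Not at hc
    have h := finrank_span_singleton (K := F) (one_ne_zero (α := K))
    rw [Submodule.eq_top_iff'.mpr hc, finrank_top, hK.finrank_eq] at h
    omega
  have hspan : ∀ x : K, ∃ a b : F, (x : Matrix ι ι F) = a • 1 + b • (ω : Matrix ι ι F) := fun x => by
    have hind : LinearIndependent F ![(1 : K), ω] := by
      rw [LinearIndependent.pair_iff' one_ne_zero]
      exact fun c hc => hω (Submodule.mem_span_singleton.mpr ⟨c, hc⟩)
    have h := hind.span_eq_top_of_card_eq_finrank (by rw [Fintype.card_fin]; exact hK.finrank_eq.symm)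
    obtain ⟨c, hc⟩ := (Submodule.mem_span_range_iff_exists_fun F).mp (h.ge (Submodule.mem_top (x := x)))
    exact ⟨c 0, c 1, by
      have := congrArg Subtype.val hc
      simpa [Fin.sum_univ_two, eq_comm] using this⟩
  let L : (ι → F) →ₗ[F] (ι → F) := Matrix.toLin' (ω : Matrix ι ι F)
  have hL : ∀ v, L v = (ω : Matrix ι ι F) *ᵥ v := fun v => Matrix.toLin'_apply _ _
  let R : Submodule F (ι → F) := U ⊓ U.comap L
  have hRmem : ∀ {v}, v ∈ R ↔ v ∈ U ∧ (ω : Matrix ι ι F) *ᵥ v ∈ U := fun {v} => by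
    simp [R, L, Submodule.mem_inf, Submodule.mem_comap]
  -- the radical is a space over the field
  have hstab : ∀ (x : K), ∀ v ∈ R, (x : Matrix ι ι F) *ᵥ v ∈ R := by
    intro x v hv
    obtain ⟨hv1, hv2⟩ := hRmem.mp hv
    have hwR : (ω : Matrix ι ι F) *ᵥ v ∈ R := by
      refine hRmem.mpr ⟨hv2, ?_⟩
      obtain ⟨a, b, hab⟩ := hspan (ω * ω)
      rw [Matrix.mulVec_mulVec, show (ω : Matrix ι ι F) * (ω : Matrix ι ι F) = a • 1 + b • (ω : Matrix ι ι F) from hab,
        Matrix.add_mulVec, Matrix.smul_mulVec, Matrix.smul_mulVec, Matrix.one_mulVec]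
      exact add_mem (U.smul_mem _ hv1) (U.smul_mem _ hv2)
    obtain ⟨a, b, hab⟩ := hspan x
    rw [hab, Matrix.add_mulVec, Matrix.smul_mulVec, Matrix.smul_mulVec, Matrix.one_mulVec]
    exact add_mem (R.smul_mem _ hv) (R.smul_mem _ hwR)
  have hRev : Even (Module.finrank F R) := by
    letI : Field K := (isField_of_fieldSub hK).toField
    have hsm : ∀ (a : K) (v : ι → F), a • v = (a : Matrix ι ι F) *ᵥ v := fun a v => rfl
    haveI : IsScalarTower F K (ι → F) := IsScalarTower.of_algebraMap_smul fun c v => by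
      rw [hsm]
      show (algebraMap F (Matrix ι ι F) c) *ᵥ v = _
      rw [Algebra.algebraMap_eq_smul_one, Matrix.smul_mulVec, Matrix.one_mulVec]
    let R' : Submodule K (ι → F) :=
      { carrier := R
        zero_mem' := R.zero_mem
        add_mem' := fun {_ _} ha hb => R.add_mem ha hb
        smul_mem' := fun a v hv => by rw [hsm]; exact hstab a v hv }
    haveI : FiniteDimensional F K := FiniteDimensional.finiteDimensional_subalgebra K
    haveI : Module.Finite K (ι → F) := Module.Finite.of_restrictScalars_finite F K (ι → F)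
    have h := Module.finrank_mul_finrank F K R'
    rw [hK.finrank_eq] at h
    refine even_iff_two_dvd.mpr ⟨Module.finrank K R', ?_⟩
    rw [h]
    let e : R ≃ₗ[F] R' :=
      { toFun := fun x => ⟨x.1, x.2⟩
        invFun := fun x => ⟨x.1, x.2⟩
        map_add' := fun _ _ => rfl
        map_smul' := fun _ _ => rfl
        left_inv := fun _ => rfl
        right_inv := fun _ => rfl }
    exact e.finrank_eq
  -- the form twisted by the field is alternating
  let β : LinearMap.BilinForm F U := ((QuadraticMap.polarBilin Q).comp L).compl₁₂ U.subtype U.subtype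
  have hβ : ∀ u v : U, β u v = QuadraticMap.polar (⇑Q) ((ω : Matrix ι ι F) *ᵥ (u : ι → F)) (v : ι → F) :=
    fun u v => by simp [β, L]
  have halt : ∀ u : U, β u u = 0 := fun u => by
    obtain ⟨c, hc⟩ := hsim _ ω.2
    obtain ⟨c', hc'⟩ := hsim _ (add_mem ω.2 K.one_mem)
    rw [hβ, QuadraticMap.polar, hc, hUs _ u.2,
      show (ω : Matrix ι ι F) *ᵥ (u : ι → F) + (u : ι → F) = ((ω : Matrix ι ι F) + 1) *ᵥ (u : ι → F) by
        rw [Matrix.add_mulVec, Matrix.one_mulVec], hc', hUs _ u.2]
    ring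
  have hker : (LinearMap.ker β).map U.subtype = R := by
    ext v
    rw [hRmem]
    constructor
    · rintro ⟨u, hu, rfl⟩
      refine ⟨u.2, hperp.le ((HypQuad.mem_perp Q).mpr fun w hw => ?_)⟩
      rw [QuadraticMap.polar_comm]
      have := LinearMap.congr_fun (LinearMap.mem_ker.mp hu) ⟨w, hw⟩
      rwa [hβ] at this
    · rintro ⟨h1, h2⟩
      refine ⟨⟨v, h1⟩, LinearMap.mem_ker.mpr (LinearMap.ext fun w => ?_), rfl⟩
      rw [hβ, QuadraticMap.polar_comm]
      rw [← hperp, HypQuad.mem_perp] at h2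
      exact h2 _ w.2
  obtain ⟨C, hC⟩ := (LinearMap.ker β).exists_isCompl
  have hrefl : ∀ u v : U, β u v = -β v u := fun u v => by
    have := halt (u + v)
    simp only [map_add, LinearMap.add_apply, halt, zero_add, add_zero] at this
    linear_combination this
  have hCev : Even (Module.finrank F C) := by
    have hleft : ∀ x : C, (∀ y : C, β x y = 0) → x = 0 := fun x hx => by
      have hx' : (x : U) ∈ LinearMap.ker β := LinearMap.mem_ker.mpr (LinearMap.ext fun z => by
        obtain ⟨a, ha, c, hc, rfl⟩ := Submodule.mem_sup.mp (show z ∈ LinearMap.ker β ⊔ C by rw [hC.sup_eq_top]; trivial)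
        rw [map_add, hx ⟨c, hc⟩, add_zero, hrefl, show β a = 0 from ha]
        simp)
      exact Subtype.ext (Submodule.disjoint_def.mp hC.disjoint _ hx' x.2)
    let β' : LinearMap.BilinForm F C := β.compl₁₂ C.subtype C.subtype
    have ha : β'.IsAlt := fun v => halt (C.subtype v)
    have hb : β'.Nondegenerate := ⟨fun (x : C) (hx : ∀ y : C, β' x y = 0) => hleft x hx,
      fun (y : C) (hy : ∀ x : C, β' x y = 0) => hleft y fun x => by
        have h : β (x : U) (y : U) = 0 := hy x
        rw [hrefl, h, neg_zero]⟩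
    exact @Cfsg.Lib.Classical.even_finrank_of_symplectic F _ C _ _ _ β' ha hb
  have hsum := Submodule.finrank_add_eq_of_isCompl hC
  rw [hmax.1] at hsum
  have hk2 : Module.finrank F (LinearMap.ker β) = Module.finrank F R := by
    rw [← hker, Submodule.finrank_map_subtype_eq]
  rw [← Nat.not_even_iff_odd] at hk
  apply hk
  rw [← hsum, hk2]
  exact hRev.add hCev

include hQ in
/-- A singular line over a self-adjoint field of odd degree is impossible for an irreducible group in `Ω`. -/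
theorem line_false [Nonempty ι] {r : ℕ} (hr : Odd r) (hn : Fintype.card ι = 2 * r) {H : Subgroup (GL ι F)}
    (hirr : ActsIrreducibly (matrixSet H)) (hH : H ≤ omegaGL (⇑Q)) {K : Subalgebra F (Matrix ι ι F)}
    (hK : IsFieldSubalgebra r K) (hle : H ≤ subalgebraNormalizer K) {v : ι → F} (hv : v ≠ 0)
    (hs : ∀ k ∈ K, Q (k *ᵥ v) = 0) : False := by
  classical
  let L : (ι → F) → Submodule F (ι → F) := fun w =>
    LinearMap.range ((Matrix.toLin' : Matrix ι ι F ≃ₗ[F] _).toLinearMap.flip w ∘ₗ (Subalgebra.toSubmodule K).subtype)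
  have hLmem : ∀ {w x}, x ∈ L w ↔ ∃ k ∈ K, k *ᵥ w = x := fun {w x} => by
    constructor
    · rintro ⟨k, rfl⟩; exact ⟨k, k.2, by simp⟩
    · rintro ⟨k, hk, rfl⟩; exact ⟨⟨k, hk⟩, by simp⟩
  have hLdim : ∀ {w}, w ≠ 0 → Module.finrank F (L w) = r := fun {w} hw => by
    rw [LinearMap.finrank_range_of_inj]
    · exact hK.finrank_eq
    refine (injective_iff_map_eq_zero _).mpr fun k hk => ?_
    by_contra hk0
    obtain ⟨y, hy, e⟩ := hK.inv k k.2 fun h => hk0 (Subtype.ext h)
    apply hw
    have h1 : (y * (k : Matrix ι ι F)) *ᵥ w = 0 := by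
      rw [← Matrix.mulVec_mulVec, show (k : Matrix ι ι F) *ᵥ w = 0 by simpa using hk, Matrix.mulVec_zero]
    rwa [hK.comm y hy k k.2, e, Matrix.one_mulVec] at h1
  refine max_false Q hQ hr hn hirr hH (U := L v) ⟨hLdim hv, fun x hx => ?_⟩ fun g hg => ?_
  · obtain ⟨k, hk, rfl⟩ := hLmem.mp hx
    exact hs k hk
  have hmap : (L v).map (Matrix.toLin' (g : Matrix ι ι F)) ≤ L ((g : Matrix ι ι F) *ᵥ v) := by
    rintro _ ⟨x, hx, rfl⟩
    obtain ⟨k, hk, rfl⟩ := hLmem.mp hx
    refine hLmem.mpr ⟨_, (hle hg k).mp hk, ?_⟩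
    rw [Matrix.toLin'_apply, Matrix.mulVec_mulVec, Matrix.mulVec_mulVec, mul_assoc, val_inv_mul, mul_one]
  by_contra hc
  push Not at hc
  obtain ⟨x, hx, hx0⟩ := (Submodule.ne_bot_iff _).mp hc.2
  obtain ⟨a, ha, hax⟩ := hLmem.mp hx.1
  obtain ⟨b, hb, hbx⟩ := hLmem.mp (hmap hx.2)
  have hb0 : b ≠ 0 := fun e => hx0 (by rw [← hbx, e, Matrix.zero_mulVec])
  obtain ⟨y, hy, e⟩ := hK.inv b hb hb0
  have hgv : (g : Matrix ι ι F) *ᵥ v = (y * a) *ᵥ v := by
    rw [← Matrix.mulVec_mulVec, hax, ← hbx, Matrix.mulVec_mulVec _ y b, hK.comm y hy b hb, e, Matrix.one_mulVec]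
  refine hc.1 (Submodule.eq_of_le_of_finrank_eq (hmap.trans fun z hz => ?_) (finrank_map_mulVec _ _))
  obtain ⟨k, hk, rfl⟩ := hLmem.mp hz
  exact hLmem.mpr ⟨_, mul_mem hk (mul_mem hy ha), by rw [← Matrix.mulVec_mulVec, ← hgv]⟩

include hQ in
/-- An anti-self-adjoint element with a square scalar square gives a stabilised pair of singular halves. -/
theorem root_pair {k : ℕ} (hk : 0 < k) (hn : Fintype.card ι = 2 * k) (h2 : (2 : F) ≠ 0) {H : Subgroup (GL ι F)}
    {J : Matrix ι ι F} {r : F} (hr : r ≠ 0)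
    (hJJ : J * J = (r * r) • 1) (hadj : (orth_refl Q hQ).adj J = -J)
    (hstep : ∀ g ∈ H, ∃ s : F, (g : Matrix ι ι F) * J * ((g⁻¹ : GL ι F) : Matrix ι ι F) = s • J) :
    ∃ D : Fin 2 → Submodule F (ι → F), IsMDecomposition k D ∧
      (∀ i, IsTotallySingularFor (QuadraticMap.polar (⇑Q)) (D i)) ∧ H ≤ decompositionStabilizer D := by
  classical
  haveI : Nonempty ι := Fintype.card_pos_iff.mp (by omega)
  let E : F → Submodule F (ι → F) := fun c => LinearMap.ker (Matrix.toLin' J - c • LinearMap.id)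
  have hE : ∀ {c v}, v ∈ E c ↔ J *ᵥ v = c • v := fun {c v} => by simp [E, sub_eq_zero]
  have hsing : ∀ c, c ≠ 0 → ∀ u ∈ E c, ∀ v ∈ E c, QuadraticMap.polar (⇑Q) u v = 0 := fun c hc u hu v hv => by
    have h := (orth_refl Q hQ).adj_spec J u v
    rw [hadj, Matrix.neg_mulVec, QuadraticMap.polar_neg_right, hE.mp hu, hE.mp hv, QuadraticMap.polar_smul_left,
      QuadraticMap.polar_smul_right, smul_eq_mul] at h
    have : (2 * c) * QuadraticMap.polar (⇑Q) u v = 0 := by linear_combination h
    exact (mul_eq_zero.mp this).resolve_left (mul_ne_zero h2 hc)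
  have hdim : ∀ c, c ≠ 0 → 2 * Module.finrank F (E c) ≤ Fintype.card ι := fun c hc => by
    have h : E c ≤ HypQuad.perp Q (E c) := fun x hx => (HypQuad.mem_perp Q).mpr fun w hw => hsing c hc w hw x hx
    have := Submodule.finrank_mono h
    rw [Cfsg.Lib.Classical.HypQuad.finrank_perp Q hQ, finrank_pi_card] at this
    omega
  have htop : ∀ v, v ∈ E r ⊔ E (-r) := fun v => by
    refine Submodule.mem_sup.mpr ⟨(1 / 2 : F) • (v + (1 / r) • J *ᵥ v), hE.mpr ?_,
      (1 / 2 : F) • (v - (1 / r) • J *ᵥ v), hE.mpr ?_, ?_⟩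
    · rw [Matrix.mulVec_smul, Matrix.mulVec_add, Matrix.mulVec_smul, Matrix.mulVec_mulVec, hJJ, Matrix.smul_mulVec,
        Matrix.one_mulVec]
      match_scalars <;> field_simp
    · rw [Matrix.mulVec_smul, Matrix.mulVec_sub, Matrix.mulVec_smul, Matrix.mulVec_mulVec, hJJ, Matrix.smul_mulVec,
        Matrix.one_mulVec]
      match_scalars <;> field_simp
    · match_scalars <;> field_simp <;> ring
  have hinf : E r ⊓ E (-r) = ⊥ := (Submodule.eq_bot_iff _).mpr fun v hv => by
    obtain ⟨h1, h1'⟩ := hv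
    have h : (r + r) • v = 0 := by
      rw [add_smul]
      nth_rewrite 1 [← hE.mp h1]
      rw [hE.mp h1', neg_smul, neg_add_cancel]
    exact (smul_eq_zero.mp h).resolve_left (by rw [← two_mul]; exact mul_ne_zero h2 hr)
  have hr' : -r ≠ 0 := neg_ne_zero.mpr hr
  have hdimr : Module.finrank F (E r) = k := by
    have h := Submodule.finrank_sup_add_finrank_inf_eq (E r) (E (-r))
    rw [hinf, finrank_bot, Submodule.eq_top_iff'.mpr htop, finrank_top, finrank_pi_card] at h
    have := hdim r hr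
    have := hdim _ hr'
    omega
  have hdimr' : Module.finrank F (E (-r)) = k := by
    have h := Submodule.finrank_sup_add_finrank_inf_eq (E r) (E (-r))
    rw [hinf, finrank_bot, Submodule.eq_top_iff'.mpr htop, finrank_top, finrank_pi_card] at h
    omega
  refine ⟨![E r, E (-r)], ⟨le_rfl, hk, fun i => ?_, ?_, ?_⟩, fun i => ?_, fun g hg => ?_⟩
  · fin_cases i <;> [exact hdimr; exact hdimr']
  · exact (iSupIndep_pair (i := (0 : Fin 2)) (j := 1) (by decide) (fun k => by fin_cases k <;> simp)).mpr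
      (disjoint_iff.mpr hinf)
  · exact Submodule.eq_top_iff'.mpr fun v => (sup_le (le_iSup (![E r, E (-r)]) 0) (le_iSup (![E r, E (-r)]) 1)) (htop v)
  · fin_cases i <;> [exact hsing r hr; exact hsing _ hr']
  obtain ⟨s, hs⟩ := hstep g hg
  have hgJ : (g : Matrix ι ι F) * J = s • (J * (g : Matrix ι ι F)) := by
    have := congrArg (fun M => M * (g : Matrix ι ι F)) hs
    simpa only [mul_assoc, val_inv_mul, mul_one, Matrix.smul_mul] using this
  have hss : s * s = 1 := by
    have h : (g : Matrix ι ι F) * J * J = (s * s) • (J * J * (g : Matrix ι ι F)) := by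
      rw [hgJ, Matrix.smul_mul, mul_assoc, hgJ, Matrix.mul_smul, smul_smul, mul_assoc]
    rw [mul_assoc, hJJ, Matrix.mul_smul, Matrix.smul_mul, mul_one, one_mul, smul_smul] at h
    have hg0 : (g : Matrix ι ι F) ≠ 0 := g.ne_zero
    have h3 := smul_left_injective F hg0 h
    exact mul_right_cancel₀ (mul_ne_zero hr hr) (by linear_combination -h3)
  have hgE : ∀ (c : F), ∀ v ∈ E c, J *ᵥ ((g : Matrix ι ι F) *ᵥ v) = (s * c) • ((g : Matrix ι ι F) *ᵥ v) := fun c v hv => by
    have h := congrArg (fun M : Matrix ι ι F => M *ᵥ v) hgJ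
    simp only [Matrix.smul_mulVec, ← Matrix.mulVec_mulVec, hE.mp hv, Matrix.mulVec_smul] at h
    rw [← smul_smul, h, smul_smul, hss, one_smul]
  have himg : ∀ c c', c' = s * c → Module.finrank F (E c) = k → Module.finrank F (E c') = k →
      (E c).map (Matrix.toLin' (g : Matrix ι ι F)) = E c' := fun c c' e h h' => by
    refine Submodule.eq_of_le_of_finrank_eq ?_ ((finrank_map_mulVec _ _).trans (h.trans h'.symm))
    rintro _ ⟨v, hv, rfl⟩
    rw [Matrix.toLin'_apply, hE, e, hgE c v hv]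
  rcases mul_self_eq_one_iff.mp hss with rfl | rfl
  · refine ⟨1, fun i => ?_⟩
    fin_cases i <;> [exact himg _ _ (one_mul _).symm hdimr hdimr; exact himg _ _ (one_mul _).symm hdimr' hdimr']
  · refine ⟨Equiv.swap 0 1, fun i => ?_⟩
    fin_cases i <;> [exact himg _ _ (by ring) hdimr hdimr'; exact himg _ _ (by ring) hdimr' hdimr]

include hQ in
/-- An anti-self-adjoint element with a square scalar square is impossible for an irreducible group in `Ω`. -/
theorem root_false {k : ℕ} (hk : Odd k) (hn : Fintype.card ι = 2 * k) (h2 : (2 : F) ≠ 0) {H : Subgroup (GL ι F)}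
    (hirr : ActsIrreducibly (matrixSet H)) (hH : H ≤ omegaGL (⇑Q)) {J : Matrix ι ι F} {r : F} (hr : r ≠ 0)
    (hJJ : J * J = (r * r) • 1) (hadj : (orth_refl Q hQ).adj J = -J)
    (hstep : ∀ g ∈ H, ∃ s : F, (g : Matrix ι ι F) * J * ((g⁻¹ : GL ι F) : Matrix ι ι F) = s • J) : False := by
  obtain ⟨D, hD, hts, hle⟩ := root_pair Q hQ hk.pos hn h2 hr hJJ hadj hstep
  exact pair_false Q hQ hk hirr hH hn.symm hD hts hle

include hQ in
/-- In plus type the Gram determinant has a fixed square class. -/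
theorem square_of_plus {k : ℕ} (hn : Fintype.card ι = 2 * k) (hplus : IsPlusTypeOn (⇑Q) ⊤)
    {κ : Type} [Fintype κ] [DecidableEq κ] (hκ : Fintype.card ι = Fintype.card κ) (Φ : Matrix ι κ F)
    (hd0 : ((orth_refl Q hQ).gramIn Φ).det ≠ 0) : IsSquare ((-1) ^ k * ((orth_refl Q hQ).gramIn Φ).det) := by
  classical
  obtain ⟨e⟩ : Nonempty (ι ≃ κ) := ⟨Fintype.equivOfCardEq hκ⟩
  set Φ' := Φ.submatrix id e
  have e1 : Φ'ᵀ * gramMatrix (QuadraticMap.polar (⇑Q)) * Φ' = ((orth_refl Q hQ).gramIn Φ).submatrix e e := by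
    ext i j
    simp [Φ', ReflForm.gramIn, Matrix.mul_apply]
  have e2 := congrArg Matrix.det e1
  rw [Matrix.det_submatrix_equiv_self, Matrix.det_mul, Matrix.det_mul, Matrix.det_transpose] at e2
  obtain ⟨U, -, hUs, hUd⟩ := hplus
  rw [finrank_top, finrank_pi_card, hn] at hUd
  let b := (Pi.basisFun F ι).reindex (Equiv.ulift.{u}.symm)
  have h := Cfsg.Lib.Classical.TensorType.square_of_half (B := QuadraticMap.polarBilin Q)
    (fun x y => QuadraticMap.polar_comm _ _ _) (k := k) (by rw [finrank_pi_card, hn]) (X := U) (by omega)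
    (fun x hx y hy => Cfsg.Lib.Classical.HypQuad.polar_zero_of_singular Q hUs hx hy) b
  have e3 : Cfsg.Lib.Classical.TensorType.gram (QuadraticMap.polarBilin Q) b =
      (gramMatrix (QuadraticMap.polar (⇑Q))).submatrix Equiv.ulift Equiv.ulift := by
    ext i j
    simp [Cfsg.Lib.Classical.TensorType.gram, b, gramMatrix]
  rw [e3, Matrix.det_submatrix_equiv_self] at h
  obtain ⟨r, hr⟩ := h
  exact ⟨r * Φ'.det, by rw [← e2]; linear_combination (Φ'.det * Φ'.det) * hr⟩

include hQ in
/-- In plus type the signed Gram determinant is a square. -/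
theorem signed_square_of_plus {k : ℕ} (hk : Odd k) (hn : Fintype.card ι = 2 * k) (hplus : IsPlusTypeOn (⇑Q) ⊤)
    {κ : Type} [Fintype κ] [DecidableEq κ] (hκ : Fintype.card ι = Fintype.card κ) (Φ : Matrix ι κ F)
    (hd0 : ((orth_refl Q hQ).gramIn Φ).det ≠ 0) : IsSquare (-((orth_refl Q hQ).gramIn Φ).det) := by
  simpa [hk.neg_one_pow] using square_of_plus Q hQ hn hplus hκ Φ hd0

include hQ in
/-- In plus type a frame or a pair of isometric halves needs minus one a square. -/
theorem card_one_of_decomp (h2 : (2 : F) ≠ 0) (hplus : IsPlusTypeOn (⇑Q) ⊤) {t k m : ℕ}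
    {D : Fin t → Submodule F (ι → F)} (hD : IsOrthogonalMDecomposition (⇑Q) k D) (ht : Even t) (hm : Odd m)
    (hn : Fintype.card ι = 2 * m) : Fintype.card F % 4 = 1 := by
  classical
  obtain ⟨Φ, G, hG, hgram⟩ := decomp_coords Q hQ hD
  have hdet : ((orth_refl Q hQ).gramIn Φ).det = G.det ^ t := by
    rw [hgram, Matrix.det_kronecker, Matrix.det_one, one_pow, one_mul, Fintype.card_fin]
  obtain ⟨r, hr⟩ := signed_square_of_plus Q hQ hm hn hplus
    (by rw [Fintype.card_prod, Fintype.card_fin, Fintype.card_fin, IsMDecomposition.mul_eq hD.decomp.decomp]) Φ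
    (by rw [hdet]; exact pow_ne_zero _ hG)
  obtain ⟨s, rfl⟩ := ht
  have hsq : IsSquare (-1 : F) := ⟨r / G.det ^ s, by
    have := pow_ne_zero s hG
    rw [hdet, pow_add] at hr
    field_simp
    linear_combination hr⟩
  have h3 := FiniteField.isSquare_neg_one_iff.mp hsq
  have := Nat.odd_iff.mp (odd_card_iff.mpr h2)
  omega

include hQ in
/-- The two kinds of decompositions into halves of odd dimension in plus type. -/
theorem halves_plus (h2 : (2 : F) ≠ 0) (hplus : IsPlusTypeOn (⇑Q) ⊤) {k : ℕ} (hk : Odd k)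
    {D : Fin 2 → Submodule F (ι → F)} (hD : IsNondegenerateMDecomposition (QuadraticMap.polar (⇑Q)) k D) :
    (Fintype.card F % 4 = 1 ∧ IsOrthogonalMDecomposition (⇑Q) k D) ∨
      (Fintype.card F % 4 = 3 ∧ ¬ AreIsometricFor (⇑Q) (D 0) (D 1)) := by
  classical
  have hn : Fintype.card ι = 2 * k := (IsMDecomposition.mul_eq hD.decomp).symm
  by_cases hiso : AreIsometricFor (⇑Q) (D 0) (D 1)
  · obtain ⟨φ, hφ⟩ := hiso
    have hD' : IsOrthogonalMDecomposition (⇑Q) k D := ⟨hD, fun i j => by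
      have hrefl : ∀ i, AreIsometricFor (⇑Q) (D i) (D i) := fun i => ⟨LinearEquiv.refl F _, fun _ => rfl⟩
      have hsymm : AreIsometricFor (⇑Q) (D 1) (D 0) := ⟨φ.symm, fun w => by rw [← hφ, LinearEquiv.apply_symm_apply]⟩
      fin_cases i <;> fin_cases j
      exacts [hrefl 0, ⟨φ, hφ⟩, hsymm, hrefl 1]⟩
    exact Or.inl ⟨card_one_of_decomp Q hQ h2 hplus hD' even_two hk hn, hD'⟩
  refine Or.inr ⟨?_, hiso⟩
  have := Nat.odd_iff.mp (odd_card_iff.mpr h2)
  by_contra hc
  obtain ⟨i, hi⟩ := FiniteField.isSquare_neg_one_iff.mpr (show Fintype.card F % 4 ≠ 3 by omega)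
  obtain ⟨Φ, d₀, d₁, h0, h1, hdet, hiff⟩ := halves_gram Q hQ h2 hD
  obtain ⟨r, hr⟩ := signed_square_of_plus Q hQ hk hn hplus
    (by rw [hn, Fintype.card_prod, Fintype.card_fin, Fintype.card_fin, mul_comm]) Φ
    (by rw [hdet]; exact mul_ne_zero h0 h1)
  refine hiso (hiff ⟨i * r / d₀, ?_⟩)
  rw [hdet] at hr
  field_simp
  linear_combination -hr + (r * r) * hi

include hQ in
/-- Five isometric planes in plus type are hyperbolic. -/
theorem planes_plus (hn : Fintype.card ι = 10) (hplus : IsPlusTypeOn (⇑Q) ⊤) {D : Fin 5 → Submodule F (ι → F)}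
    (hD : IsOrthogonalMDecomposition (⇑Q) 2 D) (i : Fin 5) : IsPlusTypeOn (⇑Q) (D i) := by
  classical
  have hdis := hD.decomp.decomp.indep
  suffices h4 : ∃ x ∈ D 4, x ≠ 0 ∧ Q x = 0 by
    obtain ⟨x, hx, hx0, hxQ⟩ := h4
    obtain ⟨φ, hφ⟩ := hD.isometric 4 i
    refine ⟨Submodule.span F {((φ ⟨x, hx⟩ : D i) : ι → F)}, ?_, fun w hw => ?_, ?_⟩
    · rw [Submodule.span_le, Set.singleton_subset_iff]; exact (φ _).2
    · obtain ⟨c, rfl⟩ := Submodule.mem_span_singleton.mp hw
      rw [QuadraticMap.map_smul, hφ, hxQ, smul_zero]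
    · rw [finrank_span_singleton, hD.decomp.decomp.finrank_eq]
      intro e
      exact hx0 (congrArg Subtype.val ((map_eq_zero_iff _ φ.injective).mp (Subtype.ext e : φ ⟨x, hx⟩ = 0)))
  -- a pair of vectors with opposite values
  obtain ⟨b, x, y, hbli, hx, hy, hxy⟩ : ∃ (b : Fin 2 → D 0) (x y : D 0), LinearIndependent F b ∧
      Q (x : ι → F) = -Q (b 0 : ι → F) ∧ Q (y : ι → F) = -Q (b 1 : ι → F) ∧
      QuadraticMap.polar (⇑Q) (x : ι → F) (y : ι → F) =
        -QuadraticMap.polar (⇑Q) (b 0 : ι → F) (b 1 : ι → F) := by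
    let b := Module.finBasisOfFinrankEq F (D 0) (hD.decomp.decomp.finrank_eq 0)
    by_cases h2 : (2 : F) = 0
    · haveI : CharP F 2 := CharTwo.of_one_ne_zero_of_two_eq_zero one_ne_zero h2
      exact ⟨b, b 0, b 1, b.linearIndependent, (CharTwo.neg_eq _).symm, (CharTwo.neg_eq _).symm,
        (CharTwo.neg_eq _).symm⟩
    obtain ⟨e, he⟩ : ∃ e : D 0, Q (e : ι → F) ≠ 0 := by
      by_contra hc
      push Not at hc
      obtain ⟨-, z, hz, hne⟩ := hD.decomp.nondegenerate 0 _ (b 0).2 fun e => b.ne_zero 0 (Subtype.ext e)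
      apply hne
      simp only [QuadraticMap.polar, show Q ((b 0 : ι → F) + z) = 0 from hc (b 0 + ⟨z, hz⟩), hc, show Q z = 0 from
        hc ⟨z, hz⟩, sub_zero]
    obtain ⟨f, hf', hf0⟩ := (Submodule.ne_bot_iff _).mp
      (show LinearMap.ker ((QuadraticMap.polarBilin Q (e : ι → F)).comp (D 0).subtype) ≠ ⊥ from
        LinearMap.ker_ne_bot_of_finrank_lt (by rw [Module.finrank_self, hD.decomp.decomp.finrank_eq]; norm_num))
    have hef : QuadraticMap.polar (⇑Q) (e : ι → F) (f : ι → F) = 0 := hf'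
    have hli : LinearIndependent F ![e, f] := LinearIndependent.pair_iff.mpr fun c d h => by
      have h1 := congrArg (fun z : D 0 => QuadraticMap.polar (⇑Q) (e : ι → F) (z : ι → F)) h
      simp only [Submodule.coe_add, Submodule.coe_smul, QuadraticMap.polar_add_right, QuadraticMap.polar_smul_right,
        QuadraticMap.polar_self, hef, ZeroMemClass.coe_zero, QuadraticMap.polar_zero_right, smul_eq_mul, mul_zero,
        add_zero, two_nsmul, ← two_mul] at h1
      obtain rfl := (mul_eq_zero.mp h1).resolve_right (mul_ne_zero h2 he)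
      rw [zero_smul, zero_add] at h
      exact ⟨rfl, (smul_eq_zero.mp h).resolve_right hf0⟩
    have hfQ : Q (f : ι → F) ≠ 0 := fun h => by
      obtain ⟨-, z, hz, hne⟩ := hD.decomp.nondegenerate 0 _ f.2 fun e => hf0 (Subtype.ext e)
      apply hne
      obtain ⟨c, hc⟩ := (Submodule.mem_span_range_iff_exists_fun F).mp
        ((hli.span_eq_top_of_card_eq_finrank (by rw [Fintype.card_fin, hD.decomp.decomp.finrank_eq])).ge
          (Submodule.mem_top (x := (⟨z, hz⟩ : D 0))))
      rw [show z = c 0 • (e : ι → F) + c 1 • (f : ι → F) by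
        have := congrArg Subtype.val hc
        simpa [Fin.sum_univ_two, eq_comm] using this]
      simp [QuadraticMap.polar_add_right, QuadraticMap.polar_smul_right, QuadraticMap.polar_self, h,
        QuadraticMap.polar_comm (⇑Q) (f : ι → F) (e : ι → F), hef]
    obtain ⟨α, β, hαβ⟩ := Cfsg.Lib.Classical.Refl.binary_universal h2 he hfQ (-Q (e : ι → F))
    refine ⟨![e, f], α • e + β • f,
      (-(Q (f : ι → F) * β) / Q (e : ι → F)) • e + α • f, hli, ?_, ?_, ?_⟩ <;>
      simp only [Matrix.cons_val_zero, Matrix.cons_val_one, Submodule.coe_add, Submodule.coe_smul,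
        QuadraticMap.map_add (f := Q), QuadraticMap.map_smul, QuadraticMap.polar_add_left,
        QuadraticMap.polar_add_right, QuadraticMap.polar_smul_left, QuadraticMap.polar_smul_right,
        QuadraticMap.polar_self, QuadraticMap.polar_comm (⇑Q) (f : ι → F) (e : ι → F), hef, smul_eq_mul,
        two_nsmul]
    · linear_combination hαβ
    · field_simp
      linear_combination hαβ
    · field_simp
      ring
  choose φ hφ using fun i => hD.isometric 0 i
  have hφp : ∀ i (u v : D 0), QuadraticMap.polar (⇑Q) ((φ i u : D i) : ι → F) ((φ i v : D i) : ι → F) =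
      QuadraticMap.polar (⇑Q) (u : ι → F) (v : ι → F) := fun i u v => by
    simp only [QuadraticMap.polar, ← Submodule.coe_add, ← map_add, hφ]
  let pA : Fin 2 → Fin 5 := ![0, 2]
  let pB : Fin 2 → Fin 5 := ![1, 3]
  let xy : Fin 2 → D 0 := ![x, y]
  let w : Fin 2 × Fin 2 → ι → F := fun p =>
    ((φ (pA p.1) (b p.2) : D (pA p.1)) : ι → F) + ((φ (pB p.1) (xy p.2) : D (pB p.1)) : ι → F)
  have horth : ∀ {i j}, i ≠ j → ∀ (u : D i) (v : D j), QuadraticMap.polar (⇑Q) (u : ι → F) (v : ι → F) = 0 :=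
    fun h u v => hD.decomp.orthogonal _ _ h _ u.2 _ v.2
  have hAB : ∀ j, pA j ≠ pB j := fun j => by fin_cases j <;> decide
  have hne4 : ∀ j, pA j ≠ 4 ∧ pB j ≠ 4 := fun j => by fin_cases j <;> decide
  have hne' : ∀ j j', j ≠ j' → pA j ≠ pA j' ∧ pA j ≠ pB j' ∧ pB j ≠ pA j' ∧ pB j ≠ pB j' := by decide
  have hwQ : ∀ p, Q (w p) = 0 := by
    rintro ⟨j, a⟩
    show Q (_ + _) = 0
    rw [QuadraticMap.map_add (f := Q), hφ, hφ, horth (hAB j)]
    fin_cases a <;> simp [xy, hx, hy]
  have hwP : ∀ p r, QuadraticMap.polar (⇑Q) (w p) (w r) = 0 := by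
    rintro ⟨j, a⟩ ⟨j', a'⟩
    by_cases hjj : j = j'
    · subst hjj
      show QuadraticMap.polar (⇑Q) (_ + _) (_ + _) = 0
      rw [QuadraticMap.polar_add_left, QuadraticMap.polar_add_right, QuadraticMap.polar_add_right, hφp, hφp,
        horth (hAB j), horth (hAB j).symm]
      fin_cases a <;> fin_cases a' <;>
        simp [xy, QuadraticMap.polar_self, hx, hy, hxy, QuadraticMap.polar_comm (⇑Q) (b 1 : ι → F) (b 0 : ι → F),
          QuadraticMap.polar_comm (⇑Q) (y : ι → F) (x : ι → F)]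
    · show QuadraticMap.polar (⇑Q) (_ + _) (_ + _) = 0
      rw [QuadraticMap.polar_add_left, QuadraticMap.polar_add_right, QuadraticMap.polar_add_right]
      obtain ⟨n1, n2, n3, n4⟩ := hne' j j' hjj
      rw [horth n1, horth n2, horth n3, horth n4]
      simp
  set S := Submodule.span F (Set.range w)
  have hSs : IsTotallySingularQuad (⇑Q) S := span_singular Q w hwQ hwP
  have hS4 : S ≤ ⨆ (j) (_ : j ≠ (4 : Fin 5)), D j := Submodule.span_le.mpr (by
    rintro _ ⟨⟨j, a⟩, rfl⟩
    exact add_mem (le_iSup₂ (f := fun l (_ : l ≠ (4 : Fin 5)) => D l) (pA j) (hne4 j).1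
        (φ (pA j) (b a)).2)
      (le_iSup₂ (f := fun l (_ : l ≠ (4 : Fin 5)) => D l) (pB j) (hne4 j).2
        (φ (pB j) (xy a)).2))
  have hli : LinearIndependent F w := by
    rw [Fintype.linearIndependent_iff]
    intro c hc
    have hpair : ∀ j, ∀ z : D (pA j), c (j, 0) * QuadraticMap.polar (⇑Q) ((φ (pA j) (b 0) : D (pA j)) : ι → F) (z : ι → F) +
        c (j, 1) * QuadraticMap.polar (⇑Q) ((φ (pA j) (b 1) : D (pA j)) : ι → F) (z : ι → F) = 0 := fun j z => by
      have h := congrArg (fun v => QuadraticMap.polar (⇑Q) v (z : ι → F)) hc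
      simp only [Fintype.sum_prod_type, Fin.sum_univ_two, QuadraticMap.polar_add_left, QuadraticMap.polar_smul_left,
        smul_eq_mul, QuadraticMap.polar_zero_left, w] at h
      fin_cases j
      · have e1 := fun u => horth (i := pB 0) (j := pA 0) (by decide) u z
        have e2 := fun u => horth (i := pA 1) (j := pA 0) (by decide) u z
        have e3 := fun u => horth (i := pB 1) (j := pA 0) (by decide) u z
        erw [e1, e1, e2, e2, e3, e3] at h
        simpa using h
      · have e1 := fun u => horth (i := pA 0) (j := pA 1) (by decide) u z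
        have e2 := fun u => horth (i := pB 0) (j := pA 1) (by decide) u z
        have e3 := fun u => horth (i := pB 1) (j := pA 1) (by decide) u z
        erw [e1, e1, e2, e2, e3, e3] at h
        simpa using h
    intro p
    obtain ⟨j, a⟩ := p
    have hzero : c (j, 0) • b 0 + c (j, 1) • b 1 = 0 := by
      by_contra hne
      obtain ⟨-, z, hz, hzne⟩ := hD.decomp.nondegenerate 0 _ (c (j, 0) • b 0 + c (j, 1) • b 1).2
        (fun e => hne (Subtype.ext e))
      apply hzne
      have h := hpair j (φ (pA j) ⟨z, hz⟩)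
      rw [hφp, hφp] at h
      simpa [QuadraticMap.polar_add_left, QuadraticMap.polar_smul_left] using h
    have h := Fintype.linearIndependent_iff.mp hbli ![c (j, 0), c (j, 1)] (by simpa [Fin.sum_univ_two] using hzero)
    fin_cases a <;> [exact h 0; exact h 1]
  have hSd : Module.finrank F S = 4 := by
    rw [finrank_span_eq_card hli, Fintype.card_prod, Fintype.card_fin]
  obtain ⟨U, -, hUs, hUd⟩ := hplus
  rw [finrank_top, finrank_pi_card, hn] at hUd
  obtain ⟨A, hAU, hAd⟩ : ∃ A : Submodule F (ι → F), A ≤ U ∧ Module.finrank F A = 4 := by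
    obtain ⟨f, hf⟩ := exists_linearIndependent_of_le_finrank (R := F) (M := U) (n := 4) (by omega)
    refine ⟨(Submodule.span F (Set.range f)).map U.subtype, Submodule.map_subtype_le _ _, ?_⟩
    rw [Submodule.finrank_map_subtype_eq, finrank_span_eq_card hf, Fintype.card_fin]
  obtain ⟨g, hg, hgA⟩ := Cfsg.Lib.Classical.WittQuad.witt Q hQ A S (LinearEquiv.ofFinrankEq _ _ (hAd.trans hSd.symm))
    (fun z => by rw [hSs _ (Subtype.mem _), hUs _ (hAU z.2)])
  set W := U.map g.toLinearMap with hW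
  have hWd : Module.finrank F W = 5 := by rw [hW, LinearEquiv.finrank_map_eq]; omega
  have hWs : ∀ v ∈ W, Q v = 0 := by rintro _ ⟨v, hv, rfl⟩; exact (hg v).trans (hUs v hv)
  have hSW : S ≤ W := fun z hz => ⟨((LinearEquiv.ofFinrankEq A S (hAd.trans hSd.symm)).symm ⟨z, hz⟩ : A),
    hAU (Subtype.mem _), by
      show g _ = z
      rw [hgA, LinearEquiv.apply_symm_apply]⟩
  have hdisj : S ⊓ D 4 = ⊥ := by
    rw [inf_comm]; exact ((hdis 4).mono_right hS4).eq_bot
  have h6 : Module.finrank F ↥(S ⊔ D 4) = 6 := by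
    have h := Submodule.finrank_sup_add_finrank_inf_eq S (D 4)
    rw [hdisj, finrank_bot, hSd, hD.decomp.decomp.finrank_eq] at h
    omega
  have hperp : HypQuad.perp Q S = S ⊔ D 4 := by
    refine (Submodule.eq_of_le_of_finrank_eq ?_ ?_).symm
    · refine sup_le (fun z hz => (HypQuad.mem_perp Q).mpr fun u hu =>
        Cfsg.Lib.Classical.HypQuad.polar_zero_of_singular Q hSs hu hz) fun z hz => (HypQuad.mem_perp Q).mpr fun u hu => ?_
      induction hu using Submodule.span_induction with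
      | mem u hu =>
        obtain ⟨⟨j, a⟩, rfl⟩ := hu
        show QuadraticMap.polar (⇑Q) (_ + _) z = 0
        rw [QuadraticMap.polar_add_left, horth (j := 4) (hne4 j).1 _ ⟨z, hz⟩,
          horth (j := 4) (hne4 j).2 _ ⟨z, hz⟩, add_zero]
      | zero => exact QuadraticMap.polar_zero_left _ _
      | add u u' _ _ h h' => rw [QuadraticMap.polar_add_left, h, h', add_zero]
      | smul c u _ h => rw [QuadraticMap.polar_smul_left, h, smul_zero]
    · rw [h6, Cfsg.Lib.Classical.HypQuad.finrank_perp Q hQ, finrank_pi_card, hn, hSd]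
  have hWsup : W ⊔ D 4 ≤ S ⊔ D 4 := sup_le (by
    rw [← hperp]
    exact fun z hz => (HypQuad.mem_perp Q).mpr fun u hu =>
      Cfsg.Lib.Classical.HypQuad.polar_zero_of_singular Q hWs (hSW hu) hz) le_sup_right
  have h := Submodule.finrank_sup_add_finrank_inf_eq W (D 4)
  have h' := Submodule.finrank_mono hWsup
  rw [h6] at h'
  rw [hWd, hD.decomp.decomp.finrank_eq] at h
  obtain ⟨z, hz, hz0⟩ := (Submodule.ne_bot_iff (W ⊓ D 4)).mp (fun e => by rw [e, finrank_bot] at h; omega)
  exact ⟨z, hz.2, hz0, hWs z hz.1⟩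

end OrthEven

end Cfsg.Lib.Classical.Aschbacher
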