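import Cfsg.Agent.Classical.Aschbacher.OrthTwelveMinus
import Cfsg.Agent.Classical.Aschbacher.OrthFieldTwo

/-! Decompositions and binary factors in degree twice an odd number. -/

set_option autoImplicit false
set_option linter.unusedSimpArgs false
set_option linter.unusedSectionVars false
set_option linter.style.haveILetI false

namespace Cfsg.Lib.Classical.Aschbacher

open Matrix Cfsg.Geo
open scoped MatrixGroups Kronecker
open Cfsg.Lib.Classical.PrimeDim (Invariant finrank_pi_card irreducible_iff finrank_map_mulVec exists_char_card powField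
  card_powField exists_prime_index_subfield val_inv_mul val_mul_inv mem_range_sup_scalars inv_mulVec_mulVec
  gl_mulVec_ne_zero)
open Cfsg.Lib.Classical (HypQuad.perp HypQuad.mem_perp)
open Cfsg.Lib.Classical.Refl (siegelMap siegelG siegelG_mul mat_siegelG siegelG_mem_omega mem_omegaGL)

universe u

namespace OrthEven

variable {ι : Type} [Fintype ι] [DecidableEq ι] {F : Type u} [Field F] [Fintype F] (Q : QuadraticForm F (ι → F))
  (hQ : (QuadraticMap.polarBilin Q).Nondegenerate)

theorem isSquare_mul_of_not (h2 : (2 : F) ≠ 0) {a b : F} (ha : ¬ IsSquare a) (hb : ¬ IsSquare b) :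
    IsSquare (a * b) := by
  classical
  have hchar : ringChar F ≠ 2 := fun e => h2 (by
    haveI : CharP F 2 := ringChar.eq_iff.mp e
    exact CharTwo.two_eq_zero)
  have ha' := quadraticChar_neg_one_iff_not_isSquare.mpr ha
  have hb' := quadraticChar_neg_one_iff_not_isSquare.mpr hb
  have h0 : a * b ≠ 0 := mul_ne_zero (fun e => ha (e ▸ IsSquare.zero)) (fun e => hb (e ▸ IsSquare.zero))
  rw [← quadraticChar_one_iff_isSquare h0, map_mul, ha', hb']
  norm_num

include hQ in
/-- Half of the space is totally singular when the signed discriminant is a square. -/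
theorem plus_of_signed_coords (h2 : (2 : F) ≠ 0) {k : ℕ} (hk : Odd k) (hn : Fintype.card ι = 2 * k) {κ : Type}
    [Fintype κ] [DecidableEq κ] (hκ : Fintype.card ι = Fintype.card κ) (Φ : Matrix ι κ F)
    (hd0 : ((orth_refl Q hQ).gramIn Φ).det ≠ 0) (hsq : IsSquare (-((orth_refl Q hQ).gramIn Φ).det)) :
    IsPlusTypeOn (⇑Q) ⊤ := by
  classical
  obtain ⟨e⟩ : Nonempty (ι ≃ κ) := ⟨Fintype.equivOfCardEq hκ⟩
  set Φ' := Φ.submatrix id e
  have e1 : Φ'ᵀ * gramMatrix (QuadraticMap.polar (⇑Q)) * Φ' = ((orth_refl Q hQ).gramIn Φ).submatrix e e := by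
    ext i j
    simp [Φ', ReflForm.gramIn, Matrix.mul_apply]
  have e2 := congrArg Matrix.det e1
  rw [Matrix.det_submatrix_equiv_self, Matrix.det_mul, Matrix.det_mul, Matrix.det_transpose] at e2
  obtain ⟨r, hr⟩ := hsq
  have hΦ : Φ'.det ≠ 0 := fun h0 => hd0 (by rw [← e2, h0, mul_zero])
  let b := (Pi.basisFun F ι).reindex (Equiv.ulift.{u}.symm)
  obtain ⟨X, hX, hXi⟩ := Cfsg.Lib.Classical.TensorType.half_of_square k
    (B := QuadraticMap.polarBilin Q) ⟨fun u v => QuadraticMap.polar_comm _ _ _, fun u hu => hQ.1 u hu, h2⟩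
    (by rw [finrank_pi_card, hn]) b (by
      rw [hk.neg_one_pow, neg_one_mul]
      have e3 : Cfsg.Lib.Classical.TensorType.gram (QuadraticMap.polarBilin Q) b =
          (gramMatrix (QuadraticMap.polar (⇑Q))).submatrix Equiv.ulift Equiv.ulift := by
        ext i j
        simp [Cfsg.Lib.Classical.TensorType.gram, b, gramMatrix]
      rw [e3, Matrix.det_submatrix_equiv_self]
      refine ⟨r / Φ'.det, ?_⟩
      field_simp
      linear_combination -e2 + hr)
  refine plus_of_singular Q (W := X) (fun x hx => ?_) (by rw [hX, hn])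
  rw [Cfsg.Lib.Classical.PrimeDim.Orth.quad_eq_half Q h2, show QuadraticMap.polar (⇑Q) x x = 0 from hXi x hx x hx,
    zero_div]

include hQ in
theorem omega_not_le_planes (hn : 8 ≤ Fintype.card ι) {t : ℕ} {D : Fin t → Submodule F (ι → F)}
    (hD : IsMDecomposition 2 D) : ¬ omegaGL (⇑Q) ≤ decompositionStabilizer D := by
  classical
  intro hle
  have ht : 2 ≤ t := hD.two_le
  have hdisj : ∀ {i j : Fin t}, i ≠ j → ∀ {x}, x ∈ D i → x ∈ D j → x = 0 := fun {i j} h {x} hx hy =>
    Submodule.disjoint_def.mp (hD.indep.pairwiseDisjoint h) x hx hy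
  have hne : ∀ i, ∃ x ∈ D i, x ≠ 0 := fun i => (Submodule.ne_bot_iff _).mp fun e => by
    have := hD.finrank_eq i; rw [e, finrank_bot] at this; omega
  have hDinj : Function.Injective D := fun i j e => by
    by_contra h
    obtain ⟨x, hx, hx0⟩ := hne i
    exact hx0 (hdisj h hx (e ▸ hx))
  -- the permutation of a Siegel map
  have hperm : ∀ u z : ι → F, Q u = 0 → QuadraticMap.polar (⇑Q) u z = 0 →
      ∃ π : Equiv.Perm (Fin t), ∀ i, ∀ x ∈ D i, siegelMap Q u z x ∈ D (π i) := fun u z hu huz => by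
    obtain ⟨g, hg, hgx⟩ := Cfsg.Lib.Classical.PrimeDim.Orth.exists_siegel_gl Q hQ (by omega) hu huz
    obtain ⟨π, hπ⟩ := hle hg
    exact ⟨π, fun i x hx => hπ i ▸ ⟨x, hx, (Matrix.toLin'_apply _ _).trans (hgx x)⟩⟩
  have hinj : ∀ u z : ι → F, Q u = 0 → QuadraticMap.polar (⇑Q) u z = 0 →
      Function.Injective (siegelMap Q u z) := fun u z hu huz x y e => by
    obtain ⟨g, hg, hgx⟩ := Cfsg.Lib.Classical.PrimeDim.Orth.exists_siegel_gl Q hQ (by omega) hu huz
    rw [← hgx, ← hgx] at e
    rw [← inv_mulVec_mulVec g x, e, inv_mulVec_mulVec]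
  have huniq : ∀ u z : ι → F, Q u = 0 → QuadraticMap.polar (⇑Q) u z = 0 → ∀ π π' : Equiv.Perm (Fin t),
      (∀ i, ∀ x ∈ D i, siegelMap Q u z x ∈ D (π i)) → (∀ i, ∀ x ∈ D i, siegelMap Q u z x ∈ D (π' i)) → π = π' :=
    fun u z hu huz π π' h h' => Equiv.ext fun i => by
      by_contra hc
      obtain ⟨x, hx, hx0⟩ := hne i
      have h0 : siegelMap Q u z x = siegelMap Q u z 0 :=
        (hdisj hc (h i x hx) (h' i x hx)).trans (by simp [siegelMap])
      exact hx0 (hinj u z hu huz h0)
  -- a moved plane contains the centre and the axis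
  have hmove : ∀ u z : ι → F, Q u = 0 → QuadraticMap.polar (⇑Q) u z = 0 → ∀ π : Equiv.Perm (Fin t),
      (∀ i, ∀ x ∈ D i, siegelMap Q u z x ∈ D (π i)) → ∀ i, π i ≠ i →
      z ∈ D i ⊔ D (π i) ∧ π = Equiv.swap i (π i) := by
    intro u z hu huz π h i hi
    set L := Submodule.span F ({u, z} : Set (ι → F)) with hL
    obtain ⟨g, hg, hgx⟩ := Cfsg.Lib.Classical.PrimeDim.Orth.exists_siegel_gl Q hQ (by omega) hu huz
    let d : (ι → F) →ₗ[F] (ι → F) := Matrix.toLin' (g : Matrix ι ι F) - LinearMap.id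
    have hd : ∀ x, d x = siegelMap Q u z x - x := fun x => by simp [d, hgx]
    have hdL : ∀ x, d x ∈ L := fun x => by
      rw [hd, siegelMap, add_assoc, add_sub_cancel_left]
      exact add_mem (Submodule.smul_mem _ _ (Submodule.subset_span (by simp)))
        (Submodule.smul_mem _ _ (Submodule.subset_span (by simp)))
    have himage : ∀ l, π l ≠ l → (D l).map d = L ∧ (D l).map d ≤ D l ⊔ D (π l) := fun l hl => by
      have hsub : (D l).map d ≤ D l ⊔ D (π l) := by
        rintro _ ⟨x, hx, rfl⟩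
        rw [hd]
        exact sub_mem (Submodule.mem_sup_right (h l x hx)) (Submodule.mem_sup_left hx)
      have hinjd : Function.Injective (d.comp (D l).subtype) := (injective_iff_map_eq_zero _).mpr fun x hx => by
        change d x = 0 at hx
        rw [hd, sub_eq_zero] at hx
        exact Subtype.ext (hdisj hl (hx ▸ h l x x.2) x.2)
      refine ⟨Submodule.eq_of_le_of_finrank_le (by rintro _ ⟨x, -, rfl⟩; exact hdL x) ?_, hsub⟩
      have e : (D l).map d = LinearMap.range (d.comp (D l).subtype) := by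
        rw [LinearMap.range_comp, Submodule.range_subtype]
      rw [e, LinearMap.finrank_range_of_inj hinjd, hD.finrank_eq]
      exact Cfsg.Lib.Classical.Refl.finrank_pair_le u z
    obtain ⟨hLi, hLsub⟩ := himage i hi
    refine ⟨hLsub (hLi ▸ Submodule.subset_span (by simp)), Equiv.ext fun l => ?_⟩
    by_cases hl : π l = l
    · rw [hl, Equiv.swap_apply_of_ne_of_ne (fun e => hi (by rw [← e]; exact hl))
        (fun e => hi (π.injective (by rw [← e]; exact hl)))]
    have hl' := (himage l hl).2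
    rw [(himage l hl).1] at hl'
    have hmem : ∀ m, (m = i ∨ m = π i) → m = l ∨ m = π l := by
      intro m hm
      by_contra hc
      push Not at hc
      obtain ⟨x, hx, hx0⟩ := hne i
      have hdx := hl' (hdL x)
      rw [hd] at hdx
      have hle' : D l ⊔ D (π l) ≤ ⨆ (j) (_ : j ≠ m), D j :=
        sup_le (le_iSup₂ (f := fun j (_ : j ≠ m) => D j) l (Ne.symm hc.1))
          (le_iSup₂ (f := fun j (_ : j ≠ m) => D j) (π l) (Ne.symm hc.2))
      rcases hm with rfl | rfl
      · refine hx0 (Submodule.disjoint_def.mp (hD.indep m) x hx ?_)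
        have e : x = siegelMap Q u z x - (siegelMap Q u z x - x) := by abel
        rw [e]
        exact sub_mem (le_iSup₂ (f := fun j (_ : j ≠ m) => D j) (π m) hi (h m x hx)) (hle' hdx)
      · refine hx0 (hinj u z hu huz ((Submodule.disjoint_def.mp (hD.indep (π i)) _ (h i x hx) ?_).trans
          (show siegelMap Q u z 0 = 0 by simp [siegelMap]).symm))
        have e : siegelMap Q u z x = (siegelMap Q u z x - x) + x := by abel
        rw [e]
        exact add_mem (hle' hdx) (le_iSup₂ (f := fun j (_ : j ≠ π i) => D j) i (Ne.symm hi) hx)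
    rcases hmem i (Or.inl rfl) with e | e
    · rw [← e, Equiv.swap_apply_left]
    · rcases hmem (π i) (Or.inr rfl) with e' | e'
      · rw [← e', Equiv.swap_apply_right, e', ← e]
      · exact absurd (e'.trans e.symm) hi
  -- every Siegel map fixes the members
  have hfix : ∀ u z : ι → F, Q u = 0 → QuadraticMap.polar (⇑Q) u z = 0 → ∀ π : Equiv.Perm (Fin t),
      (∀ i, ∀ x ∈ D i, siegelMap Q u z x ∈ D (π i)) → π = 1 := by
    intro u z₀ hu huz₀ π₀ hπ₀
    by_contra hne1
    obtain ⟨i, hi⟩ : ∃ i, π₀ i ≠ i := by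
      by_contra hc; push Not at hc; exact hne1 (Equiv.ext hc)
    obtain ⟨hz₀, hswap⟩ := hmove u z₀ hu huz₀ π₀ hπ₀ i hi
    have hsub : HypQuad.perp Q (Submodule.span F {u}) ≤ D i ⊔ D (π₀ i) := by
      intro z hz
      have huz : QuadraticMap.polar (⇑Q) u z = 0 := (HypQuad.mem_perp Q).mp hz u (Submodule.mem_span_singleton_self u)
      obtain ⟨π, hπ⟩ := hperm u z hu huz
      by_cases hπ1 : π = 1
      · have huzz : QuadraticMap.polar (⇑Q) u (z₀ + z) = 0 := by rw [QuadraticMap.polar_add_right, huz₀, huz, add_zero]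
        have h' : ∀ j, ∀ x ∈ D j, siegelMap Q u (z₀ + z) x ∈ D (π₀ j) := fun j x hx => by
          rw [← mat_siegelG Q hu huzz, ← siegelG_mul Q hu huz₀ huz, Cfsg.Lib.Classical.Refl.mat,
            Cfsg.Lib.Classical.Refl.mulVec_mul]
          change Cfsg.Lib.Classical.Refl.mat Q _ *ᵥ (Cfsg.Lib.Classical.Refl.mat Q _ *ᵥ x) ∈ _
          rw [mat_siegelG, mat_siegelG]
          have := hπ j x hx
          rw [hπ1, Equiv.Perm.one_apply] at this
          exact hπ₀ j _ this
        have h1 := (hmove u _ hu huzz π₀ h' i hi).1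
        exact (Submodule.add_mem_iff_right _ hz₀).mp h1
      · obtain ⟨l, hl⟩ : ∃ l, π l ≠ l := by
          by_contra hc; push Not at hc; exact hπ1 (Equiv.ext hc)
        obtain ⟨hzl, hswapl⟩ := hmove u z hu huz π hπ l hl
        have huzz : QuadraticMap.polar (⇑Q) u (z₀ + z) = 0 := by rw [QuadraticMap.polar_add_right, huz₀, huz, add_zero]
        have h' : ∀ j, ∀ x ∈ D j, siegelMap Q u (z₀ + z) x ∈ D ((π₀ * π) j) := fun j x hx => by
          rw [← mat_siegelG Q hu huzz, ← siegelG_mul Q hu huz₀ huz, Cfsg.Lib.Classical.Refl.mat,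
            Cfsg.Lib.Classical.Refl.mulVec_mul]
          change Cfsg.Lib.Classical.Refl.mat Q _ *ᵥ (Cfsg.Lib.Classical.Refl.mat Q _ *ᵥ x) ∈ _
          rw [mat_siegelG, mat_siegelG]
          exact hπ₀ _ _ (hπ j x hx)
        have hprod : π₀ * π = 1 := by
          by_contra hp
          obtain ⟨m, hm⟩ : ∃ m, (π₀ * π) m ≠ m := by
            by_contra hc; push Not at hc; exact hp (Equiv.ext hc)
          have hs := congrArg Equiv.Perm.sign (hmove u _ hu huzz _ h' m hm).2
          have s0 : Equiv.Perm.sign π₀ = -1 := by rw [hswap]; exact Equiv.Perm.sign_swap (Ne.symm hi)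
          have s1 : Equiv.Perm.sign π = -1 := by rw [hswapl]; exact Equiv.Perm.sign_swap (Ne.symm hl)
          rw [Equiv.Perm.sign_mul, s0, s1, Equiv.Perm.sign_swap (Ne.symm hm)] at hs
          exact absurd hs (by decide)
        have hππ : π = π₀ := by
          have : π = π₀⁻¹ := eq_inv_of_mul_eq_one_right hprod
          rw [this, hswap, Equiv.swap_inv]
        have h1 := (hmove u z hu huz π hπ i (by rw [hππ]; exact hi)).1
        rwa [hππ] at h1
    have h1 := Submodule.finrank_mono hsub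
    have h2 := Submodule.finrank_add_le_finrank_add_finrank (D i) (D (π₀ i))
    have h3 : Module.finrank F (Submodule.span F ({u} : Set (ι → F))) ≤ 1 :=
      (finrank_span_le_card _).trans (by simp)
    rw [Cfsg.Lib.Classical.HypQuad.finrank_perp Q hQ, finrank_pi_card] at h1
    rw [hD.finrank_eq, hD.finrank_eq] at h2
    omega
  let i₀ : Fin t := ⟨0, by omega⟩
  refine omega_not_le_subspace' Q hQ (by omega) (W := D i₀) (fun e => ?_) (fun e => ?_)
    (omega_le_of_siegel Q hQ (by omega) _ fun u z hu huz g hg hgx => ?_)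
  · have := hD.finrank_eq i₀; rw [e, finrank_bot] at this; omega
  · have h1 := hD.finrank_eq i₀
    rw [e, finrank_top, finrank_pi_card] at h1
    omega
  · obtain ⟨π, hπ⟩ := hperm u z hu huz
    have h1 := hfix u z hu huz π hπ
    have hin : ∀ x ∈ D i₀, (g : Matrix ι ι F) *ᵥ x ∈ D i₀ := fun x hx => by
      have := hπ i₀ x hx
      rwa [h1, Equiv.Perm.one_apply, ← hgx] at this
    have hmap : (D i₀).map (Matrix.toLin' (g : Matrix ι ι F)) = D i₀ := Submodule.eq_of_le_of_finrank_eq
      (by rintro _ ⟨x, hx, rfl⟩; rw [Matrix.toLin'_apply]; exact hin x hx) (finrank_map_mulVec g _)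
    intro x
    refine ⟨hin x, fun hx => ?_⟩
    rw [← hmap] at hx
    obtain ⟨y, hy, hyx⟩ := hx
    have : y = x := by
      rw [Matrix.toLin'_apply] at hyx
      change (g : Matrix ι ι F) *ᵥ y = (g : Matrix ι ι F) *ᵥ x at hyx
      rw [← inv_mulVec_mulVec g y, hyx, inv_mulVec_mulVec]
    exact this ▸ hy

include hQ in
/-- Coordinates adapted to isometric blocks. -/
theorem decomp_coords' {t k : ℕ} {D : Fin t → Submodule F (ι → F)} (hD : IsOrthogonalMDecomposition (⇑Q) k D) :
    ∃ (Φ : Matrix ι (Fin t × Fin k) F) (G : Matrix (Fin k) (Fin k) F), G.det ≠ 0 ∧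
      (orth_refl Q hQ).gramIn Φ = (1 : Matrix (Fin t) (Fin t) F) ⊗ₖ G ∧ ∀ p, Φ.col p ∈ D p.1 := by
  classical
  have h2t := hD.decomp.decomp.two_le
  let i₀ : Fin t := ⟨0, by omega⟩
  let b := Module.finBasisOfFinrankEq F (D i₀) (hD.decomp.decomp.finrank_eq i₀)
  choose φ hφ using fun i => hD.isometric i₀ i
  let Φ : Matrix ι (Fin t × Fin k) F := Matrix.of fun l p => ((φ p.1 (b p.2) : D p.1) : ι → F) l
  have hcol : ∀ i a, Φ.col (i, a) = ((φ i (b a) : D i) : ι → F) := fun i a => rfl
  let G : Matrix (Fin k) (Fin k) F := Matrix.of fun a c => QuadraticMap.polar (⇑Q) (b a : ι → F) (b c : ι → F)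
  refine ⟨Φ, G, fun h0 => ?_, ?_, fun p => (φ p.1 (b p.2)).2⟩
  · obtain ⟨x, hx0, hx⟩ := Matrix.exists_vecMul_eq_zero_iff.mpr h0
    set v : D i₀ := ∑ a, x a • b a with hv
    have hv0 : v ≠ 0 := fun e => hx0 (funext fun i => by
      simpa using Fintype.linearIndependent_iff.mp b.linearIndependent x e i)
    obtain ⟨-, w, hw, hne⟩ := hD.decomp.nondegenerate i₀ _ v.2 (fun e => hv0 (Subtype.ext e))
    apply hne
    have hzero : ((QuadraticMap.polarBilin Q) (v : ι → F)).comp (D i₀).subtype = 0 := b.ext fun c => by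
      rw [LinearMap.comp_apply, LinearMap.zero_apply, hv, Submodule.coe_subtype, Submodule.coe_sum, map_sum,
        LinearMap.coe_sum, Finset.sum_apply]
      simp only [Submodule.coe_smul, map_smul, LinearMap.smul_apply, QuadraticMap.polarBilin_apply_apply, smul_eq_mul]
      exact congrFun hx c
    exact LinearMap.congr_fun hzero ⟨w, hw⟩
  · ext ⟨i, a⟩ ⟨j, c⟩
    rw [← gram_cols Q hQ, hcol, hcol, Matrix.kronecker_apply, Matrix.one_apply]
    by_cases hij : i = j
    · subst hij
      rw [if_pos rfl, one_mul]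
      show _ = QuadraticMap.polar (⇑Q) _ _
      simp only [QuadraticMap.polar, ← Submodule.coe_add, ← map_add, hφ]
    · rw [if_neg hij, zero_mul]
      exact hD.decomp.orthogonal i j hij _ (φ i (b a)).2 _ (φ j (b c)).2

include hQ in
/-- Coordinates adapted to isometric blocks, without the columns. -/
theorem decomp_coords {t k : ℕ} {D : Fin t → Submodule F (ι → F)} (hD : IsOrthogonalMDecomposition (⇑Q) k D) :
    ∃ (Φ : Matrix ι (Fin t × Fin k) F) (G : Matrix (Fin k) (Fin k) F), G.det ≠ 0 ∧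
      (orth_refl Q hQ).gramIn Φ = (1 : Matrix (Fin t) (Fin t) F) ⊗ₖ G := by
  obtain ⟨Φ, G, h, hg, -⟩ := decomp_coords' Q hQ hD
  exact ⟨Φ, G, h, hg⟩

include hQ in
/-- A frame or a pair of isometric halves needs minus one a non-square. -/
theorem card_three_of_decomp (h2 : (2 : F) ≠ 0) (hminus : ¬ IsPlusTypeOn (⇑Q) ⊤) {t k m : ℕ}
    {D : Fin t → Submodule F (ι → F)} (hD : IsOrthogonalMDecomposition (⇑Q) k D) (ht : Even t) (hm : Odd m)
    (hn : Fintype.card ι = 2 * m) : Fintype.card F % 4 = 3 := by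
  classical
  by_contra hc
  obtain ⟨Φ, G, hG, hgram⟩ := decomp_coords Q hQ hD
  obtain ⟨r, hr⟩ := FiniteField.isSquare_neg_one_iff.mpr hc
  obtain ⟨s, rfl⟩ := ht
  refine hminus (plus_of_signed_coords Q hQ h2 hm hn (by
    rw [Fintype.card_prod, Fintype.card_fin, Fintype.card_fin, IsMDecomposition.mul_eq hD.decomp.decomp]) Φ ?_ ?_) <;>
    rw [hgram, Matrix.det_kronecker, Matrix.det_one, one_pow, one_mul, Fintype.card_fin]
  · exact pow_ne_zero _ hG
  · exact ⟨r * G.det ^ s, by rw [pow_add]; linear_combination (G.det ^ s * G.det ^ s) * hr⟩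

include hQ in
/-- A frame over a non-prime field lies in a subfield group of prime index. -/
theorem frame_subfield_any (h2 : (2 : F) ≠ 0) (hpr : ¬ (Fintype.card F).Prime) {t : ℕ}
    {D : Fin t → Submodule F (ι → F)} (hD : IsOrthogonalMDecomposition (⇑Q) 1 D) {H : Subgroup (GL ι F)}
    (hiso : ∀ g ∈ H, ∀ x, Q ((g : Matrix ι ι F) *ᵥ x) = Q x) (hle : H ≤ decompositionStabilizer D) :
    ∃ (F₁ : Subfield F) (r : ℕ) (B : GL ι F) (ζ : F), r.Prime ∧ Fintype.card F = Nat.card F₁ ^ r ∧ ζ ≠ 0 ∧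
      IsQuadFormRationalStructure (fun v => ζ * Q v) F₁ B ∧ H ≤ subfieldSubgroup F₁ B := by
  classical
  have h2t := hD.decomp.decomp.two_le
  have hcard : Fintype.card ι = t := by rw [← IsMDecomposition.mul_eq hD.decomp.decomp, mul_one]
  haveI : Nonempty ι := Fintype.card_pos_iff.mp (by omega)
  let i₀ : Fin t := ⟨0, by omega⟩
  obtain ⟨v, hv0', hline⟩ := finrank_eq_one_iff'.mp (hD.decomp.decomp.finrank_eq i₀)
  have hv0 : (v : ι → F) ≠ 0 := fun e => hv0' (Subtype.ext e)
  set a := Q (v : ι → F) with ha'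
  have ha : a ≠ 0 := fun e => by
    obtain ⟨⟨x, hx, hne⟩, -⟩ := hD.decomp.nondegenerate _ _ v.2 hv0
    obtain ⟨c, hc⟩ := hline ⟨x, hx⟩
    obtain rfl : c • (v : ι → F) = x := congrArg Subtype.val hc
    rw [QuadraticMap.polar_smul_left, QuadraticMap.polar_self, show Q (v : ι → F) = 0 from e, smul_zero, smul_zero]
      at hne
    exact hne rfl
  choose φ hφ using fun i => hD.isometric i₀ i
  set b : Fin t → ι → F := fun i => (φ i v : D i) with hb
  have hbQ : ∀ i, Q (b i) = a := fun i => hφ i v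
  have hbl : ∀ i, ∀ w ∈ D i, ∃ c : F, w = c • b i := fun i w hw => by
    obtain ⟨c, hc⟩ := hline ((φ i).symm ⟨w, hw⟩)
    refine ⟨c, ?_⟩
    have := congrArg (fun x => ((φ i x : D i) : ι → F)) hc
    simpa using this.symm
  obtain ⟨p, f, hp, hchar, hf0, hf⟩ := exists_char_card F
  haveI := Fact.mk hp
  have hne : powField F p 1 ≠ ⊤ := fun e => by
    have h1 := card_powField (F := F) (p := p) (m := 1) (f := f) one_pos hf (one_dvd f)
    rw [e, Nat.card_congr Subfield.topEquiv.toEquiv, Nat.card_eq_fintype_card, pow_one] at h1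
    exact hpr (h1 ▸ hp)
  obtain ⟨F₁, r, -, hr, hc⟩ := exists_prime_index_subfield hne
  rw [Nat.card_eq_fintype_card] at hc
  let e : ι ≃ Fin t := Fintype.equivFinOfCardEq hcard
  let P : Matrix ι ι F := Matrix.of fun x j => b (e j) x
  have hPcol : ∀ j, P *ᵥ Pi.single j 1 = b (e j) := fun j => by rw [Matrix.mulVec_single_one]; rfl
  have hpol : ∀ i j, QuadraticMap.polar (⇑Q) (b (e i)) (b (e j)) = if i = j then 2 * a else 0 := fun i j => by
    split_ifs with h
    · rw [h, QuadraticMap.polar_self, hbQ, two_nsmul, two_mul]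
    · exact hD.decomp.orthogonal _ _ (fun h' => h (e.injective h')) _ (φ _ v).2 _ (φ _ v).2
  have hval : ∀ u : ι → F, Q (P *ᵥ u) = a * ∑ i, u i * u i := fun u => by
    rw [Cfsg.Lib.Classical.PrimeDim.Orth.quad_eq_half Q h2, div_eq_iff h2]
    conv_lhs => rw [pi_eq_sum_univ' u, Matrix.mulVec_sum]
    rw [← QuadraticMap.polarBilin_apply_apply]
    simp only [Matrix.mulVec_smul, hPcol, map_sum, LinearMap.coe_sum, Finset.sum_apply, map_smul, LinearMap.smul_apply,
      QuadraticMap.polarBilin_apply_apply, hpol, smul_eq_mul, mul_ite, mul_zero, Finset.sum_ite_eq, Finset.sum_ite_eq',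
      Finset.mem_univ, if_true]
    rw [Finset.mul_sum, Finset.sum_mul]
    exact Finset.sum_congr rfl fun i _ => by ring
  have hPdet : P.det ≠ 0 := fun h0 => by
    obtain ⟨u, hu0, hu⟩ := Matrix.exists_mulVec_eq_zero_iff.mpr h0
    obtain ⟨j, hj⟩ := Function.ne_iff.mp hu0
    have h := congrArg (fun x => QuadraticMap.polarBilin Q (b (e j)) x) hu
    conv_lhs at h => rw [pi_eq_sum_univ' u, Matrix.mulVec_sum]
    simp only [Matrix.mulVec_smul, hPcol, map_sum, map_smul, QuadraticMap.polarBilin_apply_apply, hpol, smul_eq_mul,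
      mul_ite, mul_zero, Finset.sum_ite_eq, Finset.mem_univ, if_true, map_zero] at h
    exact hj ((mul_eq_zero.mp h).resolve_right (mul_ne_zero h2 ha))
  let PG : GL ι F := Matrix.GeneralLinearGroup.mkOfDetNeZero P hPdet
  refine ⟨F₁, r, PG, a⁻¹, hr, hc, inv_ne_zero ha, fun u hu => ?_, fun g hg => ?_⟩
  · show a⁻¹ * Q (P *ᵥ u) ∈ F₁
    rw [hval, inv_mul_cancel_left₀ ha]
    exact sum_mem fun i _ => mul_mem (hu i) (hu i)
  obtain ⟨τ, hτ⟩ := hle hg
  refine Subgroup.mem_map.mpr ⟨PG⁻¹ * g * PG, mem_range_sup_scalars one_ne_zero fun i j => ?_, by simp [mul_assoc]⟩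
  rw [one_mul]
  obtain ⟨d, hd⟩ := hbl (τ (e j)) _ (hτ (e j) ▸ ⟨b (e j), (φ _ v).2, Matrix.toLin'_apply _ _⟩ :
    (g : Matrix ι ι F) *ᵥ b (e j) ∈ D (τ (e j)))
  have hdd : d * d = 1 := by
    have h := hiso g hg (b (e j))
    rw [hd, QuadraticMap.map_smul, hbQ, hbQ, smul_eq_mul] at h
    exact (mul_eq_right₀ ha).mp h
  have hcol : ((PG⁻¹ * g * PG : GL ι F) : Matrix ι ι F) *ᵥ Pi.single j 1 = d • Pi.single (e.symm (τ (e j))) 1 := by
    rw [Units.val_mul, Units.val_mul, ← Matrix.mulVec_mulVec, show (PG : Matrix ι ι F) = P from rfl, hPcol,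
      ← Matrix.mulVec_mulVec, hd]
    have : b (τ (e j)) = P *ᵥ Pi.single (e.symm (τ (e j))) 1 := by rw [hPcol, Equiv.apply_symm_apply]
    rw [this, Matrix.mulVec_smul, show P = (PG : Matrix ι ι F) from rfl, inv_mulVec_mulVec]
  have h4 := congrFun hcol i
  rw [Matrix.mulVec_single_one] at h4
  change ((PG⁻¹ * g * PG : GL ι F) : Matrix ι ι F) i j = _ at h4
  rw [h4, Pi.smul_apply, smul_eq_mul, Pi.single_apply]
  rcases mul_self_eq_one_iff.mp hdd with rfl | rfl <;> split_ifs <;>
    simp only [mul_one, mul_zero, one_mul, zero_mem, one_mem, neg_mem_iff]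

include hQ in
/-- A frame over a non-prime field lies in a subfield group of odd index. -/
theorem frame_subfield' (h2 : (2 : F) ≠ 0) (h3 : Fintype.card F % 4 = 3) (hpr : ¬ (Fintype.card F).Prime) {t : ℕ}
    {D : Fin t → Submodule F (ι → F)} (hD : IsOrthogonalMDecomposition (⇑Q) 1 D) {H : Subgroup (GL ι F)}
    (hiso : ∀ g ∈ H, ∀ x, Q ((g : Matrix ι ι F) *ᵥ x) = Q x) (hle : H ≤ decompositionStabilizer D) :
    ∃ (F₁ : Subfield F) (r : ℕ) (B : GL ι F) (ζ : F), r.Prime ∧ Odd r ∧ Fintype.card F = Nat.card F₁ ^ r ∧ ζ ≠ 0 ∧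
      IsQuadFormRationalStructure (fun v => ζ * Q v) F₁ B ∧ H ≤ subfieldSubgroup F₁ B := by
  obtain ⟨F₁, r, B, ζ, hr, hc, h⟩ := frame_subfield_any Q hQ h2 hpr hD hiso hle
  refine ⟨F₁, r, B, ζ, hr, hr.eq_two_or_odd'.resolve_left fun e => ?_, hc, h⟩
  subst e
  rw [hc, Nat.pow_mod] at h3
  have := Nat.mod_lt (Nat.card F₁) (show 4 > 0 by norm_num)
  interval_cases h : Nat.card F₁ % 4 <;> norm_num at h3

include hQ in
/-- Points of norm one in the planes give a frame. -/
theorem frame_of_points (h2 : (2 : F) ≠ 0) {t : ℕ} {D : Fin t → Submodule F (ι → F)}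
    (hD : IsOrthogonalMDecomposition (⇑Q) 2 D) {H : Subgroup (GL ι F)}
    (hiso : ∀ g ∈ H, ∀ x, Q ((g : Matrix ι ι F) *ᵥ x) = Q x) (hle : H ≤ decompositionStabilizer D)
    (v : Fin t × Fin 2 → ι → F) (hvQ : ∀ p, Q (v p) = 1)
    (hvv : ∀ p q, QuadraticMap.polar (⇑Q) (v p) (v q) = if p = q then (2 : F) else 0)
    (hvall : ∀ i, ∀ w ∈ D i, Q w = 1 → ∃ (a : Fin 2) (s : F), w = s • v (i, a)) (hvD : ∀ p, v p ∈ D p.1) :
    ∃ D' : Fin (t * 2) → Submodule F (ι → F), IsNondegenerateMDecomposition (QuadraticMap.polar (⇑Q)) 1 D' ∧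
      H ≤ decompositionStabilizer D' := by
  classical
  have hf := orth_refl Q hQ
  have h2t := hD.decomp.decomp.two_le
  let ix : Fin (t * 2) × Fin 1 ≃ Fin t × Fin 2 := (Equiv.prodUnique _ _).trans finProdFinEquiv.symm
  let Φ : Matrix ι (Fin (t * 2) × Fin 1) F := Matrix.of fun l p => v (ix p) l
  have hgram : hf.gramIn Φ = (2 : F) • ((1 : Matrix (Fin (t * 2)) (Fin (t * 2)) F) ⊗ₖ (1 : Matrix (Fin 1) (Fin 1) F)) := by
    ext p q
    rw [← gram_cols Q hQ, show Φ.col p = v (ix p) from rfl, show Φ.col q = v (ix q) from rfl, hvv,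
      Matrix.one_kronecker_one, Matrix.smul_apply, Matrix.one_apply]
    simp [EmbeddingLike.apply_eq_iff_eq]
  let Ψ : Matrix (Fin (t * 2) × Fin 1) ι F := (2 : F)⁻¹ • (Φᵀ * gramMatrix (QuadraticMap.polar (⇑Q)))
  have hΨΦ : Ψ * Φ = 1 := by
    have := hgram
    rw [ReflForm.gramIn, RingEquiv.coe_refl, Matrix.map_id, Matrix.one_kronecker_one] at this
    rw [Matrix.smul_mul, this, smul_smul, inv_mul_cancel₀ h2, one_smul]
  have hcard : Fintype.card (Fin (t * 2) × Fin 1) = Fintype.card ι := by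
    rw [Fintype.card_prod, Fintype.card_fin, Fintype.card_fin, mul_one, IsMDecomposition.mul_eq hD.decomp.decomp]
  have hco : Coords Φ Ψ := ⟨(Matrix.mul_eq_one_comm_of_equiv (Fintype.equivOfCardEq hcard)).mp hΨΦ, hΨΦ⟩
  obtain ⟨D', hD', hst⟩ := blocks_of_coords hf (t := t * 2) (k := 1) (by omega) one_pos hco h2 (G := 1) (by simp) hgram
  refine ⟨D', hD', fun g hg => hst g ?_⟩
  obtain ⟨τ, hτ⟩ := hle hg
  have himg : ∀ p : Fin t × Fin 2, ∃ (q : Fin t × Fin 2) (s : F), (g : Matrix ι ι F) *ᵥ v p = s • v q := fun p => by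
    have hw : (g : Matrix ι ι F) *ᵥ v p ∈ D (τ p.1) := hτ p.1 ▸ ⟨v p, hvD p, Matrix.toLin'_apply _ _⟩
    obtain ⟨a, s, h⟩ := hvall _ _ hw (by rw [hiso g hg, hvQ])
    exact ⟨(τ p.1, a), s, h⟩
  choose q s hqs using himg
  refine ⟨fun r => (ix.symm (q (ix (r, 0)))).1, fun p r hpr => ?_⟩
  have e1 : (Ψ * (g : Matrix ι ι F) * Φ) p r = (Ψ *ᵥ ((g : Matrix ι ι F) *ᵥ v (ix r))) p := by
    rw [Matrix.mulVec_mulVec]
    rfl
  rw [e1, hqs, Matrix.mulVec_smul, show v (q (ix r)) = Φ *ᵥ Pi.single (ix.symm (q (ix r))) 1 by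
      rw [Matrix.mulVec_single_one]; funext l; simp [Φ], Matrix.mulVec_mulVec, hΨΦ, Matrix.one_mulVec,
    Pi.smul_apply, Pi.single_apply, if_neg, smul_zero]
  rintro rfl
  apply hpr
  show (ix.symm (q (ix r))).1 = (ix.symm (q (ix (r.1, 0)))).1
  rw [show ((r.1, (0 : Fin 1)) : Fin (t * 2) × Fin 1) = r from Prod.ext rfl (Subsingleton.elim _ _)]


include hQ in
/-- Over three elements a decomposition into anisotropic planes refines to a frame. -/
theorem frame_of_planes' (hq : Fintype.card F = 3) {t : ℕ}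
    {D : Fin t → Submodule F (ι → F)} (hD : IsOrthogonalMDecomposition (⇑Q) 2 D) {H : Subgroup (GL ι F)}
    (hiso : ∀ g ∈ H, ∀ x, Q ((g : Matrix ι ι F) *ᵥ x) = Q x) (hle : H ≤ decompositionStabilizer D)
    (hnp : ∀ i, ¬ IsPlusTypeOn (⇑Q) (D i)) :
    ∃ D' : Fin (t * 2) → Submodule F (ι → F), IsNondegenerateMDecomposition (QuadraticMap.polar (⇑Q)) 1 D' ∧
      H ≤ decompositionStabilizer D' := by
  classical
  have hf := orth_refl Q hQ
  have h3 : (3 : F) = 0 := three_zero hq
  have h2 : (2 : F) ≠ 0 := fun e => one_ne_zero (α := F) (by linear_combination h3 - e)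
  have helts := three_elts hq
  have h2t := hD.decomp.decomp.two_le
  have hani : ∀ i, ∀ x ∈ D i, Q x = 0 → x = 0 := by
    intro i x hx hQx
    by_contra hx0
    refine hnp i ⟨Submodule.span F {x},
      by rwa [Submodule.span_le, Set.singleton_subset_iff], fun w hw => ?_,
      by rw [finrank_span_singleton hx0, hD.decomp.decomp.finrank_eq]⟩
    obtain ⟨c, rfl⟩ := Submodule.mem_span_singleton.mp hw
    rw [QuadraticMap.map_smul, hQx, smul_zero]
  have hpt : ∀ i, ∃ e f : ι → F, e ∈ D i ∧ f ∈ D i ∧ Q e = 1 ∧ Q f = 1 ∧ QuadraticMap.polar (⇑Q) e f = 0 ∧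
      ∀ w ∈ D i, Q w = 1 → w = e ∨ w = -e ∨ w = f ∨ w = -f := by
    intro i
    obtain ⟨e, he, hQe⟩ : ∃ e ∈ D i, Q e = 1 := by
      by_contra hc
      push Not at hc
      let b := Module.finBasisOfFinrankEq F (D i) (hD.decomp.decomp.finrank_eq i)
      have hm1 : ∀ x : D i, x ≠ 0 → Q (x : ι → F) = -1 := fun x hx => by
        rcases helts (Q (x : ι → F)) with h | h | h
        · exact absurd (Subtype.ext (hani i x x.2 h)) hx
        · exact absurd h (hc x x.2)
        · exact h
      have hne : ∀ c : F, b 0 + c • b 1 ≠ 0 := fun c h => by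
        have := Fintype.linearIndependent_iff.mp b.linearIndependent ![1, c] (by simpa [Fin.sum_univ_two] using h) 0
        simp at this
      have e0 := hm1 _ (b.ne_zero 0)
      have e1 := hm1 _ (b.ne_zero 1)
      have ep := hm1 _ (hne 1)
      have em := hm1 _ (hne (-1))
      simp only [Submodule.coe_add, Submodule.coe_smul, QuadraticMap.map_add (f := Q), QuadraticMap.map_smul,
        QuadraticMap.polar_smul_right, smul_eq_mul] at ep em
      apply h2
      linear_combination 2 * e0 + 2 * e1 - ep - em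
    have he0 : e ≠ 0 := fun e' => by rw [e', QuadraticMap.map_zero] at hQe; exact zero_ne_one hQe
    obtain ⟨f, hf', hf0⟩ := (Submodule.ne_bot_iff _).mp
      (show LinearMap.ker ((QuadraticMap.polarBilin Q e).comp (D i).subtype) ≠ ⊥ from
        LinearMap.ker_ne_bot_of_finrank_lt (by rw [Module.finrank_self, hD.decomp.decomp.finrank_eq]; norm_num))
    have hef : QuadraticMap.polar (⇑Q) e (f : ι → F) = 0 := hf'
    have hQf : Q (f : ι → F) = 1 := by
      rcases helts (Q (f : ι → F)) with h | h | h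
      · exact absurd (Subtype.ext (hani i f f.2 h)) hf0
      · exact h
      · exfalso
        have hs : Q (e + (f : ι → F)) = 0 := by
          rw [QuadraticMap.map_add (f := Q), hQe, h, hef]; ring
        have h0 := hani i _ (add_mem he f.2) hs
        have : QuadraticMap.polar (⇑Q) e (e + (f : ι → F)) = 0 := by rw [h0, QuadraticMap.polar_zero_right]
        rw [QuadraticMap.polar_add_right, hef, add_zero, QuadraticMap.polar_self, hQe, two_nsmul, one_add_one_eq_two]
          at this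
        exact h2 this
    refine ⟨e, f, he, f.2, hQe, hQf, hef, fun w hw hQw => ?_⟩
    obtain ⟨a, b, hab⟩ : ∃ a b : F, w = a • e + b • (f : ι → F) := by
      have hli : LinearIndependent F ![e, (f : ι → F)] := LinearIndependent.pair_iff.mpr fun a b h => by
        have h1 := congrArg (fun x => QuadraticMap.polar (⇑Q) e x) h
        simp only [QuadraticMap.polar_add_right, QuadraticMap.polar_smul_right, QuadraticMap.polar_self, hQe, hef,
          QuadraticMap.polar_zero_right, smul_eq_mul, mul_zero, add_zero, two_nsmul, one_add_one_eq_two] at h1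
        have ha := (mul_eq_zero.mp h1).resolve_right h2
        rw [ha, zero_smul, zero_add] at h
        exact ⟨ha, (smul_eq_zero.mp h).resolve_right fun e' => hf0 (Subtype.ext e')⟩
      have hsp : Submodule.span F (Set.range ![e, (f : ι → F)]) = D i := Submodule.eq_of_le_of_finrank_le
        (Submodule.span_le.mpr (by rintro _ ⟨l, rfl⟩; fin_cases l <;> [exact he; exact f.2]))
        (by rw [finrank_span_eq_card hli, Fintype.card_fin, hD.decomp.decomp.finrank_eq])
      rw [← hsp, Submodule.mem_span_range_iff_exists_fun] at hw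
      obtain ⟨c, hc⟩ := hw
      exact ⟨c 0, c 1, by rw [← hc]; simp [Fin.sum_univ_two]⟩
    rw [hab, QuadraticMap.map_add (f := Q), QuadraticMap.map_smul, QuadraticMap.map_smul, hQe, hQf,
      QuadraticMap.polar_smul_left, QuadraticMap.polar_smul_right, hef] at hQw
    simp only [smul_eq_mul, mul_one, mul_zero, add_zero] at hQw
    rw [hab]
    rcases helts a with rfl | rfl | rfl <;> rcases helts b with rfl | rfl | rfl <;>
      first
        | (exfalso; apply one_ne_zero (α := F); linear_combination hQw)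
        | (exfalso; apply one_ne_zero (α := F); linear_combination -hQw)
        | simp
  choose e f hee hfe hQe hQf hef hall using hpt
  let v : Fin t × Fin 2 → ι → F := fun p => if p.2 = 0 then e p.1 else f p.1
  have hvD : ∀ p, v p ∈ D p.1 := fun p => by
    show (if p.2 = 0 then e p.1 else f p.1) ∈ D p.1
    split_ifs
    exacts [hee _, hfe _]
  have hvQ : ∀ p, Q (v p) = 1 := fun p => by
    show Q (if p.2 = 0 then e p.1 else f p.1) = 1
    split_ifs
    exacts [hQe _, hQf _]
  have hvall : ∀ i, ∀ w ∈ D i, Q w = 1 → ∃ (a : Fin 2) (s : F), w = s • v (i, a) := fun i w hw hQw => by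
    rcases hall i w hw hQw with h | h | h | h
    · exact ⟨0, 1, by simp [v, h]⟩
    · exact ⟨0, -1, by simp [v, h]⟩
    · exact ⟨1, 1, by simp [v, h]⟩
    · exact ⟨1, -1, by simp [v, h]⟩
  have hvv : ∀ p q, QuadraticMap.polar (⇑Q) (v p) (v q) = if p = q then (2 : F) else 0 := by
    rintro ⟨i, a⟩ ⟨j, c⟩
    by_cases hij : i = j
    · subst hij
      fin_cases a <;> fin_cases c <;>
        simp [v, QuadraticMap.polar_self, hQe, hQf, hef, two_nsmul, one_add_one_eq_two,
          QuadraticMap.polar_comm (⇑Q) (f i) (e i)]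
    · rw [if_neg (fun h => hij (congrArg Prod.fst h))]
      exact hD.decomp.orthogonal i j hij _ (hvD (i, a)) _ (hvD (j, c))
  exact frame_of_points Q hQ h2 hD hiso hle v hvQ hvv hvall hvD

include hQ in
/-- Over three elements in minus type a decomposition into planes refines to a frame. -/
theorem frame_of_planes (hq : Fintype.card F = 3) (hminus : ¬ IsPlusTypeOn (⇑Q) ⊤) {t : ℕ}
    {D : Fin t → Submodule F (ι → F)} (hD : IsOrthogonalMDecomposition (⇑Q) 2 D) {H : Subgroup (GL ι F)}
    (hiso : ∀ g ∈ H, ∀ x, Q ((g : Matrix ι ι F) *ᵥ x) = Q x) (hle : H ≤ decompositionStabilizer D) :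
    ∃ D' : Fin (t * 2) → Submodule F (ι → F), IsNondegenerateMDecomposition (QuadraticMap.polar (⇑Q)) 1 D' ∧
      H ≤ decompositionStabilizer D' :=
  frame_of_planes' Q hQ hq hD hiso hle fun _ h => hminus (plus_of_plus_blocks Q hQ hD h)

end OrthEven

end Cfsg.Lib.Classical.Aschbacher
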