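import Cfsg.Agent.Classical.Aschbacher.OrthTenBase

/-! The maximal subgroups of `Ω` of minus type in degree ten. -/

set_option autoImplicit false
set_option linter.unusedSimpArgs false
set_option linter.unusedSectionVars false
set_option linter.style.haveILetI false

namespace Cfsg.Lib.Classical.Aschbacher

open Matrix Cfsg.Geo
open scoped MatrixGroups Kronecker
open Cfsg.Lib.Classical.PrimeDim (Invariant finrank_pi_card irreducible_iff eq_inf_of_maximal finrank_map_mulVec
  val_inv_mul val_mul_inv)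
open Cfsg.Lib.Classical (HypQuad.perp HypQuad.mem_perp)
open Cfsg.Lib.Classical.PrimeDim.Orth (omega_preserves' omega_not_le_decomposition perp_invariant)

universe u

namespace OrthEven

variable {ι : Type} [Fintype ι] [DecidableEq ι] {F : Type u} [Field F] [Fintype F] (Q : QuadraticForm F (ι → F))
  (hQ : (QuadraticMap.polarBilin Q).Nondegenerate)

include hQ in
/-- A symmetric binary factor gives an anti-self-adjoint element with a scalar square. -/
theorem sym_binary {H : Subgroup (GL ι F)} {k : ℕ}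
    {Φ : Matrix ι (Fin 2 × Fin k) F} {Ψ : Matrix (Fin 2 × Fin k) ι F} {X₁ : Matrix (Fin 2) (Fin 2) F}
    {X₂ : Matrix (Fin k) (Fin k) F}
    (hT : TensorForm (RingEquiv.refl F) (QuadraticMap.polar (⇑Q)) H Φ Ψ X₁ X₂) (h1 : X₁ᵀ = X₁) :
    ∃ J : Matrix ι ι F, J * J = (-X₁.det) • 1 ∧ (orth_refl Q hQ).adj J = -J ∧
      (∀ g ∈ H, ∃ s : F, (g : Matrix ι ι F) * J * ((g⁻¹ : GL ι F) : Matrix ι ι F) = s • J) := by
  classical
  have hf := orth_refl Q hQ
  have hc := hT.coords
  haveI : Nonempty ι := Fintype.card_pos_iff.mp (by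
    rw [← hc.card_eq, Fintype.card_prod, Fintype.card_fin, Fintype.card_fin]
    have := hT.two_right; omega)
  have h10 : X₁ 1 0 = X₁ 0 1 := congrFun (congrFun h1 0) 1
  set δ := -X₁.det with hδdef
  have hgram : hf.gramIn Φ = X₁ ⊗ₖ X₂ := hT.gram
  set A : Matrix (Fin 2) (Fin 2) F := !![0, 1; -1, 0] with hA
  set J₀ : Matrix (Fin 2) (Fin 2) F := !![-X₁ 0 1, -X₁ 1 1; X₁ 0 0, X₁ 0 1] with hJ₀
  have hδe : δ = X₁ 0 1 * X₁ 0 1 - X₁ 0 0 * X₁ 1 1 := by rw [hδdef, Matrix.det_fin_two, h10]; ring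
  have hJJ₀ : J₀ * J₀ = δ • 1 := by
    ext i j; fin_cases i <;> fin_cases j <;> simp [hJ₀, Matrix.mul_apply, Fin.sum_univ_two, hδe] <;> ring
  have hXJ : X₁ * J₀ = δ • A := by
    ext i j; fin_cases i <;> fin_cases j <;> simp [hJ₀, hA, Matrix.mul_apply, Fin.sum_univ_two, hδe, h10] <;> ring
  have hskew : J₀ᵀ * X₁ = -(X₁ * J₀) := by
    ext i j; fin_cases i <;> fin_cases j <;> simp [hJ₀, Matrix.mul_apply, Fin.sum_univ_two, h10] <;> ring
  set J : Matrix ι ι F := Φ * (J₀ ⊗ₖ (1 : Matrix (Fin k) (Fin k) F)) * Ψ with hJ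
  have hJJ : J * J = δ • 1 := by
    have e : ∀ S T : Matrix (Fin 2 × Fin k) (Fin 2 × Fin k) F, Φ * S * Ψ * (Φ * T * Ψ) = Φ * (S * T) * Ψ :=
      fun S T => by
        simp only [Matrix.mul_assoc]
        rw [← Matrix.mul_assoc Ψ Φ, hc.right, Matrix.one_mul]
    rw [hJ, e, ← Matrix.mul_kronecker_mul, hJJ₀, Matrix.one_mul, Matrix.smul_kronecker, Matrix.one_kronecker_one,
      Matrix.mul_smul, Matrix.mul_one, Matrix.smul_mul, hc.left]
  have hδ0 : δ ≠ 0 := fun e => hT.det_left (neg_eq_zero.mp e)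
  have hadjJ : hf.adj J = -J := hf.adj_unique fun u v => by
    obtain ⟨x, rfl⟩ : ∃ x, u = Φ *ᵥ x := ⟨Ψ *ᵥ u, by rw [Matrix.mulVec_mulVec, hc.left, Matrix.one_mulVec]⟩
    obtain ⟨y, rfl⟩ : ∃ y, v = Φ *ᵥ y := ⟨Ψ *ᵥ v, by rw [Matrix.mulVec_mulVec, hc.left, Matrix.one_mulVec]⟩
    have hJΦ : ∀ z, J *ᵥ (Φ *ᵥ z) = Φ *ᵥ ((J₀ ⊗ₖ (1 : Matrix (Fin k) (Fin k) F)) *ᵥ z) := fun z => by
      rw [Matrix.mulVec_mulVec, Matrix.mulVec_mulVec, hJ, Matrix.mul_assoc, hc.right, Matrix.mul_one]
    rw [Matrix.neg_mulVec, hJΦ, hJΦ, QuadraticMap.polar_neg_right, hf.apply_coords, hf.apply_coords,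
      RingEquiv.coe_refl, Function.id_comp, Function.id_comp, hgram, ← Matrix.vecMul_transpose,
      ← Matrix.dotProduct_mulVec, Matrix.mulVec_mulVec, Matrix.mulVec_mulVec, ← dotProduct_neg, ← Matrix.neg_mulVec,
      kron_transpose, ← Matrix.mul_kronecker_mul, ← Matrix.mul_kronecker_mul, hskew, Matrix.transpose_one,
      Matrix.one_mul, Matrix.mul_one]
    congr 2
    ext p q
    simp [Matrix.kronecker_apply]
  have hstep : ∀ g ∈ H, ∃ s : F, (g : Matrix ι ι F) * J * ((g⁻¹ : GL ι F) : Matrix ι ι F) = s • J := by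
    intro g hg
    obtain ⟨a, b, c, hc0, hab, ha, -⟩ := hT.split g hg
    rw [RingEquiv.coe_refl, Matrix.map_id] at ha
    have hdet := hc.det_conj_ne_zero g
    rw [hab, Matrix.det_kronecker, Fintype.card_fin] at hdet
    have hda : a.det ≠ 0 := fun e => left_ne_zero_of_mul hdet (by rw [e, zero_pow]; have := hT.two_right; omega)
    have haA : aᵀ * A * a = a.det • A := by
      ext i j; fin_cases i <;> fin_cases j <;>
        simp [hA, Matrix.mul_apply, Fin.sum_univ_two, Matrix.det_fin_two] <;> ring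
    have key : (aᵀ * X₁) * (a.det • (a * J₀) - c • (J₀ * a)) = 0 := by
      rw [mul_sub, Matrix.mul_smul, Matrix.mul_smul, ← Matrix.mul_assoc, ha, Matrix.smul_mul, hXJ,
        Matrix.mul_assoc, ← Matrix.mul_assoc X₁, hXJ, Matrix.smul_mul, Matrix.mul_smul, ← Matrix.mul_assoc, haA,
        smul_smul, smul_smul, smul_smul, smul_smul, sub_eq_zero]
      congr 1; ring
    have hu : IsUnit (aᵀ * X₁).det := by
      rw [Matrix.det_mul, Matrix.det_transpose]; exact isUnit_iff_ne_zero.mpr (mul_ne_zero hda hT.det_left)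
    have h0 : a * J₀ = (c / a.det) • (J₀ * a) := by
      have := congrArg (fun Z => (aᵀ * X₁)⁻¹ * Z) key
      rw [← Matrix.mul_assoc, Matrix.nonsing_inv_mul _ hu, Matrix.one_mul, Matrix.mul_zero, sub_eq_zero] at this
      rw [div_eq_inv_mul, ← smul_smul, ← this, smul_smul, inv_mul_cancel₀ hda, one_smul]
    refine ⟨c / a.det, ?_⟩
    have hg' : (g : Matrix ι ι F) = Φ * (a ⊗ₖ b) * Ψ := by rw [← hab, hc.unconj_conj]
    have e : (g : Matrix ι ι F) * J = (c / a.det) • (J * (g : Matrix ι ι F)) := by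
      have e' : ∀ S T : Matrix (Fin 2 × Fin k) (Fin 2 × Fin k) F, Φ * S * Ψ * (Φ * T * Ψ) = Φ * (S * T) * Ψ :=
        fun S T => by
          simp only [Matrix.mul_assoc]
          rw [← Matrix.mul_assoc Ψ Φ, hc.right, Matrix.one_mul]
      rw [hg', hJ, e', e', ← Matrix.mul_kronecker_mul, ← Matrix.mul_kronecker_mul, Matrix.mul_one, Matrix.one_mul, h0,
        Matrix.smul_kronecker, Matrix.mul_smul, Matrix.smul_mul]
    rw [e, Matrix.smul_mul, Matrix.mul_assoc, val_mul_inv, Matrix.mul_one]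
  exact ⟨J, hJJ, hadjJ, hstep⟩

include hQ in
/-- A binary factor of a tensor product gives an anti-self-adjoint element with a scalar square. -/
theorem binary_element {H : Subgroup (GL ι F)}
    (hirr : ActsIrreducibly (matrixSet H)) {k : ℕ} (hk : Odd k)
    {Φ : Matrix ι (Fin 2 × Fin k) F} {Ψ : Matrix (Fin 2 × Fin k) ι F} {X₁ : Matrix (Fin 2) (Fin 2) F}
    {X₂ : Matrix (Fin k) (Fin k) F}
    (hT : TensorForm (RingEquiv.refl F) (QuadraticMap.polar (⇑Q)) H Φ Ψ X₁ X₂) {l : F} (hl : l * l = 1)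
    (h1 : X₁ᵀ = l • X₁) (h2' : X₂ᵀ = (1 / l) • X₂) :
    ∃ (J : Matrix ι ι F) (δ : F), (2 : F) ≠ 0 ∧ δ ≠ 0 ∧ J * J = δ • 1 ∧ (orth_refl Q hQ).adj J = -J ∧
      (∀ g ∈ H, ∃ s : F, (g : Matrix ι ι F) * J * ((g⁻¹ : GL ι F) : Matrix ι ι F) = s • J) ∧
      (IsSquare δ → IsPlusTypeOn (⇑Q) ⊤) := by
  classical
  have hf := orth_refl Q hQ
  have hc := hT.coords
  have hcard : Fintype.card ι = 2 * k := by
    rw [← hc.card_eq, Fintype.card_prod, Fintype.card_fin, Fintype.card_fin]
  haveI : Nonempty ι := Fintype.card_pos_iff.mp (by have := hT.two_right; omega)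
  have h2 : (2 : F) ≠ 0 := by
    intro h2
    haveI : CharP F 2 := CharTwo.of_one_ne_zero_of_two_eq_zero one_ne_zero h2
    obtain rfl : l = 1 := by
      rcases mul_self_eq_one_iff.mp hl with e | e
      · exact e
      · rw [e, CharTwo.neg_eq]
    rw [div_one, one_smul] at h2'
    have hd := hT.diag_right hirr h2 h2'
    have hs := matForm_symplectic hT.det_right (by rw [h2']; exact Matrix.ext fun i j => (CharTwo.neg_eq _).symm) hd
    have hev : Even (Module.finrank F (Fin k → F)) := by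
      refine Cfsg.Lib.Classical.even_finrank_of_symplectic (B := Matrix.toBilin' X₂) (fun v => ?_)
        (LinearMap.BilinForm.nondegenerate_toBilin'_iff_det_ne_zero.mpr hT.det_right)
      rw [Matrix.toBilin'_apply']
      simpa [matForm] using hs.alternating v
    rw [Module.finrank_fintype_fun_eq_card, Fintype.card_fin] at hev
    exact (Nat.not_even_iff_odd.mpr hk) hev
  obtain rfl : l = 1 := by
    rcases mul_self_eq_one_iff.mp hl with e | e
    · exact e
    · exfalso
      have := congrArg Matrix.det h2'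
      rw [Matrix.det_transpose, Matrix.det_smul, Fintype.card_fin, e, one_div, inv_neg, inv_one, hk.neg_one_pow,
        neg_one_mul, eq_neg_iff_add_eq_zero, ← two_mul] at this
      exact mul_ne_zero h2 hT.det_right this
  rw [one_smul] at h1
  have h10 : X₁ 1 0 = X₁ 0 1 := congrFun (congrFun h1 0) 1
  set δ := -X₁.det with hδdef
  have hgram : hf.gramIn Φ = X₁ ⊗ₖ X₂ := hT.gram
  have hplus : IsSquare δ → IsPlusTypeOn (⇑Q) ⊤ := by
    rintro ⟨r, hr⟩
    obtain ⟨j, hj⟩ := id hk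
    refine plus_of_signed_coords Q hQ h2 hk hcard hc.card_eq.symm Φ ?_ ?_ <;>
      rw [hgram, Matrix.det_kronecker, Fintype.card_fin, Fintype.card_fin]
    · exact mul_ne_zero (pow_ne_zero _ hT.det_left) (pow_ne_zero _ hT.det_right)
    · refine ⟨r * X₁.det ^ j * X₂.det, ?_⟩
      rw [show X₁.det ^ k = X₁.det ^ j * X₁.det ^ j * X₁.det by subst hj; ring]
      linear_combination (X₁.det ^ j * X₁.det ^ j * (X₂.det * X₂.det)) * (hδdef.symm.trans hr)
  obtain ⟨J, hJJ, hadjJ, hstep⟩ := sym_binary Q hQ hT h1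
  exact ⟨J, δ, h2, fun e => hT.det_left (neg_eq_zero.mp e), hJJ, hadjJ, hstep, hplus⟩

include hQ in
/-- A normalised anti-self-adjoint square root of a non-square gives a normalised field of degree two. -/
theorem field_of_root [Nonempty ι] (h2 : (2 : F) ≠ 0) {J : Matrix ι ι F} {δ : F} (hδ : ¬ IsSquare δ)
    (hJJ : J * J = δ • 1) (hadjJ : (orth_refl Q hQ).adj J = -J) {H : Subgroup (GL ι F)}
    (hstep : ∀ g ∈ H, ∃ s : F, (g : Matrix ι ι F) * J * ((g⁻¹ : GL ι F) : Matrix ι ι F) = s • J) :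
    ∃ K : Subalgebra F (Matrix ι ι F), IsFieldSubalgebra 2 K ∧ IsAdjointClosedFor (QuadraticMap.polar (⇑Q)) K ∧
      ¬ IsSelfAdjointFor (QuadraticMap.polar (⇑Q)) K ∧ H ≤ subalgebraNormalizer K := by
  classical
  have hf := orth_refl Q hQ
  have hδ0 : δ ≠ 0 := fun e => hδ (e ▸ IsSquare.zero)
  have hind : ∀ a b : F, a • (1 : Matrix ι ι F) + b • J = 0 → a = 0 ∧ b = 0 := by
    intro a b hab
    by_cases hb : b = 0
    · subst hb
      rw [zero_smul, add_zero] at hab
      exact ⟨(smul_eq_zero.mp hab).resolve_right one_ne_zero, rfl⟩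
    · exfalso
      have e : J = (-a / b) • 1 := by
        have h' : b • J = (-a) • (1 : Matrix ι ι F) := by rw [neg_smul]; exact eq_neg_of_add_eq_zero_right hab
        rw [div_eq_mul_inv, mul_comm, ← smul_smul, ← h', smul_smul, inv_mul_cancel₀ hb, one_smul]
      rw [e, Matrix.smul_mul, Matrix.one_mul, smul_smul] at hJJ
      exact hδ ⟨-a / b, (smul_left_injective F (one_ne_zero (α := Matrix ι ι F)) hJJ).symm⟩
  let K : Subalgebra F (Matrix ι ι F) :=
    { carrier := {M | ∃ a b : F, M = a • 1 + b • J}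
      mul_mem' := by
        rintro _ _ ⟨a, b, rfl⟩ ⟨a', b', rfl⟩
        refine ⟨a * a' + b * b' * δ, a * b' + b * a', ?_⟩
        simp only [add_mul, mul_add, Matrix.smul_mul, Matrix.mul_smul, Matrix.one_mul, Matrix.mul_one, smul_smul, hJJ]
        module
      add_mem' := by
        rintro _ _ ⟨a, b, rfl⟩ ⟨a', b', rfl⟩
        exact ⟨a + a', b + b', by module⟩
      algebraMap_mem' := fun a => ⟨a, 0, by rw [zero_smul, add_zero, Algebra.algebraMap_eq_smul_one]⟩ }
  have hK : ∀ {M}, M ∈ K ↔ ∃ a b : F, M = a • 1 + b • J := Iff.rfl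
  have hns : ¬ IsSelfAdjointFor (QuadraticMap.polar (⇑Q)) K := fun hsa => by
    have e := (selfAdjoint_iff hf).mp hsa J (hK.mpr ⟨0, 1, by rw [zero_smul, one_smul, zero_add]⟩)
    rw [hadjJ, neg_eq_iff_add_eq_zero, ← two_smul F, smul_eq_zero] at e
    exact hδ0 ((smul_eq_zero.mp (show δ • (1 : Matrix ι ι F) = 0 by rw [← hJJ, e.resolve_left h2, zero_mul])).resolve_right
      one_ne_zero)
  refine ⟨K, ⟨?_, ?_, ?_⟩, fun M hM => ?_, hns, fun h hh M => ?_⟩
  · rintro _ ⟨a, b, rfl⟩ _ ⟨a', b', rfl⟩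
    simp only [add_mul, mul_add, Matrix.smul_mul, Matrix.mul_smul, Matrix.one_mul, Matrix.mul_one, smul_smul, hJJ]
    module
  · rintro _ ⟨a, b, rfl⟩ hne
    set N := a * a - b * b * δ with hN
    have hN0 : N ≠ 0 := fun e => by
      by_cases hb : b = 0
      · subst hb
        apply hne
        rw [show a = 0 from mul_self_eq_zero.mp (by rw [hN] at e; simpa using e), zero_smul, zero_smul, add_zero]
      · exact hδ ⟨a / b, by rw [hN] at e; field_simp; linear_combination -e⟩
    refine ⟨(a / N) • 1 + (-b / N) • J, hK.mpr ⟨_, _, rfl⟩, ?_⟩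
    simp only [add_mul, mul_add, Matrix.smul_mul, Matrix.mul_smul, Matrix.one_mul, Matrix.mul_one, smul_smul, hJJ]
    have e1 : a * (a / N) + b * (-b / N) * δ = 1 := by field_simp; rw [hN]; ring
    have e2 : a * (-b / N) + b * (a / N) = 0 := by field_simp; ring
    calc _ = (a * (a / N) + b * (-b / N) * δ) • (1 : Matrix ι ι F) + (a * (-b / N) + b * (a / N)) • J := by module
      _ = 1 := by rw [e1, e2, one_smul, zero_smul, add_zero]
  · have hsub : Subalgebra.toSubmodule K = Submodule.span F (Set.range ![(1 : Matrix ι ι F), J]) := by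
      ext M
      rw [Subalgebra.mem_toSubmodule, hK, Submodule.mem_span_range_iff_exists_fun]
      constructor
      · rintro ⟨a, b, rfl⟩; exact ⟨![a, b], by simp [Fin.sum_univ_two]⟩
      · rintro ⟨c, rfl⟩; exact ⟨c 0, c 1, by simp [Fin.sum_univ_two]⟩
    rw [← Subalgebra.finrank_toSubmodule, hsub, finrank_span_eq_card (LinearIndependent.pair_iff.mpr hind),
      Fintype.card_fin]
  · obtain ⟨a, b, rfl⟩ := hM
    refine ⟨a • 1 + (-b) • J, hK.mpr ⟨_, _, rfl⟩, fun u v => ?_⟩
    rw [hf.adj_spec, hf.adj_add, hf.adj_smul_one, ← smul_one_mul b J, hf.adj_mul, hf.adj_smul_one, hadjJ,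
      RingEquiv.refl_apply, RingEquiv.refl_apply, Matrix.mul_smul, Matrix.mul_one, smul_neg, ← neg_smul]
  · -- the normaliser
    have hfw : ∀ g ∈ H, ∀ N ∈ K, (g : Matrix ι ι F) * N * ((g⁻¹ : GL ι F) : Matrix ι ι F) ∈ K := by
      rintro g hg _ ⟨a, b, rfl⟩
      obtain ⟨s, hs⟩ := hstep g hg
      refine hK.mpr ⟨a, b * s, ?_⟩
      simp only [mul_add, add_mul, Matrix.mul_smul, Matrix.smul_mul, Matrix.mul_one, val_mul_inv, hs, smul_smul]
    refine ⟨hfw h hh M, fun hM => ?_⟩
    have := hfw h⁻¹ (H.inv_mem hh) _ hM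
    rw [inv_inv] at this
    simp only [← mul_assoc, val_inv_mul, one_mul] at this
    rwa [mul_assoc, val_inv_mul, mul_one] at this


include hQ in
/-- A binary factor of a tensor product gives a normalised field of degree two. -/
theorem field_of_binary_factor (hminus : ¬ IsPlusTypeOn (⇑Q) ⊤) {H : Subgroup (GL ι F)}
    (hirr : ActsIrreducibly (matrixSet H)) {k : ℕ} (hk : Odd k)
    {Φ : Matrix ι (Fin 2 × Fin k) F} {Ψ : Matrix (Fin 2 × Fin k) ι F} {X₁ : Matrix (Fin 2) (Fin 2) F}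
    {X₂ : Matrix (Fin k) (Fin k) F}
    (hT : TensorForm (RingEquiv.refl F) (QuadraticMap.polar (⇑Q)) H Φ Ψ X₁ X₂) {l : F} (hl : l * l = 1)
    (h1 : X₁ᵀ = l • X₁) (h2' : X₂ᵀ = (1 / l) • X₂) :
    ∃ K : Subalgebra F (Matrix ι ι F), (2 : F) ≠ 0 ∧ IsFieldSubalgebra 2 K ∧
      IsAdjointClosedFor (QuadraticMap.polar (⇑Q)) K ∧ H ≤ subalgebraNormalizer K := by
  obtain ⟨J, δ, h2, -, hJJ, hadj, hstep, hp⟩ := binary_element Q hQ hirr hk hT hl h1 h2'
  haveI : Nonempty ι := Fintype.card_pos_iff.mp (by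
    rw [← hT.coords.card_eq, Fintype.card_prod, Fintype.card_fin, Fintype.card_fin]
    have := hT.two_right; omega)
  obtain ⟨K, hK, ha, -, hle⟩ := field_of_root Q hQ h2 (fun h => hminus (hp h)) hJJ hadj hstep
  exact ⟨K, h2, hK, ha, hle⟩

include hQ in
/-- Coordinates adapted to two halves: their Gram determinant, and isometry from the ratio of the determinants. -/
theorem halves_gram (h2 : (2 : F) ≠ 0) {k : ℕ}
    {D : Fin 2 → Submodule F (ι → F)} (hD : IsNondegenerateMDecomposition (QuadraticMap.polar (⇑Q)) k D) :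
    ∃ (Φ : Matrix ι (Fin k × Fin 2) F) (d₀ d₁ : F), d₀ ≠ 0 ∧ d₁ ≠ 0 ∧
      ((orth_refl Q hQ).gramIn Φ).det = d₀ * d₁ ∧ (IsSquare (d₁ / d₀) → AreIsometricFor (⇑Q) (D 0) (D 1)) := by
  classical
  let b : ∀ i, Module.Basis (Fin k) F (D i) := fun i => Module.finBasisOfFinrankEq F (D i) (hD.decomp.finrank_eq i)
  let G : Fin 2 → Matrix (Fin k) (Fin k) F := fun i =>
    Matrix.of fun a c => QuadraticMap.polar (⇑Q) (b i a : ι → F) (b i c : ι → F)
  have hGs : ∀ i, (G i)ᵀ = G i := fun i => Matrix.ext fun a c => QuadraticMap.polar_comm _ _ _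
  have hpol : ∀ (i : Fin 2) (x y : Fin k → F),
      QuadraticMap.polar (⇑Q) ((∑ a, x a • b i a : D i) : ι → F) ((∑ c, y c • b i c : D i) : ι → F) =
        x ⬝ᵥ (G i *ᵥ y) := fun i x y => by
    rw [← QuadraticMap.polarBilin_apply_apply]
    simp only [Submodule.coe_sum, Submodule.coe_smul, map_sum, LinearMap.coe_sum, Finset.sum_apply, map_smul,
      LinearMap.smul_apply, QuadraticMap.polarBilin_apply_apply, smul_eq_mul, dotProduct, Matrix.mulVec, G,
      Matrix.of_apply, Finset.mul_sum]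
    rw [Finset.sum_comm]
    exact Finset.sum_congr rfl fun a _ => Finset.sum_congr rfl fun c _ => by ring
  have hG : ∀ i, (G i).det ≠ 0 := fun i h0 => by
    obtain ⟨x, hx0, hx⟩ := Matrix.exists_vecMul_eq_zero_iff.mpr h0
    have hv0 : (∑ a, x a • b i a : D i) ≠ 0 := fun e => hx0 (funext fun a => by
      simpa using Fintype.linearIndependent_iff.mp (b i).linearIndependent x e a)
    obtain ⟨-, w, hw, hne⟩ := hD.nondegenerate i _ (∑ a, x a • b i a : D i).2 (fun e => hv0 (Subtype.ext e))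
    apply hne
    have h := hpol i x fun c => (b i).repr ⟨w, hw⟩ c
    rw [(b i).sum_repr ⟨w, hw⟩, Matrix.dotProduct_mulVec, hx, zero_dotProduct] at h
    exact h
  let Φ : Matrix ι (Fin k × Fin 2) F := Matrix.of fun l p => (b p.2 p.1 : ι → F) l
  have hgram : (orth_refl Q hQ).gramIn Φ = Matrix.blockDiagonal G := by
    ext ⟨a, i⟩ ⟨c, j⟩
    rw [← gram_cols Q hQ, Matrix.blockDiagonal_apply,
      show Φ.col (a, i) = (b i a : ι → F) from rfl, show Φ.col (c, j) = (b j c : ι → F) from rfl]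
    split_ifs with h
    · subst h; rfl
    · exact hD.orthogonal i j h _ (b i a).2 _ (b j c).2
  refine ⟨Φ, (G 0).det, (G 1).det, hG 0, hG 1, by rw [hgram, Matrix.det_blockDiagonal, Fin.prod_univ_two], fun hsq => ?_⟩
  obtain ⟨A, hA, hAe⟩ := Cfsg.Lib.Classical.SymmCongr.exists_congr h2 (hG 1) (hGs 1) (hG 0) (hGs 0) hsq
  let e0 := (b 0).equivFun
  let e1 := (b 1).equivFun
  let φ : D 0 ≃ₗ[F] D 1 :=
    (e0.trans (Matrix.toLinearEquiv' A (Matrix.invertibleOfIsUnitDet A (isUnit_iff_ne_zero.mpr hA)))).trans e1.symm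
  refine ⟨φ, fun w => ?_⟩
  set x := e0 w with hx
  have hw : (w : ι → F) = ((∑ a, x a • b 0 a : D 0) : ι → F) := by
    rw [hx]; exact congrArg Subtype.val ((b 0).sum_repr w).symm
  have hφw : ((φ w : D 1) : ι → F) = ((∑ a, (A *ᵥ x) a • b 1 a : D 1) : ι → F) := by
    congr 1
    show e1.symm _ = _
    rw [Module.Basis.equivFun_symm_apply]
    rfl
  have key : (A *ᵥ x) ⬝ᵥ (G 1 *ᵥ (A *ᵥ x)) = x ⬝ᵥ (G 0 *ᵥ x) := by
    rw [← hAe, ← Matrix.mulVec_mulVec, ← Matrix.mulVec_mulVec, Matrix.dotProduct_mulVec x Aᵀ, Matrix.vecMul_transpose]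
  rw [Cfsg.Lib.Classical.PrimeDim.Orth.quad_eq_half Q h2, Cfsg.Lib.Classical.PrimeDim.Orth.quad_eq_half Q h2, hφw, hw,
    hpol, hpol, key]

include hQ in
/-- The two kinds of decompositions into halves of odd dimension. -/
theorem halves (h2 : (2 : F) ≠ 0) (hminus : ¬ IsPlusTypeOn (⇑Q) ⊤) {k : ℕ} (hk : Odd k)
    {D : Fin 2 → Submodule F (ι → F)} (hD : IsNondegenerateMDecomposition (QuadraticMap.polar (⇑Q)) k D) :
    (Fintype.card F % 4 = 3 ∧ IsOrthogonalMDecomposition (⇑Q) k D) ∨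
      (Fintype.card F % 4 = 1 ∧ ¬ AreIsometricFor (⇑Q) (D 0) (D 1)) := by
  classical
  have hn : Fintype.card ι = 2 * k := (IsMDecomposition.mul_eq hD.decomp).symm
  have hodd : Odd (Fintype.card F) := odd_card_iff.mpr h2
  by_cases hiso : AreIsometricFor (⇑Q) (D 0) (D 1)
  · have hD' : IsOrthogonalMDecomposition (⇑Q) k D := ⟨hD, fun i j => by
      obtain ⟨φ, hφ⟩ := hiso
      have hrefl : ∀ i, AreIsometricFor (⇑Q) (D i) (D i) := fun i => ⟨LinearEquiv.refl F _, fun _ => rfl⟩
      have hsymm : AreIsometricFor (⇑Q) (D 1) (D 0) := ⟨φ.symm, fun w => by rw [← hφ, LinearEquiv.apply_symm_apply]⟩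
      fin_cases i <;> fin_cases j
      exacts [hrefl 0, ⟨φ, hφ⟩, hsymm, hrefl 1]⟩
    exact Or.inl ⟨card_three_of_decomp Q hQ h2 hminus hD' even_two hk hn, hD'⟩
  refine Or.inr ⟨?_, hiso⟩
  by_contra hc
  have h3 : Fintype.card F % 4 = 3 := by
    rw [Nat.odd_iff] at hodd; omega
  have hns : ¬ IsSquare (-1 : F) := fun h => (FiniteField.isSquare_neg_one_iff.mp h) h3
  obtain ⟨Φ, d₀, d₁, h0, h1, hdet, hiff⟩ := halves_gram Q hQ h2 hD
  refine hiso (hiff ?_)
  have hnot : ¬ IsSquare (-(d₀ * d₁)) := fun h => by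
    refine hminus (plus_of_signed_coords Q hQ h2 hk hn (by rw [hn, Fintype.card_prod, Fintype.card_fin,
      Fintype.card_fin, mul_comm]) Φ ?_ ?_) <;> rw [hdet]
    · exact mul_ne_zero h0 h1
    · exact h
  obtain ⟨r, hr⟩ := isSquare_mul_of_not h2 hns hnot
  refine ⟨r / d₀, ?_⟩
  field_simp
  linear_combination hr

/-- The types in degree ten, minus type. -/
inductive TenMinus (H : Subgroup (GL ι F)) : Prop
  | red (h : RedType Q H) (hne : ∀ W : Submodule F (ι → F), Odd (Module.finrank F W) →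
      IsNondegenerateOn (QuadraticMap.polar (⇑Q)) W → H = subspaceStabilizer W ⊓ omegaGL (⇑Q) →
      2 * Module.finrank F W ≠ 10)
  | frame (hp : ∃ p : ℕ, p.Prime ∧ Fintype.card F = p ∧ p % 4 = 3) (D : Fin 10 → Submodule F (ι → F))
      (hD : IsOrthogonalMDecomposition (⇑Q) 1 D) (hH : H = decompositionStabilizer D ⊓ omegaGL (⇑Q))
  | planes (hq : Fintype.card F ≠ 3) (D : Fin 5 → Submodule F (ι → F)) (hD : IsOrthogonalMDecomposition (⇑Q) 2 D)
      (hH : H = decompositionStabilizer D ⊓ omegaGL (⇑Q))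
  | halvesIso (hq : Fintype.card F % 4 = 3) (D : Fin 2 → Submodule F (ι → F))
      (hD : IsOrthogonalMDecomposition (⇑Q) 5 D) (hH : H = decompositionStabilizer D ⊓ omegaGL (⇑Q))
  | halvesNon (hq : Fintype.card F % 4 = 1) (D : Fin 2 → Submodule F (ι → F))
      (hD : IsNondegenerateMDecomposition (QuadraticMap.polar (⇑Q)) 5 D) (hn : ¬ AreIsometricFor (⇑Q) (D 0) (D 1))
      (hH : H = decompositionStabilizer D ⊓ omegaGL (⇑Q))
  | fieldSA (ho : Odd (Fintype.card F)) (K : Subalgebra F (Matrix ι ι F)) (hK : IsFieldSubalgebra 2 K)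
      (hs : IsSelfAdjointFor (QuadraticMap.polar (⇑Q)) K) (hH : H = subalgebraNormalizer K ⊓ omegaGL (⇑Q))
  | fieldU (K : Subalgebra F (Matrix ι ι F)) (hK : IsFieldSubalgebra 2 K)
      (ha : IsAdjointClosedFor (QuadraticMap.polar (⇑Q)) K) (hs : ¬ IsSelfAdjointFor (QuadraticMap.polar (⇑Q)) K)
      (hsim : ∀ k ∈ K, ∃ c : F, ∀ v : ι → F, Q (k *ᵥ v) = c * Q v)
      (hH : H = subalgebraNormalizer K ⊓ omegaGL (⇑Q))
  | subfield (F₀ : Subfield F) (r : ℕ) (P : GL ι F) (ζ : F) (hr : r.Prime) (ho : Odd r)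
      (hc : Fintype.card F = Nat.card F₀ ^ r) (hζ : ζ ≠ 0)
      (hs : IsQuadFormRationalStructure (fun v => ζ * Q v) F₀ P) (hH : H = subfieldSubgroup F₀ P ⊓ omegaGL (⇑Q))
  | residual (h : InOrthogonalResidualClass H)

include hQ in
/-- The maximal subgroups of `Ω` of minus type in degree ten. -/
theorem omega_ten_minus (h10 : Fintype.card ι = 10) (hminus : ¬ IsPlusTypeOn (⇑Q) ⊤)
    {H : Subgroup (GL ι F)} (hH : IsMaximalIn (omegaGL (⇑Q)) H) : TenMinus Q H := by
  classical
  haveI : Nonempty ι := Fintype.card_pos_iff.mp (by omega)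
  have hf := orth_refl Q hQ
  have hiso : ∀ g ∈ H, ∀ x, Q ((g : Matrix ι ι F) *ᵥ x) = Q x := fun g hg => omega_preserves' Q (hH.1.le hg)
  have hhalves : ∀ D : Fin 2 → Submodule F (ι → F), IsNondegenerateMDecomposition (QuadraticMap.polar (⇑Q)) 5 D →
      H ≤ decompositionStabilizer D → TenMinus Q H := fun D hD hle => by
    have h2 : (2 : F) ≠ 0 := fun h2 => by
      have := even_finrank_of_char_two Q hQ h2 (hD.nondegenerate 0)
      rw [hD.decomp.finrank_eq] at this
      exact absurd this (by decide)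
    have heq := eq_inf_of_maximal hH hle (omega_not_le_blocks' Q hQ (by omega) (by norm_num) hD.decomp)
    rcases halves Q hQ h2 hminus (k := 5) (by decide) hD with ⟨hq, hD'⟩ | ⟨hq, hn⟩
    · exact .halvesIso hq D hD' heq
    · exact .halvesNon hq D hD hn heq
  by_cases hW : ∃ W : Submodule F (ι → F), W ≠ ⊥ ∧ W ≠ ⊤ ∧ Invariant H W
  · obtain ⟨W, h0, h1, hinv⟩ := hW
    by_cases h5 : ∃ U : Submodule F (ι → F), Module.finrank F U = 5 ∧ IsNondegenerateOn (QuadraticMap.polar (⇑Q)) U ∧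
        Invariant H U
    · obtain ⟨U, hd, hnd, hU⟩ := h5
      obtain ⟨hcompl, hndp⟩ := Cfsg.Lib.Classical.Refl.nondeg_perp Q hQ hnd
      have hdp : Module.finrank F (HypQuad.perp Q U) = 5 := by
        rw [Cfsg.Lib.Classical.HypQuad.finrank_perp Q hQ, finrank_pi_card, hd, h10]
      refine hhalves ![U, HypQuad.perp Q U] ⟨⟨le_rfl, by norm_num, fun i => ?_, ?_, ?_⟩, fun i => ?_, fun i j hij => ?_⟩
        fun g hg => ⟨1, fun i => ?_⟩
      · fin_cases i <;> [exact hd; exact hdp]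
      · exact (iSupIndep_pair (i := (0 : Fin 2)) (j := 1) (by decide) (fun k => by fin_cases k <;> simp)).mpr
          hcompl.disjoint
      · exact top_le_iff.mp (hcompl.sup_eq_top ▸ sup_le (le_iSup (![U, HypQuad.perp Q U]) 0)
          (le_iSup (![U, HypQuad.perp Q U]) 1))
      · fin_cases i <;> [exact hnd; exact hndp]
      · fin_cases i <;> fin_cases j
        · exact absurd rfl hij
        · exact fun u hu v hv => (HypQuad.mem_perp Q).mp hv u hu
        · exact fun u hu v hv => (QuadraticMap.polar_comm _ _ _).trans ((HypQuad.mem_perp Q).mp hu v hv)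
        · exact absurd rfl hij
      · have hfix : ∀ V : Submodule F (ι → F), Invariant H V →
            V.map (Matrix.toLin' (g : Matrix ι ι F)) = V := fun V hV => by
          refine Submodule.eq_of_le_of_finrank_eq ?_ (finrank_map_mulVec _ _)
          rintro _ ⟨v, hv, rfl⟩
          rw [Matrix.toLin'_apply]; exact hV g hg v hv
        fin_cases i
        · exact hfix _ hU
        · exact hfix _ (perp_invariant Q hQ hH.1.le hU)
    refine .red (red_types Q hQ (by omega) hH h0 h1 hinv) fun U hd hnd hHU h => h5 ⟨U, by omega, hnd, ?_⟩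
    intro g hg v hv
    exact ((hHU ▸ hg : g ∈ subspaceStabilizer U ⊓ omegaGL (⇑Q)).1 v).mp hv
  push Not at hW
  have hirr : ActsIrreducibly (matrixSet H) := (irreducible_iff H).mpr fun W hinv =>
    or_iff_not_imp_left.mpr fun h0 => by_contra fun h1 => hW W h0 h1 hinv
  have hfield : ∀ K : Subalgebra F (Matrix ι ι F), IsFieldSubalgebra 2 K →
      IsAdjointClosedFor (QuadraticMap.polar (⇑Q)) K → H ≤ subalgebraNormalizer K → TenMinus Q H := fun K hK ha hle => by
    have heq := eq_inf_of_maximal hH hle (omega_not_le_field' Q hQ (by omega) one_lt_two hK)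
    by_cases hs : IsSelfAdjointFor (QuadraticMap.polar (⇑Q)) K
    · refine .fieldSA (odd_card_iff.mpr fun h2 => not_selfAdjoint_two Q hQ h2 (by rw [h10]; decide) hK hs) K hK hs heq
    · exact .fieldU K hK ha hs (similarity_of_unitary Q hQ hirr (by omega) hiso hK hle ha hs) heq
  have hframe : ∀ D : Fin 10 → Submodule F (ι → F), IsOrthogonalMDecomposition (⇑Q) 1 D →
      H ≤ decompositionStabilizer D → TenMinus Q H := fun D hD hle => by
    have h2 : (2 : F) ≠ 0 := fun h2 => by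
      have := even_finrank_of_char_two Q hQ h2 (hD.decomp.nondegenerate 0)
      rw [hD.decomp.decomp.finrank_eq] at this
      exact absurd this (by decide)
    have h3 := card_three_of_decomp Q hQ h2 hminus hD (by decide : Even 10) (m := 5) (by decide) h10
    by_cases hpr : (Fintype.card F).Prime
    · exact .frame ⟨_, hpr, rfl, h3⟩ D hD
        (eq_inf_of_maximal hH hle (omega_not_le_decomposition Q hQ h2 (by omega) hD.decomp))
    · obtain ⟨F₁, r, B, ζ, hr, ho, hc, hζ, hs, hle'⟩ := frame_subfield' Q hQ h2 h3 hpr hD hiso hle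
      exact .subfield F₁ r B ζ hr ho hc hζ hs (eq_inf_of_maximal hH hle'
        (omega_not_le_subfieldSubgroup' Q hQ (by omega) (ne_top_of_prime_index hr hc) B))
  cases even_structure Q hQ (by omega) hirr hiso with
  | decomp t k D hD hle =>
    have hmul := IsMDecomposition.mul_eq hD.decomp.decomp
    rw [h10] at hmul
    have h2t := hD.decomp.decomp.two_le
    have ht10 : t ≤ 10 := Nat.le_of_dvd (by norm_num) ⟨k, hmul.symm⟩
    obtain ⟨rfl, rfl⟩ | ⟨rfl, rfl⟩ | ⟨rfl, rfl⟩ : (t = 2 ∧ k = 5) ∨ (t = 5 ∧ k = 2) ∨ (t = 10 ∧ k = 1) := by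
      interval_cases t <;> omega
    · exact hhalves D hD.decomp hle
    · by_cases hq : Fintype.card F = 3
      · obtain ⟨D', hD', hle'⟩ := frame_of_planes Q hQ hq hminus hD hiso hle
        exact hframe D' (isometric_of_irreducible Q hQ hiso hirr hD' hle') hle'
      · exact .planes hq D hD (eq_inf_of_maximal hH hle (omega_not_le_planes Q hQ (by omega) hD.decomp.decomp))
    · exact hframe D hD hle
  | pair k D hk hD hts hle => exact absurd (plus_of_pair Q hQ hirr hiso hk hD hts hle) hminus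
  | field r K hr hdvd hK hadj hodd hle =>
    rw [h10] at hdvd
    have hr10 := Nat.le_of_dvd (by norm_num) hdvd
    have hr25 : r = 2 ∨ r = 5 := by
      interval_cases r <;> first | omega | (exfalso; revert hr; norm_num)
    rcases hr25 with rfl | rfl
    · exact hfield K hK hadj hle
    · obtain ⟨L, hL, hLa, hLle⟩ := field_two_of_binary Q hQ hminus hiso hK (by omega) (hodd (by decide)) hle
      exact hfield L hL hLa hLle
  | tensor d k Φ Ψ X₁ X₂ l hT hl h1 h2' =>
    have hcard : d * k = 10 := by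
      rw [← h10, ← hT.coords.card_eq, Fintype.card_prod, Fintype.card_fin, Fintype.card_fin]
    have := hT.two_left
    have := hT.two_right
    have hd : d ≤ 5 := by nlinarith
    have hl' : (1 / l) * (1 / l) = 1 := by rw [one_div, ← mul_inv, hl, inv_one]
    obtain ⟨rfl, rfl⟩ | ⟨rfl, rfl⟩ : (d = 2 ∧ k = 5) ∨ (d = 5 ∧ k = 2) := by interval_cases d <;> omega
    · obtain ⟨K, -, hK, ha, hle⟩ := field_of_binary_factor Q hQ hminus hirr (by decide) hT hl h1 h2'
      exact hfield K hK ha hle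
    · obtain ⟨K, -, hK, ha, hle⟩ :=
        field_of_binary_factor Q hQ hminus hirr (by decide) hT.swap hl' h2' (by rwa [one_div_one_div])
      exact hfield K hK ha hle
  | wreath t k Φ Ψ X c l hW' hl hX hlt =>
    exfalso
    have hcard : k ^ t = 10 := by
      rw [← h10, ← hW'.coords.card_eq, Fintype.card_fun, Fintype.card_fin, Fintype.card_fin]
    have hk := hW'.two_le_k
    have ht := hW'.two_le_t
    have h3 : t ≤ 3 := by
      by_contra hc
      have := (Nat.pow_le_pow_left hk t).trans hcard.le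
      have := Nat.pow_le_pow_right two_pos (show 4 ≤ t by omega)
      omega
    have h4 : k ≤ 3 := by
      by_contra hc
      have := (Nat.pow_le_pow_right (show 0 < k by omega) ht).trans hcard.le
      nlinarith
    interval_cases t <;> interval_cases k <;> omega
  | sympN N r hNH hN =>
    exfalso
    obtain ⟨m, hm, -⟩ := (hN.card_classes).2
    rw [h10] at hm
    have h2' : 2 ∣ r ^ m := hm ▸ (by norm_num : 2 ∣ 10)
    have h5' : 5 ∣ r ^ m := hm ▸ (by norm_num : 5 ∣ 10)
    have e2 := (Nat.prime_dvd_prime_iff_eq Nat.prime_two hN.prime).mp (Nat.prime_two.dvd_of_dvd_pow h2')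
    have e5 := (Nat.prime_dvd_prime_iff_eq Nat.prime_five hN.prime).mp (Nat.prime_five.dvd_of_dvd_pow h5')
    omega
  | subfield F₁ r B c hr hcard hc hrat hle =>
    rcases hr.eq_two_or_odd' with rfl | ho
    · exact absurd (plus_of_index_two Q hQ (k := 5) (by omega) F₁ hcard hc B hrat) hminus
    · exact .subfield F₁ r B c hr ho hcard hc hrat (eq_inf_of_maximal hH hle
        (omega_not_le_subfieldSubgroup' Q hQ (by omega) (ne_top_of_prime_index hr hcard) B))
  | residual h => exact .residual h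

end OrthEven

end Cfsg.Lib.Classical.Aschbacher
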