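import Cfsg.Agent.Classical.Aschbacher.OrthPlusTools

/-! The maximal subgroups of the orthogonal groups of plus type in degree ten. -/

set_option autoImplicit false
set_option linter.unusedSimpArgs false
set_option linter.unusedSectionVars false
set_option linter.style.haveILetI false

namespace Cfsg.Lib.Classical.Aschbacher

open Matrix Cfsg.Geo
open scoped MatrixGroups Kronecker
open Cfsg.Lib.Classical.PrimeDim.Orth (omega_preserves' omega_not_le_decomposition perp_invariant)
open Cfsg.Lib.Classical.PrimeDim (Invariant finrank_pi_card irreducible_iff finrank_map_mulVec eq_inf_of_maximal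
  mem_powField card_powField powField exists_char_card mem_range_sup_scalars inv_mulVec_mulVec gl_mulVec_ne_zero)
open Cfsg.Lib.Classical (HypQuad.perp HypQuad.mem_perp)

universe u

namespace OrthEven

variable {ι : Type} [Fintype ι] [DecidableEq ι] {F : Type u} [Field F] [Fintype F] (Q : QuadraticForm F (ι → F))
  (hQ : (QuadraticMap.polarBilin Q).Nondegenerate)

include hQ in
/-- Hyperbolic bases of the planes. -/
theorem plane_bases {t : ℕ} {D : Fin t → Submodule F (ι → F)} (hD : IsOrthogonalMDecomposition (⇑Q) 2 D)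
    (hp : ∀ i, IsPlusTypeOn (⇑Q) (D i)) :
    ∃ e f : Fin t → ι → F, (∀ i, e i ∈ D i) ∧ (∀ i, f i ∈ D i) ∧ (∀ i, Q (e i) = 0) ∧ (∀ i, Q (f i) = 0) ∧
      (∀ i, QuadraticMap.polar (⇑Q) (e i) (f i) = 1) ∧
      ∀ i, ∀ w ∈ D i, ∃ a b : F, w = a • e i + b • f i ∧ Q w = a * b := by
  classical
  have h : ∀ i, ∃ e f : ι → F, e ∈ D i ∧ f ∈ D i ∧ Q e = 0 ∧ Q f = 0 ∧ QuadraticMap.polar (⇑Q) e f = 1 ∧
      ∀ w ∈ D i, ∃ a b : F, w = a • e + b • f ∧ Q w = a * b := fun i => by
    obtain ⟨U, hUD, hUs, hUd⟩ := hp i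
    rw [hD.decomp.decomp.finrank_eq] at hUd
    obtain ⟨e, he, he0⟩ := (Submodule.ne_bot_iff U).mp fun h => by rw [h, finrank_bot] at hUd; omega
    have hQe : Q e = 0 := hUs e he
    obtain ⟨-, z, hz, hne⟩ := hD.decomp.nondegenerate i e (hUD he) he0
    obtain ⟨z', hzD, hz'⟩ : ∃ z' ∈ D i, QuadraticMap.polar (⇑Q) e z' = 1 :=
      ⟨(QuadraticMap.polar (⇑Q) e z)⁻¹ • z, (D i).smul_mem _ hz, by
        rw [QuadraticMap.polar_smul_right, smul_eq_mul, inv_mul_cancel₀ hne]⟩
    have hee : QuadraticMap.polar (⇑Q) e e = 0 := by rw [QuadraticMap.polar_self, hQe, smul_zero]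
    set f := z' - Q z' • e
    have hef : QuadraticMap.polar (⇑Q) e f = 1 := by
      rw [QuadraticMap.polar_sub_right, QuadraticMap.polar_smul_right, hz', hee, smul_zero, sub_zero]
    have hQf : Q f = 0 := by
      show Q (z' - Q z' • e) = 0
      rw [sub_eq_add_neg, ← neg_smul, QuadraticMap.map_add (f := Q), QuadraticMap.map_smul, hQe,
        QuadraticMap.polar_smul_right, QuadraticMap.polar_comm (⇑Q) z' e, hz', smul_eq_mul, smul_eq_mul]
      ring
    have hff : QuadraticMap.polar (⇑Q) f f = 0 := by rw [QuadraticMap.polar_self, hQf, smul_zero]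
    have hfe : QuadraticMap.polar (⇑Q) f e = 1 := by rw [QuadraticMap.polar_comm, hef]
    have hfD : f ∈ D i := sub_mem hzD ((D i).smul_mem _ (hUD he))
    refine ⟨e, f, hUD he, hfD, hQe, hQf, hef, fun w hw => ?_⟩
    have hli : LinearIndependent F ![e, f] := LinearIndependent.pair_iff.mpr fun a b h => by
      have h1 := congrArg (fun x => QuadraticMap.polar (⇑Q) e x) h
      have h2 := congrArg (fun x => QuadraticMap.polar (⇑Q) f x) h
      simp only [QuadraticMap.polar_add_right, QuadraticMap.polar_smul_right, QuadraticMap.polar_zero_right, hef,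
        hee, hff, hfe, smul_eq_mul, mul_one, mul_zero, add_zero, zero_add] at h1 h2
      exact ⟨h2, h1⟩
    have hsp : Submodule.span F (Set.range ![e, f]) = D i := Submodule.eq_of_le_of_finrank_le
      (Submodule.span_le.mpr (by rintro _ ⟨l, rfl⟩; fin_cases l <;> [exact hUD he; exact hfD]))
      (by rw [finrank_span_eq_card hli, Fintype.card_fin, hD.decomp.decomp.finrank_eq])
    rw [← hsp, Submodule.mem_span_range_iff_exists_fun] at hw
    obtain ⟨c, rfl⟩ := hw
    refine ⟨c 0, c 1, by simp [Fin.sum_univ_two], ?_⟩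
    rw [Fin.sum_univ_two, QuadraticMap.map_add (f := Q)]
    simp [QuadraticMap.map_smul, hQe, hQf, QuadraticMap.polar_smul_left, QuadraticMap.polar_smul_right, hef]
    exact mul_comm _ _
  choose e f h1 h2 h3 h4 h5 h6 using h
  exact ⟨e, f, h1, h2, h3, h4, h5, h6⟩

include hQ in
/-- Over two or three elements a stabiliser of five hyperbolic planes is reducible. -/
theorem planes_small (hq : Fintype.card F ≤ 3) {t : ℕ} (hn : Fintype.card ι = 2 * t) {D : Fin t → Submodule F (ι → F)}
    (hD : IsOrthogonalMDecomposition (⇑Q) 2 D) (hp : ∀ i, IsPlusTypeOn (⇑Q) (D i)) {H : Subgroup (GL ι F)}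
    (hirr : ActsIrreducibly (matrixSet H)) (hiso : ∀ g ∈ H, ∀ x, Q ((g : Matrix ι ι F) *ᵥ x) = Q x)
    (hle : H ≤ decompositionStabilizer D) : False := by
  classical
  obtain ⟨e, f, he, hf, hQe, hQf, hef, hall⟩ := plane_bases Q hQ hD hp
  have hQa : ∀ i, Q (e i + f i) = 1 := fun i => by
    rw [QuadraticMap.map_add (f := Q), hQe, hQf, hef]; ring
  set W := Submodule.span F (Set.range fun i => e i + f i)
  have hmem : ∀ i, e i + f i ∈ W := fun i => Submodule.subset_span ⟨i, rfl⟩
  have hinv : Invariant H W := fun g hg v hv => by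
    induction hv using Submodule.span_induction with
    | mem v hv =>
      obtain ⟨i, rfl⟩ := hv
      obtain ⟨τ, hτ⟩ := hle hg
      have hw : (g : Matrix ι ι F) *ᵥ (e i + f i) ∈ D (τ i) :=
        hτ i ▸ ⟨_, add_mem (he i) (hf i), Matrix.toLin'_apply _ _⟩
      obtain ⟨a, b, hab, hQab⟩ := hall _ _ hw
      rw [hiso g hg, hQa] at hQab
      have ha : a ≠ 0 := fun h => by rw [h, zero_mul] at hQab; exact one_ne_zero hQab
      have haa : a * a = 1 := by
        have hp' := FiniteField.pow_card_sub_one_eq_one a ha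
        rcases (by have := Fintype.one_lt_card (α := F); omega : Fintype.card F - 1 = 1 ∨ Fintype.card F - 1 = 2)
          with h | h <;> rw [h] at hp'
        · rw [pow_one] at hp'; rw [hp', mul_one]
        · rwa [sq] at hp'
      have hb : b = a := mul_left_cancel₀ ha (by rw [← hQab, haa])
      show (g : Matrix ι ι F) *ᵥ (e i + f i) ∈ W
      rw [hab, hb, ← smul_add]
      exact W.smul_mem _ (hmem _)
    | zero => rw [Matrix.mulVec_zero]; exact W.zero_mem
    | add u v _ _ hu hv => rw [Matrix.mulVec_add]; exact add_mem hu hv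
    | smul c u _ hu => rw [Matrix.mulVec_smul]; exact W.smul_mem _ hu
  have := hD.decomp.decomp.two_le
  haveI : Nonempty ι := Fintype.card_pos_iff.mp (by omega)
  rcases (irreducible_iff H).mp hirr W hinv with h | h
  · let i₀ : Fin t := ⟨0, by have := hD.decomp.decomp.two_le; omega⟩
    have h0 := (Submodule.eq_bot_iff _).mp h _ (hmem i₀)
    have := hQa i₀
    rw [h0, QuadraticMap.map_zero] at this
    exact zero_ne_one this
  · have h1 : Module.finrank F W ≤ Fintype.card (Fin t) := finrank_range_le_card (R := F) fun i => e i + f i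
    rw [h, finrank_top, finrank_pi_card, hn, Fintype.card_fin] at h1
    omega

include hQ in
/-- Over five elements hyperbolic planes refine to a frame. -/
theorem planes_five (hq : Fintype.card F = 5) {t : ℕ} {D : Fin t → Submodule F (ι → F)}
    (hD : IsOrthogonalMDecomposition (⇑Q) 2 D) (hp : ∀ i, IsPlusTypeOn (⇑Q) (D i)) {H : Subgroup (GL ι F)}
    (hiso : ∀ g ∈ H, ∀ x, Q ((g : Matrix ι ι F) *ᵥ x) = Q x) (hle : H ≤ decompositionStabilizer D) :
    ∃ D' : Fin (t * 2) → Submodule F (ι → F), IsNondegenerateMDecomposition (QuadraticMap.polar (⇑Q)) 1 D' ∧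
      H ≤ decompositionStabilizer D' := by
  classical
  obtain ⟨e, f, he, hf, hQe, hQf, hef, hall⟩ := plane_bases Q hQ hD hp
  have h5 : (5 : F) = 0 := by
    have := FiniteField.cast_card_eq_zero F
    rw [hq] at this
    exact_mod_cast this
  have h2 : (2 : F) ≠ 0 := fun h => one_ne_zero (α := F) (by linear_combination h5 - 2 * h)
  let v : Fin t × Fin 2 → ι → F := fun p => if p.2 = 0 then e p.1 + f p.1 else (2 : F) • e p.1 + (3 : F) • f p.1
  have hee : ∀ i, QuadraticMap.polar (⇑Q) (e i) (e i) = 0 := fun i => by rw [QuadraticMap.polar_self, hQe, smul_zero]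
  have hff : ∀ i, QuadraticMap.polar (⇑Q) (f i) (f i) = 0 := fun i => by rw [QuadraticMap.polar_self, hQf, smul_zero]
  have hfe : ∀ i, QuadraticMap.polar (⇑Q) (f i) (e i) = 1 := fun i => by rw [QuadraticMap.polar_comm, hef]
  have hvD : ∀ p, v p ∈ D p.1 := fun p => by
    show (if p.2 = 0 then _ else _) ∈ D p.1
    split_ifs
    exacts [add_mem (he _) (hf _), add_mem ((D _).smul_mem _ (he _)) ((D _).smul_mem _ (hf _))]
  have hvQ : ∀ p, Q (v p) = 1 := fun p => by
    show Q (if p.2 = 0 then _ else _) = 1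
    split_ifs <;> rw [QuadraticMap.map_add (f := Q)] <;>
      simp only [QuadraticMap.map_smul, hQe, hQf, hef, QuadraticMap.polar_smul_left, QuadraticMap.polar_smul_right,
        smul_eq_mul]
    · ring
    · linear_combination h5
  refine frame_of_points Q hQ h2 hD hiso hle v hvQ ?_ (fun i w hw hQw => ?_) hvD
  · rintro ⟨i, a⟩ ⟨j, c⟩
    by_cases hpr : ((i, a) : Fin t × Fin 2) = (j, c)
    · rw [if_pos hpr, hpr, QuadraticMap.polar_self, hvQ, two_nsmul, one_add_one_eq_two]
    rw [if_neg hpr]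
    by_cases hij : i = j
    · subst hij
      fin_cases a <;> fin_cases c <;>
        first
          | exact absurd rfl hpr
          | (simp [v, QuadraticMap.polar_add_left, QuadraticMap.polar_add_right, QuadraticMap.polar_smul_left,
              QuadraticMap.polar_smul_right, hee, hff, hef, hfe]; linear_combination h5)
    · exact hD.decomp.orthogonal i j hij _ (hvD (i, a)) _ (hvD (j, c))
  · obtain ⟨a, b, hab, hQab⟩ := hall i w hw
    rw [hQw] at hQab
    have ha : a ≠ 0 := fun h => by rw [h, zero_mul] at hQab; exact one_ne_zero hQab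
    have hp4 := FiniteField.pow_card_sub_one_eq_one a ha
    rw [hq] at hp4
    have : (a * a - 1) * (a * a + 1) = 0 := by linear_combination hp4
    rcases mul_eq_zero.mp this with h | h
    · refine ⟨0, a, ?_⟩
      have hb : b = a := mul_left_cancel₀ ha (by linear_combination -hQab - h)
      rw [hab, hb, show v (i, 0) = e i + f i from rfl, smul_add]
    · refine ⟨1, a / 2, ?_⟩
      have hb : b = -a := mul_left_cancel₀ ha (by linear_combination -hQab + h)
      rw [hab, hb, show v (i, 1) = (2 : F) • e i + (3 : F) • f i from rfl]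
      match_scalars <;> field_simp
      linear_combination -h5

include hQ in
/-- Over four elements hyperbolic planes lie in a subfield group. -/
theorem planes_four (hq : Fintype.card F = 4) {t : ℕ} {D : Fin t → Submodule F (ι → F)}
    (hD : IsOrthogonalMDecomposition (⇑Q) 2 D) (hp : ∀ i, IsPlusTypeOn (⇑Q) (D i)) {H : Subgroup (GL ι F)}
    (hiso : ∀ g ∈ H, ∀ x, Q ((g : Matrix ι ι F) *ᵥ x) = Q x) (hle : H ≤ decompositionStabilizer D) :
    ∃ (F₁ : Subfield F) (B : GL ι F) (ζ : F), Fintype.card F = Nat.card F₁ ^ 2 ∧ ζ ≠ 0 ∧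
      IsQuadFormRationalStructure (fun v => ζ * Q v) F₁ B ∧ H ≤ subfieldSubgroup F₁ B := by
  classical
  obtain ⟨e, f, he, hf, hQe, hQf, hef, hall⟩ := plane_bases Q hQ hD hp
  have h4 : (4 : F) = 0 := by
    have := FiniteField.cast_card_eq_zero F
    rw [hq] at this
    exact_mod_cast this
  have h2 : (2 : F) = 0 := by
    have : (2 : F) * 2 = 0 := by linear_combination h4
    exact mul_self_eq_zero.mp this
  haveI : CharP F 2 := CharTwo.of_one_ne_zero_of_two_eq_zero one_ne_zero h2
  haveI := Fact.mk Nat.prime_two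
  set F₁ := powField F 2 1
  have hc : Nat.card F₁ = 2 := (card_powField (F := F) (p := 2) (m := 1) (f := 2) one_pos
    (by rw [Nat.card_eq_fintype_card, hq]; norm_num) (one_dvd 2)).trans (pow_one 2)
  obtain ⟨ω, hω1, hω0⟩ : ∃ ω : F, ω ≠ 1 ∧ ω ≠ 0 := by
    obtain ⟨ω, -, hω⟩ := Finset.exists_mem_notMem_of_card_lt_card (s := ({0, 1} : Finset F)) (t := Finset.univ) (by
      rw [Finset.card_univ, hq]; exact lt_of_le_of_lt (Finset.card_le_two) (by norm_num))
    simp only [Finset.mem_insert, Finset.mem_singleton, not_or] at hω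
    exact ⟨ω, hω.2, hω.1⟩
  have hww : ω * ω = ω + 1 := by
    have h3 := FiniteField.pow_card_sub_one_eq_one ω hω0
    rw [hq] at h3
    have h : (ω - 1) * (ω * ω + ω + 1) = 0 := by linear_combination h3
    linear_combination (mul_eq_zero.mp h).resolve_left (sub_ne_zero.mpr hω1) - (ω + 1) * h2
  have hee : ∀ i, QuadraticMap.polar (⇑Q) (e i) (e i) = 0 := fun i => by rw [QuadraticMap.polar_self, hQe, smul_zero]
  have hff : ∀ i, QuadraticMap.polar (⇑Q) (f i) (f i) = 0 := fun i => by rw [QuadraticMap.polar_self, hQf, smul_zero]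
  have hfe : ∀ i, QuadraticMap.polar (⇑Q) (f i) (e i) = 1 := fun i => by rw [QuadraticMap.polar_comm, hef]
  let v : Fin t × Fin 2 → ι → F := fun p => if p.2 = 0 then e p.1 + f p.1 else ω • e p.1 + (ω + 1) • f p.1
  have hvD : ∀ p, v p ∈ D p.1 := fun p => by
    show (if p.2 = 0 then _ else _) ∈ D p.1
    split_ifs
    exacts [add_mem (he _) (hf _), add_mem ((D _).smul_mem _ (he _)) ((D _).smul_mem _ (hf _))]
  have hvQ : ∀ p, Q (v p) = 1 := fun p => by
    show Q (if p.2 = 0 then _ else _) = 1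
    split_ifs <;> rw [QuadraticMap.map_add (f := Q)] <;>
      simp only [QuadraticMap.map_smul, hQe, hQf, hef, QuadraticMap.polar_smul_left, QuadraticMap.polar_smul_right,
        smul_eq_mul]
    · ring
    · linear_combination hww + ω * h2
  have haux : ∀ a c : Fin 2, a ≠ c → c = if a = 0 then 1 else 0 := by decide
  have haux2 : ∀ c : Fin 2, c = if (if c = 0 then (1 : Fin 2) else 0) = 0 then 1 else 0 := by decide
  have hvv : ∀ p r, QuadraticMap.polar (⇑Q) (v p) (v r) = if p.1 = r.1 ∧ p.2 ≠ r.2 then 1 else 0 := by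
    rintro ⟨i, a⟩ ⟨j, c⟩
    by_cases hpr : ((i, a) : Fin t × Fin 2) = (j, c)
    · rw [hpr, QuadraticMap.polar_self, hvQ, if_neg (fun h => h.2 rfl), two_nsmul, one_add_one_eq_two, h2]
    by_cases hij : i = j
    · subst hij
      fin_cases a <;> fin_cases c <;>
        first
          | exact absurd rfl hpr
          | (simp [v, QuadraticMap.polar_add_left, QuadraticMap.polar_add_right, QuadraticMap.polar_smul_left,
              QuadraticMap.polar_smul_right, hee, hff, hef, hfe]; linear_combination ω * h2)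
    · rw [if_neg (fun h => hij h.1)]
      exact hD.decomp.orthogonal i j hij _ (hvD (i, a)) _ (hvD (j, c))
  have hcard : Fintype.card ι = Fintype.card (Fin t × Fin 2) := by
    rw [Fintype.card_prod, Fintype.card_fin, Fintype.card_fin, IsMDecomposition.mul_eq hD.decomp.decomp]
  let E : ι ≃ Fin t × Fin 2 := Fintype.equivOfCardEq hcard
  let P : Matrix ι ι F := Matrix.of fun x j => v (E j) x
  have hPcol : ∀ j, P *ᵥ Pi.single j 1 = v (E j) := fun j => by rw [Matrix.mulVec_single_one]; rfl
  have hPu : ∀ u, P *ᵥ u = ∑ j, u j • v (E j) := fun u => by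
    conv_lhs => rw [pi_eq_sum_univ' u, Matrix.mulVec_sum]
    simp only [Matrix.mulVec_smul, hPcol]
  have hpol : ∀ (u : ι → F) p, QuadraticMap.polar (⇑Q) (v p) (P *ᵥ u) = u (E.symm (p.1, if p.2 = 0 then 1 else 0)) := by
    rintro u ⟨i, a⟩
    rw [hPu, ← QuadraticMap.polarBilin_apply_apply, map_sum,
      Finset.sum_eq_single (E.symm (i, if a = 0 then 1 else 0))]
    · rw [map_smul, QuadraticMap.polarBilin_apply_apply, hvv, Equiv.apply_symm_apply]
      fin_cases a <;> simp
    · intro j _ hj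
      rw [map_smul, QuadraticMap.polarBilin_apply_apply, hvv, if_neg, smul_zero]
      rintro ⟨h1, h2'⟩
      apply hj
      rw [Equiv.eq_symm_apply]
      refine Prod.ext h1.symm ?_
      exact haux _ _ h2'
    · intro h; exact absurd (Finset.mem_univ _) h
  have hPdet : P.det ≠ 0 := fun h0 => by
    obtain ⟨u, hu0, hu⟩ := Matrix.exists_mulVec_eq_zero_iff.mpr h0
    refine hu0 (funext fun j => ?_)
    have h := hpol u ((E j).1, if (E j).2 = 0 then 1 else 0)
    rw [hu, QuadraticMap.polar_zero_right] at h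
    rw [Pi.zero_apply, h]
    congr 1
    rw [Equiv.eq_symm_apply]
    refine Prod.ext rfl ?_
    exact haux2 _
  let PG : GL ι F := Matrix.GeneralLinearGroup.mkOfDetNeZero P hPdet
  refine ⟨F₁, PG, 1, by rw [hq, hc]; norm_num, one_ne_zero, fun u hu => ?_, fun g hg => ?_⟩
  · show 1 * Q (P *ᵥ u) ∈ F₁
    rw [one_mul, hPu]
    suffices h : ∀ s : Finset ι, Q (∑ j ∈ s, u j • v (E j)) ∈ F₁ from h Finset.univ
    intro s
    induction s using Finset.induction_on with
    | empty => simp
    | insert a s ha ih =>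
      rw [Finset.sum_insert ha, QuadraticMap.map_add (f := Q), QuadraticMap.map_smul, hvQ,
        QuadraticMap.polar_smul_left, ← QuadraticMap.polarBilin_apply_apply, map_sum (QuadraticMap.polarBilin Q (v (E a)))]
      refine add_mem (add_mem (mul_mem (mul_mem (hu a) (hu a)) (one_mem _)) ih) (mul_mem (hu a) (sum_mem fun j _ => ?_))
      rw [map_smul, QuadraticMap.polarBilin_apply_apply, hvv]
      refine mul_mem (hu j) ?_
      split_ifs
      exacts [one_mem _, zero_mem _]
  obtain ⟨τ, hτ⟩ := hle hg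
  refine Subgroup.mem_map.mpr ⟨PG⁻¹ * g * PG, mem_range_sup_scalars one_ne_zero fun i j => ?_, by simp [mul_assoc]⟩
  rw [one_mul]
  have hw : (g : Matrix ι ι F) *ᵥ v (E j) ∈ D (τ (E j).1) := hτ _ ▸ ⟨_, hvD (E j), Matrix.toLin'_apply _ _⟩
  obtain ⟨a, b, hab, hQab⟩ := hall _ _ hw
  rw [hiso g hg, hvQ] at hQab
  obtain ⟨x, y, hx, hy, hxy⟩ : ∃ x y : F, x ∈ F₁ ∧ y ∈ F₁ ∧
      a • e (τ (E j).1) + b • f (τ (E j).1) = x • v (τ (E j).1, 0) + y • v (τ (E j).1, 1) := by
    have ha : a ≠ 0 := fun h => by rw [h, zero_mul] at hQab; exact one_ne_zero hQab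
    have h3 := FiniteField.pow_card_sub_one_eq_one a ha
    rw [hq] at h3
    have h : (a - 1) * ((a - ω) * (a - (ω + 1))) = 0 := by
      linear_combination h3 + (a - 1) * hww + (a - 1) * (-a - a * ω + ω) * h2
    rcases mul_eq_zero.mp h with h | h
    · refine ⟨1, 0, one_mem _, zero_mem _, ?_⟩
      rw [sub_eq_zero.mp h] at hQab ⊢
      rw [show b = 1 by rw [hQab, one_mul], show v (τ (E j).1, 0) = e _ + f _ from rfl]
      module
    rcases mul_eq_zero.mp h with h | h
    · refine ⟨0, 1, zero_mem _, one_mem _, ?_⟩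
      rw [sub_eq_zero.mp h] at hQab ⊢
      rw [show b = ω + 1 from mul_left_cancel₀ hω0 (by linear_combination -hQab - hww - ω * h2),
        show v (τ (E j).1, 1) = ω • e _ + (ω + 1) • f _ from rfl]
      module
    · refine ⟨1, 1, one_mem _, one_mem _, ?_⟩
      have hw1 : ω + 1 ≠ 0 := fun h => hω1 (by linear_combination h - h2)
      rw [sub_eq_zero.mp h] at hQab ⊢
      rw [show b = 1 + (ω + 1) from mul_left_cancel₀ hw1 (by linear_combination -hQab - hww - (2 * ω + 1) * h2),
        show v (τ (E j).1, 0) = e _ + f _ from rfl, show v (τ (E j).1, 1) = ω • e _ + (ω + 1) • f _ from rfl]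
      module
  have hcol : ((PG⁻¹ * g * PG : GL ι F) : Matrix ι ι F) *ᵥ Pi.single j 1 =
      x • Pi.single (E.symm (τ (E j).1, 0)) 1 + y • Pi.single (E.symm (τ (E j).1, 1)) 1 := by
    rw [Units.val_mul, Units.val_mul, ← Matrix.mulVec_mulVec, show (PG : Matrix ι ι F) = P from rfl, hPcol,
      ← Matrix.mulVec_mulVec, hab, hxy]
    have hv : ∀ p, v p = P *ᵥ Pi.single (E.symm p) 1 := fun p => by rw [hPcol, Equiv.apply_symm_apply]
    rw [hv, hv, ← Matrix.mulVec_smul, ← Matrix.mulVec_smul, ← Matrix.mulVec_add, show P = (PG : Matrix ι ι F) from rfl,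
      inv_mulVec_mulVec]
  have h5 := congrFun hcol i
  rw [Matrix.mulVec_single_one] at h5
  change ((PG⁻¹ * g * PG : GL ι F) : Matrix ι ι F) i j = _ at h5
  rw [h5, Pi.add_apply, Pi.smul_apply, Pi.smul_apply, Pi.single_apply, Pi.single_apply]
  refine add_mem (mul_mem hx ?_) (mul_mem hy ?_) <;> split_ifs <;> first | exact one_mem _ | exact zero_mem _

/-- The types in degree ten, plus type. -/
inductive TenPlus (H : Subgroup (GL ι F)) : Prop
  | red (h : RedType Q H) (hne : ∀ W : Submodule F (ι → F), Odd (Module.finrank F W) →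
      IsNondegenerateOn (QuadraticMap.polar (⇑Q)) W → H = subspaceStabilizer W ⊓ omegaGL (⇑Q) →
      2 * Module.finrank F W ≠ 10) (hts : ∀ W : Submodule F (ι → F), IsTotallySingularQuad (⇑Q) W →
      H = subspaceStabilizer W ⊓ omegaGL (⇑Q) → Module.finrank F W ≠ 4)
  | frame (hp : ∃ p : ℕ, p.Prime ∧ Fintype.card F = p ∧ p % 4 = 1) (D : Fin 10 → Submodule F (ι → F))
      (hD : IsOrthogonalMDecomposition (⇑Q) 1 D) (hH : H = decompositionStabilizer D ⊓ omegaGL (⇑Q))
  | planes (hq : 7 ≤ Fintype.card F) (D : Fin 5 → Submodule F (ι → F)) (hD : IsOrthogonalMDecomposition (⇑Q) 2 D)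
      (hH : H = decompositionStabilizer D ⊓ omegaGL (⇑Q))
  | halvesIso (hq : Fintype.card F % 4 = 1) (D : Fin 2 → Submodule F (ι → F))
      (hD : IsOrthogonalMDecomposition (⇑Q) 5 D) (hH : H = decompositionStabilizer D ⊓ omegaGL (⇑Q))
  | halvesNon (hq : Fintype.card F % 4 = 3) (D : Fin 2 → Submodule F (ι → F))
      (hD : IsNondegenerateMDecomposition (QuadraticMap.polar (⇑Q)) 5 D) (hn : ¬ AreIsometricFor (⇑Q) (D 0) (D 1))
      (hH : H = decompositionStabilizer D ⊓ omegaGL (⇑Q))
  | fieldSA (ho : Odd (Fintype.card F)) (K : Subalgebra F (Matrix ι ι F)) (hK : IsFieldSubalgebra 2 K)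
      (hs : IsSelfAdjointFor (QuadraticMap.polar (⇑Q)) K) (hH : H = subalgebraNormalizer K ⊓ omegaGL (⇑Q))
  | subfield (F₀ : Subfield F) (r : ℕ) (P : GL ι F) (ζ : F) (hr : r.Prime)
      (hc : Fintype.card F = Nat.card F₀ ^ r) (hζ : ζ ≠ 0)
      (hs : IsQuadFormRationalStructure (fun v => ζ * Q v) F₀ P) (hH : H = subfieldSubgroup F₀ P ⊓ omegaGL (⇑Q))
  | residual (h : InOrthogonalResidualClass H)

include hQ in
/-- The maximal subgroups of `Ω` of plus type in degree ten. -/
theorem omega_ten_plus (h10 : Fintype.card ι = 10) (hplus : IsPlusTypeOn (⇑Q) ⊤)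
    {H : Subgroup (GL ι F)} (hH : IsMaximalIn (omegaGL (⇑Q)) H) : TenPlus Q H := by
  classical
  haveI : Nonempty ι := Fintype.card_pos_iff.mp (by omega)
  have hiso : ∀ g ∈ H, ∀ x, Q ((g : Matrix ι ι F) *ᵥ x) = Q x := fun g hg => omega_preserves' Q (hH.1.le hg)
  have hhalves : ∀ D : Fin 2 → Submodule F (ι → F), IsNondegenerateMDecomposition (QuadraticMap.polar (⇑Q)) 5 D →
      H ≤ decompositionStabilizer D → TenPlus Q H := fun D hD hle => by
    have h2 : (2 : F) ≠ 0 := fun h2 => by
      have := even_finrank_of_char_two Q hQ h2 (hD.nondegenerate 0)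
      rw [hD.decomp.finrank_eq] at this
      exact absurd this (by decide)
    have heq := eq_inf_of_maximal hH hle (omega_not_le_blocks' Q hQ (by omega) (by norm_num) hD.decomp)
    rcases halves_plus Q hQ h2 hplus (k := 5) (by decide) hD with ⟨hq, hD'⟩ | ⟨hq, hn⟩
    · exact .halvesIso hq D hD' heq
    · exact .halvesNon hq D hD hn heq
  by_cases hW : ∃ W : Submodule F (ι → F), W ≠ ⊥ ∧ W ≠ ⊤ ∧ Invariant H W
  · obtain ⟨W, h0, h1, hinv⟩ := hW
    by_cases h5 : ∃ U : Submodule F (ι → F), Module.finrank F U = 5 ∧ IsNondegenerateOn (QuadraticMap.polar (⇑Q)) U ∧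
        Invariant H U
    · obtain ⟨U, hd, hnd, hU⟩ := h5
      obtain ⟨hcompl, hndp⟩ := Cfsg.Lib.Classical.Refl.nondeg_perp Q hQ hnd
      have hdp : Module.finrank F (HypQuad.perp Q U) = 5 := by
        rw [Cfsg.Lib.Classical.HypQuad.finrank_perp Q hQ, finrank_pi_card, hd, h10]
      refine hhalves ![U, HypQuad.perp Q U] ⟨⟨le_rfl, by norm_num, fun i => ?_, ?_, ?_⟩, fun i => ?_, fun i j hij => ?_⟩
        fun g hg => ⟨1, fun i => ?_⟩
      · fin_cases i <;> [exact hd; exact hdp]
      · exact (iSupIndep_pair (i := (0 : Fin 2)) (j := 1) (by decide) (fun k => by fin_cases k <;> simp)).mpr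
          hcompl.disjoint
      · exact top_le_iff.mp (hcompl.sup_eq_top ▸ sup_le (le_iSup (![U, HypQuad.perp Q U]) 0)
          (le_iSup (![U, HypQuad.perp Q U]) 1))
      · fin_cases i <;> [exact hnd; exact hndp]
      · fin_cases i <;> fin_cases j
        · exact absurd rfl hij
        · exact fun u hu v hv => (HypQuad.mem_perp Q).mp hv u hu
        · exact fun u hu v hv => (QuadraticMap.polar_comm _ _ _).trans ((HypQuad.mem_perp Q).mp hu v hv)
        · exact absurd rfl hij
      · have hfix : ∀ V : Submodule F (ι → F), Invariant H V →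
            V.map (Matrix.toLin' (g : Matrix ι ι F)) = V := fun V hV => by
          refine Submodule.eq_of_le_of_finrank_eq ?_ (finrank_map_mulVec _ _)
          rintro _ ⟨v, hv, rfl⟩
          rw [Matrix.toLin'_apply]; exact hV g hg v hv
        fin_cases i
        · exact hfix _ hU
        · exact hfix _ (perp_invariant Q hQ hH.1.le hU)
    refine .red (red_types Q hQ (by omega) hH h0 h1 hinv) (fun U hd hnd hHU h => h5 ⟨U, by omega, hnd, ?_⟩)
      fun U hs hHU hd => ?_
    · intro g hg v hv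
      exact ((hHU ▸ hg : g ∈ subspaceStabilizer U ⊓ omegaGL (⇑Q)).1 v).mp hv
    · obtain ⟨V, -, hVs, hVd⟩ := hplus
      rw [finrank_top, finrank_pi_card, h10] at hVd
      obtain ⟨K, hlt, hlt'⟩ := Cfsg.Lib.Classical.Refl.hyperplane_not_maximal Q hQ (m := 5) (by norm_num)
        (by omega) ⟨V, by omega, hVs⟩ (W := U) hs (by omega)
      rw [← hHU] at hlt
      rcases hH.2 K hlt.le hlt'.le with e | e
      · exact hlt.ne e.symm
      · exact hlt'.ne e
  push Not at hW
  have hirr : ActsIrreducibly (matrixSet H) := (irreducible_iff H).mpr fun W hinv =>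
    or_iff_not_imp_left.mpr fun h0 => by_contra fun h1 => hW W h0 h1 hinv
  have hfield : ∀ K : Subalgebra F (Matrix ι ι F), IsFieldSubalgebra 2 K →
      IsAdjointClosedFor (QuadraticMap.polar (⇑Q)) K → H ≤ subalgebraNormalizer K → TenPlus Q H := fun K hK ha hle => by
    have heq := eq_inf_of_maximal hH hle (omega_not_le_field' Q hQ (by omega) one_lt_two hK)
    by_cases hs : IsSelfAdjointFor (QuadraticMap.polar (⇑Q)) K
    · exact .fieldSA (odd_card_iff.mpr fun h2 => not_selfAdjoint_two Q hQ h2 (by rw [h10]; decide) hK hs) K hK hs heq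
    · exact absurd hplus (not_plus_of_unitary Q hQ (k := 5) (by decide) (by omega) hK
        (similarity_of_unitary Q hQ hirr (by omega) hiso hK hle ha hs))
  have hsub : ∀ (F₁ : Subfield F) (r : ℕ) (B : GL ι F) (ζ : F), r.Prime → Fintype.card F = Nat.card F₁ ^ r → ζ ≠ 0 →
      IsQuadFormRationalStructure (fun v => ζ * Q v) F₁ B → H ≤ subfieldSubgroup F₁ B → TenPlus Q H :=
    fun F₁ r B ζ hr hc hζ hs hle => .subfield F₁ r B ζ hr hc hζ hs (eq_inf_of_maximal hH hle
      (omega_not_le_subfieldSubgroup' Q hQ (by omega) (ne_top_of_prime_index hr hc) B))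
  have hframe : ∀ D : Fin 10 → Submodule F (ι → F), IsOrthogonalMDecomposition (⇑Q) 1 D →
      H ≤ decompositionStabilizer D → TenPlus Q H := fun D hD hle => by
    have h2 : (2 : F) ≠ 0 := fun h2 => by
      have := even_finrank_of_char_two Q hQ h2 (hD.decomp.nondegenerate 0)
      rw [hD.decomp.decomp.finrank_eq] at this
      exact absurd this (by decide)
    have h1 := card_one_of_decomp Q hQ h2 hplus hD (by decide : Even 10) (m := 5) (by decide) h10
    by_cases hpr : (Fintype.card F).Prime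
    · exact .frame ⟨_, hpr, rfl, h1⟩ D hD
        (eq_inf_of_maximal hH hle (omega_not_le_decomposition Q hQ h2 (by omega) hD.decomp))
    · obtain ⟨F₀, r, B, ζ, hr, hc, hζ, hs, hle'⟩ := frame_subfield_any Q hQ h2 hpr hD hiso hle
      exact hsub F₀ r B ζ hr hc hζ hs hle'
  have hbin : ∀ {k : ℕ}, Odd k → Fintype.card ι = 2 * k → ∀ (J : Matrix ι ι F) (δ : F), (2 : F) ≠ 0 → δ ≠ 0 →
      J * J = δ • 1 → (orth_refl Q hQ).adj J = -J →
      (∀ g ∈ H, ∃ s : F, (g : Matrix ι ι F) * J * ((g⁻¹ : GL ι F) : Matrix ι ι F) = s • J) → False := by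
    intro k hk hn J δ h2 hδ hJJ hadj hstep
    by_cases hsq : IsSquare δ
    · obtain ⟨r, rfl⟩ := hsq
      exact root_false Q hQ hk hn h2 hirr hH.1.le (fun e => hδ (by rw [e, zero_mul])) hJJ hadj hstep
    · obtain ⟨K, hK, ha, hs, hle⟩ := field_of_root Q hQ h2 hsq hJJ hadj hstep
      exact not_plus_of_unitary Q hQ hk hn hK (similarity_of_unitary Q hQ hirr (by omega) hiso hK hle ha hs) hplus
  cases even_structure Q hQ (by omega) hirr hiso with
  | decomp t k D hD hle =>
    have hmul := IsMDecomposition.mul_eq hD.decomp.decomp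
    rw [h10] at hmul
    have h2t := hD.decomp.decomp.two_le
    have ht10 : t ≤ 10 := Nat.le_of_dvd (by norm_num) ⟨k, hmul.symm⟩
    obtain ⟨rfl, rfl⟩ | ⟨rfl, rfl⟩ | ⟨rfl, rfl⟩ : (t = 2 ∧ k = 5) ∨ (t = 5 ∧ k = 2) ∨ (t = 10 ∧ k = 1) := by
      interval_cases t <;> omega
    · exact hhalves D hD.decomp hle
    · have hp := planes_plus Q hQ h10 hplus hD
      by_cases h7 : 7 ≤ Fintype.card F
      · exact .planes h7 D hD (eq_inf_of_maximal hH hle (omega_not_le_planes Q hQ (by omega) hD.decomp.decomp))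
      by_cases h3 : Fintype.card F ≤ 3
      · exact (planes_small Q hQ h3 (by omega) hD hp hirr hiso hle).elim
      by_cases h4 : Fintype.card F = 4
      · obtain ⟨F₀, B, ζ, hc, hζ, hs, hle'⟩ := planes_four Q hQ h4 hD hp hiso hle
        exact hsub F₀ 2 B ζ Nat.prime_two hc hζ hs hle'
      by_cases h5 : Fintype.card F = 5
      · obtain ⟨D', hD', hle'⟩ := planes_five Q hQ h5 hD hp hiso hle
        exact hframe D' (isometric_of_irreducible Q hQ hiso hirr hD' hle') hle'
      exfalso
      have h6 : Fintype.card F = 6 := by omega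
      obtain ⟨p, n, hp', -, hpn⟩ := (isPrimePow_nat_iff _).mp (FiniteField.isPrimePow_card F)
      rw [h6] at hpn
      have h2' := (Nat.prime_dvd_prime_iff_eq Nat.prime_two hp').mp
        (Nat.prime_two.dvd_of_dvd_pow (hpn.symm ▸ (by norm_num : 2 ∣ 6)))
      have h3' := (Nat.prime_dvd_prime_iff_eq Nat.prime_three hp').mp
        (Nat.prime_three.dvd_of_dvd_pow (hpn.symm ▸ (by norm_num : 3 ∣ 6)))
      omega
    · exact hframe D hD hle
  | pair k D hk hD hts hle =>
    exact (pair_false Q hQ (k := k) (by rw [h10] at hk; rw [show k = 5 by omega]; decide) hirr hH.1.le hk hD hts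
      hle).elim
  | field r K hr hdvd hK hadj hodd hle =>
    rw [h10] at hdvd
    have hr10 := Nat.le_of_dvd (by norm_num) hdvd
    have hr25 : r = 2 ∨ r = 5 := by
      interval_cases r <;> first | omega | (exfalso; revert hr; norm_num)
    rcases hr25 with rfl | rfl
    · exact hfield K hK hadj hle
    · by_cases hline : ∃ v : ι → F, v ≠ 0 ∧ ∀ k ∈ K, Q (k *ᵥ v) = 0
      · obtain ⟨v, hv, hs⟩ := hline
        exact (line_false Q hQ (by decide) (by omega) hirr hH.1.le hK hle hv hs).elim
      · push Not at hline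
        obtain ⟨L, hL, hLa, hLle⟩ := field_two_of_binary' Q hQ hiso hK (by omega) (hodd (by decide)) hle hline
        exact hfield L hL hLa hLle
  | tensor d k Φ Ψ X₁ X₂ l hT hl h1 h2' =>
    have hcard : d * k = 10 := by
      rw [← h10, ← hT.coords.card_eq, Fintype.card_prod, Fintype.card_fin, Fintype.card_fin]
    have := hT.two_left
    have := hT.two_right
    have hd : d ≤ 5 := by nlinarith
    have hl' : (1 / l) * (1 / l) = 1 := by rw [one_div, ← mul_inv, hl, inv_one]
    obtain ⟨rfl, rfl⟩ | ⟨rfl, rfl⟩ : (d = 2 ∧ k = 5) ∨ (d = 5 ∧ k = 2) := by interval_cases d <;> omega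
    · obtain ⟨J, δ, h2, hδ, hJJ, hadj, hstep, -⟩ := binary_element Q hQ hirr (by decide) hT hl h1 h2'
      exact (hbin (k := 5) (by decide) (by omega) J δ h2 hδ hJJ hadj hstep).elim
    · obtain ⟨J, δ, h2, hδ, hJJ, hadj, hstep, -⟩ :=
        binary_element Q hQ hirr (by decide) hT.swap hl' h2' (by rwa [one_div_one_div])
      exact (hbin (k := 5) (by decide) (by omega) J δ h2 hδ hJJ hadj hstep).elim
  | wreath t k Φ Ψ X c l hW' hl hX hlt =>
    exfalso
    have hcard : k ^ t = 10 := by
      rw [← h10, ← hW'.coords.card_eq, Fintype.card_fun, Fintype.card_fin, Fintype.card_fin]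
    have hk := hW'.two_le_k
    have ht := hW'.two_le_t
    have h3 : t ≤ 3 := by
      by_contra hc
      have := (Nat.pow_le_pow_left hk t).trans hcard.le
      have := Nat.pow_le_pow_right two_pos (show 4 ≤ t by omega)
      omega
    have h4 : k ≤ 3 := by
      by_contra hc
      have := (Nat.pow_le_pow_right (show 0 < k by omega) ht).trans hcard.le
      nlinarith
    interval_cases t <;> interval_cases k <;> omega
  | sympN N r hNH hN =>
    exfalso
    obtain ⟨m, hm, -⟩ := (hN.card_classes).2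
    rw [h10] at hm
    have h2' : 2 ∣ r ^ m := hm ▸ (by norm_num : 2 ∣ 10)
    have h5' : 5 ∣ r ^ m := hm ▸ (by norm_num : 5 ∣ 10)
    have e2 := (Nat.prime_dvd_prime_iff_eq Nat.prime_two hN.prime).mp (Nat.prime_two.dvd_of_dvd_pow h2')
    have e5 := (Nat.prime_dvd_prime_iff_eq Nat.prime_five hN.prime).mp (Nat.prime_five.dvd_of_dvd_pow h5')
    omega
  | subfield F₁ r B c hr hcard hc hrat hle => exact hsub F₁ r B c hr hcard hc hrat hle
  | residual h => exact .residual h

end OrthEven

end Cfsg.Lib.Classical.Aschbacher
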