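import Cfsg.Agent.Classical.Aschbacher.OrthEightMinus

/-! The maximal subgroups of `Ω` of minus type in degree twelve. -/

set_option autoImplicit false
set_option linter.unusedSimpArgs false
set_option linter.unusedSectionVars false
set_option linter.style.haveILetI false

namespace Cfsg.Lib.Classical.Aschbacher

open Matrix Cfsg.Geo
open scoped MatrixGroups Kronecker
open Cfsg.Lib.Classical.PrimeDim (Invariant finrank_pi_card irreducible_iff eq_inf_of_maximal)
open Cfsg.Lib.Classical.PrimeDim.Orth (omega_preserves')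

universe u

namespace OrthEven

variable {ι : Type} [Fintype ι] [DecidableEq ι] {F : Type u} [Field F] [Fintype F] (Q : QuadraticForm F (ι → F))
  (hQ : (QuadraticMap.polarBilin Q).Nondegenerate)

include hQ in
/-- Orthogonal isometric blocks of plus type make the space of plus type. -/
theorem plus_of_plus_blocks {t k : ℕ} {D : Fin t → Submodule F (ι → F)}
    (hD : IsOrthogonalMDecomposition (⇑Q) k D) {i₀ : Fin t} (hp : IsPlusTypeOn (⇑Q) (D i₀)) :
    IsPlusTypeOn (⇑Q) ⊤ := by
  classical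
  obtain ⟨U, hUD, hUs, hUd⟩ := hp
  rw [hD.decomp.decomp.finrank_eq] at hUd
  set j := Module.finrank F U
  let b := Module.finBasis F U
  choose φ hφ using fun i => hD.isometric i₀ i
  let w : Fin t × Fin j → ι → F := fun p => (φ p.1 ⟨(b p.2 : ι → F), hUD (b p.2).2⟩ : D p.1)
  have hwD : ∀ p, w p ∈ D p.1 := fun p => (φ p.1 _).2
  refine plus_of_family Q (κ := Fin t × Fin j) ?_ w ?_ (fun p => ?_) fun p r => ?_
  · rw [Fintype.card_prod, Fintype.card_fin, Fintype.card_fin, ← IsMDecomposition.mul_eq hD.decomp.decomp, ← hUd]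
    ring
  · rw [Fintype.linearIndependent_iff]
    intro c hc p
    have hsum : ∀ i, ∑ a, c (i, a) • w (i, a) = 0 := fun i => by
      refine Submodule.disjoint_def.mp (hD.decomp.decomp.indep i) _
        (Submodule.sum_mem _ fun a _ => Submodule.smul_mem _ _ (hwD (i, a))) ?_
      rw [Fintype.sum_prod_type, ← Finset.add_sum_erase _ _ (Finset.mem_univ i), add_eq_zero_iff_eq_neg] at hc
      rw [hc]
      refine neg_mem (Submodule.sum_mem _ fun l hl => Submodule.sum_mem _ fun a _ => Submodule.smul_mem _ _ ?_)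
      exact Submodule.mem_iSup_of_mem l (Submodule.mem_iSup_of_mem (Finset.ne_of_mem_erase hl) (hwD (l, a)))
    have h1 : φ p.1 (∑ a, c (p.1, a) • ⟨(b a : ι → F), hUD (b a).2⟩) = 0 := by
      refine Subtype.ext ?_
      simp only [map_sum, map_smul, Submodule.coe_sum, Submodule.coe_smul, ZeroMemClass.coe_zero]
      exact hsum p.1
    have h2 := congrArg Subtype.val ((map_eq_zero_iff _ (φ p.1).injective).mp h1)
    have h3 : ∑ a, c (p.1, a) • b a = 0 := Subtype.ext (by
      simpa [Submodule.coe_sum] using h2)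
    exact Fintype.linearIndependent_iff.mp b.linearIndependent _ h3 p.2
  · show Q ((φ p.1 _ : D p.1) : ι → F) = 0
    rw [hφ]
    exact hUs _ (b p.2).2
  · by_cases h : p.1 = r.1
    · obtain ⟨i, a⟩ := p
      obtain ⟨i', a'⟩ := r
      obtain rfl : i = i' := h
      show QuadraticMap.polar (⇑Q) ((φ i _ : D i) : ι → F) ((φ i _ : D i) : ι → F) = 0
      simp only [QuadraticMap.polar, ← Submodule.coe_add, ← map_add, hφ]
      show Q ((b a : ι → F) + (b a' : ι → F)) - _ - _ = 0
      rw [show Q ((b a : ι → F) + (b a' : ι → F)) = 0 from hUs _ (U.add_mem (b a).2 (b a').2),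
        hUs _ (b a).2, hUs _ (b a').2, sub_zero, sub_zero]
    · exact hD.decomp.orthogonal _ _ h _ (hwD p) _ (hwD r)

/-- A tensor product of factors of degrees three and four. -/
inductive ThreeFour (H : Subgroup (GL ι F)) : Prop
  | decomp (D : Fin 3 → Submodule F (ι → F)) (hD : IsOrthogonalMDecomposition (⇑Q) 4 D)
      (hle : H ≤ decompositionStabilizer D)
  | tensor (e : ι ≃ Fin 3 × Fin 4) (P : GL ι F) (f₁ : (Fin 3 → F) → (Fin 3 → F) → F)
      (f₂ : (Fin 4 → F) → (Fin 4 → F) → F) (ho : Odd (Fintype.card F)) (h5 : 5 ≤ Fintype.card F)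
      (h1 : IsSymmetricForm f₁) (h2 : IsSymmetricForm f₂)
      (hm : ¬ IsPlusTypeOn (fun v : Fin 4 → F => f₂ v v) ⊤)
      (hs : IsTensorFormStructure id (QuadraticMap.polar (⇑Q)) f₁ f₂ e P) (hle : H ≤ tensorProductSubgroup 3 4 e P)

include hQ in
/-- Over three elements a tensor product with a symmetric factor of degree three gives blocks. -/
theorem blocks_three {H : Subgroup (GL ι F)} (hq3 : Fintype.card F = 3) {k : ℕ} (hk : 0 < k)
    {Φ : Matrix ι (Fin 3 × Fin k) F}
    {Ψ : Matrix (Fin 3 × Fin k) ι F} {X₁ : Matrix (Fin 3) (Fin 3) F} {X₂ : Matrix (Fin k) (Fin k) F}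
    (hT : TensorForm (RingEquiv.refl F) (QuadraticMap.polar (⇑Q)) H Φ Ψ X₁ X₂) (h1 : X₁ᵀ = X₁) :
    ∃ D : Fin 3 → Submodule F (ι → F), IsNondegenerateMDecomposition (QuadraticMap.polar (⇑Q)) k D ∧
      H ≤ decompositionStabilizer D := by
  classical
  have hf := orth_refl Q hQ
  obtain ⟨A, κ, hκ, hA⟩ := congr_scalar_three hq3 h1 hT.det_left
  set Am := (A : Matrix (Fin 3) (Fin 3) F)
  set Ai := ((A⁻¹ : GL (Fin 3) F) : Matrix (Fin 3) (Fin 3) F)
  set U : Matrix (Fin 3 × Fin k) (Fin 3 × Fin k) F := Am ⊗ₖ (1 : Matrix (Fin k) (Fin k) F) with hU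
  set V : Matrix (Fin 3 × Fin k) (Fin 3 × Fin k) F := Ai ⊗ₖ (1 : Matrix (Fin k) (Fin k) F) with hV
  have hAA : Am * Ai = 1 := Cfsg.Lib.Classical.PrimeDim.val_mul_inv A
  have hAA' : Ai * Am = 1 := Cfsg.Lib.Classical.PrimeDim.val_inv_mul A
  have hco : Coords (Φ * U) (V * Ψ) := hT.coords.comp ⟨by
      rw [hU, hV, ← Matrix.mul_kronecker_mul, hAA, Matrix.one_mul, Matrix.one_kronecker_one], by
      rw [hU, hV, ← Matrix.mul_kronecker_mul, hAA', Matrix.one_mul, Matrix.one_kronecker_one]⟩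
  have hgram : hf.gramIn (Φ * U) = κ • ((1 : Matrix (Fin 3) (Fin 3) F) ⊗ₖ X₂) := by
    have hT' := hT.gram
    rw [RingEquiv.coe_refl, Matrix.map_id] at hT'
    simp only [ReflForm.gramIn, RingEquiv.coe_refl, Matrix.map_id, Matrix.transpose_mul]
    calc Uᵀ * Φᵀ * gramMatrix (QuadraticMap.polar (⇑Q)) * (Φ * U)
        = Uᵀ * (Φᵀ * gramMatrix (QuadraticMap.polar (⇑Q)) * Φ) * U := by simp only [Matrix.mul_assoc]
      _ = _ := by
        rw [hT', hU, kron_transpose, ← Matrix.mul_kronecker_mul, ← Matrix.mul_kronecker_mul, hA, Matrix.transpose_one,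
          Matrix.one_mul, Matrix.mul_one, Matrix.smul_kronecker]
  obtain ⟨D, hD, hst⟩ := blocks_of_coords hf (t := 3) (k := k) (by norm_num) hk hco hκ hT.det_right hgram
  have hle : H ≤ decompositionStabilizer D := fun h hh => hst h (by
    obtain ⟨a, b, c, hc0, hab, ha, -⟩ := hT.split h hh
    rw [RingEquiv.coe_refl, Matrix.map_id] at ha
    set M := Ai * a * Am with hM
    have hMM : Mᵀ * M = c • 1 := by
      refine smul_right_injective _ hκ ?_
      show κ • (Mᵀ * M) = κ • c • (1 : Matrix (Fin 3) (Fin 3) F)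
      calc κ • (Mᵀ * M) = Mᵀ * (κ • 1) * M := by rw [Matrix.mul_smul, Matrix.mul_one, Matrix.smul_mul]
        _ = Amᵀ * (aᵀ * ((Am * Ai)ᵀ * X₁ * (Am * Ai)) * a) * Am := by
          rw [← hA]; simp only [hM, Matrix.transpose_mul, Matrix.mul_assoc]
        _ = _ := by
          rw [hAA, Matrix.transpose_one, Matrix.one_mul, Matrix.mul_one, ha, Matrix.mul_smul, Matrix.smul_mul, hA,
            smul_comm]
    choose σ hσ using monomial_three hq3 hc0 hMM
    refine ⟨σ, fun p r hpr => ?_⟩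
    have e : V * Ψ * (h : Matrix ι ι F) * (Φ * U) = M ⊗ₖ b :=
      calc _ = V * (Ψ * (h : Matrix ι ι F) * Φ) * U := by simp only [Matrix.mul_assoc]
        _ = _ := by
          rw [hab, hU, hV, ← Matrix.mul_kronecker_mul, ← Matrix.mul_kronecker_mul, Matrix.one_mul, Matrix.mul_one]
    rw [e, Matrix.kronecker_apply, hσ r.1 p.1 hpr, zero_mul])
  exact ⟨D, hD, hle⟩

include hQ in
theorem three_four {H : Subgroup (GL ι F)} (hminus : ¬ IsPlusTypeOn (⇑Q) ⊤) (hirr : ActsIrreducibly (matrixSet H))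
    (hiso : ∀ g ∈ H, ∀ x, Q ((g : Matrix ι ι F) *ᵥ x) = Q x) {Φ : Matrix ι (Fin 3 × Fin 4) F}
    {Ψ : Matrix (Fin 3 × Fin 4) ι F} {X₁ : Matrix (Fin 3) (Fin 3) F} {X₂ : Matrix (Fin 4) (Fin 4) F}
    (hT : TensorForm (RingEquiv.refl F) (QuadraticMap.polar (⇑Q)) H Φ Ψ X₁ X₂) {l : F} (hl : l * l = 1)
    (h1 : X₁ᵀ = l • X₁) (h2' : X₂ᵀ = (1 / l) • X₂) : ThreeFour Q H := by
  classical
  have hf := orth_refl Q hQ
  have hcard : Fintype.card ι = 12 := by
    rw [← hT.coords.card_eq, Fintype.card_prod, Fintype.card_fin, Fintype.card_fin]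
  haveI : Nonempty ι := Fintype.card_pos_iff.mp (by omega)
  by_cases h2 : (2 : F) = 0
  · exfalso
    haveI : CharP F 2 := CharTwo.of_one_ne_zero_of_two_eq_zero one_ne_zero h2
    obtain rfl : l = 1 := by
      rcases mul_self_eq_one_iff.mp hl with e | e
      · exact e
      · rw [e, CharTwo.neg_eq]
    rw [one_smul] at h1
    have hd := hT.swap.diag_right hirr h2 h1
    refine hT.det_left ?_
    have e1 : X₁ 1 0 = X₁ 0 1 := congrFun (congrFun h1 0) 1
    have e2 : X₁ 2 1 = X₁ 1 2 := congrFun (congrFun h1 1) 2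
    have e3 : X₁ 2 0 = X₁ 0 2 := congrFun (congrFun h1 0) 2
    rw [Matrix.det_fin_three, hd 0, hd 1, hd 2, e1, e2, e3]
    linear_combination (X₁ 0 1 * X₁ 1 2 * X₁ 0 2) * h2
  obtain rfl : l = 1 := by
    rcases mul_self_eq_one_iff.mp hl with e | e
    · exact e
    · exfalso
      have := congrArg Matrix.det h1
      rw [Matrix.det_transpose, Matrix.det_smul, Fintype.card_fin, e, (show Odd 3 by decide).neg_one_pow, neg_one_mul,
        eq_neg_iff_add_eq_zero, ← two_mul] at this
      exact mul_ne_zero h2 hT.det_left this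
  rw [one_smul] at h1
  rw [div_one, one_smul] at h2'
  have ho : Odd (Fintype.card F) := odd_card_iff.mpr h2
  by_cases hq3 : Fintype.card F = 3
  · obtain ⟨D, hD, hle⟩ := blocks_three Q hQ hq3 (by norm_num) hT h1
    exact .decomp D (isometric_of_irreducible Q hQ hiso hirr hD hle) hle
  have h5 : 5 ≤ Fintype.card F := by
    have : 1 < Fintype.card F := Fintype.one_lt_card
    obtain ⟨j, hj⟩ := ho; omega
  let e : ι ≃ Fin 3 × Fin 4 := Fintype.equivOfCardEq (by rw [hcard]; simp)
  have hs := hT.structure' hf e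
  rw [show (⇑(RingEquiv.refl F) : F → F) = id from rfl] at hs
  refine .tensor e _ _ _ ho h5 (matForm_symmetric hT.det_left h1) (matForm_symmetric hT.det_right h2') ?_ hs
    (hT.le_stabilizer e)
  rintro ⟨U, -, hUs, hUd⟩
  rw [finrank_top, finrank_pi_card, Fintype.card_fin] at hUd
  set j := Module.finrank F U
  have hj : Module.finrank F U = 2 := by omega
  let b := Module.finBasisOfFinrankEq F U (n := 2) hj
  have hb : ∀ a a', (b a : Fin 4 → F) ⬝ᵥ (X₂ *ᵥ (b a' : Fin 4 → F)) = 0 := fun a a' => by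
    have hv : ∀ v ∈ U, v ⬝ᵥ (X₂ *ᵥ v) = 0 := fun v hv => by simpa [matForm] using hUs v hv
    have h := hv _ (U.add_mem (b a).2 (b a').2)
    have hsym : (b a' : Fin 4 → F) ⬝ᵥ (X₂ *ᵥ (b a : Fin 4 → F)) = (b a : Fin 4 → F) ⬝ᵥ (X₂ *ᵥ (b a' : Fin 4 → F)) := by
      rw [Matrix.dotProduct_mulVec, ← Matrix.mulVec_transpose, h2', dotProduct_comm]
    simp only [Matrix.mulVec_add, add_dotProduct, dotProduct_add, hv _ (b a).2, hv _ (b a').2, hsym, zero_add,
      add_zero, ← two_mul] at h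
    exact (mul_eq_zero.mp h).resolve_left h2
  let pr : Fin 3 × Fin 2 → (Fin 3 × Fin 4 → F) := fun p r => if r.1 = p.1 then (b p.2 : Fin 4 → F) r.2 else 0
  have hpol : ∀ p p', QuadraticMap.polar (⇑Q) (Φ *ᵥ pr p) (Φ *ᵥ pr p') = 0 := fun p p' => by
    rw [hf.apply_coords, RingEquiv.coe_refl, Function.id_comp, show hf.gramIn Φ = _ from hT.gram]
    have h0 := hb p.2 p'.2
    simp only [dotProduct, Matrix.mulVec, Fintype.sum_prod_type, Matrix.kroneckerMap_apply, pr, ite_mul, zero_mul,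
      mul_ite, mul_zero, Finset.sum_ite_irrel, Finset.sum_const_zero, Finset.sum_ite_eq', Finset.mem_univ,
      if_true] at h0 ⊢
    calc _ = X₁ p.1 p'.1 * ∑ x, (b p.2 : Fin 4 → F) x * ∑ y, X₂ x y * (b p'.2 : Fin 4 → F) y := by
          simp only [Finset.mul_sum]
          exact Finset.sum_congr rfl fun x _ => Finset.sum_congr rfl fun y _ => by ring
      _ = 0 := by rw [h0, mul_zero]
  refine hminus (plus_of_family Q (κ := Fin 3 × Fin 2) (by rw [hcard]; simp) (fun p => Φ *ᵥ pr p) ?_ (fun p => ?_) hpol)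
  · rw [Fintype.linearIndependent_iff]
    intro c hc p
    have h3 : ∑ a, c (p.1, a) • b a = 0 := Subtype.ext (funext fun r => by
      have := congrArg (fun v => (Ψ *ᵥ v) (p.1, r)) hc
      simp only [Matrix.mulVec_sum, Matrix.mulVec_smul, Matrix.mulVec_mulVec, hT.coords.right, Matrix.one_mulVec,
        Matrix.mulVec_zero, Pi.zero_apply, Finset.sum_apply, Pi.smul_apply, smul_eq_mul, Fintype.sum_prod_type, pr,
        mul_ite, mul_zero, Finset.sum_ite_irrel, Finset.sum_const_zero, Finset.sum_ite_eq, Finset.mem_univ,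
        if_true] at this
      simpa [Submodule.coe_sum, Finset.sum_apply] using this)
    exact Fintype.linearIndependent_iff.mp b.linearIndependent _ h3 p.2
  · show Q (Φ *ᵥ pr p) = 0
    rw [Cfsg.Lib.Classical.PrimeDim.Orth.quad_eq_half Q h2, hpol, zero_div]

/-- The irreducible types in degree twelve, minus type. -/
inductive TwelveMinus (H : Subgroup (GL ι F)) : Prop
  | red (h : RedType Q H)
  | decomp (D : Fin 3 → Submodule F (ι → F)) (hD : IsOrthogonalMDecomposition (⇑Q) 4 D)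
      (hm : ∀ i, ¬ IsPlusTypeOn (⇑Q) (D i)) (hH : H = decompositionStabilizer D ⊓ omegaGL (⇑Q))
  | field (r : ℕ) (hr : r = 2 ∨ r = 3) (K : Subalgebra F (Matrix ι ι F)) (hK : IsFieldSubalgebra r K)
      (hH : H = subalgebraNormalizer K ⊓ omegaGL (⇑Q))
  | tensor (e : ι ≃ Fin 3 × Fin 4) (P : GL ι F) (f₁ : (Fin 3 → F) → (Fin 3 → F) → F)
      (f₂ : (Fin 4 → F) → (Fin 4 → F) → F) (ho : Odd (Fintype.card F)) (h5 : 5 ≤ Fintype.card F)
      (h1 : IsSymmetricForm f₁) (h2 : IsSymmetricForm f₂)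
      (hm : ¬ IsPlusTypeOn (fun v : Fin 4 → F => f₂ v v) ⊤)
      (hs : IsTensorFormStructure id (QuadraticMap.polar (⇑Q)) f₁ f₂ e P)
      (hH : H = tensorProductSubgroup 3 4 e P ⊓ omegaGL (⇑Q))
  | subfield (F₀ : Subfield F) (r : ℕ) (P : GL ι F) (ζ : F) (hr : r.Prime) (ho : Odd r)
      (hc : Fintype.card F = Nat.card F₀ ^ r) (hζ : ζ ≠ 0)
      (hs : IsQuadFormRationalStructure (fun v => ζ * Q v) F₀ P) (hH : H = subfieldSubgroup F₀ P ⊓ omegaGL (⇑Q))
  | residual (h : InOrthogonalResidualClass H)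

include hQ in
/-- The maximal subgroups of `Ω` of minus type in degree twelve. -/
theorem omega_twelve_minus (h12 : Fintype.card ι = 12) (hminus : ¬ IsPlusTypeOn (⇑Q) ⊤)
    {H : Subgroup (GL ι F)} (hH : IsMaximalIn (omegaGL (⇑Q)) H) : TwelveMinus Q H := by
  classical
  haveI : Nonempty ι := Fintype.card_pos_iff.mp (by omega)
  have hiso : ∀ g ∈ H, ∀ x, Q ((g : Matrix ι ι F) *ᵥ x) = Q x := fun g hg => omega_preserves' Q (hH.1.le hg)
  by_cases hW : ∃ W : Submodule F (ι → F), W ≠ ⊥ ∧ W ≠ ⊤ ∧ Invariant H W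
  · obtain ⟨W, h0, h1, hinv⟩ := hW
    exact .red (red_types Q hQ (by omega) hH h0 h1 hinv)
  push Not at hW
  have hirr : ActsIrreducibly (matrixSet H) := (irreducible_iff H).mpr fun W hinv =>
    or_iff_not_imp_left.mpr fun h0 => by_contra fun h1 => hW W h0 h1 hinv
  have hdec : ∀ (D : Fin 3 → Submodule F (ι → F)), IsOrthogonalMDecomposition (⇑Q) 4 D →
      H ≤ decompositionStabilizer D → TwelveMinus Q H := fun D hD hle =>
    .decomp D hD (fun i hp => hminus (plus_of_plus_blocks Q hQ hD hp))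
      (eq_inf_of_maximal hH hle (omega_not_le_blocks' Q hQ (by omega) (by norm_num) hD.decomp.decomp))
  cases even_structure Q hQ (by omega) hirr hiso with
  | decomp t k D hD hle =>
    have hmul := IsMDecomposition.mul_eq hD.decomp.decomp
    rw [h12] at hmul
    have h2t := hD.decomp.decomp.two_le
    have ht12 : t ≤ 12 := Nat.le_of_dvd (by norm_num) ⟨k, hmul.symm⟩
    obtain ⟨rfl, rfl⟩ | ⟨rfl, rfl⟩ | ⟨rfl, rfl⟩ | ⟨rfl, rfl⟩ | ⟨rfl, rfl⟩ : (t = 3 ∧ k = 4) ∨ (t = 2 ∧ k = 6) ∨
        (t = 4 ∧ k = 3) ∨ (t = 6 ∧ k = 2) ∨ (t = 12 ∧ k = 1) := by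
      interval_cases t <;> omega
    · exact hdec D hD hle
    all_goals exact absurd (plus_of_decomp Q hQ hD (by decide) (by decide)) hminus
  | pair k D hk hD hts hle => exact absurd (plus_of_pair Q hQ hirr hiso hk hD hts hle) hminus
  | field r K hr hdvd hK hadj hodd hle =>
    rw [h12] at hdvd
    have hr12 := Nat.le_of_dvd (by norm_num) hdvd
    have hr23 : r = 2 ∨ r = 3 := by
      interval_cases r <;> first | omega | (exfalso; revert hr; norm_num)
    exact .field r hr23 K hK (eq_inf_of_maximal hH hle (omega_not_le_field' Q hQ (by omega) hr.one_lt hK))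
  | tensor d k Φ Ψ X₁ X₂ l hT hl h1 h2' =>
    have hcard : d * k = 12 := by
      rw [← h12, ← hT.coords.card_eq, Fintype.card_prod, Fintype.card_fin, Fintype.card_fin]
    have := hT.two_left
    have := hT.two_right
    have hd : d ≤ 6 := by nlinarith
    have hl' : (1 / l) * (1 / l) = 1 := by rw [one_div, ← mul_inv, hl, inv_one]
    have h34 : ThreeFour Q H → TwelveMinus Q H := fun h => by
      cases h with
      | decomp D hD hle => exact hdec D hD hle
      | tensor e P f₁ f₂ ho h5 hf1 hf2 hm hs hle =>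
        exact .tensor e P f₁ f₂ ho h5 hf1 hf2 hm hs
          (eq_inf_of_maximal hH hle (omega_not_le_tensor Q hQ (by omega) le_rfl (by norm_num) e P))
    obtain ⟨rfl, rfl⟩ | ⟨rfl, rfl⟩ | ⟨rfl, rfl⟩ | ⟨rfl, rfl⟩ : (d = 2 ∧ k = 6) ∨ (d = 6 ∧ k = 2) ∨ (d = 3 ∧ k = 4) ∨
        (d = 4 ∧ k = 3) := by
      interval_cases d <;> omega
    · exact absurd (plus_of_tensor Q hQ hirr hiso (by decide) hT hl h1 h2') hminus
    · exact absurd (plus_of_tensor Q hQ hirr hiso (by decide) hT.swap hl' h2' (by rwa [one_div_one_div])) hminus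
    · exact h34 (three_four Q hQ hminus hirr hiso hT hl h1 h2')
    · exact h34 (three_four Q hQ hminus hirr hiso hT.swap hl' h2' (by rwa [one_div_one_div]))
  | wreath t k Φ Ψ X c l hW' hl hX hlt =>
    exfalso
    have hcard : k ^ t = 12 := by
      rw [← h12, ← hW'.coords.card_eq, Fintype.card_fun, Fintype.card_fin, Fintype.card_fin]
    have hk := hW'.two_le_k
    have ht := hW'.two_le_t
    have h3 : t ≤ 3 := by
      by_contra hc
      have := (Nat.pow_le_pow_left hk t).trans hcard.le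
      have := Nat.pow_le_pow_right two_pos (show 4 ≤ t by omega)
      omega
    have h4 : k ≤ 3 := by
      by_contra hc
      have := (Nat.pow_le_pow_right (show 0 < k by omega) ht).trans hcard.le
      nlinarith
    interval_cases t <;> interval_cases k <;> omega
  | sympN N r hNH hN =>
    exact absurd (plus_of_sympN Q hQ (fun g hg => hiso g (hNH hg)) hN (j := 3) (by omega) (by norm_num)) hminus
  | subfield F₁ r B c hr hcard hc hrat hle =>
    rcases hr.eq_two_or_odd' with rfl | ho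
    · exact absurd (plus_of_index_two Q hQ (k := 6) (by omega) F₁ hcard hc B hrat) hminus
    · exact .subfield F₁ r B c hr ho hcard hc hrat (eq_inf_of_maximal hH hle
        (omega_not_le_subfieldSubgroup' Q hQ (by omega) (ne_top_of_prime_index hr hcard) B))
  | residual h => exact .residual h

end OrthEven

end Cfsg.Lib.Classical.Aschbacher
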