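import Cfsg.Agent.Classical.Aschbacher.OrthTwelveTensor

/-! The maximal subgroups of the orthogonal groups of plus type in degree twelve. -/

set_option autoImplicit false
set_option linter.unusedSimpArgs false
set_option linter.unusedSectionVars false
set_option linter.style.haveILetI false

namespace Cfsg.Lib.Classical.Aschbacher

open Matrix Cfsg.Geo
open scoped MatrixGroups Kronecker
open Cfsg.Lib.Classical.PrimeDim.Orth (omega_preserves' omega_not_le_decomposition perp_invariant)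
open Cfsg.Lib.Classical.PrimeDim (Invariant finrank_pi_card irreducible_iff finrank_map_mulVec eq_inf_of_maximal)
open Cfsg.Lib.Classical (HypQuad.perp HypQuad.mem_perp)

universe u

namespace OrthEven

variable {ι : Type} [Fintype ι] [DecidableEq ι] {F : Type u} [Field F] [Fintype F] (Q : QuadraticForm F (ι → F))
  (hQ : (QuadraticMap.polarBilin Q).Nondegenerate)

include hQ in
/-- In characteristic two a symmetric factor of degree three is excluded, and the sign is one. -/
theorem odd_factor {H : Subgroup (GL ι F)} (hirr : ActsIrreducibly (matrixSet H)) {k : ℕ}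
    {Φ : Matrix ι (Fin 3 × Fin k) F} {Ψ : Matrix (Fin 3 × Fin k) ι F} {X₁ : Matrix (Fin 3) (Fin 3) F}
    {X₂ : Matrix (Fin k) (Fin k) F} (hT : TensorForm (RingEquiv.refl F) (QuadraticMap.polar (⇑Q)) H Φ Ψ X₁ X₂)
    {l : F} (hl : l * l = 1) (h1 : X₁ᵀ = l • X₁) : (2 : F) ≠ 0 ∧ l = 1 := by
  haveI : Nonempty ι := Fintype.card_pos_iff.mp (by
    rw [← hT.coords.card_eq, Fintype.card_prod, Fintype.card_fin, Fintype.card_fin]
    have := hT.two_right; omega)
  have h2 : (2 : F) ≠ 0 := fun h2 => by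
    haveI : CharP F 2 := CharTwo.of_one_ne_zero_of_two_eq_zero one_ne_zero h2
    obtain rfl : l = 1 := by
      rcases mul_self_eq_one_iff.mp hl with e | e
      · exact e
      · rw [e, CharTwo.neg_eq]
    rw [one_smul] at h1
    have hd := hT.swap.diag_right hirr h2 h1
    refine hT.det_left ?_
    have e1 : X₁ 1 0 = X₁ 0 1 := congrFun (congrFun h1 0) 1
    have e2 : X₁ 2 1 = X₁ 1 2 := congrFun (congrFun h1 1) 2
    have e3 : X₁ 2 0 = X₁ 0 2 := congrFun (congrFun h1 0) 2
    rw [Matrix.det_fin_three, hd 0, hd 1, hd 2, e1, e2, e3]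
    linear_combination (X₁ 0 1 * X₁ 1 2 * X₁ 0 2) * h2
  refine ⟨h2, ?_⟩
  rcases mul_self_eq_one_iff.mp hl with e | e
  · exact e
  · exfalso
    have := congrArg Matrix.det h1
    rw [Matrix.det_transpose, Matrix.det_smul, Fintype.card_fin, e, (show Odd 3 by decide).neg_one_pow, neg_one_mul,
      eq_neg_iff_add_eq_zero, ← two_mul] at this
    exact mul_ne_zero h2 hT.det_left this

/-- The types in degree twelve, plus type. -/
inductive TwelvePlus (H : Subgroup (GL ι F)) : Prop
  | red (h : RedType Q H) (hne : ∀ W : Submodule F (ι → F), IsNondegenerateOn (QuadraticMap.polar (⇑Q)) W →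
      H = subspaceStabilizer W ⊓ omegaGL (⇑Q) → Module.finrank F W ≠ 6) (hts : ∀ W : Submodule F (ι → F),
      IsTotallySingularQuad (⇑Q) W → H = subspaceStabilizer W ⊓ omegaGL (⇑Q) → Module.finrank F W ≠ 5)
  | frame (hp : ∃ p : ℕ, p.Prime ∧ Odd p ∧ Fintype.card F = p) (D : Fin 12 → Submodule F (ι → F))
      (hD : IsOrthogonalMDecomposition (⇑Q) 1 D) (hH : H = decompositionStabilizer D ⊓ omegaGL (⇑Q))
  | planesPlus (hq : 7 ≤ Fintype.card F) (D : Fin 6 → Submodule F (ι → F))
      (hD : IsOrthogonalMDecomposition (⇑Q) 2 D) (hp : ∀ i, IsPlusTypeOn (⇑Q) (D i))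
      (hH : H = decompositionStabilizer D ⊓ omegaGL (⇑Q))
  | planesMinus (hq : Fintype.card F ≠ 3) (D : Fin 6 → Submodule F (ι → F))
      (hD : IsOrthogonalMDecomposition (⇑Q) 2 D) (hp : ∀ i, ¬ IsPlusTypeOn (⇑Q) (D i))
      (hH : H = decompositionStabilizer D ⊓ omegaGL (⇑Q))
  | threes (ho : Odd (Fintype.card F)) (hq : 5 ≤ Fintype.card F) (D : Fin 4 → Submodule F (ι → F))
      (hD : IsOrthogonalMDecomposition (⇑Q) 3 D) (hH : H = decompositionStabilizer D ⊓ omegaGL (⇑Q))
  | fours (hq : 3 ≤ Fintype.card F) (D : Fin 3 → Submodule F (ι → F)) (hD : IsOrthogonalMDecomposition (⇑Q) 4 D)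
      (hH : H = decompositionStabilizer D ⊓ omegaGL (⇑Q))
  | halves (D : Fin 2 → Submodule F (ι → F)) (hD : IsOrthogonalMDecomposition (⇑Q) 6 D)
      (hH : H = decompositionStabilizer D ⊓ omegaGL (⇑Q))
  | pair (D : Fin 2 → Submodule F (ι → F)) (hD : IsMDecomposition 6 D)
      (hts : ∀ i, IsTotallySingularQuad (⇑Q) (D i)) (hH : H = decompositionStabilizer D ⊓ omegaGL (⇑Q))
  | fieldTwo (K : Subalgebra F (Matrix ι ι F)) (hK : IsFieldSubalgebra 2 K)
      (hH : H = subalgebraNormalizer K ⊓ omegaGL (⇑Q))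
  | fieldThree (K : Subalgebra F (Matrix ι ι F)) (hK : IsFieldSubalgebra 3 K)
      (hH : H = subalgebraNormalizer K ⊓ omegaGL (⇑Q))
  | tensor (hq : 3 ≤ Fintype.card F) (e : ι ≃ Fin 2 × Fin 6) (P : GL ι F) (f₁ : (Fin 2 → F) → (Fin 2 → F) → F)
      (f₂ : (Fin 6 → F) → (Fin 6 → F) → F) (h1 : IsSymplecticForm f₁) (h2 : IsSymplecticForm f₂)
      (hs : IsTensorFormStructure id (QuadraticMap.polar (⇑Q)) f₁ f₂ e P)
      (hz : ∀ (x₁ : Fin 2 → F) (x₂ : Fin 6 → F),
        Q ((P : Matrix ι ι F) *ᵥ ((fun a : Fin 2 × Fin 6 => x₁ a.1 * x₂ a.2) ∘ e)) = 0)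
      (hH : H = tensorProductSubgroup 2 6 e P ⊓ omegaGL (⇑Q))
  | subfield (F₀ : Subfield F) (r : ℕ) (P : GL ι F) (ζ : F) (hr : r.Prime)
      (hc : Fintype.card F = Nat.card F₀ ^ r) (hζ : ζ ≠ 0)
      (hs : IsQuadFormRationalStructure (fun v => ζ * Q v) F₀ P) (hH : H = subfieldSubgroup F₀ P ⊓ omegaGL (⇑Q))
  | residual (h : InOrthogonalResidualClass H)

include hQ in
set_option maxHeartbeats 1000000 in
/-- The maximal subgroups of `Ω` of plus type in degree twelve. -/
theorem omega_twelve_plus (h12 : Fintype.card ι = 12) (hplus : IsPlusTypeOn (⇑Q) ⊤)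
    {H : Subgroup (GL ι F)} (hH : IsMaximalIn (omegaGL (⇑Q)) H) : TwelvePlus Q H := by
  classical
  haveI : Nonempty ι := Fintype.card_pos_iff.mp (by omega)
  have hiso : ∀ g ∈ H, ∀ x, Q ((g : Matrix ι ι F) *ᵥ x) = Q x := fun g hg => omega_preserves' Q (hH.1.le hg)
  by_cases hW : ∃ W : Submodule F (ι → F), W ≠ ⊥ ∧ W ≠ ⊤ ∧ Invariant H W
  · obtain ⟨W, h0, h1, hinv⟩ := hW
    by_cases h6 : ∃ U : Submodule F (ι → F), Module.finrank F U = 6 ∧ IsNondegenerateOn (QuadraticMap.polar (⇑Q)) U ∧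
        Invariant H U
    · obtain ⟨U, hd, hnd, hU⟩ := h6
      obtain ⟨hcompl, hndp⟩ := Cfsg.Lib.Classical.Refl.nondeg_perp Q hQ hnd
      have hdp : Module.finrank F (HypQuad.perp Q U) = 6 := by
        rw [Cfsg.Lib.Classical.HypQuad.finrank_perp Q hQ, finrank_pi_card, hd, h12]
      obtain ⟨φ, hφ⟩ := perp_isometric Q hQ (k := 3) (by omega) hplus hnd (by omega)
      have hD : IsOrthogonalMDecomposition (⇑Q) 6 ![U, HypQuad.perp Q U] := by
        refine ⟨⟨⟨le_rfl, by norm_num, fun i => ?_, ?_, ?_⟩, fun i => ?_, fun i j hij => ?_⟩, fun i j => ?_⟩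
        · fin_cases i <;> [exact hd; exact hdp]
        · exact (iSupIndep_pair (i := (0 : Fin 2)) (j := 1) (by decide) (fun k => by fin_cases k <;> simp)).mpr
            hcompl.disjoint
        · exact top_le_iff.mp (hcompl.sup_eq_top ▸ sup_le (le_iSup (![U, HypQuad.perp Q U]) 0)
            (le_iSup (![U, HypQuad.perp Q U]) 1))
        · fin_cases i <;> [exact hnd; exact hndp]
        · fin_cases i <;> fin_cases j
          · exact absurd rfl hij
          · exact fun u hu v hv => (HypQuad.mem_perp Q).mp hv u hu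
          · exact fun u hu v hv => (QuadraticMap.polar_comm _ _ _).trans ((HypQuad.mem_perp Q).mp hu v hv)
          · exact absurd rfl hij
        · fin_cases i <;> fin_cases j
          exacts [⟨LinearEquiv.refl F _, fun _ => rfl⟩, ⟨φ, hφ⟩,
            ⟨φ.symm, fun w => ((hφ _).symm.trans (congrArg (fun x : HypQuad.perp Q U => Q (x : ι → F)) (φ.apply_symm_apply w)))⟩, ⟨LinearEquiv.refl F _, fun _ => rfl⟩]
      refine .halves _ hD (eq_inf_of_maximal hH (fun g hg => ⟨1, fun i => ?_⟩)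
        (omega_not_le_blocks' Q hQ (by omega) (by norm_num) hD.decomp.decomp))
      have hfix : ∀ V : Submodule F (ι → F), Invariant H V →
          V.map (Matrix.toLin' (g : Matrix ι ι F)) = V := fun V hV => by
        refine Submodule.eq_of_le_of_finrank_eq ?_ (finrank_map_mulVec _ _)
        rintro _ ⟨v, hv, rfl⟩
        rw [Matrix.toLin'_apply]; exact hV g hg v hv
      fin_cases i
      · exact hfix _ hU
      · exact hfix _ (perp_invariant Q hQ hH.1.le hU)
    refine .red (red_types Q hQ (by omega) hH h0 h1 hinv) (fun U hnd hHU hd => h6 ⟨U, hd, hnd, ?_⟩)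
      fun U hs hHU hd => ?_
    · intro g hg v hv
      exact ((hHU ▸ hg : g ∈ subspaceStabilizer U ⊓ omegaGL (⇑Q)).1 v).mp hv
    · obtain ⟨V, -, hVs, hVd⟩ := hplus
      rw [finrank_top, finrank_pi_card, h12] at hVd
      obtain ⟨K, hlt, hlt'⟩ := Cfsg.Lib.Classical.Refl.hyperplane_not_maximal Q hQ (m := 6) (by norm_num)
        (by omega) ⟨V, by omega, hVs⟩ (W := U) hs (by omega)
      rw [← hHU] at hlt
      rcases hH.2 K hlt.le hlt'.le with e | e
      · exact hlt.ne e.symm
      · exact hlt'.ne e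
  push Not at hW
  have hirr : ActsIrreducibly (matrixSet H) := (irreducible_iff H).mpr fun W hinv =>
    or_iff_not_imp_left.mpr fun h0 => by_contra fun h1 => hW W h0 h1 hinv
  have hfield : ∀ K : Subalgebra F (Matrix ι ι F), IsFieldSubalgebra 2 K → H ≤ subalgebraNormalizer K →
      TwelvePlus Q H := fun K hK hle =>
    .fieldTwo K hK (eq_inf_of_maximal hH hle (omega_not_le_field' Q hQ (by omega) one_lt_two hK))
  have hsub : ∀ (F₁ : Subfield F) (r : ℕ) (B : GL ι F) (ζ : F), r.Prime → Fintype.card F = Nat.card F₁ ^ r → ζ ≠ 0 →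
      IsQuadFormRationalStructure (fun v => ζ * Q v) F₁ B → H ≤ subfieldSubgroup F₁ B → TwelvePlus Q H :=
    fun F₁ r B ζ hr hc hζ hs hle => .subfield F₁ r B ζ hr hc hζ hs (eq_inf_of_maximal hH hle
      (omega_not_le_subfieldSubgroup' Q hQ (by omega) (ne_top_of_prime_index hr hc) B))
  have hpairs : ∀ D : Fin 2 → Submodule F (ι → F), IsMDecomposition 6 D →
      (∀ i, IsTotallySingularFor (QuadraticMap.polar (⇑Q)) (D i)) → H ≤ decompositionStabilizer D →
      TwelvePlus Q H := fun D hD hts hle => by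
    have hD' : IsMDecomposition 6 (D ∘ Equiv.swap 0 1) := ⟨hD.two_le, hD.pos, fun i => hD.finrank_eq _,
      hD.indep.comp (Equiv.swap 0 1).injective, ((Equiv.swap (0 : Fin 2) 1).iSup_comp (g := D)).trans hD.iSup_eq_top⟩
    have hle' : H ≤ decompositionStabilizer (D ∘ Equiv.swap 0 1) := fun g hg => by
      obtain ⟨π, hπ⟩ := hle hg
      exact ⟨((Equiv.swap 0 1).trans π).trans (Equiv.swap 0 1), fun i => by simp [hπ]⟩
    refine .pair D hD (fun i => ?_) (eq_inf_of_maximal hH hle (omega_not_le_blocks' Q hQ (by omega) (by norm_num) hD))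
    fin_cases i
    · exact pair_singular Q hQ hirr hiso (by omega) hD hts hle
    · exact pair_singular Q hQ hirr hiso (by omega) hD' (fun i => hts _) hle'
  have hframe : ∀ D : Fin 12 → Submodule F (ι → F), IsOrthogonalMDecomposition (⇑Q) 1 D →
      H ≤ decompositionStabilizer D → TwelvePlus Q H := fun D hD hle => by
    have h2 : (2 : F) ≠ 0 := fun h2 => by
      have := even_finrank_of_char_two Q hQ h2 (hD.decomp.nondegenerate 0)
      rw [hD.decomp.decomp.finrank_eq] at this
      exact absurd this (by decide)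
    by_cases hpr : (Fintype.card F).Prime
    · exact .frame ⟨_, hpr, odd_card_iff.mpr h2, rfl⟩ D hD
        (eq_inf_of_maximal hH hle (omega_not_le_decomposition Q hQ h2 (by omega) hD.decomp))
    · obtain ⟨F₀, r, B, ζ, hr, hc, hζ, hs, hle'⟩ := frame_subfield_any Q hQ h2 hpr hD hiso hle
      exact hsub F₀ r B ζ hr hc hζ hs hle'
  have htypes : ∀ {t k : ℕ} {D : Fin t → Submodule F (ι → F)}, IsOrthogonalMDecomposition (⇑Q) k D → ∀ i,
      IsPlusTypeOn (⇑Q) (D i) → ∀ j, IsPlusTypeOn (⇑Q) (D j) :=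
    fun hD i hp j => plus_of_isometric Q (hD.isometric i j) hp
  have hplanes : ∀ D : Fin 6 → Submodule F (ι → F), IsOrthogonalMDecomposition (⇑Q) 2 D →
      H ≤ decompositionStabilizer D → TwelvePlus Q H := fun D hD hle => by
    have heq := eq_inf_of_maximal hH hle (omega_not_le_planes Q hQ (by omega) hD.decomp.decomp)
    by_cases hp0 : IsPlusTypeOn (⇑Q) (D 0)
    · have hp := htypes hD 0 hp0
      by_cases h7 : 7 ≤ Fintype.card F
      · exact .planesPlus h7 D hD hp heq
      by_cases h3 : Fintype.card F ≤ 3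
      · exact (planes_small Q hQ h3 (by omega) hD hp hirr hiso hle).elim
      by_cases h4 : Fintype.card F = 4
      · obtain ⟨F₀, B, ζ, hc, hζ, hs, hle'⟩ := planes_four Q hQ h4 hD hp hiso hle
        exact hsub F₀ 2 B ζ Nat.prime_two hc hζ hs hle'
      by_cases h5 : Fintype.card F = 5
      · obtain ⟨D', hD', hle'⟩ := planes_five Q hQ h5 hD hp hiso hle
        exact hframe D' (isometric_of_irreducible Q hQ hiso hirr hD' hle') hle'
      exfalso
      have h6 : Fintype.card F = 6 := by omega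
      obtain ⟨p, n, hp', -, hpn⟩ := (isPrimePow_nat_iff _).mp (FiniteField.isPrimePow_card F)
      rw [h6] at hpn
      have h2' := (Nat.prime_dvd_prime_iff_eq Nat.prime_two hp').mp
        (Nat.prime_two.dvd_of_dvd_pow (hpn.symm ▸ (by norm_num : 2 ∣ 6)))
      have h3' := (Nat.prime_dvd_prime_iff_eq Nat.prime_three hp').mp
        (Nat.prime_three.dvd_of_dvd_pow (hpn.symm ▸ (by norm_num : 3 ∣ 6)))
      omega
    · have hp : ∀ i, ¬ IsPlusTypeOn (⇑Q) (D i) := fun i h => hp0 (htypes hD i h 0)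
      by_cases h3 : Fintype.card F = 3
      · obtain ⟨D', hD', hle'⟩ := frame_of_planes' Q hQ h3 hD hiso hle hp
        exact hframe D' (isometric_of_irreducible Q hQ hiso hirr hD' hle') hle'
      · exact .planesMinus h3 D hD hp heq
  have hfours : ∀ D : Fin 3 → Submodule F (ι → F), IsOrthogonalMDecomposition (⇑Q) 4 D →
      H ≤ decompositionStabilizer D → TwelvePlus Q H := fun D hD hle => by
    by_cases h3 : 3 ≤ Fintype.card F
    · exact .fours h3 D hD (eq_inf_of_maximal hH hle (omega_not_le_blocks' Q hQ (by omega) (by norm_num)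
        hD.decomp.decomp))
    have hq : Fintype.card F = 2 := by have := Fintype.one_lt_card (α := F); omega
    have h2 : (2 : F) = 0 := by
      have := FiniteField.cast_card_eq_zero F
      rw [hq] at this
      exact_mod_cast this
    have hp := htypes hD 0 (plus_of_three Q hQ h2 (j := 2) hplus hD)
    obtain ⟨D', hD', hle'⟩ := planes_two Q hQ hq hD hp hiso hle
    exact hplanes D' (isometric_of_irreducible Q hQ hiso hirr hD' hle') hle'
  have hskew : ∀ (Φ : Matrix ι (Fin 2 × Fin 6) F) (Ψ : Matrix (Fin 2 × Fin 6) ι F) (X₁ : Matrix (Fin 2) (Fin 2) F)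
      (X₂ : Matrix (Fin 6) (Fin 6) F), TensorForm (RingEquiv.refl F) (QuadraticMap.polar (⇑Q)) H Φ Ψ X₁ X₂ →
      X₁ᵀ = -X₁ → X₂ᵀ = -X₂ → TwelvePlus Q H := fun Φ Ψ X₁ X₂ hT h1 h2' => by
    by_cases hq3 : 3 ≤ Fintype.card F
    · let e : ι ≃ Fin 2 × Fin 6 := Fintype.equivOfCardEq hT.coords.card_eq.symm
      obtain ⟨hs1, hs2, hz⟩ := alternating_factors Q hQ hirr hiso hT h1 h2'
      have hs := hT.structure' (orth_refl Q hQ) e
      rw [show (⇑(RingEquiv.refl F) : F → F) = id from rfl] at hs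
      refine .tensor hq3 e _ _ _ hs1 hs2 hs (fun x₁ x₂ => ?_) (eq_inf_of_maximal hH (hT.le_stabilizer e)
        (omega_not_le_two_tensor Q hQ (by omega) (by norm_num) e _))
      rw [hT.coords.toGL_mulVec]
      exact hz x₁ x₂
    · obtain ⟨K, hK, hle⟩ := field_of_binary_two Q hQ (by have := Fintype.one_lt_card (α := F); omega) hT
      exact hfield K hK hle
  have h26 : ∀ (Φ : Matrix ι (Fin 2 × Fin 6) F) (Ψ : Matrix (Fin 2 × Fin 6) ι F) (X₁ : Matrix (Fin 2) (Fin 2) F)
      (X₂ : Matrix (Fin 6) (Fin 6) F) (l : F),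
      TensorForm (RingEquiv.refl F) (QuadraticMap.polar (⇑Q)) H Φ Ψ X₁ X₂ → l * l = 1 →
      X₁ᵀ = l • X₁ → X₂ᵀ = (1 / l) • X₂ → TwelvePlus Q H := fun Φ Ψ X₁ X₂ l hT hl h1 h2' => by
    by_cases hsym : (2 : F) ≠ 0 ∧ l = 1
    · obtain ⟨h2, rfl⟩ := hsym
      rw [one_smul] at h1
      obtain ⟨J, hJJ, hadj, hstep⟩ := sym_binary Q hQ hT h1
      have hδ : -X₁.det ≠ 0 := neg_ne_zero.mpr hT.det_left
      by_cases hsq : IsSquare (-X₁.det)
      · obtain ⟨r, hr⟩ := hsq
        rw [hr] at hJJ hδ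
        obtain ⟨D, hD, hts, hle⟩ := root_pair Q hQ (k := 6) (by norm_num) (by omega) h2
          (fun e => hδ (by rw [e, zero_mul])) hJJ hadj hstep
        exact hpairs D hD hts hle
      · obtain ⟨K, hK, -, -, hle⟩ := field_of_root Q hQ h2 hsq hJJ hadj hstep
        exact hfield K hK hle
    · have hl1 : l = -1 := by
        rcases mul_self_eq_one_iff.mp hl with e | e
        · push Not at hsym
          haveI : CharP F 2 := CharTwo.of_one_ne_zero_of_two_eq_zero one_ne_zero
            (by_contra fun h => hsym h e)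
          rw [e, CharTwo.neg_eq]
        · exact e
      rw [hl1, neg_smul, one_smul] at h1
      rw [hl1, div_neg, div_one, neg_smul, one_smul] at h2'
      exact hskew Φ Ψ X₁ X₂ hT h1 h2'
  have h34 : ∀ (Φ : Matrix ι (Fin 3 × Fin 4) F) (Ψ : Matrix (Fin 3 × Fin 4) ι F) (X₁ : Matrix (Fin 3) (Fin 3) F)
      (X₂ : Matrix (Fin 4) (Fin 4) F) (l : F),
      TensorForm (RingEquiv.refl F) (QuadraticMap.polar (⇑Q)) H Φ Ψ X₁ X₂ → l * l = 1 →
      X₁ᵀ = l • X₁ → X₂ᵀ = (1 / l) • X₂ → TwelvePlus Q H := fun Φ Ψ X₁ X₂ l hT hl h1 h2' => by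
    obtain ⟨h2, rfl⟩ := odd_factor Q hQ hirr hT hl h1
    rw [one_smul] at h1
    rw [div_one, one_smul] at h2'
    by_cases hq3 : Fintype.card F = 3
    · obtain ⟨D, hD, hle⟩ := blocks_three Q hQ hq3 (by norm_num) hT h1
      exact hfours D (isometric_of_irreducible Q hQ hiso hirr hD hle) hle
    · obtain ⟨Φ', Ψ', Y₁, Y₂, hT', e1, e2⟩ := three_four_two_six Q hQ h2 hplus hH.1.le hT h1 h2'
      exact hskew Φ' Ψ' Y₁ Y₂ hT' e1 e2
  cases even_structure Q hQ (by omega) hirr hiso with
  | decomp t k D hD hle =>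
    have hmul := IsMDecomposition.mul_eq hD.decomp.decomp
    rw [h12] at hmul
    have h2t := hD.decomp.decomp.two_le
    have ht12 : t ≤ 12 := Nat.le_of_dvd (by norm_num) ⟨k, hmul.symm⟩
    obtain ⟨rfl, rfl⟩ | ⟨rfl, rfl⟩ | ⟨rfl, rfl⟩ | ⟨rfl, rfl⟩ | ⟨rfl, rfl⟩ : (t = 2 ∧ k = 6) ∨ (t = 3 ∧ k = 4) ∨
        (t = 4 ∧ k = 3) ∨ (t = 6 ∧ k = 2) ∨ (t = 12 ∧ k = 1) := by
      interval_cases t <;> omega
    · exact .halves D hD (eq_inf_of_maximal hH hle (omega_not_le_blocks' Q hQ (by omega) (by norm_num)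
        hD.decomp.decomp))
    · exact hfours D hD hle
    · have h2 : (2 : F) ≠ 0 := fun h2 => by
        have := even_finrank_of_char_two Q hQ h2 (hD.decomp.nondegenerate 0)
        rw [hD.decomp.decomp.finrank_eq] at this
        exact absurd this (by decide)
      by_cases h3 : Fintype.card F = 3
      · obtain ⟨D', hD', hle'⟩ := frame_three Q hQ h3 hD hiso hle
        exact hframe D' (isometric_of_irreducible Q hQ hiso hirr hD' hle') hle'
      have ho := odd_card_iff.mpr h2
      refine .threes ho ?_ D hD (eq_inf_of_maximal hH hle (omega_not_le_blocks' Q hQ (by omega) le_rfl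
        hD.decomp.decomp))
      have := Fintype.one_lt_card (α := F)
      obtain ⟨j, hj⟩ := ho
      omega
    · exact hplanes D hD hle
    · exact hframe D hD hle
  | pair k D hk hD hts hle =>
    obtain rfl : k = 6 := by omega
    exact hpairs D hD hts hle
  | field r K hr hdvd hK hadj hodd hle =>
    rw [h12] at hdvd
    have hr12 := Nat.le_of_dvd (by norm_num) hdvd
    have hr23 : r = 2 ∨ r = 3 := by
      interval_cases r <;> first | omega | (exfalso; revert hr; norm_num)
    rcases hr23 with rfl | rfl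
    · exact hfield K hK hle
    · exact .fieldThree K hK (eq_inf_of_maximal hH hle (omega_not_le_field' Q hQ (by omega) hr.one_lt hK))
  | tensor d k Φ Ψ X₁ X₂ l hT hl h1 h2' =>
    have hcard : d * k = 12 := by
      rw [← h12, ← hT.coords.card_eq, Fintype.card_prod, Fintype.card_fin, Fintype.card_fin]
    have := hT.two_left
    have := hT.two_right
    have hd : d ≤ 6 := by nlinarith
    have hl' : (1 / l) * (1 / l) = 1 := by rw [one_div, ← mul_inv, hl, inv_one]
    obtain ⟨rfl, rfl⟩ | ⟨rfl, rfl⟩ | ⟨rfl, rfl⟩ | ⟨rfl, rfl⟩ : (d = 2 ∧ k = 6) ∨ (d = 6 ∧ k = 2) ∨ (d = 3 ∧ k = 4) ∨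
        (d = 4 ∧ k = 3) := by
      interval_cases d <;> omega
    · exact h26 Φ Ψ X₁ X₂ l hT hl h1 h2'
    · exact h26 _ _ _ _ _ hT.swap hl' h2' (by rwa [one_div_one_div])
    · exact h34 Φ Ψ X₁ X₂ l hT hl h1 h2'
    · exact h34 _ _ _ _ _ hT.swap hl' h2' (by rwa [one_div_one_div])
  | wreath t k Φ Ψ X c l hW' hl hX hlt =>
    exfalso
    have hcard : k ^ t = 12 := by
      rw [← h12, ← hW'.coords.card_eq, Fintype.card_fun, Fintype.card_fin, Fintype.card_fin]
    have hk := hW'.two_le_k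
    have ht := hW'.two_le_t
    have h3 : t ≤ 3 := by
      by_contra hc
      have := (Nat.pow_le_pow_left hk t).trans hcard.le
      have := Nat.pow_le_pow_right two_pos (show 4 ≤ t by omega)
      omega
    have h4 : k ≤ 3 := by
      by_contra hc
      have := (Nat.pow_le_pow_right (show 0 < k by omega) ht).trans hcard.le
      nlinarith
    interval_cases t <;> interval_cases k <;> omega
  | sympN N r hNH hN =>
    exfalso
    obtain ⟨m, hm, -⟩ := (hN.card_classes).2
    rw [h12] at hm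
    have h2' : 2 ∣ r ^ m := hm ▸ (by norm_num : 2 ∣ 12)
    have h3' : 3 ∣ r ^ m := hm ▸ (by norm_num : 3 ∣ 12)
    have e2 := (Nat.prime_dvd_prime_iff_eq Nat.prime_two hN.prime).mp (Nat.prime_two.dvd_of_dvd_pow h2')
    have e3 := (Nat.prime_dvd_prime_iff_eq Nat.prime_three hN.prime).mp (Nat.prime_three.dvd_of_dvd_pow h3')
    omega
  | subfield F₁ r B c hr hcard hc hrat hle => exact hsub F₁ r B c hr hcard hc hrat hle
  | residual h => exact .residual h

end OrthEven

end Cfsg.Lib.Classical.Aschbacher
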