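import Cfsg.Agent.Classical.Aschbacher.OrthTwelveTools

/-! Tensor factors of degrees two and six, three and four. -/

set_option autoImplicit false
set_option linter.unusedSimpArgs false
set_option linter.unusedSectionVars false
set_option linter.style.haveILetI false

namespace Cfsg.Lib.Classical.Aschbacher

open Matrix Cfsg.Geo
open scoped MatrixGroups Kronecker
open Cfsg.Lib.Classical.PrimeDim.Orth (omega_preserves')
open Cfsg.Lib.Classical.PrimeDim (Invariant finrank_pi_card irreducible_iff val_inv_mul val_mul_inv inv_mulVec_mulVec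
  gl_mulVec_ne_zero)
open Cfsg.Lib.Classical (HypQuad.perp HypQuad.mem_perp)

universe u

/-- The exchange of the two factors has determinant minus one. -/
theorem swapFour_det {F : Type u} [Field F] : (swapFour F).det = -1 := by
  have e : swapFour F = Equiv.Perm.permMatrix F (Equiv.swap ((0, 1) : Fin 2 × Fin 2) (1, 0)) := by
    ext ⟨a, b⟩ ⟨c, d⟩
    fin_cases a <;> fin_cases b <;> fin_cases c <;> fin_cases d <;>
      simp [swapFour, Equiv.Perm.permMatrix, PEquiv.toMatrix_apply, Equiv.swap_apply_def]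
  rw [e, Matrix.det_permutation, Equiv.Perm.sign_swap (by decide)]
  simp

namespace OrthEven

variable {ι : Type} [Fintype ι] [DecidableEq ι] {F : Type u} [Field F] [Fintype F] (Q : QuadraticForm F (ι → F))
  (hQ : (QuadraticMap.polarBilin Q).Nondegenerate)

include hQ in
/-- Alternating factors: their forms, and the form vanishes on pure tensors. -/
theorem alternating_factors {H : Subgroup (GL ι F)} (hirr : ActsIrreducibly (matrixSet H))
    (hiso : ∀ g ∈ H, ∀ x, Q ((g : Matrix ι ι F) *ᵥ x) = Q x) {k : ℕ}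
    {Φ : Matrix ι (Fin 2 × Fin k) F} {Ψ : Matrix (Fin 2 × Fin k) ι F} {X₁ : Matrix (Fin 2) (Fin 2) F}
    {X₂ : Matrix (Fin k) (Fin k) F} (hT : TensorForm (RingEquiv.refl F) (QuadraticMap.polar (⇑Q)) H Φ Ψ X₁ X₂)
    (h1 : X₁ᵀ = -X₁) (h2' : X₂ᵀ = -X₂) :
    IsSymplecticForm (matForm (RingEquiv.refl F) X₁) ∧ IsSymplecticForm (matForm (RingEquiv.refl F) X₂) ∧
      ∀ (x₁ : Fin 2 → F) (x₂ : Fin k → F), Q (Φ *ᵥ fun p => x₁ p.1 * x₂ p.2) = 0 := by
  classical
  have hf := orth_refl Q hQ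
  haveI : Nonempty ι := Fintype.card_pos_iff.mp (by
    rw [← hT.coords.card_eq, Fintype.card_prod, Fintype.card_fin, Fintype.card_fin]
    have := hT.two_right; omega)
  obtain ⟨hd1, hd2⟩ : (∀ i, X₁ i i = 0) ∧ ∀ i, X₂ i i = 0 := by
    by_cases h2 : (2 : F) = 0
    · haveI : CharP F 2 := CharTwo.of_one_ne_zero_of_two_eq_zero one_ne_zero h2
      refine ⟨hT.swap.diag_right hirr h2 ?_, hT.diag_right hirr h2 ?_⟩
      · rw [h1]; exact Matrix.ext fun i j => CharTwo.neg_eq _
      · rw [h2']; exact Matrix.ext fun i j => CharTwo.neg_eq _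
    · have key : ∀ {n : ℕ} {X : Matrix (Fin n) (Fin n) F}, Xᵀ = -X → ∀ i, X i i = 0 := fun {n X} h i => by
        have := congrFun (congrFun h i) i
        rw [Matrix.transpose_apply, Matrix.neg_apply, eq_neg_iff_add_eq_zero, ← two_mul] at this
        exact (mul_eq_zero.mp this).resolve_left h2
      exact ⟨key h1, key h2'⟩
  have hs1 := matForm_symplectic hT.det_left h1 hd1
  have hs2 := matForm_symplectic hT.det_right h2' hd2
  refine ⟨hs1, hs2, fun x₁ x₂ => ?_⟩
  have a1 : x₁ ⬝ᵥ (X₁ *ᵥ x₁) = 0 := by simpa [matForm] using hs1.alternating x₁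
  have a2 : x₂ ⬝ᵥ (X₂ *ᵥ x₂) = 0 := by simpa [matForm] using hs2.alternating x₂
  set z : Fin 2 × Fin k → F := fun p => x₁ p.1 * x₂ p.2 with hz
  by_cases h2 : (2 : F) = 0
  swap
  · rw [Cfsg.Lib.Classical.PrimeDim.Orth.quad_eq_half Q h2, hf.apply_coords, RingEquiv.coe_refl, Function.id_comp,
      show hf.gramIn Φ = X₁ ⊗ₖ X₂ from hT.gram]
    have e0 : (X₁ ⊗ₖ X₂) *ᵥ z = fun p => (X₁ *ᵥ x₁) p.1 * (X₂ *ᵥ x₂) p.2 := funext fun p => by
      simp only [hz, Matrix.mulVec, dotProduct, Fintype.sum_prod_type, Matrix.kroneckerMap_apply, Finset.sum_mul_sum]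
      exact Finset.sum_congr rfl fun x _ => Finset.sum_congr rfl fun y _ => by ring
    have e : z ⬝ᵥ ((X₁ ⊗ₖ X₂) *ᵥ z) = (x₁ ⬝ᵥ (X₁ *ᵥ x₁)) * (x₂ ⬝ᵥ (X₂ *ᵥ x₂)) := by
      rw [e0]
      simp only [hz, dotProduct, Fintype.sum_prod_type, Finset.sum_mul_sum]
      exact Finset.sum_congr rfl fun x _ => Finset.sum_congr rfl fun y _ => by ring
    rw [e, a1, zero_mul, zero_div]
  haveI : CharP F 2 := CharTwo.of_one_ne_zero_of_two_eq_zero one_ne_zero h2
  haveI : Nonempty (Fin k) := ⟨⟨0, by have := hT.two_right; omega⟩⟩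
  have hX2 : X₂ᵀ = X₂ := by rw [h2']; exact Matrix.ext fun i j => CharTwo.neg_eq _
  have h10 : X₁ 1 0 = X₁ 0 1 := by
    have := congrFun (congrFun h1 0) 1
    rw [Matrix.transpose_apply, Matrix.neg_apply, CharTwo.neg_eq] at this
    exact this
  have hX1 : X₁ = X₁ 0 1 • !![0, 1; 1, 0] := by
    ext i j; fin_cases i <;> fin_cases j <;> simp [hd1, h10]
  have halt : ∀ v, v ⬝ᵥ (X₂ *ᵥ v) = 0 := fun v => by simpa [matForm] using hs2.alternating v
  have heq := half_form_eq Q hQ hirr hiso h2 hT.coords (g := X₁ 0 1) hX2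
    (by rw [show hf.gramIn Φ = X₁ ⊗ₖ X₂ from hT.gram]
        conv_lhs => rw [hX1]
        rw [Matrix.smul_kronecker])
    fun h hh => by
      obtain ⟨a, b, c, -, hab, -, hb⟩ := hT.split h hh
      rw [RingEquiv.coe_refl, Matrix.map_id] at hb
      refine ⟨a.det * c⁻¹, fun v => ?_⟩
      rw [← halfQuad_kron h2 hX2 halt hb a (Ψ *ᵥ v), Matrix.mulVec_mulVec, Matrix.mulVec_mulVec, ← hab,
        Matrix.mul_assoc _ Φ Ψ, hT.coords.left, Matrix.mul_one]
  rw [heq, Matrix.mulVec_mulVec, hT.coords.right, Matrix.one_mulVec, halfQuad]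
  rw [show (fun a => z (0, a)) = x₁ 0 • x₂ from rfl, show (fun a => z (1, a)) = x₁ 1 • x₂ from rfl,
    Matrix.mulVec_smul, smul_dotProduct, dotProduct_smul, a2]
  simp

include hQ in
/-- `Ω` is not contained in the stabiliser of a tensor decomposition with a binary factor. -/
theorem omega_not_le_two_tensor (hn : 7 ≤ Fintype.card ι) {n : ℕ} (hn' : 3 ≤ n) (e : ι ≃ Fin 2 × Fin n) (P : GL ι F) :
    ¬ omegaGL (⇑Q) ≤ tensorProductSubgroup 2 n e P := fun hle => by
  classical
  let Lc : (ι → F) →ₗ[F] (Fin n → F) :=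
    (LinearMap.funLeft F F (fun j => e.symm (1, j))).comp (Matrix.toLin' ((P⁻¹ : GL ι F) : Matrix ι ι F))
  have hLc : ∀ v j, Lc v j = (((P⁻¹ : GL ι F) : Matrix ι ι F) *ᵥ v) (e.symm (1, j)) := fun v j => by
    simp [Lc, LinearMap.funLeft]
  have hmem : ∀ (g : GL ι F) (a : Matrix (Fin 2) (Fin 2) F) (b : Matrix (Fin n) (Fin n) F) (s : F),
      a = s • 1 → inCoords e P g = a ⊗ₖ b → ∀ v, Lc v = 0 → Lc ((g : Matrix ι ι F) *ᵥ v) = 0 := by
    intro g a b s ha hab v hv
    funext j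
    rw [hLc, Pi.zero_apply]
    set w := ((P⁻¹ : GL ι F) : Matrix ι ι F) *ᵥ v with hw
    have e1 : ((P⁻¹ : GL ι F) : Matrix ι ι F) *ᵥ ((g : Matrix ι ι F) *ᵥ v) =
        ((P⁻¹ * g * P : GL ι F) : Matrix ι ι F) *ᵥ w := by
      rw [hw, Matrix.mulVec_mulVec, Matrix.mulVec_mulVec, ← Units.val_mul, ← Units.val_mul, mul_assoc (P⁻¹ * g),
        mul_inv_cancel, mul_one]
    rw [e1]
    show ∑ l, ((P⁻¹ * g * P : GL ι F) : Matrix ι ι F) (e.symm (1, j)) l * w l = 0
    rw [← Equiv.sum_comp e.symm, Fintype.sum_prod_type, Fin.sum_univ_two]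
    have hz : ∀ l, w (e.symm (1, l)) = 0 := fun l => by rw [hw, ← hLc, hv, Pi.zero_apply]
    have he : ∀ x y, ((P⁻¹ * g * P : GL ι F) : Matrix ι ι F) (e.symm x) (e.symm y) = (a ⊗ₖ b) x y := fun x y =>
      congrFun (congrFun hab x) y
    simp [he, hz, ha, Matrix.one_apply]
  let W := LinearMap.ker Lc
  have hPi : ∀ x, ((P⁻¹ : GL ι F) : Matrix ι ι F) *ᵥ ((P : Matrix ι ι F) *ᵥ x) = x := inv_mulVec_mulVec P
  refine omega_not_le_subspace' Q hQ hn (W := W) (fun hb => ?_) (fun ht => ?_)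
    (omega_le_of_siegel Q hQ (by omega) _ fun u z hu huz g hg hgx => ?_)
  · have h0 : (P : Matrix ι ι F) *ᵥ Pi.single (e.symm (0, ⟨0, by omega⟩)) 1 = 0 := by
      refine (Submodule.eq_bot_iff _).mp hb _ (LinearMap.mem_ker.mpr (funext fun j => ?_))
      rw [hLc, hPi, Pi.zero_apply, Pi.single_eq_of_ne]
      intro h
      exact absurd (congrArg Prod.fst (e.symm.injective h)) (show (1 : Fin 2) ≠ 0 by decide)
    exact gl_mulVec_ne_zero P (fun h => one_ne_zero (α := F) (by simpa using congrFun h (e.symm (0, ⟨0, by omega⟩)))) h0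
  · have h0 := congrFun (LinearMap.mem_ker.mp (ht.ge (Submodule.mem_top
      (x := (P : Matrix ι ι F) *ᵥ Pi.single (e.symm (1, ⟨0, by omega⟩)) 1)))) ⟨0, by omega⟩
    rw [hLc, hPi, Pi.zero_apply, Pi.single_eq_same] at h0
    exact one_ne_zero h0
  obtain ⟨k, ⟨a, b, hk⟩, hcc⟩ := exists_of_mem_conjReindex (K := kroneckerSubgroup 2 n F) e P _ (hle hg)
  obtain ⟨φ, hφ⟩ := inCoords_siegel_fix Q hQ e P g hgx
  rw [hcc, hk] at hφ
  let pr : (Fin 2 → F) → (Fin n → F) →ₗ[F] (Fin 2 × Fin n → F) := fun u =>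
    { toFun := fun w p => u p.1 * w p.2
      map_add' := fun w w' => funext fun p => mul_add _ _ _
      map_smul' := fun c w => funext fun p => mul_left_comm (u p.1) c (w p.2) }
  have heig : ∀ u, ∃ s : F, (a : Matrix (Fin 2) (Fin 2) F) *ᵥ u = s • u := fun u => by
    obtain ⟨w, hw, hw0⟩ := (Submodule.ne_bot_iff _).mp (LinearMap.ker_ne_bot_of_finrank_lt (f := φ.comp (pr u)) (by
      rw [Module.finrank_prod, Module.finrank_self, Module.finrank_pi, Fintype.card_fin]; omega))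
    have h := hφ _ hw
    have happ : ((a : Matrix (Fin 2) (Fin 2) F) ⊗ₖ (b : Matrix (Fin n) (Fin n) F)) *ᵥ pr u w =
        pr ((a : Matrix (Fin 2) (Fin 2) F) *ᵥ u) ((b : Matrix (Fin n) (Fin n) F) *ᵥ w) := funext fun p => by
      simp only [pr, LinearMap.coe_mk, AddHom.coe_mk, Matrix.mulVec, dotProduct, Finset.sum_mul_sum,
        Fintype.sum_prod_type, Matrix.kroneckerMap_apply]
      exact Finset.sum_congr rfl fun x _ => Finset.sum_congr rfl fun y _ => by ring
    rw [happ] at h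
    obtain ⟨j, hj⟩ := Function.ne_iff.mp hw0
    by_cases hbj : ((b : Matrix (Fin n) (Fin n) F) *ᵥ w) j = 0
    · refine ⟨1, ?_⟩
      have hu : u = 0 := funext fun i => by
        have := congrFun h (i, j)
        simp only [pr, LinearMap.coe_mk, AddHom.coe_mk, hbj, mul_zero] at this
        exact (mul_eq_zero.mp this.symm).resolve_right hj
      rw [hu, Matrix.mulVec_zero, smul_zero]
    · refine ⟨w j / ((b : Matrix (Fin n) (Fin n) F) *ᵥ w) j, funext fun i => ?_⟩
      have := congrFun h (i, j)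
      simp only [pr, LinearMap.coe_mk, AddHom.coe_mk] at this
      rw [Pi.smul_apply, smul_eq_mul, div_mul_eq_mul_div, eq_div_iff hbj, this, mul_comm]
  obtain ⟨s0, h0⟩ := heig (Pi.single 0 1)
  obtain ⟨s1, h1⟩ := heig (Pi.single 1 1)
  obtain ⟨s, hs⟩ := heig (Pi.single 0 1 + Pi.single 1 1)
  have ha : (a : Matrix (Fin 2) (Fin 2) F) = s • 1 := by
    rw [Matrix.mulVec_add, h0, h1] at hs
    have e0 := congrFun hs 0
    have e1 := congrFun hs 1
    simp at e0 e1
    subst e0 e1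
    rw [Matrix.mulVec_single_one] at h0 h1
    ext i j
    fin_cases j
    · have := congrFun h0 i; fin_cases i <;> simpa using this
    · have := congrFun h1 i; fin_cases i <;> simpa using this
  have hinv : ∀ v ∈ W, (g : Matrix ι ι F) *ᵥ v ∈ W := fun v hv =>
    hmem g _ _ s ha (hcc.trans hk) v hv
  have hmap : W.map (Matrix.toLin' (g : Matrix ι ι F)) = W := Submodule.eq_of_le_of_finrank_eq
    (by rintro _ ⟨v, hv, rfl⟩; rw [Matrix.toLin'_apply]; exact hinv v hv)
    (Cfsg.Lib.Classical.PrimeDim.finrank_map_mulVec _ _)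
  exact (Cfsg.Lib.Classical.Refl.mem_subspaceStabilizer_iff W g).mpr hmap

/-- An element with minimal polynomial `X² + X + 1` over two elements gives a normalised field. -/
theorem field_of_order_three [Nonempty ι] (hq : Fintype.card F = 2) {J : Matrix ι ι F} (hJJ : J * J = J + 1)
    {H : Subgroup (GL ι F)} (hstep : ∀ g ∈ H, (g : Matrix ι ι F) * J * ((g⁻¹ : GL ι F) : Matrix ι ι F) = J ∨
      (g : Matrix ι ι F) * J * ((g⁻¹ : GL ι F) : Matrix ι ι F) = J + 1) :
    ∃ K : Subalgebra F (Matrix ι ι F), IsFieldSubalgebra 2 K ∧ H ≤ subalgebraNormalizer K := by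
  classical
  have helts : ∀ x : F, x = 0 ∨ x = 1 := fun x => by
    by_cases hx : x = 0
    · exact Or.inl hx
    · have h := FiniteField.pow_card_sub_one_eq_one x hx
      rw [hq, show 2 - 1 = 1 from rfl, pow_one] at h
      exact Or.inr h
  have h2 : (2 : F) = 0 := by
    rcases helts 2 with h | h
    · exact h
    · exact absurd (show (1 : F) = 0 by linear_combination h) one_ne_zero
  have h11 : (1 : F) + 1 = 0 := by rw [one_add_one_eq_two, h2]
  have hMM : ∀ M : Matrix ι ι F, M + M = 0 := fun M => by rw [← two_smul F M, h2, zero_smul]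
  have hJ1 : J * (J + 1) = 1 := by rw [mul_add, mul_one, hJJ, add_comm J 1, add_assoc, hMM, add_zero]
  have hind : ∀ a b : F, a • (1 : Matrix ι ι F) + b • J = 0 → a = 0 ∧ b = 0 := by
    intro a b hab
    rcases helts b with rfl | rfl
    · rw [zero_smul, add_zero] at hab
      exact ⟨(smul_eq_zero.mp hab).resolve_right one_ne_zero, rfl⟩
    · exfalso
      rw [one_smul] at hab
      rcases helts a with rfl | rfl
      · rw [zero_smul, zero_add] at hab
        rw [hab, zero_mul] at hJ1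
        exact zero_ne_one hJ1
      · rw [one_smul] at hab
        rw [show J + 1 = 0 by rw [add_comm]; exact hab, mul_zero] at hJ1
        exact zero_ne_one hJ1
  let K : Subalgebra F (Matrix ι ι F) :=
    { carrier := {M | ∃ a b : F, M = a • 1 + b • J}
      mul_mem' := by
        rintro _ _ ⟨a, b, rfl⟩ ⟨a', b', rfl⟩
        refine ⟨a * a' + b * b', a * b' + b * a' + b * b', ?_⟩
        simp only [add_mul, mul_add, Matrix.smul_mul, Matrix.mul_smul, Matrix.one_mul, Matrix.mul_one, smul_smul, hJJ,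
          smul_add]
        module
      add_mem' := by
        rintro _ _ ⟨a, b, rfl⟩ ⟨a', b', rfl⟩
        exact ⟨a + a', b + b', by module⟩
      algebraMap_mem' := fun a => ⟨a, 0, by rw [zero_smul, add_zero, Algebra.algebraMap_eq_smul_one]⟩ }
  have hK : ∀ {M}, M ∈ K ↔ ∃ a b : F, M = a • 1 + b • J := Iff.rfl
  refine ⟨K, ⟨?_, ?_, ?_⟩, fun h hh M => ?_⟩
  · rintro _ ⟨a, b, rfl⟩ _ ⟨a', b', rfl⟩
    simp only [add_mul, mul_add, Matrix.smul_mul, Matrix.mul_smul, Matrix.one_mul, Matrix.mul_one, smul_smul, hJJ]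
    module
  · rintro _ ⟨a, b, rfl⟩ hne
    rcases helts a with rfl | rfl <;> rcases helts b with rfl | rfl
    · exact absurd (by simp) hne
    · exact ⟨J + 1, hK.mpr ⟨1, 1, by rw [one_smul, one_smul, add_comm]⟩, by
        rw [zero_smul, zero_add, one_smul]; exact hJ1⟩
    · exact ⟨1, hK.mpr ⟨1, 0, by simp⟩, by simp⟩
    · exact ⟨J, hK.mpr ⟨0, 1, by simp⟩, by
        rw [one_smul, one_smul, add_mul, one_mul, hJJ, ← add_assoc, hMM, zero_add]⟩
  · have hsub : Subalgebra.toSubmodule K = Submodule.span F (Set.range ![(1 : Matrix ι ι F), J]) := by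
      ext M
      rw [Subalgebra.mem_toSubmodule, hK, Submodule.mem_span_range_iff_exists_fun]
      constructor
      · rintro ⟨a, b, rfl⟩; exact ⟨![a, b], by simp [Fin.sum_univ_two]⟩
      · rintro ⟨c, rfl⟩; exact ⟨c 0, c 1, by simp [Fin.sum_univ_two]⟩
    rw [← Subalgebra.finrank_toSubmodule, hsub, finrank_span_eq_card (LinearIndependent.pair_iff.mpr hind),
      Fintype.card_fin]
  · have hfw : ∀ g ∈ H, ∀ N ∈ K, (g : Matrix ι ι F) * N * ((g⁻¹ : GL ι F) : Matrix ι ι F) ∈ K := by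
      rintro g hg _ ⟨a, b, rfl⟩
      rcases hstep g hg with e | e
      · exact hK.mpr ⟨a, b, by
          simp only [mul_add, add_mul, Matrix.mul_smul, Matrix.smul_mul, Matrix.mul_one, val_mul_inv, e]⟩
      · exact hK.mpr ⟨a + b, b, by
          simp only [mul_add, add_mul, Matrix.mul_smul, Matrix.smul_mul, Matrix.mul_one, val_mul_inv, e, smul_add]
          module⟩
    refine ⟨hfw h hh M, fun hM => ?_⟩
    have := hfw h⁻¹ (H.inv_mem hh) _ hM
    rw [inv_inv] at this
    simp only [← mul_assoc, val_inv_mul, one_mul] at this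
    rwa [mul_assoc, val_inv_mul, mul_one] at this

include hQ in
/-- Over two elements a binary factor gives a normalised field of degree two. -/
theorem field_of_binary_two (hq : Fintype.card F = 2) {H : Subgroup (GL ι F)} {k : ℕ}
    {Φ : Matrix ι (Fin 2 × Fin k) F} {Ψ : Matrix (Fin 2 × Fin k) ι F} {X₁ : Matrix (Fin 2) (Fin 2) F}
    {X₂ : Matrix (Fin k) (Fin k) F} (hT : TensorForm (RingEquiv.refl F) (QuadraticMap.polar (⇑Q)) H Φ Ψ X₁ X₂) :
    ∃ K : Subalgebra F (Matrix ι ι F), IsFieldSubalgebra 2 K ∧ H ≤ subalgebraNormalizer K := by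
  classical
  have hc := hT.coords
  haveI : Nonempty ι := Fintype.card_pos_iff.mp (by
    rw [← hc.card_eq, Fintype.card_prod, Fintype.card_fin, Fintype.card_fin]
    have := hT.two_right; omega)
  have helts : ∀ x : F, x = 0 ∨ x = 1 := fun x => by
    by_cases hx : x = 0
    · exact Or.inl hx
    · have h := FiniteField.pow_card_sub_one_eq_one x hx
      rw [hq, show 2 - 1 = 1 from rfl, pow_one] at h
      exact Or.inr h
  have h2 : (2 : F) = 0 := by
    rcases helts 2 with h | h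
    · exact h
    · exact absurd (show (1 : F) = 0 by linear_combination h) one_ne_zero
  haveI : CharP F 2 := CharTwo.of_one_ne_zero_of_two_eq_zero one_ne_zero h2
  set J₀ : Matrix (Fin 2) (Fin 2) F := !![0, 1; 1, 1] with hJ₀
  have hJ₀J : J₀ * J₀ = J₀ + 1 := by
    ext i j; fin_cases i <;> fin_cases j <;> simp [hJ₀, Matrix.mul_apply, Fin.sum_univ_two, CharTwo.add_self_eq_zero]
  have e' : ∀ S T : Matrix (Fin 2 × Fin k) (Fin 2 × Fin k) F, Φ * S * Ψ * (Φ * T * Ψ) = Φ * (S * T) * Ψ :=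
    fun S T => by
      simp only [Matrix.mul_assoc]
      rw [← Matrix.mul_assoc Ψ Φ, hc.right, Matrix.one_mul]
  refine field_of_order_three hq (J := Φ * (J₀ ⊗ₖ (1 : Matrix (Fin k) (Fin k) F)) * Ψ) ?_ fun g hg => ?_
  · rw [e', ← Matrix.mul_kronecker_mul, hJ₀J, Matrix.one_mul, Matrix.add_kronecker, Matrix.one_kronecker_one,
      Matrix.mul_add, Matrix.add_mul, Matrix.mul_one, hc.left]
  obtain ⟨a, b, c, hc0, hab, -, -⟩ := hT.split g hg
  have hdet := hc.det_conj_ne_zero g
  rw [hab, Matrix.det_kronecker, Fintype.card_fin] at hdet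
  have hda : a.det ≠ 0 := fun e => left_ne_zero_of_mul hdet (by rw [e, zero_pow]; have := hT.two_right; omega)
  have key : a * J₀ = J₀ * a ∨ a * J₀ = (J₀ + 1) * a := by
    rw [Matrix.det_fin_two] at hda
    rcases helts (a 0 0) with h00 | h00 <;> rcases helts (a 0 1) with h01 | h01 <;>
      rcases helts (a 1 0) with h10 | h10 <;> rcases helts (a 1 1) with h11 | h11 <;>
      rw [h00, h01, h10, h11] at hda <;>
      first
        | (exfalso; apply hda; simp [CharTwo.add_self_eq_zero, sub_self]; done)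
        | (left; ext i j; fin_cases i <;> fin_cases j <;>
            simp [hJ₀, Matrix.mul_apply, Fin.sum_univ_two, h00, h01, h10, h11, CharTwo.add_self_eq_zero]; done)
        | (right; ext i j; fin_cases i <;> fin_cases j <;>
            simp [hJ₀, Matrix.mul_apply, Fin.sum_univ_two, h00, h01, h10, h11, Matrix.add_apply, Matrix.one_apply, CharTwo.add_self_eq_zero]; done)
  have hg' : (g : Matrix ι ι F) = Φ * (a ⊗ₖ b) * Ψ := by rw [← hab, hc.unconj_conj]
  have hone : Φ * ((J₀ + 1) ⊗ₖ (1 : Matrix (Fin k) (Fin k) F)) * Ψ =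
      Φ * (J₀ ⊗ₖ (1 : Matrix (Fin k) (Fin k) F)) * Ψ + 1 := by
    rw [Matrix.add_kronecker, Matrix.one_kronecker_one, Matrix.mul_add, Matrix.add_mul, Matrix.mul_one, hc.left]
  have hcan : ∀ J' : Matrix (Fin 2) (Fin 2) F, a * J₀ = J' * a →
      (g : Matrix ι ι F) * (Φ * (J₀ ⊗ₖ (1 : Matrix (Fin k) (Fin k) F)) * Ψ) * ((g⁻¹ : GL ι F) : Matrix ι ι F) =
        Φ * (J' ⊗ₖ (1 : Matrix (Fin k) (Fin k) F)) * Ψ := fun J' h => by
    have e : (g : Matrix ι ι F) * (Φ * (J₀ ⊗ₖ (1 : Matrix (Fin k) (Fin k) F)) * Ψ) =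
        Φ * (J' ⊗ₖ (1 : Matrix (Fin k) (Fin k) F)) * Ψ * (g : Matrix ι ι F) := by
      rw [hg', e', e', ← Matrix.mul_kronecker_mul, ← Matrix.mul_kronecker_mul, h, Matrix.mul_one, Matrix.one_mul]
    rw [e, mul_assoc, val_mul_inv, mul_one]
  rcases key with h | h
  · exact Or.inl (hcan _ h)
  · exact Or.inr ((hcan _ h).trans hone)

include hQ in
set_option maxHeartbeats 1000000 in
/-- A product of symmetric factors of degrees three and four in plus type has a binary alternating factor. -/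
theorem three_four_two_six (h2 : (2 : F) ≠ 0) (hplus : IsPlusTypeOn (⇑Q) ⊤) {H : Subgroup (GL ι F)}
    (hH : H ≤ omegaGL (⇑Q)) {Φ : Matrix ι (Fin 3 × Fin 4) F}
    {Ψ : Matrix (Fin 3 × Fin 4) ι F} {X₁ : Matrix (Fin 3) (Fin 3) F} {X₂ : Matrix (Fin 4) (Fin 4) F}
    (hT : TensorForm (RingEquiv.refl F) (QuadraticMap.polar (⇑Q)) H Φ Ψ X₁ X₂) (h1 : X₁ᵀ = X₁) (h2' : X₂ᵀ = X₂) :
    ∃ (Φ' : Matrix ι (Fin 2 × Fin 6) F) (Ψ' : Matrix (Fin 2 × Fin 6) ι F) (Y₁ : Matrix (Fin 2) (Fin 2) F)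
      (Y₂ : Matrix (Fin 6) (Fin 6) F), TensorForm (RingEquiv.refl F) (QuadraticMap.polar (⇑Q)) H Φ' Ψ' Y₁ Y₂ ∧
        Y₁ᵀ = -Y₁ ∧ Y₂ᵀ = -Y₂ := by
  classical
  have hf := orth_refl Q hQ
  have hc := hT.coords
  have hcard : Fintype.card ι = 12 := by
    rw [← hc.card_eq, Fintype.card_prod, Fintype.card_fin, Fintype.card_fin]
  have hgram0 : hf.gramIn Φ = X₁ ⊗ₖ X₂ := hT.gram
  have hsq : IsSquare X₂.det := by
    have hd : (hf.gramIn Φ).det = X₁.det ^ 4 * X₂.det ^ 3 := by
      rw [hgram0, Matrix.det_kronecker, Fintype.card_fin, Fintype.card_fin]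
    obtain ⟨r, hr⟩ := square_of_plus Q hQ (k := 6) (by omega) hplus hc.card_eq.symm Φ
      (by rw [hd]; exact mul_ne_zero (pow_ne_zero _ hT.det_left) (pow_ne_zero _ hT.det_right))
    rw [hd] at hr
    refine ⟨r / (X₁.det ^ 2 * X₂.det), ?_⟩
    have := hT.det_left
    have := hT.det_right
    field_simp
    linear_combination hr
  let ε : Fin 2 × Fin 2 ≃ Fin 4 := finProdFinEquiv
  let η : Fin 6 ≃ Fin 3 × Fin 2 := (finProdFinEquiv (m := 3) (n := 2)).symm
  set Y : Matrix (Fin 4) (Fin 4) F := (quadFour F).submatrix ε.symm ε.symm with hY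
  have hqd : (quadFour F).det = 1 := by
    rw [quadFour, Matrix.det_kronecker, Fintype.card_fin, Matrix.det_fin_two]; simp
  have hYd : Y.det = 1 := by rw [hY, Matrix.det_submatrix_equiv_self, hqd]
  have hqs : (quadFour F)ᵀ = quadFour F := by
    ext ⟨a, b⟩ ⟨c, d⟩
    fin_cases a <;> fin_cases b <;> fin_cases c <;> fin_cases d <;> simp [quadFour]
  have hYs : Yᵀ = Y := by rw [hY, Matrix.transpose_submatrix, hqs]
  obtain ⟨A, hA, hAe⟩ := Cfsg.Lib.Classical.SymmCongr.exists_congr h2 hT.det_right h2'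
    (hYd.symm ▸ one_ne_zero : Y.det ≠ 0) hYs (by rw [hYd, div_one]; exact hsq)
  have hAu : IsUnit A.det := isUnit_iff_ne_zero.mpr hA
  let ψ : Fin 2 × Fin 6 ≃ Fin 3 × Fin 4 :=
    { toFun := fun p => ((η p.2).1, ε (p.1, (η p.2).2))
      invFun := fun q => ((ε.symm q.2).1, η.symm (q.1, (ε.symm q.2).2))
      left_inv := fun p => by simp
      right_inv := fun q => by simp }
  set U : Matrix (Fin 3 × Fin 4) (Fin 3 × Fin 4) F := (1 : Matrix (Fin 3) (Fin 3) F) ⊗ₖ A with hU
  set V : Matrix (Fin 3 × Fin 4) (Fin 3 × Fin 4) F := (1 : Matrix (Fin 3) (Fin 3) F) ⊗ₖ A⁻¹ with hV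
  have hco₁ : Coords (Φ * U) (V * Ψ) := hc.comp ⟨by
      rw [hU, hV, ← Matrix.mul_kronecker_mul, Matrix.mul_nonsing_inv _ hAu, Matrix.one_mul, Matrix.one_kronecker_one], by
      rw [hU, hV, ← Matrix.mul_kronecker_mul, Matrix.nonsing_inv_mul _ hAu, Matrix.one_mul, Matrix.one_kronecker_one]⟩
  set J : Matrix (Fin 2) (Fin 2) F := jTwo F
  set Y₂ : Matrix (Fin 6) (Fin 6) F := (X₁ ⊗ₖ J).submatrix η η with hY₂
  have hJd : J.det = 1 := by simp [J, jTwo, Matrix.det_fin_two]
  have hJs : Jᵀ = -J := by ext i j; fin_cases i <;> fin_cases j <;> simp [J, jTwo]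
  refine ⟨(Φ * U).submatrix id ψ, (V * Ψ).submatrix ψ id, J, Y₂,
    { coords := ⟨by rw [Matrix.submatrix_mul_equiv, hco₁.left, Matrix.submatrix_id_id], by
        rw [← Matrix.submatrix_mul _ _ ψ id ψ Function.bijective_id, hco₁.right, Matrix.submatrix_one_equiv]⟩
      two_left := le_rfl
      two_right := by norm_num
      gram := ?_
      det_left := by rw [hJd]; exact one_ne_zero
      det_right := by
        rw [hY₂, Matrix.det_submatrix_equiv_self, Matrix.det_kronecker, hJd, one_pow, mul_one]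
        exact pow_ne_zero _ hT.det_left
      split := fun h hh => ?_ }, hJs, ?_⟩
  · have hg1 : (Φ * U)ᵀ * gramMatrix (QuadraticMap.polar (⇑Q)) * (Φ * U) = X₁ ⊗ₖ Y := by
      have hT' := hT.gram
      rw [RingEquiv.coe_refl, Matrix.map_id] at hT'
      calc (Φ * U)ᵀ * gramMatrix (QuadraticMap.polar (⇑Q)) * (Φ * U)
          = Uᵀ * (Φᵀ * gramMatrix (QuadraticMap.polar (⇑Q)) * Φ) * U := by
            simp only [Matrix.transpose_mul, Matrix.mul_assoc]
        _ = _ := by
          rw [hT', hU, kron_transpose, ← Matrix.mul_kronecker_mul, ← Matrix.mul_kronecker_mul, hAe, Matrix.transpose_one,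
            Matrix.one_mul, Matrix.mul_one]
    rw [RingEquiv.coe_refl, Matrix.map_id]
    ext p r
    have h := congrFun (congrFun hg1 (ψ p)) (ψ r)
    calc (((Φ * U).submatrix id ψ)ᵀ * gramMatrix (QuadraticMap.polar (⇑Q)) * (Φ * U).submatrix id ψ) p r
        = ((Φ * U)ᵀ * gramMatrix (QuadraticMap.polar (⇑Q)) * (Φ * U)) (ψ p) (ψ r) := by simp [Matrix.mul_apply]
      _ = _ := by
        rw [h]
        simp [hY, hY₂, ψ, quadFour, J, jTwo, Matrix.kroneckerMap_apply]
        ring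
  · obtain ⟨a, b, c, hc0, hab, ha, hb⟩ := hT.split h hh
    rw [RingEquiv.coe_refl, Matrix.map_id] at ha hb
    set b' := A⁻¹ * b * A with hb'
    have hb'Y : b'ᵀ * Y * b' = c⁻¹ • Y := by
      calc b'ᵀ * Y * b' = Aᵀ * (bᵀ * ((A * A⁻¹)ᵀ * X₂ * (A * A⁻¹)) * b) * A := by
            rw [← hAe]; simp only [hb', Matrix.transpose_mul, Matrix.mul_assoc]
        _ = _ := by
          rw [Matrix.mul_nonsing_inv _ hAu, Matrix.transpose_one, Matrix.one_mul, Matrix.mul_one, hb, Matrix.mul_smul,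
            Matrix.smul_mul, hAe]
    set T : Matrix (Fin 2 × Fin 2) (Fin 2 × Fin 2) F := b'.submatrix ε ε with hTdef
    have hTs : Tᵀ * quadFour F * T = c⁻¹ • quadFour F := by
      have : quadFour F = Y.submatrix ε ε := by rw [hY, Matrix.submatrix_submatrix]; simp
      rw [this, hTdef, Matrix.transpose_submatrix, Matrix.submatrix_mul_equiv, Matrix.submatrix_mul_equiv, hb'Y]
      rfl
    obtain ⟨a₁, a₂, ha₁, ha₂, hTeq⟩ := similitude_four h2 (inv_ne_zero hc0) hTs
    have hj : ∀ x : Matrix (Fin 2) (Fin 2) F, xᵀ * J * x = x.det • J := jTwo_conj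
    have hc12 : a₁.det * a₂.det = c⁻¹ := by
      have h00 : ∀ s : F, (s • quadFour F) (0, 0) (1, 1) = s := fun s => by simp [quadFour]
      have hk : (a₁ ⊗ₖ a₂)ᵀ * quadFour F * (a₁ ⊗ₖ a₂) = (a₁.det * a₂.det) • quadFour F := by
        rw [show quadFour F = J ⊗ₖ J from rfl, kron_transpose, ← Matrix.mul_kronecker_mul, ← Matrix.mul_kronecker_mul,
          hj, hj, Matrix.smul_kronecker, Matrix.kronecker_smul, smul_smul]
      rw [← h00 (a₁.det * a₂.det), ← h00 c⁻¹, ← hTs]
      rcases hTeq with e | e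
      · rw [e, hk]
      · rw [e, Matrix.transpose_mul, show (swapFour F)ᵀ * (a₁ ⊗ₖ a₂)ᵀ * quadFour F * (a₁ ⊗ₖ a₂ * swapFour F) =
            (swapFour F)ᵀ * ((a₁ ⊗ₖ a₂)ᵀ * quadFour F * (a₁ ⊗ₖ a₂)) * swapFour F by simp only [Matrix.mul_assoc], hk,
          Matrix.mul_smul, Matrix.smul_mul, swapFour_congr]
    have hdet1 : a.det ^ 4 * b.det ^ 3 = 1 := by
      have h0 := congrArg Units.val (MonoidHom.mem_ker.mp (Cfsg.Lib.Classical.PrimeDim.Orth.omega_det Q (hH hh)))
      rw [Matrix.GeneralLinearGroup.val_det_apply, Units.val_one] at h0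
      let e : ι ≃ Fin 3 × Fin 4 := Fintype.equivOfCardEq hc.card_eq.symm
      have e1 := congrArg Matrix.det ((hc.inCoords_toGL e h).trans hab)
      rw [inCoords, Matrix.det_submatrix_equiv_self, Units.val_mul, Units.val_mul, Matrix.det_mul, Matrix.det_mul,
        mul_right_comm, ← Matrix.det_mul, val_inv_mul, Matrix.det_one, one_mul, h0, Matrix.det_kronecker,
        Fintype.card_fin, Fintype.card_fin] at e1
      exact e1.symm
    have hda : a.det * a.det = c ^ 3 := by
      have e := congrArg Matrix.det ha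
      rw [Matrix.det_mul, Matrix.det_mul, Matrix.det_transpose, Matrix.det_smul, Fintype.card_fin] at e
      exact mul_right_cancel₀ hT.det_left (by linear_combination e)
    have hdb : b.det = T.det := by
      rw [hTdef, Matrix.det_submatrix_equiv_self, hb', Matrix.det_mul, Matrix.det_mul, Matrix.det_nonsing_inv,
        Ring.inverse_eq_inv]
      field_simp
    have hTk : T = a₁ ⊗ₖ a₂ := by
      rcases hTeq with e | e
      · exact e
      exfalso
      have hTd : T.det = -(c⁻¹ * c⁻¹) := by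
        rw [e, Matrix.det_mul, Matrix.det_kronecker, swapFour_det, Fintype.card_fin, ← hc12]; ring
      rw [hdb, hTd, show a.det ^ 4 = (a.det * a.det) * (a.det * a.det) by ring, hda] at hdet1
      field_simp at hdet1
      exact h2 (by linear_combination -hdet1)
    refine ⟨a₁, (a ⊗ₖ a₂).submatrix η η, a₁.det, ha₁, ?_, ?_, ?_⟩
    · have e1 : V * Ψ * (h : Matrix ι ι F) * (Φ * U) = a ⊗ₖ b' :=
        calc _ = V * (Ψ * (h : Matrix ι ι F) * Φ) * U := by simp only [Matrix.mul_assoc]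
          _ = _ := by
            rw [hab, hU, hV, ← Matrix.mul_kronecker_mul, ← Matrix.mul_kronecker_mul, Matrix.one_mul, Matrix.mul_one]
      ext p r
      calc ((V * Ψ).submatrix ψ id * (h : Matrix ι ι F) * (Φ * U).submatrix id ψ) p r
          = (V * Ψ * (h : Matrix ι ι F) * (Φ * U)) (ψ p) (ψ r) := by simp [Matrix.mul_apply]
        _ = _ := by
          have hT1 := congrFun (congrFun hTk (p.1, (η p.2).2)) (r.1, (η r.2).2)
          rw [hTdef, Matrix.submatrix_apply, Matrix.kronecker_apply] at hT1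
          rw [e1, Matrix.kronecker_apply, Matrix.kronecker_apply, Matrix.submatrix_apply, Matrix.kronecker_apply]
          show a (η p.2).1 (η r.2).1 * b' (ε _) (ε _) = _
          rw [hT1]
          ring
    · rw [RingEquiv.coe_refl, Matrix.map_id, hj]
    · rw [RingEquiv.coe_refl, Matrix.map_id, hY₂, Matrix.transpose_submatrix, Matrix.submatrix_mul_equiv,
        Matrix.submatrix_mul_equiv, kron_transpose, ← Matrix.mul_kronecker_mul, ← Matrix.mul_kronecker_mul, ha, hj,
        Matrix.smul_kronecker, Matrix.kronecker_smul, smul_smul,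
        show c * a₂.det = a₁.det⁻¹ from mul_left_cancel₀ ha₁ (by
          rw [mul_inv_cancel₀ ha₁, ← mul_assoc, mul_comm _ c, mul_assoc, hc12, mul_inv_cancel₀ hc0])]
      rfl
  · rw [hY₂, Matrix.transpose_submatrix, kron_transpose, h1, hJs]
    ext p r
    simp [Matrix.kroneckerMap_apply]

end OrthEven

end Cfsg.Lib.Classical.Aschbacher
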