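import Cfsg.Agent.Classical.Aschbacher.OrthTenPlus
import Cfsg.Agent.Known.FormIndex

/-! Tools for orthogonal groups of plus type in degree twelve. -/

set_option autoImplicit false
set_option linter.unusedSimpArgs false
set_option linter.unusedSectionVars false
set_option linter.style.haveILetI false

namespace Cfsg.Lib.Classical.Aschbacher

open Matrix Cfsg.Geo
open scoped MatrixGroups Kronecker
open Cfsg.Lib.Classical.PrimeDim.Orth (omega_preserves')
open Cfsg.Lib.Classical.PrimeDim (Invariant finrank_pi_card irreducible_iff finrank_map_mulVec val_inv_mul val_mul_inv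
  inv_mulVec_mulVec mulVec_inv_mulVec gl_mulVec_ne_zero)
open Cfsg.Lib.Classical (HypQuad.perp HypQuad.mem_perp)

universe u

namespace OrthEven

variable {ι : Type} [Fintype ι] [DecidableEq ι] {F : Type u} [Field F] [Fintype F] (Q : QuadraticForm F (ι → F))
  (hQ : (QuadraticMap.polarBilin Q).Nondegenerate)

include hQ in
/-- A singular subspace lies in a maximal one. -/
theorem exists_max_above {m : ℕ} (hn : Fintype.card ι = 2 * m) (hplus : IsPlusTypeOn (⇑Q) ⊤)
    {S : Submodule F (ι → F)} (hS : IsTotallySingularQuad (⇑Q) S) (hd : Module.finrank F S ≤ m) :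
    ∃ W : Submodule F (ι → F), Cfsg.Lib.Classical.HypQuad.IsMax Q m W ∧ S ≤ W := by
  classical
  obtain ⟨U, -, hUs, hUd⟩ := hplus
  rw [finrank_top, finrank_pi_card, hn] at hUd
  obtain ⟨A, hAU, hAd⟩ : ∃ A : Submodule F (ι → F), A ≤ U ∧ Module.finrank F A = Module.finrank F S := by
    obtain ⟨f, hf⟩ := exists_linearIndependent_of_le_finrank (R := F) (M := U) (n := Module.finrank F S) (by omega)
    refine ⟨(Submodule.span F (Set.range f)).map U.subtype, Submodule.map_subtype_le _ _, ?_⟩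
    rw [Submodule.finrank_map_subtype_eq, finrank_span_eq_card hf, Fintype.card_fin]
  obtain ⟨g, hg, hgA⟩ := Cfsg.Lib.Classical.WittQuad.witt Q hQ A S (LinearEquiv.ofFinrankEq _ _ hAd)
    (fun z => by rw [hS _ (Subtype.mem _), hUs _ (hAU z.2)])
  refine ⟨U.map g.toLinearMap, ⟨by rw [LinearEquiv.finrank_map_eq]; omega, ?_⟩, fun z hz => ?_⟩
  · rintro _ ⟨v, hv, rfl⟩
    exact (hg v).trans (hUs v hv)
  · exact ⟨((LinearEquiv.ofFinrankEq A S hAd).symm ⟨z, hz⟩ : A), hAU (Subtype.mem _), by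
      show g _ = z
      rw [hgA, LinearEquiv.apply_symm_apply]⟩

include hQ in
/-- A singular subspace and a complementary piece of its orthogonal space. -/
theorem singular_in_complement {m : ℕ} (hn : Fintype.card ι = 2 * m) (hplus : IsPlusTypeOn (⇑Q) ⊤)
    {S T : Submodule F (ι → F)} {j : ℕ} (hSs : IsTotallySingularQuad (⇑Q) S) (hdisj : S ⊓ T = ⊥)
    (horth : ∀ s ∈ S, ∀ t ∈ T, QuadraticMap.polar (⇑Q) s t = 0) (hd : Module.finrank F T = 2 * j)
    (hsum : Module.finrank F S + j = m) : IsPlusTypeOn (⇑Q) T := by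
  obtain ⟨W, hW, hSW⟩ := exists_max_above Q hQ hn hplus hSs (by omega)
  have hST : Module.finrank F ↥(S ⊔ T) = Module.finrank F S + 2 * j := by
    have h := Submodule.finrank_sup_add_finrank_inf_eq S T
    rw [hdisj, finrank_bot, hd] at h
    omega
  have hperp : HypQuad.perp Q S = S ⊔ T := by
    refine (Submodule.eq_of_le_of_finrank_eq (sup_le (fun z hz => (HypQuad.mem_perp Q).mpr fun u hu =>
      Cfsg.Lib.Classical.HypQuad.polar_zero_of_singular Q hSs hu hz) fun z hz => (HypQuad.mem_perp Q).mpr fun u hu =>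
      horth u hu z hz) ?_).symm
    rw [hST, Cfsg.Lib.Classical.HypQuad.finrank_perp Q hQ, finrank_pi_card, hn]
    omega
  have hle : W ⊔ T ≤ S ⊔ T := sup_le (by
    rw [← hperp]
    exact fun z hz => (HypQuad.mem_perp Q).mpr fun u hu =>
      Cfsg.Lib.Classical.HypQuad.polar_zero_of_singular Q hW.2 (hSW hu) hz) le_sup_right
  have h := Submodule.finrank_sup_add_finrank_inf_eq W T
  have h' := Submodule.finrank_mono hle
  rw [hW.1, hd] at h
  rw [hST] at h'
  have h1 := Submodule.finrank_sup_add_finrank_inf_eq S (W ⊓ T)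
  have h2 : S ⊓ (W ⊓ T) = ⊥ := eq_bot_iff.mpr ((inf_le_inf_left _ inf_le_right).trans hdisj.le)
  have h3 := Submodule.finrank_mono (sup_le hSW (inf_le_left : W ⊓ T ≤ W))
  rw [h2, finrank_bot] at h1
  rw [hW.1] at h3
  exact ⟨W ⊓ T, inf_le_right, fun x hx => hW.2 x hx.1, by omega⟩

include hQ in
/-- Non-degenerate subspaces of the same type are isometric. -/
theorem isometric_of_same_type {k : ℕ} {U U' : Submodule F (ι → F)}
    (hU : IsNondegenerateOn (QuadraticMap.polar (⇑Q)) U) (hU' : IsNondegenerateOn (QuadraticMap.polar (⇑Q)) U')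
    (hd : Module.finrank F U = 2 * k) (hd' : Module.finrank F U' = 2 * k)
    (hiff : IsPlusTypeOn (⇑Q) U ↔ IsPlusTypeOn (⇑Q) U') : AreIsometricFor (⇑Q) U U' := by
  classical
  have hnd : ∀ W : Submodule F (ι → F), IsNondegenerateOn (QuadraticMap.polar (⇑Q)) W →
      (QuadraticMap.polarBilin (Q.comp W.subtype)).Nondegenerate := fun W hW => by
    refine ⟨fun x hx => ?_, fun y hy => ?_⟩
    · by_contra h0
      obtain ⟨-, z, hz, hne⟩ := hW x x.2 (fun e => h0 (Subtype.ext e))
      exact hne (hx ⟨z, hz⟩)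
    · by_contra h0
      obtain ⟨⟨z, hz, hne⟩, -⟩ := hW y y.2 (fun e => h0 (Subtype.ext e))
      exact hne (hy ⟨z, hz⟩)
  have key : ∀ W : Submodule F (ι → F), IsNondegenerateOn (QuadraticMap.polar (⇑Q)) W → Module.finrank F W = 2 * k →
      ∀ D : Cfsg.Lib.FormNormal.Decomp (Q.comp W.subtype) (⊤ : Submodule F W),
      (IsPlusTypeOn (⇑Q) W → D.m = k) ∧ (¬ IsPlusTypeOn (⇑Q) W → D.m + 1 = k) := by
    intro W hW hWd D
    have h1 := D.dim
    have h2 := D.small
    rw [finrank_top, hWd] at h1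
    refine ⟨fun ⟨X, hXW, hXs, hXd⟩ => ?_, fun hn => ?_⟩
    · have hX : Module.finrank F (X.comap W.subtype) = Module.finrank F X := by
        rw [← Submodule.finrank_map_subtype_eq, Submodule.map_comap_subtype, inf_eq_right.mpr hXW]
      have hs : ∀ w ∈ X.comap W.subtype, Q.comp W.subtype w = 0 := fun w hw => hXs _ hw
      rw [Cfsg.Lib.FormNormal.index_eq (hnd W hW) D _ hs
        (Cfsg.Lib.FormNormal.half_max (hnd W hW) _ hs (by omega)), hX]
      omega
    · have : D.m ≠ k := fun e => hn ⟨(Submodule.span F (Set.range D.e)).map W.subtype, Submodule.map_subtype_le _ _,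
        by rintro _ ⟨x, hx, rfl⟩; exact D.span_e_singular x hx,
        by rw [Submodule.finrank_map_subtype_eq, finrank_span_eq_card D.e_indep, Fintype.card_fin, e, hWd]⟩
      omega
  obtain ⟨D⟩ := Cfsg.Lib.FormNormal.exists_decomp (Q := Q.comp U.subtype) _ ⊤ (finrank_top F U)
    (Cfsg.Lib.FormNormal.nd_top _ (hnd U hU))
  obtain ⟨D'⟩ := Cfsg.Lib.FormNormal.exists_decomp (Q := Q.comp U'.subtype) _ ⊤ (finrank_top F U')
    (Cfsg.Lib.FormNormal.nd_top _ (hnd U' hU'))
  have hm : D.m = D'.m := by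
    by_cases hp : IsPlusTypeOn (⇑Q) U
    · rw [(key U hU hd D).1 hp, (key U' hU' hd' D').1 (hiff.mp hp)]
    · have a := (key U hU hd D).2 hp
      have b := (key U' hU' hd' D').2 fun hp' => hp (hiff.mpr hp')
      omega
  obtain ⟨g, hg⟩ := Cfsg.Lib.FormNormal.equiv_of_index D D' hm (hd.trans hd'.symm) (hd ▸ even_two_mul k)
  exact ⟨g, fun w => (hg w).symm⟩

/-- Plus type passes along isometries. -/
theorem plus_of_isometric {U U' : Submodule F (ι → F)} (h : AreIsometricFor (⇑Q) U U')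
    (hp : IsPlusTypeOn (⇑Q) U) : IsPlusTypeOn (⇑Q) U' := by
  obtain ⟨φ, hφ⟩ := h
  obtain ⟨X, hXU, hXs, hXd⟩ := hp
  refine ⟨((X.comap U.subtype).map φ.toLinearMap).map U'.subtype, Submodule.map_subtype_le _ _, ?_, ?_⟩
  · rintro _ ⟨_, ⟨x, hx, rfl⟩, rfl⟩
    exact (hφ x).trans (hXs _ hx)
  · rw [Submodule.finrank_map_subtype_eq, LinearEquiv.finrank_map_eq, ← Submodule.finrank_map_subtype_eq,
      Submodule.map_comap_subtype, inf_eq_right.mpr hXU, hXd, φ.finrank_eq]

include hQ in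
/-- Two orthogonal non-degenerate halves of a space of plus type are isometric. -/
theorem perp_isometric {k : ℕ} (hn : Fintype.card ι = 4 * k) (hplus : IsPlusTypeOn (⇑Q) ⊤)
    {U : Submodule F (ι → F)} (hU : IsNondegenerateOn (QuadraticMap.polar (⇑Q)) U) (hd : Module.finrank F U = 2 * k) :
    AreIsometricFor (⇑Q) U (HypQuad.perp Q U) := by
  obtain ⟨hcompl, hndp⟩ := Cfsg.Lib.Classical.Refl.nondeg_perp Q hQ hU
  have hd' : Module.finrank F (HypQuad.perp Q U) = 2 * k := by
    rw [Cfsg.Lib.Classical.HypQuad.finrank_perp Q hQ, finrank_pi_card, hd, hn]; omega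
  refine isometric_of_same_type Q hQ hU hndp hd hd' ⟨fun h => ?_, fun h => ?_⟩
  · obtain ⟨S, hSU, hSs, hSd⟩ := h
    exact singular_in_complement Q hQ (m := 2 * k) (j := k) (by omega) hplus hSs
      (eq_bot_iff.mpr ((inf_le_inf_right _ hSU).trans hcompl.disjoint.eq_bot.le))
      (fun s hs t ht => (HypQuad.mem_perp Q).mp ht s (hSU hs)) hd' (by omega)
  · obtain ⟨S, hSU, hSs, hSd⟩ := h
    exact singular_in_complement Q hQ (m := 2 * k) (j := k) (by omega) hplus hSs
      (eq_bot_iff.mpr ((inf_le_inf_right _ hSU).trans hcompl.symm.disjoint.eq_bot.le))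
      (fun s hs t ht => (QuadraticMap.polar_comm _ _ _).trans ((HypQuad.mem_perp Q).mp (hSU hs) t ht)) hd (by omega)

include hQ in
/-- In characteristic two three isometric blocks of plus type in total are of plus type. -/
theorem plus_of_three (h2 : (2 : F) = 0) {j : ℕ} (hplus : IsPlusTypeOn (⇑Q) ⊤)
    {D : Fin 3 → Submodule F (ι → F)} (hD : IsOrthogonalMDecomposition (⇑Q) (2 * j) D) :
    IsPlusTypeOn (⇑Q) (D 0) := by
  classical
  haveI : CharP F 2 := CharTwo.of_one_ne_zero_of_two_eq_zero one_ne_zero h2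
  obtain ⟨φ, hφ⟩ := hD.isometric 1 2
  let L : D 1 →ₗ[F] (ι → F) := (D 1).subtype + (D 2).subtype.comp φ.toLinearMap
  have hL : ∀ x : D 1, L x = (x : ι → F) + ((φ x : D 2) : ι → F) := fun x => rfl
  have hLinj : Function.Injective L := (injective_iff_map_eq_zero L).mpr fun x hx => by
    rw [hL, add_eq_zero_iff_eq_neg] at hx
    exact Subtype.ext (Submodule.disjoint_def.mp (hD.decomp.decomp.indep.pairwiseDisjoint (show (1 : Fin 3) ≠ 2 by decide))
      _ x.2 (hx ▸ neg_mem (φ x).2))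
  have hsing : IsTotallySingularQuad (⇑Q) (LinearMap.range L) := by
    rintro _ ⟨x, rfl⟩
    rw [hL, QuadraticMap.map_add (f := Q), hφ, hD.decomp.orthogonal 1 2 (by decide) _ x.2 _ (φ x).2, add_zero,
      CharTwo.add_self_eq_zero]
  have hn : Fintype.card ι = 2 * (3 * j) := by
    have := IsMDecomposition.mul_eq hD.decomp.decomp; omega
  refine singular_in_complement Q hQ hn hplus (S := LinearMap.range L) (j := j) hsing ?_ ?_
    (hD.decomp.decomp.finrank_eq 0) (by rw [LinearMap.finrank_range_of_inj hLinj, hD.decomp.decomp.finrank_eq]; omega)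
  · rw [inf_comm]
    refine eq_bot_iff.mpr ((inf_le_inf_left _ ?_).trans (hD.decomp.decomp.indep 0).eq_bot.le)
    rintro _ ⟨x, rfl⟩
    exact add_mem (le_iSup₂ (f := fun l (_ : l ≠ (0 : Fin 3)) => D l) 1 (by decide) x.2)
      (le_iSup₂ (f := fun l (_ : l ≠ (0 : Fin 3)) => D l) 2 (by decide) (φ x).2)
  · rintro _ ⟨x, rfl⟩ t ht
    rw [hL, QuadraticMap.polar_add_left, hD.decomp.orthogonal 1 0 (by decide) _ x.2 _ ht,
      hD.decomp.orthogonal 2 0 (by decide) _ (φ x).2 _ ht, add_zero]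

include hQ in
set_option maxHeartbeats 1000000 in
/-- Over two elements blocks of plus type of degree four refine to planes. -/
theorem planes_two (hq : Fintype.card F = 2) {t : ℕ} {D : Fin t → Submodule F (ι → F)}
    (hD : IsOrthogonalMDecomposition (⇑Q) 4 D) (hp : ∀ i, IsPlusTypeOn (⇑Q) (D i)) {H : Subgroup (GL ι F)}
    (hiso : ∀ g ∈ H, ∀ x, Q ((g : Matrix ι ι F) *ᵥ x) = Q x) (hle : H ≤ decompositionStabilizer D) :
    ∃ D' : Fin (t * 2) → Submodule F (ι → F), IsNondegenerateMDecomposition (QuadraticMap.polar (⇑Q)) 2 D' ∧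
      H ≤ decompositionStabilizer D' := by
  classical
  have hf := orth_refl Q hQ
  have h2t := hD.decomp.decomp.two_le
  have helts : ∀ x : F, x = 0 ∨ x = 1 := fun x => by
    by_cases hx : x = 0
    · exact Or.inl hx
    · have h := FiniteField.pow_card_sub_one_eq_one x hx
      rw [hq, show 2 - 1 = 1 from rfl, pow_one] at h
      exact Or.inr h
  have h2 : (2 : F) = 0 := by
    rcases helts 2 with h | h
    · exact h
    · exact absurd (show (1 : F) = 0 by linear_combination h) one_ne_zero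
  haveI : CharP F 2 := CharTwo.of_one_ne_zero_of_two_eq_zero one_ne_zero h2
  have hbase : ∀ i, ∃ e f : Fin 2 → ι → F, (∀ a, e a ∈ D i ∧ f a ∈ D i ∧ Q (e a) = 0 ∧ Q (f a) = 0) ∧
      (∀ a c, QuadraticMap.polar (⇑Q) (e a) (f c) = if a = c then 1 else 0) ∧
      (∀ a c, QuadraticMap.polar (⇑Q) (e a) (e c) = 0) ∧ (∀ a c, QuadraticMap.polar (⇑Q) (f a) (f c) = 0) ∧
      ∀ w ∈ D i, ∃ α β : Fin 2 → F, w = α 0 • e 0 + β 0 • f 0 + α 1 • e 1 + β 1 • f 1 := by
    intro i
    obtain ⟨X, hXD, hXs, hXd⟩ := hp i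
    rw [hD.decomp.decomp.finrank_eq] at hXd
    obtain ⟨e', he'⟩ : ∃ e : Fin 2 → X, LinearIndependent F e :=
      exists_linearIndependent_of_le_finrank (R := F) (M := X) (n := 2) (by omega)
    let e : Fin 2 → ι → F := fun a => (e' a : ι → F)
    have heD : ∀ a, e a ∈ D i := fun a => hXD (e' a).2
    have hee : ∀ a c, QuadraticMap.polar (⇑Q) (e a) (e c) = 0 := fun a c =>
      Cfsg.Lib.Classical.HypQuad.polar_zero_of_singular Q hXs (e' a).2 (e' c).2
    let ev : D i →ₗ[F] (Fin 2 → F) := LinearMap.pi fun a => (QuadraticMap.polarBilin Q (e a)).comp (D i).subtype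
    have hev : Function.Surjective ev := by
      rw [← LinearMap.range_eq_top]
      by_contra hne
      obtain ⟨z, hz⟩ : ∃ z, z ∉ LinearMap.range ev := by
        by_contra h; push Not at h; exact hne (Submodule.eq_top_iff'.mpr h)
      obtain ⟨ψ, hψ, hψr⟩ := Submodule.exists_dual_map_eq_bot_of_notMem hz inferInstance
      let c : Fin 2 → F := fun a => ψ (Pi.single a 1)
      have hv0 : ∑ a, c a • e a ≠ 0 := fun h => by
        have hc := Fintype.linearIndependent_iff.mp he' c (Subtype.ext (by simpa [e, Submodule.coe_sum] using h))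
        refine hψ ?_
        rw [pi_eq_sum_univ' z, map_sum]
        exact Finset.sum_eq_zero fun a _ => by rw [map_smul, show ψ (Pi.single a 1) = 0 from hc a, smul_zero]
      obtain ⟨-, x, hx, hne'⟩ := hD.decomp.nondegenerate i _ (Submodule.sum_mem _ fun a _ => (D i).smul_mem _ (heD a)) hv0
      apply hne'
      have h0 : ψ (ev ⟨x, hx⟩) = 0 := by
        have : ψ (ev ⟨x, hx⟩) ∈ (LinearMap.range ev).map ψ := Submodule.mem_map_of_mem (LinearMap.mem_range_self ev _)
        rwa [hψr, Submodule.mem_bot] at this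
      rw [pi_eq_sum_univ' (ev ⟨x, hx⟩), map_sum] at h0
      rw [← h0, Fin.sum_univ_two, Fin.sum_univ_two, QuadraticMap.polar_add_left, QuadraticMap.polar_smul_left,
        QuadraticMap.polar_smul_left, map_smul, map_smul, smul_eq_mul, smul_eq_mul, smul_eq_mul, smul_eq_mul]
      show _ = QuadraticMap.polar (⇑Q) (e 0) x * _ + QuadraticMap.polar (⇑Q) (e 1) x * _
      ring
    obtain ⟨y₀, hy₀⟩ := hev (Pi.single 0 1)
    obtain ⟨y₁, hy₁⟩ := hev (Pi.single 1 1)
    have p00 : QuadraticMap.polar (⇑Q) (e 0) y₀ = 1 := by simpa [ev] using congrFun hy₀ 0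
    have p10 : QuadraticMap.polar (⇑Q) (e 1) y₀ = 0 := by simpa [ev] using congrFun hy₀ 1
    have p01 : QuadraticMap.polar (⇑Q) (e 0) y₁ = 0 := by simpa [ev] using congrFun hy₁ 0
    have p11 : QuadraticMap.polar (⇑Q) (e 1) y₁ = 1 := by simpa [ev] using congrFun hy₁ 1
    set f₀ : ι → F := (y₀ : ι → F) + Q (y₀ : ι → F) • e 0
    set z₁ : ι → F := (y₁ : ι → F) + QuadraticMap.polar (⇑Q) f₀ (y₁ : ι → F) • e 0
    set f₁ : ι → F := z₁ + Q z₁ • e 1
    have hf0D : f₀ ∈ D i := add_mem y₀.2 ((D i).smul_mem _ (heD 0))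
    have hf1D : f₁ ∈ D i := add_mem (add_mem y₁.2 ((D i).smul_mem _ (heD 0))) ((D i).smul_mem _ (heD 1))
    have q0 : ∀ a, Q (e a) = 0 := fun a => hXs _ (e' a).2
    have e00 : QuadraticMap.polar (⇑Q) (e 0) f₀ = 1 := by
      simp [f₀, QuadraticMap.polar_add_right, QuadraticMap.polar_smul_right, p00, hee]
    have e10 : QuadraticMap.polar (⇑Q) (e 1) f₀ = 0 := by
      simp [f₀, QuadraticMap.polar_add_right, QuadraticMap.polar_smul_right, p10, hee]
    have z01 : QuadraticMap.polar (⇑Q) (e 0) z₁ = 0 := by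
      simp [z₁, QuadraticMap.polar_add_right, QuadraticMap.polar_smul_right, p01, hee]
    have z11 : QuadraticMap.polar (⇑Q) (e 1) z₁ = 1 := by
      simp [z₁, QuadraticMap.polar_add_right, QuadraticMap.polar_smul_right, p11, hee]
    have e01 : QuadraticMap.polar (⇑Q) (e 0) f₁ = 0 := by
      simp [f₁, QuadraticMap.polar_add_right, QuadraticMap.polar_smul_right, z01, hee]
    have e11 : QuadraticMap.polar (⇑Q) (e 1) f₁ = 1 := by
      simp [f₁, QuadraticMap.polar_add_right, QuadraticMap.polar_smul_right, z11, hee]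
    have qf0 : Q f₀ = 0 := by
      show Q (_ + _) = 0
      rw [QuadraticMap.map_add (f := Q), QuadraticMap.map_smul, q0, smul_zero, add_zero, QuadraticMap.polar_smul_right,
        QuadraticMap.polar_comm (⇑Q) _ (e 0), p00, smul_eq_mul, mul_one, CharTwo.add_self_eq_zero]
    have qf1 : Q f₁ = 0 := by
      show Q (z₁ + _) = 0
      rw [QuadraticMap.map_add (f := Q), QuadraticMap.map_smul, q0, smul_zero, add_zero, QuadraticMap.polar_smul_right,
        QuadraticMap.polar_comm (⇑Q) _ (e 1), z11, smul_eq_mul, mul_one, CharTwo.add_self_eq_zero]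
    have f0e : QuadraticMap.polar (⇑Q) f₀ (e 0) = 1 := by rw [QuadraticMap.polar_comm]; exact e00
    have f0e1 : QuadraticMap.polar (⇑Q) f₀ (e 1) = 0 := by rw [QuadraticMap.polar_comm]; exact e10
    have f01 : QuadraticMap.polar (⇑Q) f₀ f₁ = 0 := by
      simp [f₁, z₁, QuadraticMap.polar_add_right, QuadraticMap.polar_smul_right, f0e, f0e1, CharTwo.add_self_eq_zero]
    have f00 : QuadraticMap.polar (⇑Q) f₀ f₀ = 0 := by rw [QuadraticMap.polar_self, qf0, smul_zero]
    have f11 : QuadraticMap.polar (⇑Q) f₁ f₁ = 0 := by rw [QuadraticMap.polar_self, qf1, smul_zero]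
    have f10 : QuadraticMap.polar (⇑Q) f₁ f₀ = 0 := by rw [QuadraticMap.polar_comm]; exact f01
    have f1e : QuadraticMap.polar (⇑Q) f₁ (e 0) = 0 := by rw [QuadraticMap.polar_comm]; exact e01
    have f1e1 : QuadraticMap.polar (⇑Q) f₁ (e 1) = 1 := by rw [QuadraticMap.polar_comm]; exact e11
    refine ⟨e, ![f₀, f₁], fun a => ⟨heD a, by fin_cases a <;> assumption, q0 a, by fin_cases a <;> assumption⟩,
      fun a c => by fin_cases a <;> fin_cases c <;> simp [e00, e01, e10, e11], hee,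
      fun a c => by fin_cases a <;> fin_cases c <;> simp [f00, f01, f10, f11], fun w hw => ?_⟩
    have hli : LinearIndependent F ![e 0, f₀, e 1, f₁] := by
      rw [Fintype.linearIndependent_iff]
      intro c hc
      simp only [Fin.sum_univ_four] at hc
      have ha := congrArg (fun x => QuadraticMap.polar (⇑Q) f₀ x) hc
      have hb := congrArg (fun x => QuadraticMap.polar (⇑Q) (e 0) x) hc
      have hc' := congrArg (fun x => QuadraticMap.polar (⇑Q) f₁ x) hc
      have hd := congrArg (fun x => QuadraticMap.polar (⇑Q) (e 1) x) hc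
      simp [QuadraticMap.polar_add_right, QuadraticMap.polar_smul_right, QuadraticMap.polar_zero_right, f0e, f0e1, f00,
        f01, f10, f11, f1e, f1e1, e00, e01, e10, e11, hee] at ha hb hc' hd
      intro j; fin_cases j <;> assumption
    have hsp : Submodule.span F (Set.range ![e 0, f₀, e 1, f₁]) = D i := Submodule.eq_of_le_of_finrank_le
      (Submodule.span_le.mpr (by
        rintro _ ⟨l, rfl⟩; fin_cases l <;> [exact heD 0; exact hf0D; exact heD 1; exact hf1D]))
      (by rw [finrank_span_eq_card hli, Fintype.card_fin, hD.decomp.decomp.finrank_eq])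
    rw [← hsp, Submodule.mem_span_range_iff_exists_fun] at hw
    obtain ⟨c, hc⟩ := hw
    exact ⟨![c 0, c 2], ![c 1, c 3], by rw [← hc]; simp [Fin.sum_univ_four]⟩
  choose e f hmem hef hee hff hall using hbase
  let v : (Fin t × Fin 2) × Fin 2 → ι → F := fun x =>
    if x.2 = 0 then e x.1.1 x.1.2 + f x.1.1 x.1.2
    else e x.1.1 (1 - x.1.2) + f x.1.1 (1 - x.1.2) + e x.1.1 x.1.2
  have hfe : ∀ i a c, QuadraticMap.polar (⇑Q) (f i a) (e i c) = if c = a then 1 else 0 := fun i a c => by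
    rw [QuadraticMap.polar_comm]; exact hef i c a
  have hvD : ∀ x, v x ∈ D x.1.1 := fun x => by
    show (if x.2 = 0 then _ else _) ∈ D x.1.1
    split_ifs
    · exact add_mem (hmem _ _).1 (hmem _ _).2.1
    · exact add_mem (add_mem (hmem _ _).1 (hmem _ _).2.1) (hmem _ _).1
  have hvQ : ∀ x, Q (v x) = 1 := fun x => by
    show Q (if x.2 = 0 then _ else _) = 1
    have hQe := fun a => (hmem x.1.1 a).2.2.1
    have hQf := fun a => (hmem x.1.1 a).2.2.2
    obtain ⟨⟨i, a⟩, c⟩ := x
    fin_cases a <;> split_ifs <;>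
      simp [QuadraticMap.map_add (f := Q), hQe, hQf, hef, hee, hfe, QuadraticMap.polar_add_left]
  have hvv : ∀ x y, QuadraticMap.polar (⇑Q) (v x) (v y) = if x.1 = y.1 ∧ x.2 ≠ y.2 then 1 else 0 := by
    intro x y
    by_cases hxy : x = y
    · rw [hxy, QuadraticMap.polar_self, hvQ, if_neg (fun h => h.2 rfl), two_nsmul, CharTwo.add_self_eq_zero]
    by_cases hi : x.1.1 = y.1.1
    swap
    · rw [if_neg (fun h => hi (congrArg Prod.fst h.1))]
      exact hD.decomp.orthogonal _ _ hi _ (hvD x) _ (hvD y)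
    obtain ⟨⟨i, a⟩, c⟩ := x
    obtain ⟨⟨i', a'⟩, c'⟩ := y
    obtain rfl : i = i' := hi
    fin_cases a <;> fin_cases a' <;> fin_cases c <;> fin_cases c' <;>
      first
        | exact absurd rfl hxy
        | simp [v, QuadraticMap.polar_add_left, QuadraticMap.polar_add_right, hef, hee, hff, hfe, h2,
            CharTwo.add_self_eq_zero]
  have hvall : ∀ i, ∀ w ∈ D i, Q w = 1 → ∃ (p : Fin 2) (a b : F), w = a • v ((i, p), 0) + b • v ((i, p), 1) := by
    intro i w hw hQw
    obtain ⟨α, β, hαβ⟩ := hall i w hw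
    have hQe := fun a => (hmem i a).2.2.1
    have hQf := fun a => (hmem i a).2.2.2
    have hval : α 0 * β 0 + α 1 * β 1 = 1 := by
      rw [← hQw, hαβ]
      simp only [QuadraticMap.map_add (f := Q), QuadraticMap.map_smul, QuadraticMap.polar_add_left,
        QuadraticMap.polar_smul_left, QuadraticMap.polar_smul_right, hQe, hQf, hef, hee, hff, hfe, smul_eq_mul]
      simp
      ring
    have hv0 : ∀ p, v ((i, p), 0) = e i p + f i p := fun p => rfl
    have hv1 : ∀ p, v ((i, p), 1) = e i (1 - p) + f i (1 - p) + e i p := fun p => rfl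
    have hx : ∀ x : ι → F, x + x = 0 := fun x => by
      rw [← two_smul F x, h2, zero_smul]
    rcases helts (α 0) with a0 | a0 <;> rcases helts (β 0) with b0 | b0 <;> rcases helts (α 1) with a1 | a1 <;>
      rcases helts (β 1) with b1 | b1 <;> rw [a0, b0, a1, b1] at hval hαβ <;>
      simp only [zero_smul, one_smul, zero_add, add_zero, mul_zero, mul_one, zero_mul, one_ne_zero, zero_ne_one,
        CharTwo.add_self_eq_zero] at hval hαβ
    · exact ⟨1, 1, 0, by rw [hαβ, hv0, one_smul, zero_smul, add_zero]⟩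
    · refine ⟨0, 1, 1, ?_⟩
      rw [hαβ, hv0, hv1, one_smul, one_smul, show (1 : Fin 2) - 0 = 1 from rfl]
      rw [show e i 0 + f i 0 + (e i 1 + f i 1 + e i 0) = f i 0 + e i 1 + f i 1 + (e i 0 + e i 0) by abel, hx, add_zero]
    · refine ⟨0, 0, 1, ?_⟩
      rw [hαβ, hv1, one_smul, zero_smul, zero_add, show (1 : Fin 2) - 0 = 1 from rfl]
      abel
    · exact ⟨0, 1, 0, by rw [hαβ, hv0, one_smul, zero_smul, add_zero]⟩
    · refine ⟨1, 1, 1, ?_⟩
      rw [hαβ, hv0, hv1, one_smul, one_smul, show (1 : Fin 2) - 1 = 0 from rfl]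
      rw [show e i 1 + f i 1 + (e i 0 + f i 0 + e i 1) = e i 0 + f i 0 + f i 1 + (e i 1 + e i 1) by abel, hx, add_zero]
    · refine ⟨1, 0, 1, ?_⟩
      rw [hαβ, hv1, one_smul, zero_smul, zero_add, show (1 : Fin 2) - 1 = 0 from rfl]
  let ix : Fin (t * 2) ≃ Fin t × Fin 2 := finProdFinEquiv.symm
  let G : Matrix (Fin 2) (Fin 2) F := !![0, 1; 1, 0]
  have hGG : G * G = 1 := by
    ext a c; fin_cases a <;> fin_cases c <;> simp [G, Matrix.mul_apply, Fin.sum_univ_two]
  let w : Fin (t * 2) × Fin 2 → ι → F := fun p => v (ix p.1, p.2)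
  let Φ : Matrix ι (Fin (t * 2) × Fin 2) F := Matrix.of fun l p => w p l
  have hgram : hf.gramIn Φ = (1 : F) • ((1 : Matrix (Fin (t * 2)) (Fin (t * 2)) F) ⊗ₖ G) := by
    ext p r
    rw [← gram_cols Q hQ, show Φ.col p = w p from rfl, show Φ.col r = w r from rfl]
    show QuadraticMap.polar (⇑Q) (v _) (v _) = _
    rw [hvv, one_smul, Matrix.kronecker_apply, Matrix.one_apply]
    simp only [EmbeddingLike.apply_eq_iff_eq]
    obtain ⟨p1, p2⟩ := p
    obtain ⟨r1, r2⟩ := r
    by_cases h : p1 = r1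
    · fin_cases p2 <;> fin_cases r2 <;> simp [h, G]
    · simp [h]
  let Ψ : Matrix (Fin (t * 2) × Fin 2) ι F :=
    ((1 : Matrix (Fin (t * 2)) (Fin (t * 2)) F) ⊗ₖ G) * (Φᵀ * gramMatrix (QuadraticMap.polar (⇑Q)))
  have hΨΦ : Ψ * Φ = 1 := by
    have := hgram
    rw [ReflForm.gramIn, RingEquiv.coe_refl, Matrix.map_id, one_smul] at this
    rw [show Ψ * Φ = ((1 : Matrix (Fin (t * 2)) (Fin (t * 2)) F) ⊗ₖ G) *
      (Φᵀ * gramMatrix (QuadraticMap.polar (⇑Q)) * Φ) from Matrix.mul_assoc _ _ _, this,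
      ← Matrix.mul_kronecker_mul, one_mul, hGG, Matrix.one_kronecker_one]
  have hcard : Fintype.card (Fin (t * 2) × Fin 2) = Fintype.card ι := by
    rw [Fintype.card_prod, Fintype.card_fin, Fintype.card_fin, ← IsMDecomposition.mul_eq hD.decomp.decomp]; ring
  have hco : Coords Φ Ψ := ⟨(Matrix.mul_eq_one_comm_of_equiv (Fintype.equivOfCardEq hcard)).mp hΨΦ, hΨΦ⟩
  obtain ⟨D', hD', hst⟩ := blocks_of_coords hf (t := t * 2) (k := 2) (by omega) two_pos hco one_ne_zero (G := G)
    (by simp [G, Matrix.det_fin_two]) hgram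
  refine ⟨D', hD', fun g hg => hst g ?_⟩
  obtain ⟨τ, hτ⟩ := hle hg
  have himg : ∀ r : Fin (t * 2), ∃ s : Fin (t * 2), ∀ a, ∃ α β : F, (g : Matrix ι ι F) *ᵥ w (r, a) =
      α • w (s, 0) + β • w (s, 1) := by
    intro r
    have hin : ∀ a, (g : Matrix ι ι F) *ᵥ w (r, a) ∈ D (τ (ix r).1) := fun a =>
      hτ _ ▸ ⟨_, hvD (ix r, a), Matrix.toLin'_apply _ _⟩
    obtain ⟨p, α, β, h0⟩ := hvall _ _ (hin 0) (by rw [hiso g hg]; exact hvQ _)
    obtain ⟨p', α', β', h1⟩ := hvall _ _ (hin 1) (by rw [hiso g hg]; exact hvQ _)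
    have hp : p' = p := by
      by_contra hne
      have h := orth_fixes Q hiso g hg (w (r, 0)) (w (r, 1))
      rw [h0, h1, hvv (ix r, 0) (ix r, 1), if_pos ⟨rfl, (by decide : (0 : Fin 2) ≠ 1)⟩] at h
      simp [QuadraticMap.polar_add_left, QuadraticMap.polar_add_right, QuadraticMap.polar_smul_left,
        QuadraticMap.polar_smul_right, hvv, Ne.symm hne] at h
    subst hp
    refine ⟨ix.symm (τ (ix r).1, p'), fun a => ?_⟩
    simp only [w, Equiv.apply_symm_apply]
    fin_cases a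
    exacts [⟨α, β, h0⟩, ⟨α', β', h1⟩]
  choose s α β hs using himg
  refine ⟨s, fun p r hpr => ?_⟩
  have e1 : (Ψ * (g : Matrix ι ι F) * Φ) p r = (Ψ *ᵥ ((g : Matrix ι ι F) *ᵥ w r)) p := by
    rw [Matrix.mulVec_mulVec]
    rfl
  have hw : ∀ x, w x = Φ *ᵥ Pi.single x 1 := fun x => by
    rw [Matrix.mulVec_single_one]; funext l; simp [Φ]
  rw [e1, show r = (r.1, r.2) from rfl, hs, hw, hw, Matrix.mulVec_add, Matrix.mulVec_smul, Matrix.mulVec_smul,
    Matrix.mulVec_mulVec, Matrix.mulVec_mulVec, hΨΦ, Matrix.one_mulVec, Matrix.one_mulVec, Pi.add_apply, Pi.smul_apply,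
    Pi.smul_apply, Pi.single_apply, Pi.single_apply, if_neg, if_neg, smul_zero, smul_zero, add_zero]
  · rintro rfl; exact hpr rfl
  · rintro rfl; exact hpr rfl

include hQ in
/-- Over three elements blocks of degree three refine to a frame. -/
theorem frame_three (hq3 : Fintype.card F = 3) {t : ℕ} {D : Fin t → Submodule F (ι → F)}
    (hD : IsOrthogonalMDecomposition (⇑Q) 3 D) {H : Subgroup (GL ι F)}
    (hiso : ∀ g ∈ H, ∀ x, Q ((g : Matrix ι ι F) *ᵥ x) = Q x) (hle : H ≤ decompositionStabilizer D) :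
    ∃ D' : Fin (t * 3) → Submodule F (ι → F), IsNondegenerateMDecomposition (QuadraticMap.polar (⇑Q)) 1 D' ∧
      H ≤ decompositionStabilizer D' := by
  classical
  have hf := orth_refl Q hQ
  have h3 : (3 : F) = 0 := three_zero hq3
  have h2 : (2 : F) ≠ 0 := fun e => one_ne_zero (α := F) (by linear_combination h3 - e)
  have h2t := hD.decomp.decomp.two_le
  obtain ⟨Φ₀, G, hG, hgram₀, hcol₀⟩ := decomp_coords' Q hQ hD
  have hGs : Gᵀ = G := by
    let i₀ : Fin t := ⟨0, by omega⟩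
    ext a c
    have e1 := gram_cols Q hQ Φ₀ (i₀, c) (i₀, a)
    have e2 := gram_cols Q hQ Φ₀ (i₀, a) (i₀, c)
    rw [hgram₀, Matrix.kronecker_apply, Matrix.one_apply_eq, one_mul] at e1 e2
    rw [Matrix.transpose_apply, ← e1, ← e2, QuadraticMap.polar_comm]
  obtain ⟨B, κ, hκ, hB⟩ := congr_scalar_three hq3 hGs hG
  set Φ₁ : Matrix ι (Fin t × Fin 3) F := Φ₀ * ((1 : Matrix (Fin t) (Fin t) F) ⊗ₖ (B : Matrix (Fin 3) (Fin 3) F)) with hΦ₁
  have hcol : ∀ p, Φ₁.col p ∈ D p.1 := fun p => by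
    rw [show Φ₁.col p = ∑ a, (B : Matrix (Fin 3) (Fin 3) F) a p.2 • Φ₀.col (p.1, a) from funext fun l => by
      simp [hΦ₁, Matrix.mul_apply, Fintype.sum_prod_type, Matrix.one_apply, Finset.sum_apply, mul_comm]]
    exact Submodule.sum_mem _ fun a _ => (D p.1).smul_mem _ (hcol₀ (p.1, a))
  have hgram : ∀ p r, QuadraticMap.polar (⇑Q) (Φ₁.col p) (Φ₁.col r) = if p = r then κ else 0 := fun p r => by
    rw [gram_cols Q hQ]
    have e : hf.gramIn Φ₁ = κ • 1 := by
      have h := hgram₀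
      simp only [ReflForm.gramIn, RingEquiv.coe_refl, Matrix.map_id] at h
      simp only [ReflForm.gramIn, RingEquiv.coe_refl, Matrix.map_id, hΦ₁, Matrix.transpose_mul]
      calc _ = ((1 : Matrix (Fin t) (Fin t) F) ⊗ₖ (B : Matrix (Fin 3) (Fin 3) F))ᵀ *
            (Φ₀ᵀ * gramMatrix (QuadraticMap.polar (⇑Q)) * Φ₀) *
            ((1 : Matrix (Fin t) (Fin t) F) ⊗ₖ (B : Matrix (Fin 3) (Fin 3) F)) := by simp only [Matrix.mul_assoc]
        _ = _ := by
          rw [h, kron_transpose, ← Matrix.mul_kronecker_mul, ← Matrix.mul_kronecker_mul, hB, Matrix.transpose_one,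
            Matrix.one_mul, Matrix.one_mul, Matrix.kronecker_smul, Matrix.one_kronecker_one]
    rw [e, Matrix.smul_apply, Matrix.one_apply]
    simp
  let ix : Fin (t * 3) × Fin 1 ≃ Fin t × Fin 3 := (Equiv.prodUnique _ _).trans finProdFinEquiv.symm
  let Φ : Matrix ι (Fin (t * 3) × Fin 1) F := Φ₁.submatrix id ix
  have hΦcol : ∀ p, Φ.col p = Φ₁.col (ix p) := fun p => rfl
  have hgram' : hf.gramIn Φ = κ • ((1 : Matrix (Fin (t * 3)) (Fin (t * 3)) F) ⊗ₖ (1 : Matrix (Fin 1) (Fin 1) F)) := by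
    ext p r
    rw [← gram_cols Q hQ, hΦcol, hΦcol, hgram, Matrix.one_kronecker_one, Matrix.smul_apply, Matrix.one_apply]
    simp [EmbeddingLike.apply_eq_iff_eq]
  let Ψ : Matrix (Fin (t * 3) × Fin 1) ι F := κ⁻¹ • (Φᵀ * gramMatrix (QuadraticMap.polar (⇑Q)))
  have hΨΦ : Ψ * Φ = 1 := by
    have := hgram'
    rw [ReflForm.gramIn, RingEquiv.coe_refl, Matrix.map_id, Matrix.one_kronecker_one] at this
    rw [Matrix.smul_mul, this, smul_smul, inv_mul_cancel₀ hκ, one_smul]
  have hcard : Fintype.card (Fin (t * 3) × Fin 1) = Fintype.card ι := by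
    rw [Fintype.card_prod, Fintype.card_fin, Fintype.card_fin, mul_one, IsMDecomposition.mul_eq hD.decomp.decomp]
  have hco : Coords Φ Ψ := ⟨(Matrix.mul_eq_one_comm_of_equiv (Fintype.equivOfCardEq hcard)).mp hΨΦ, hΨΦ⟩
  obtain ⟨D', hD', hst⟩ := blocks_of_coords hf (t := t * 3) (k := 1) (by omega) one_pos hco hκ (G := 1) (by simp) hgram'
  refine ⟨D', hD', fun g hg => hst g ?_⟩
  obtain ⟨τ, hτ⟩ := hle hg
  set M := Ψ * (g : Matrix ι ι F) * Φ with hM
  have hMq : ∀ q r, κ * M q r = QuadraticMap.polar (⇑Q) (Φ.col q) ((g : Matrix ι ι F) *ᵥ Φ.col r) := fun q r => by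
    rw [← Matrix.mulVec_single_one, ← Matrix.mulVec_single_one, hM]
    conv_rhs => rw [show (g : Matrix ι ι F) *ᵥ (Φ *ᵥ Pi.single r 1) = Φ *ᵥ (Ψ *ᵥ ((g : Matrix ι ι F) *ᵥ (Φ *ᵥ Pi.single r 1))) by
      rw [Matrix.mulVec_mulVec _ Φ Ψ, hco.left, Matrix.one_mulVec], hf.apply_coords, RingEquiv.coe_refl, Function.id_comp]
    rw [show hf.gramIn Φ = _ from hgram', Matrix.one_kronecker_one, Matrix.smul_mulVec, Matrix.one_mulVec,
      single_one_dotProduct, Pi.smul_apply, smul_eq_mul, Matrix.mulVec_mulVec, Matrix.mulVec_mulVec,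
      Matrix.mulVec_single_one]
    rfl
  have hsup : ∀ q r, M q r ≠ 0 → (ix q).1 = τ (ix r).1 := fun q r h => by
    by_contra hne
    apply h
    have h0 := hMq q r
    rw [hD.decomp.orthogonal _ _ hne _ (hΦcol q ▸ hcol (ix q)) _
      (hτ (ix r).1 ▸ ⟨_, hΦcol r ▸ hcol (ix r), Matrix.toLin'_apply _ _⟩ :
        (g : Matrix ι ι F) *ᵥ Φ.col r ∈ D (τ (ix r).1))] at h0
    exact (mul_eq_zero.mp h0).resolve_left hκ
  have hnorm : ∀ r, ∑ q, M q r * M q r = 1 := fun r => by
    have h := orth_fixes Q hiso g hg (Φ.col r) (Φ.col r)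
    rw [hΦcol, hgram, if_pos rfl, ← hΦcol, ← Matrix.mulVec_single_one,
      show (g : Matrix ι ι F) *ᵥ (Φ *ᵥ Pi.single r 1) = Φ *ᵥ (M *ᵥ Pi.single r 1) by
        rw [hM, Matrix.mulVec_mulVec, Matrix.mulVec_mulVec, ← Matrix.mul_assoc, ← Matrix.mul_assoc, hco.left,
          Matrix.one_mul], hf.apply_coords, RingEquiv.coe_refl, Function.id_comp,
      show hf.gramIn Φ = _ from hgram', Matrix.one_kronecker_one, Matrix.smul_mulVec, Matrix.one_mulVec,
      dotProduct_smul, Matrix.mulVec_single_one, smul_eq_mul] at h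
    exact mul_left_cancel₀ hκ (h.trans (mul_one κ).symm)
  have hone : ∀ r, ∃ q, ∀ q', q' ≠ q → M q' r = 0 := fun r => by
    set S := Finset.univ.filter fun q => M q r ≠ 0
    have hsum : (S.card : F) = 1 := by
      rw [← hnorm r, ← Finset.sum_filter_ne_zero]
      have : Finset.univ.filter (fun q => M q r * M q r ≠ 0) = S := Finset.filter_congr fun q _ => by simp
      rw [this, Finset.cast_card]
      exact Finset.sum_congr rfl fun q hq => by
        rcases three_elts hq3 (M q r) with h | h | h <;>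
          [exact absurd h (Finset.mem_filter.mp hq).2; rw [h, mul_one]; rw [h, neg_mul_neg, mul_one]]
    have hle3 : S.card ≤ 3 := by
      refine le_trans (Finset.card_le_card_of_injOn (fun q => (ix q).2) (fun q _ => Finset.mem_univ _)
        fun q hq q' hq' h => ix.injective (Prod.ext ?_ h)) (by simp)
      rw [hsup q r (Finset.mem_filter.mp hq).2, hsup q' r (Finset.mem_filter.mp hq').2]
    obtain ⟨q, hq1⟩ : ∃ q, S = {q} := by
      refine Finset.card_eq_one.mp ?_
      rcases (by omega : S.card = 0 ∨ S.card = 1 ∨ S.card = 2 ∨ S.card = 3) with h | h | h | h <;> rw [h] at hsum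
      · simp at hsum
      · exact h
      · exact absurd (show (1 : F) = 0 by push_cast at hsum; linear_combination hsum) one_ne_zero
      · push_cast at hsum; rw [h3] at hsum; exact absurd hsum zero_ne_one
    exact ⟨q, fun q' hq' => by
      by_contra h
      exact hq' (Finset.mem_singleton.mp (hq1 ▸ Finset.mem_filter.mpr ⟨Finset.mem_univ _, h⟩))⟩
  choose σ hσ using hone
  refine ⟨fun r => (σ (r, 0)).1, fun p r hpr => ?_⟩
  refine hσ r p fun e => hpr ?_
  rw [e]
  show (σ r).1 = (σ (r.1, 0)).1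
  rw [show ((r.1, (0 : Fin 1)) : Fin (t * 3) × Fin 1) = r from Prod.ext rfl (Subsingleton.elim _ _)]

end OrthEven

end Cfsg.Lib.Classical.Aschbacher
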