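import Cfsg.Agent.Classical.PrimeDim.Core

/-! Absolutely irreducible groups which are abelian modulo scalars. -/

set_option autoImplicit false
set_option linter.unusedSimpArgs false
set_option linter.unusedSectionVars false
set_option linter.style.haveILetI false

namespace Cfsg.Lib.Classical.Aschbacher

open Matrix Cfsg.Geo
open scoped MatrixGroups commutatorElement
open Cfsg.Lib.Classical.PrimeDim (mem_matrixSet forall_matrixSet mem_scalars_of_val_eq scalar_commute eigen_indep
  val_mul_inv val_inv_mul gl_det_ne_zero)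

universe u

variable {ι : Type} [Fintype ι] [DecidableEq ι] {F : Type u} [Field F] [Nonempty ι]

/-- The scalar of a scalar matrix. -/
noncomputable def sval (s : GL ι F) : F := (s : Matrix ι ι F) (Classical.arbitrary ι) (Classical.arbitrary ι)

theorem val_eq_sval {s : GL ι F} (hs : s ∈ scalars ι F) : (s : Matrix ι ι F) = sval s • (1 : Matrix ι ι F) := by
  obtain ⟨c, hc⟩ := (mem_scalars_iff s).mp hs
  simp [sval, hc]

theorem sval_eq {s : GL ι F} {c : F} (h : (s : Matrix ι ι F) = c • (1 : Matrix ι ι F)) : sval s = c := by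
  simp [sval, h]

theorem sval_one : sval (1 : GL ι F) = 1 := sval_eq (by simp)

theorem sval_mul {s t : GL ι F} (hs : s ∈ scalars ι F) (ht : t ∈ scalars ι F) : sval (s * t) = sval s * sval t :=
  sval_eq (by rw [Units.val_mul, val_eq_sval hs, val_eq_sval ht, Matrix.smul_mul, Matrix.mul_smul, smul_smul,
    Matrix.one_mul])

theorem sval_pow {s : GL ι F} (hs : s ∈ scalars ι F) (k : ℕ) : sval (s ^ k) = sval s ^ k :=
  sval_eq (by rw [Units.val_pow_eq_pow_val, val_eq_sval hs, _root_.smul_pow, one_pow])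

theorem sval_ne_zero {s : GL ι F} (hs : s ∈ scalars ι F) : sval s ≠ 0 := fun h => s.ne_zero (by
  rw [val_eq_sval hs, h, zero_smul])

theorem eq_one_of_sval {s : GL ι F} (hs : s ∈ scalars ι F) (h : sval s = 1) : s = 1 :=
  Units.ext (by rw [val_eq_sval hs, h, one_smul, Units.val_one])

/-- Absolutely irreducible, abelian modulo scalars, not scalar, of exponent `r` modulo scalars. -/
structure SympN (r : ℕ) (N : Subgroup (GL ι F)) : Prop where
  absIrred : ActsAbsolutelyIrreducibly (matrixSet N)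
  comm : ∀ a ∈ N, ∀ b ∈ N, ⁅a, b⁆ ∈ scalars ι F
  ns : ¬ N ≤ scalars ι F
  prime : r.Prime
  pow_mem : ∀ g ∈ N, g ^ r ∈ scalars ι F

namespace SympN

variable {r : ℕ} {N : Subgroup (GL ι F)}

theorem comm_mul (hN : SympN r N) {a b c : GL ι F} (ha : a ∈ N) (hc : c ∈ N) :
    ⁅a, b * c⁆ = ⁅a, b⁆ * ⁅a, c⁆ := by
  have h : ⁅a, b * c⁆ = ⁅a, b⁆ * (b * ⁅a, c⁆ * b⁻¹) := by simp only [commutatorElement_def]; group
  rw [h, ← scalar_commute (hN.comm a ha c hc) b, mul_inv_cancel_right]

theorem comm_scalar {a b : GL ι F} (ha : a ∈ scalars ι F) : ⁅b, a⁆ = 1 :=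
  commutatorElement_eq_one_iff_mul_comm.mpr (scalar_commute ha b).symm

theorem comm_congr (hN : SympN r N) {a x y : GL ι F} (ha : a ∈ N) (hx : x ∈ N) (hy : y ∈ N)
    (h : x⁻¹ * y ∈ scalars ι F) : ⁅a, y⁆ = ⁅a, x⁆ := by
  conv_lhs => rw [show y = x * (x⁻¹ * y) by group]
  rw [hN.comm_mul ha (mul_mem (inv_mem hx) hy), comm_scalar (ha := h), mul_one]

theorem eq_one_all (hN : SympN r N) {g : GL ι F} (h : ∀ a ∈ N, ⁅a, g⁆ = 1) : g ∈ scalars ι F := by
  obtain ⟨c, hc⟩ := hN.absIrred.2 (g : Matrix ι ι F) (forall_matrixSet.mpr fun a ha => by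
    rw [← Units.val_mul, ← Units.val_mul, (commutatorElement_eq_one_iff_mul_comm.mp (h a ha))])
  exact mem_scalars_of_val_eq hc

theorem comm_pow (hN : SympN r N) {a b : GL ι F} (ha : a ∈ N) (hb : b ∈ N) (k : ℕ) : ⁅a, b ^ k⁆ = ⁅a, b⁆ ^ k := by
  induction k with
  | zero => simp
  | succ k ih => rw [pow_succ, hN.comm_mul ha hb, ih, pow_succ]

theorem comm_pow_r (hN : SympN r N) {a b : GL ι F} (ha : a ∈ N) (hb : b ∈ N) : ⁅a, b⁆ ^ r = 1 := by
  rw [← hN.comm_pow ha hb, comm_scalar (ha := hN.pow_mem b hb)]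

theorem exists_comm_ne (hN : SympN r N) : ∃ a ∈ N, ∃ b ∈ N, ⁅a, b⁆ ≠ 1 := by
  by_contra h
  push Not at h
  exact hN.ns fun g hg => hN.eq_one_all fun a ha => h a ha g hg

theorem exists_primitiveRoot (hN : SympN r N) : ∃ ζ : F, IsPrimitiveRoot ζ r := by
  obtain ⟨a, ha, b, hb, hab⟩ := hN.exists_comm_ne
  haveI := Fact.mk hN.prime
  refine ⟨sval ⁅a, b⁆, IsPrimitiveRoot.iff_orderOf.mpr (orderOf_eq_prime ?_ fun e => hab ?_)⟩
  · rw [← sval_pow (hN.comm a ha b hb), hN.comm_pow_r ha hb, sval_one]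
  · exact eq_one_of_sval (hN.comm a ha b hb) e

theorem natCast_ne_zero (hN : SympN r N) : (r : F) ≠ 0 := by
  haveI : NeZero r := ⟨hN.prime.ne_zero⟩
  obtain ⟨ζ, hζ⟩ := hN.exists_primitiveRoot
  exact (hζ.neZero').out

/-- Conjugation as a linear map. -/
noncomputable def conjLin (a : GL ι F) : Matrix ι ι F →ₗ[F] Matrix ι ι F :=
  (LinearMap.mulLeft F (a : Matrix ι ι F)).comp (LinearMap.mulRight F ((a⁻¹ : GL ι F) : Matrix ι ι F))

theorem conjLin_val (hN : SympN r N) {a g : GL ι F} (ha : a ∈ N) (hg : g ∈ N) :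
    conjLin a (g : Matrix ι ι F) = sval ⁅a, g⁆ • (g : Matrix ι ι F) := by
  have e : ((⁅a, g⁆ * g : GL ι F) : Matrix ι ι F) = conjLin a (g : Matrix ι ι F) := by
    rw [show ⁅a, g⁆ * g = a * g * a⁻¹ by simp only [commutatorElement_def]; group]
    simp [conjLin, mul_assoc]
  rw [← e, Units.val_mul, val_eq_sval (hN.comm a ha g hg), Matrix.smul_mul, Matrix.one_mul]

variable [Finite F]

/-- The classes modulo scalars are a square number, the square of the degree. -/
theorem card_classes (hN : SympN r N) :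
    Nat.card (N ⧸ (scalars ι F).subgroupOf N) = Fintype.card ι ^ 2 ∧
      ∃ m : ℕ, Fintype.card ι = r ^ m ∧ Nat.card (N ⧸ (scalars ι F).subgroupOf N) = r ^ (2 * m) := by
  classical
  haveI : Finite N := Finite.of_injective _ Subtype.val_injective
  let Q := N ⧸ (scalars ι F).subgroupOf N
  haveI : Finite Q := Quotient.finite _
  letI : Fintype Q := Fintype.ofFinite Q
  let g : Q → GL ι F := fun q => ((Quotient.out q : N) : GL ι F)
  have hg : ∀ q, g q ∈ N := fun q => (Quotient.out q : N).2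
  have hmk : ∀ q, QuotientGroup.mk (s := (scalars ι F).subgroupOf N) (⟨g q, hg q⟩ : N) = q := fun q =>
    Quotient.out_eq q
  have hcls : ∀ x (hx : x ∈ N) y (hy : y ∈ N),
      (QuotientGroup.mk (s := (scalars ι F).subgroupOf N) (⟨x, hx⟩ : N) = QuotientGroup.mk ⟨y, hy⟩) ↔
        x⁻¹ * y ∈ scalars ι F := fun x hx y hy => by rw [QuotientGroup.eq]; rfl
  have hrep : ∀ x ∈ N, ∃ q, x⁻¹ * g q ∈ scalars ι F := fun x hx =>
    ⟨QuotientGroup.mk ⟨x, hx⟩, (hcls x hx _ (hg _)).mp (hmk _).symm⟩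
  have hmul : ∀ x (hx : x ∈ N) q, (x * g q)⁻¹ * g (QuotientGroup.mk (⟨x, hx⟩ : N) * q) ∈ scalars ι F := by
    intro x hx q
    refine (hcls _ (mul_mem hx (hg q)) _ (hg _)).mp ?_
    rw [hmk]
    conv_rhs => rw [← hmk q]
    exact QuotientGroup.mk_mul _ (⟨x, hx⟩ : N) ⟨g q, hg q⟩
  -- characters separate the classes
  have hsep : Function.Injective fun (q : Q) (a : N) => sval ⁅(a : GL ι F), g q⁆ := by
    intro q q' he
    have hs : (g q)⁻¹ * g q' ∈ scalars ι F := by
      refine hN.eq_one_all fun a ha => ?_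
      have h1 : ⁅a, g q'⁆ = ⁅a, g q⁆ * ⁅a, (g q)⁻¹ * g q'⁆ := by
        rw [← hN.comm_mul ha (mul_mem (inv_mem (hg q)) (hg q')), mul_inv_cancel_left]
      have hm := hN.comm a ha _ (mul_mem (inv_mem (hg q)) (hg q'))
      have h2 : sval ⁅a, g q⁆ = sval ⁅a, g q'⁆ := congrFun he ⟨a, ha⟩
      rw [h1, sval_mul (hN.comm a ha _ (hg q)) hm] at h2
      exact eq_one_of_sval hm ((mul_eq_left₀ (sval_ne_zero (hN.comm a ha _ (hg q)))).mp h2.symm)
    rw [← hmk q, ← hmk q']
    exact (hcls _ (hg q) _ (hg q')).mpr hs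
  let v : Q → Matrix ι ι F := fun q => (g q : Matrix ι ι F)
  have hind : LinearIndependent F v := by
    rw [Fintype.linearIndependent_iff]
    intro c hc q
    have := eigen_indep (fun a : N => conjLin (a : GL ι F)) _ hsep Finset.univ (fun q => c q • v q)
      (fun q _ a => by rw [map_smul, hN.conjLin_val a.2 (hg q), smul_comm]) hc q (Finset.mem_univ q)
    exact (smul_eq_zero.mp this).resolve_right (g q).ne_zero
  -- the number of classes is prime to the characteristic
  have hpg : IsPGroup r Q := fun q => ⟨1, by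
    rw [pow_one, ← hmk q, ← QuotientGroup.mk_pow, QuotientGroup.eq_one_iff]
    exact hN.pow_mem _ (hg q)⟩
  haveI := Fact.mk hN.prime
  obtain ⟨a, ha⟩ := IsPGroup.iff_card.mp hpg
  have hQ : (Fintype.card Q : F) ≠ 0 := by
    rw [← Nat.card_eq_fintype_card, ha, Nat.cast_pow]
    exact pow_ne_zero _ hN.natCast_ne_zero
  have hspan : ⊤ ≤ Submodule.span F (Set.range v) := by
    intro X _
    by_contra hX
    obtain ⟨φ, hφX, hφ⟩ := Submodule.exists_dual_map_eq_bot_of_notMem hX inferInstance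
    have hkill : ∀ x ∈ N, φ (x : Matrix ι ι F) = 0 := fun x hx => by
      obtain ⟨q, hq⟩ := hrep x hx
      have e : (x : Matrix ι ι F) = (sval (x⁻¹ * g q))⁻¹ • v q := by
        rw [eq_inv_smul_iff₀ (sval_ne_zero hq)]
        show _ = (g q : Matrix ι ι F)
        rw [show g q = x * (x⁻¹ * g q) by group, Units.val_mul, val_eq_sval hq, Matrix.mul_smul, Matrix.mul_one,
          show x * (x⁻¹ * g q) = g q by group]
      have hv : φ (v q) = 0 := by
        have : φ (v q) ∈ (Submodule.span F (Set.range v)).map φ :=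
          Submodule.mem_map_of_mem (Submodule.subset_span ⟨q, rfl⟩)
        rwa [hφ, Submodule.mem_bot] at this
      rw [e, map_smul, hv, smul_zero]
    have hA : ∀ ψ : Matrix ι ι F →ₗ[F] F, (∀ x ∈ N, ψ (x : Matrix ι ι F) = 0) →
        ∀ Y, ∑ q : Q, ψ (conjLin (g q) Y) = 0 := by
      intro ψ hψ Y
      obtain ⟨c, hc⟩ := hN.absIrred.2 (∑ q : Q, conjLin (g q) Y) (forall_matrixSet.mpr fun x hx => by
        have key : conjLin x (∑ q : Q, conjLin (g q) Y) = ∑ q : Q, conjLin (g q) Y := by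
          rw [map_sum]
          refine Fintype.sum_equiv (Equiv.mulLeft (QuotientGroup.mk (⟨x, hx⟩ : N))) _ _ fun q => ?_
          have hs := hmul x hx q
          set s := (x * g q)⁻¹ * g (QuotientGroup.mk (⟨x, hx⟩ : N) * q) with hs_def
          have e : g (QuotientGroup.mk (⟨x, hx⟩ : N) * q) = x * g q * s := by rw [hs_def]; group
          rw [Equiv.coe_mulLeft, e]
          simp only [conjLin, LinearMap.comp_apply, LinearMap.mulLeft_apply, LinearMap.mulRight_apply,
            _root_.mul_inv_rev, Units.val_mul, val_eq_sval hs, Matrix.mul_smul, Matrix.smul_mul, Matrix.mul_one]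
          rw [val_eq_sval (inv_mem hs)]
          simp only [Matrix.mul_smul, Matrix.smul_mul, Matrix.one_mul, smul_smul, mul_assoc]
          rw [← sval_mul hs (inv_mem hs), mul_inv_cancel, sval_one, one_smul]
        have h2 := congrArg (fun Z => Z * (x : Matrix ι ι F)) key
        simp only [conjLin, LinearMap.comp_apply, LinearMap.mulLeft_apply, LinearMap.mulRight_apply] at h2
        rw [mul_assoc (x : Matrix ι ι F), mul_assoc _ ((x⁻¹ : GL ι F) : Matrix ι ι F), val_inv_mul, mul_one] at h2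
        exact h2.symm)
      rw [← map_sum, hc, map_smul, show ψ 1 = 0 by simpa using hψ 1 (one_mem N), smul_zero]
    apply hφX
    have hB : ∀ q' : Q, ∑ q : Q, sval ⁅g q, g q'⁆ * φ (conjLin (g q) X) = 0 := by
      intro q'
      have := hA (φ.comp (LinearMap.mulRight F (((g q')⁻¹ : GL ι F) : Matrix ι ι F))) (fun x hx => by
        show φ ((x : Matrix ι ι F) * _) = 0
        rw [← Units.val_mul]
        exact hkill _ (mul_mem hx (inv_mem (hg q')))) (X * (g q' : Matrix ι ι F))
      rw [← this]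
      refine Finset.sum_congr rfl fun q _ => ?_
      rw [LinearMap.comp_apply, LinearMap.mulRight_apply]
      have e : conjLin (g q) (X * (g q' : Matrix ι ι F)) * (((g q')⁻¹ : GL ι F) : Matrix ι ι F) =
          conjLin (g q) X * ((⁅g q, g q'⁆ : GL ι F) : Matrix ι ι F) := by
        simp only [conjLin, LinearMap.comp_apply, LinearMap.mulLeft_apply, LinearMap.mulRight_apply,
          commutatorElement_def, Units.val_mul, mul_assoc]
        rw [← mul_assoc (((g q)⁻¹ : GL ι F) : Matrix ι ι F) (g q : Matrix ι ι F), val_inv_mul, one_mul]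
      rw [e, val_eq_sval (hN.comm _ (hg q) _ (hg q')), Matrix.mul_smul, Matrix.mul_one, map_smul, smul_eq_mul]
    have hsum : ∑ q' : Q, ∑ q : Q, sval ⁅g q, g q'⁆ * φ (conjLin (g q) X) = 0 :=
      Finset.sum_eq_zero fun q' _ => hB q'
    rw [Finset.sum_comm] at hsum
    simp only [← Finset.sum_mul] at hsum
    have h1 : g 1 ∈ scalars ι F := by
      have := (hcls 1 (one_mem N) _ (hg 1)).mp (by rw [hmk]; rfl)
      simpa using this
    rw [Finset.sum_eq_single (1 : Q) (fun q _ hq => ?_) (by simp)] at hsum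
    · have hc1 : ∀ q' : Q, sval ⁅g 1, g q'⁆ = 1 := fun q' => by
        rw [← commutatorElement_inv, comm_scalar (ha := h1), inv_one, sval_one]
      simp only [hc1, Finset.sum_const, Finset.card_univ, nsmul_eq_mul, mul_one] at hsum
      have h2 := (mul_eq_zero.mp hsum).resolve_left hQ
      have e : conjLin (g 1) X = X := by
        show (g 1 : Matrix ι ι F) * (X * _) = X
        rw [val_eq_sval h1, Matrix.smul_mul, Matrix.one_mul, ← Matrix.mul_smul, ← Matrix.mul_one
          ((((g 1)⁻¹ : GL ι F) : Matrix ι ι F)), ← Matrix.mul_smul, ← val_eq_sval h1, val_inv_mul, Matrix.mul_one]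
      rwa [e] at h2
    · -- a non-trivial character sums to zero
      obtain ⟨b, hb⟩ : ∃ b ∈ N, ⁅g q, b⁆ ≠ 1 := by
        by_contra h
        push Not at h
        refine hq ?_
        rw [← hmk q]
        refine (QuotientGroup.eq_one_iff _).mpr (hN.eq_one_all fun a ha => ?_)
        show ⁅a, g q⁆ = 1
        rw [← commutatorElement_inv, h a ha, inv_one]
      obtain ⟨hbN, hb⟩ := hb
      have hS : sval ⁅g q, b⁆ * ∑ q' : Q, sval ⁅g q, g q'⁆ = ∑ q' : Q, sval ⁅g q, g q'⁆ := by
        rw [Finset.mul_sum]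
        refine Fintype.sum_equiv (Equiv.mulLeft (QuotientGroup.mk (⟨b, hbN⟩ : N))) _ _ fun q' => ?_
        rw [Equiv.coe_mulLeft, hN.comm_congr (hg q) (mul_mem hbN (hg q')) (hg _) (hmul b hbN q'),
          hN.comm_mul (hg q) (hg q'), sval_mul (hN.comm _ (hg q) _ hbN) (hN.comm _ (hg q) _ (hg q'))]
      have hne : sval ⁅g q, b⁆ ≠ 1 := fun e => hb (eq_one_of_sval (hN.comm _ (hg q) _ hbN) e)
      have h0 : ∑ q' : Q, sval ⁅g q, g q'⁆ = 0 := by
        by_contra hS0
        exact hne ((mul_eq_right₀ hS0).mp hS)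
      rw [h0, zero_mul]
  have hcard : Nat.card Q = Fintype.card ι ^ 2 := by
    rw [Nat.card_eq_fintype_card, ← Module.finrank_eq_card_basis (Module.Basis.mk hind hspan), Module.finrank_matrix,
      Module.finrank_self, mul_one, sq]
  refine ⟨hcard, ?_⟩
  have hdvd : Fintype.card ι ∣ r ^ a := by rw [← ha, hcard]; exact dvd_pow_self _ two_ne_zero
  obtain ⟨m, -, hm⟩ := (Nat.dvd_prime_pow hN.prime).mp hdvd
  exact ⟨m, hm, by rw [hcard, hm, ← pow_mul, mul_comm]⟩

/-- Elements outside the scalars have trace zero. -/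
theorem trace_zero (hN : SympN r N) {x : GL ι F} (hx : x ∈ N ⊔ scalars ι F) (hns : x ∉ scalars ι F) :
    (x : Matrix ι ι F).trace = 0 := by
  obtain ⟨g, hg, z, hz, rfl⟩ := Subgroup.mem_sup_of_normal_right.mp hx
  have hgs : g ∉ scalars ι F := fun h => hns (mul_mem h hz)
  obtain ⟨a, ha, hag⟩ : ∃ a ∈ N, ⁅a, g⁆ ≠ 1 := by
    by_contra h
    push Not at h
    exact hgs (hN.eq_one_all h)
  rw [Units.val_mul, val_eq_sval hz, Matrix.mul_smul, Matrix.mul_one, Matrix.trace_smul]
  refine smul_eq_zero_of_right _ ?_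
  have h1 := congrArg Matrix.trace (hN.conjLin_val ha hg)
  simp only [conjLin, LinearMap.comp_apply, LinearMap.mulLeft_apply, LinearMap.mulRight_apply, Matrix.trace_smul,
    smul_eq_mul] at h1
  rw [Matrix.trace_mul_comm, mul_assoc, val_inv_mul, mul_one] at h1
  by_contra h0
  exact hag (eq_one_of_sval (hN.comm a ha g hg) ((mul_eq_right₀ h0).mp h1.symm))

end SympN

end Cfsg.Lib.Classical.Aschbacher
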