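import Cfsg.Agent.Classical.Aschbacher.PlusEight

/-! Small facts used for the symplectic group in four variables over three elements. -/

set_option autoImplicit false
set_option linter.unusedSimpArgs false
set_option linter.unusedSectionVars false
set_option linter.style.haveILetI false

namespace Cfsg.Lib.Classical.Aschbacher

open Matrix Cfsg.Geo
open scoped MatrixGroups Kronecker
open Cfsg.Lib.Classical.PrimeDim (val_mul_inv val_inv_mul mem_matrixSet irreducible_iff gl_det_ne_zero)

universe u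

variable {ι : Type} [Fintype ι] [DecidableEq ι] {F : Type u} [Field F]

/-- A set of matrices spanning everything acts absolutely irreducibly. -/
theorem absIrred_of_span [Nonempty ι] {R : Subgroup (GL ι F)} (hsp : ∀ X, X ∈ Submodule.span F (matrixSet R)) :
    ActsAbsolutelyIrreducibly (matrixSet R) := by
  classical
  refine ⟨(irreducible_iff R).mpr fun W hW => ?_, fun M hM => ?_⟩
  · have key : ∀ X ∈ Submodule.span F (matrixSet R), ∀ v ∈ W, X *ᵥ v ∈ W := fun X hX v hv => by
      induction hX using Submodule.span_induction with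
      | mem x hx => obtain ⟨g, hg, rfl⟩ := hx; exact hW g hg v hv
      | zero => simp
      | add x y _ _ h1 h2 => rw [Matrix.add_mulVec]; exact add_mem h1 h2
      | smul c x _ h1 => rw [Matrix.smul_mulVec]; exact W.smul_mem c h1
    refine or_iff_not_imp_left.mpr fun h0 => Submodule.eq_top_iff'.mpr fun w => ?_
    obtain ⟨v, hv, hv0⟩ := (Submodule.ne_bot_iff W).mp h0
    obtain ⟨i, hi⟩ := Function.ne_iff.mp hv0
    have := key _ (hsp (Matrix.of fun a b => if b = i then w a / v i else 0)) v hv
    rwa [show (Matrix.of fun a b => if b = i then w a / v i else 0) *ᵥ v = w from funext fun a => by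
      simp [Matrix.mulVec, dotProduct, ite_mul, div_mul_cancel₀ _ hi]] at this
  · have key : ∀ X ∈ Submodule.span F (matrixSet R), M * X = X * M := fun X hX => by
      induction hX using Submodule.span_induction with
      | mem x hx => exact hM x hx
      | zero => simp
      | add x y _ _ h1 h2 => rw [Matrix.mul_add, Matrix.add_mul, h1, h2]
      | smul c x _ h1 => rw [Matrix.mul_smul, Matrix.smul_mul, h1]
    let i₀ : ι := Classical.arbitrary ι
    refine ⟨M i₀ i₀, Matrix.ext fun a b => ?_⟩
    have h1 := congrFun (congrFun (key _ (hsp (Matrix.single b i₀ 1))) a) i₀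
    simp [Matrix.mul_apply, Matrix.single_apply, ite_and] at h1
    rw [h1, Matrix.smul_apply, Matrix.one_apply]
    by_cases hab : a = b
    · subst hab; simp
    · simp [hab, Ne.symm hab]

/-- Coordinates from a non-singular Gram matrix. -/
theorem coords_of_gram {κ : Type} [Fintype κ] [DecidableEq κ] {σ : F ≃+* F} {ε : F} {f : (ι → F) → (ι → F) → F}
    (hf : ReflForm σ ε f) (e : ι ≃ κ) {Φ : Matrix ι κ F} (hd : (hf.gramIn Φ).det ≠ 0) :
    ∃ Ψ : Matrix κ ι F, Coords Φ Ψ := by
  have h0 : (Φ.submatrix id e).det ≠ 0 := fun h => by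
    apply hd
    have h1 : (hf.gramIn Φ).submatrix e e =
        (Φ.submatrix id e)ᵀ * gramMatrix f * (Φ.submatrix id e).map σ := by
      ext i j; simp [ReflForm.gramIn, Matrix.mul_apply]
    rw [← Matrix.det_submatrix_equiv_self e, h1, Matrix.det_mul, Matrix.det_mul, Matrix.det_transpose, h, zero_mul, zero_mul]
  set G : GL ι F := Matrix.GeneralLinearGroup.mkOfDetNeZero _ h0
  refine ⟨((G⁻¹ : GL ι F) : Matrix ι ι F).submatrix e.symm id, ?_, ?_⟩
  · have := val_mul_inv G
    rw [show (G : Matrix ι ι F) = Φ.submatrix id e from rfl] at this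
    rw [show Φ = (Φ.submatrix id e).submatrix id e.symm by ext i j; simp, Matrix.submatrix_mul_equiv, this,
      Matrix.submatrix_id_id]
  · have := val_inv_mul G
    rw [show (G : Matrix ι ι F) = Φ.submatrix id e from rfl] at this
    rw [show Φ = (Φ.submatrix id e).submatrix id e.symm by ext i j; simp,
      ← Matrix.submatrix_mul _ _ e.symm id e.symm Function.bijective_id, this, Matrix.submatrix_one_equiv]

/-- Conjugation negating or fixing a generator normalises the algebra it generates. -/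
theorem mem_normalizer_adjoin {S : Matrix ι ι F} {g : GL ι F} {c : F} (hc : c ≠ 0)
    (h : (g : Matrix ι ι F) * S = c • (S * (g : Matrix ι ι F))) :
    g ∈ subalgebraNormalizer (Algebra.adjoin F {S}) := by
  set K := Algebra.adjoin F {S}
  have hS : S ∈ K := Algebra.subset_adjoin rfl
  set gm := (g : Matrix ι ι F)
  set gi := ((g⁻¹ : GL ι F) : Matrix ι ι F)
  have key : ∀ x y : Matrix ι ι F, x * y = 1 → y * x = 1 → (∀ T ∈ ({S} : Set (Matrix ι ι F)), x * T * y ∈ K) →
      ∀ k ∈ K, x * k * y ∈ K := fun x y hxy hyx hgen k hk => by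
    induction hk using Algebra.adjoin_induction with
    | mem T hT => exact hgen T hT
    | algebraMap r =>
      rw [Algebra.algebraMap_eq_smul_one, Matrix.mul_smul, Matrix.smul_mul, Matrix.mul_one, hxy]
      exact K.smul_mem K.one_mem r
    | add a b _ _ h1 h2 => rw [Matrix.mul_add, Matrix.add_mul]; exact K.add_mem h1 h2
    | mul a b _ _ h1 h2 =>
      rw [show x * (a * b) * y = (x * a * y) * (x * b * y) by
        simp only [Matrix.mul_assoc, ← Matrix.mul_assoc y x, hyx, Matrix.one_mul]]
      exact K.mul_mem h1 h2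
  refine fun k => ⟨fun hk => key gm gi (val_mul_inv g) (val_inv_mul g) (fun T hT => ?_) k hk, fun hk => ?_⟩
  · rw [Set.mem_singleton_iff] at hT
    rw [hT, h, Matrix.smul_mul, Matrix.mul_assoc, show gm * gi = 1 from val_mul_inv g, Matrix.mul_one]
    exact K.smul_mem hS c
  · have h' := key gi gm (val_inv_mul g) (val_mul_inv g) (fun T hT => ?_) _ hk
    · have e2 : gi * (gm * k * gi) * gm = k := by
        simp only [Matrix.mul_assoc, ← Matrix.mul_assoc gi gm, show gi * gm = 1 from val_inv_mul g, Matrix.one_mul,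
          Matrix.mul_one]
      change gi * (gm * k * gi) * gm ∈ K at h'
      rwa [e2] at h'
    rw [Set.mem_singleton_iff] at hT
    have e : gi * S * gm = c⁻¹ • S := by
      rw [Matrix.mul_assoc, show S * gm = c⁻¹ • (gm * S) by rw [h, smul_smul, inv_mul_cancel₀ hc, one_smul],
        Matrix.mul_smul, ← Matrix.mul_assoc, show gi * gm = 1 from val_inv_mul g, Matrix.one_mul]
    rw [hT, e]
    exact K.smul_mem hS _

/-- The algebra generated by a square root of a non-square is a field of degree two. -/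
theorem fieldSub_of_sq [Nonempty ι] {S : Matrix ι ι F} {a : F} (ha : ¬ IsSquare a) (hS : S * S = a • 1) :
    IsFieldSubalgebra 2 (Algebra.adjoin F {S}) := by
  have mul_lin : ∀ p q r s : F, (p • (1 : Matrix ι ι F) + q • S) * (r • 1 + s • S) =
      (p * r + q * s * a) • 1 + (p * s + q * r) • S := fun p q r s => by
    simp only [Matrix.add_mul, Matrix.mul_add, Matrix.smul_mul, Matrix.mul_smul, Matrix.one_mul, Matrix.mul_one, hS]
    module
  have hSK : S ∈ Algebra.adjoin F {S} := Algebra.self_mem_adjoin_singleton F S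
  have hmem : ∀ x : Matrix ι ι F, x ∈ Algebra.adjoin F {S} ↔ ∃ p q : F, x = p • (1 : Matrix ι ι F) + q • S := by
    intro x
    refine ⟨fun hx => ?_, fun ⟨p, q, e⟩ => by
      rw [e]
      exact (Algebra.adjoin F {S}).add_mem ((Algebra.adjoin F {S}).smul_mem (Algebra.adjoin F {S}).one_mem p)
        ((Algebra.adjoin F {S}).smul_mem hSK q)⟩
    induction hx using Algebra.adjoin_induction with
    | mem T hT => exact ⟨0, 1, by rw [Set.mem_singleton_iff] at hT; rw [hT, zero_smul, one_smul, zero_add]⟩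
    | algebraMap r => exact ⟨r, 0, by rw [Algebra.algebraMap_eq_smul_one, zero_smul, add_zero]⟩
    | add x y _ _ h1 h2 =>
      obtain ⟨p, q, rfl⟩ := h1; obtain ⟨r, s, rfl⟩ := h2
      exact ⟨p + r, q + s, by rw [add_smul, add_smul]; abel⟩
    | mul x y _ _ h1 h2 =>
      obtain ⟨p, q, rfl⟩ := h1; obtain ⟨r, s, rfl⟩ := h2
      exact ⟨_, _, mul_lin p q r s⟩
  have hind : ∀ p q : F, p • (1 : Matrix ι ι F) + q • S = 0 → p = 0 ∧ q = 0 := by
    intro p q h
    by_cases hq : q = 0
    · subst hq
      rw [zero_smul, add_zero] at h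
      exact ⟨(smul_eq_zero.mp h).resolve_right one_ne_zero, rfl⟩
    refine absurd ⟨p / q, ?_⟩ ha
    have hS' : S = -(p / q) • (1 : Matrix ι ι F) := by
      have h1 := congrArg (q⁻¹ • ·) h
      simp only [smul_add, smul_smul, inv_mul_cancel₀ hq, one_smul, smul_zero] at h1
      rw [eq_neg_of_add_eq_zero_right h1, neg_smul, div_eq_inv_mul]
    have h2 := hS
    rw [hS', Matrix.smul_mul, Matrix.mul_smul, Matrix.one_mul, smul_smul, neg_mul_neg] at h2
    exact (smul_left_injective F (one_ne_zero (α := Matrix ι ι F)) h2).symm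
  refine ⟨fun x hx y hy => ?_, fun x hx hx0 => ?_, ?_⟩
  · obtain ⟨p, q, rfl⟩ := (hmem x).mp hx
    obtain ⟨r, s, rfl⟩ := (hmem y).mp hy
    rw [mul_lin, mul_lin, mul_comm p r, mul_comm q s, mul_comm p s, mul_comm q r, add_comm (s * p)]
  · obtain ⟨p, q, rfl⟩ := (hmem x).mp hx
    have hN : p * p - q * q * a ≠ 0 := fun h => by
      by_cases hq : q = 0
      · subst hq
        simp at h
        subst h
        simp at hx0
      · exact ha ⟨p / q, by field_simp; linear_combination -h⟩
    refine ⟨(p * p - q * q * a)⁻¹ • (p • 1 + (-q) • S), Subalgebra.smul_mem _ ((hmem _).mpr ⟨_, _, rfl⟩) _, ?_⟩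
    rw [Matrix.mul_smul, mul_lin, show p * p + q * -q * a = p * p - q * q * a by ring,
      show p * -q + q * p = 0 by ring, zero_smul, add_zero, smul_smul, inv_mul_cancel₀ hN, one_smul]
  · let L : (Fin 2 → F) →ₗ[F] Matrix ι ι F :=
      { toFun := fun c => c 0 • 1 + c 1 • S
        map_add' := fun c d => by simp only [Pi.add_apply, add_smul]; abel
        map_smul' := fun r c => by
          simp only [Pi.smul_apply, smul_eq_mul, RingHom.id_apply, smul_add, smul_smul] }
    have hinj : Function.Injective L := (injective_iff_map_eq_zero L).mpr fun c hc => by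
      obtain ⟨h0, h1⟩ := hind _ _ hc
      funext i; fin_cases i <;> assumption
    have hr : LinearMap.range L = Subalgebra.toSubmodule (Algebra.adjoin F {S}) := by
      ext x
      rw [LinearMap.mem_range, Subalgebra.mem_toSubmodule, hmem]
      exact ⟨fun ⟨c, e⟩ => ⟨c 0, c 1, e.symm⟩, fun ⟨p, q, e⟩ => ⟨![p, q], e.symm⟩⟩
    rw [← Subalgebra.finrank_toSubmodule, ← hr, LinearMap.finrank_range_of_inj hinj, Module.finrank_pi,
      Fintype.card_fin]

section Plane

/-- Elements of a plane symplectic equation are proportional. -/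
theorem proportional_of_skew (h2 : (2 : F) ≠ 0) {A B : Matrix (Fin 2) (Fin 2) F} (hA : A.det ≠ 0)
    (h : Aᵀ * jTwo F * B = Bᵀ * jTwo F * A) : ∃ μ : F, B = μ • A := by
  set X := Aᵀ * jTwo F * B
  have hJt : (jTwo F)ᵀ = -jTwo F := by ext i j; fin_cases i <;> fin_cases j <;> simp [jTwo]
  have hskew : Xᵀ = -X := by
    conv_rhs => rw [show X = Bᵀ * jTwo F * A from h]
    simp only [X, Matrix.transpose_mul, Matrix.transpose_transpose, hJt, Matrix.neg_mul, Matrix.mul_neg,
      Matrix.mul_assoc]
  have hd : ∀ i, X i i = 0 := fun i => by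
    have h1 : X i i = -X i i := congrFun (congrFun hskew i) i
    exact (mul_eq_zero.mp (show (2 : F) * X i i = 0 by linear_combination h1)).resolve_left h2
  have hXJ : X = X 0 1 • jTwo F := by
    have h10 : X 1 0 = -X 0 1 := congrFun (congrFun hskew 0) 1
    ext i j
    fin_cases i <;> fin_cases j <;> simp [jTwo, hd, h10]
  refine ⟨X 0 1 / A.det, ?_⟩
  have hu : IsUnit (Aᵀ * jTwo F).det := by
    rw [Matrix.det_mul, Matrix.det_transpose, isUnit_iff_ne_zero]
    simpa [jTwo, Matrix.det_fin_two] using hA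
  have e : Aᵀ * jTwo F * B = Aᵀ * jTwo F * ((X 0 1 / A.det) • A) := by
    rw [Matrix.mul_smul, jTwo_conj, smul_smul, div_mul_cancel₀ _ hA]
    exact hXJ
  have := congrArg ((Aᵀ * jTwo F)⁻¹ * ·) e
  simpa only [← Matrix.mul_assoc, Matrix.nonsing_inv_mul _ hu, Matrix.one_mul] using this

theorem commute_jTwo {T : Matrix (Fin 2 × Fin 2) (Fin 2 × Fin 2) F}
    (h : T * ((1 : Matrix (Fin 2) (Fin 2) F) ⊗ₖ jTwo F) = ((1 : Matrix (Fin 2) (Fin 2) F) ⊗ₖ jTwo F) * T) :
    ∃ A B : Matrix (Fin 2) (Fin 2) F, T = A ⊗ₖ (1 : Matrix (Fin 2) (Fin 2) F) + B ⊗ₖ jTwo F := by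
  refine ⟨Matrix.of fun i k => T (i, 0) (k, 0), Matrix.of fun i k => T (i, 0) (k, 1), ?_⟩
  have e := fun p q => congrFun (congrFun h p) q
  ext ⟨i, j⟩ ⟨k, l⟩
  have e00 := e (i, 0) (k, 0)
  have e01 := e (i, 0) (k, 1)
  have e10 := e (i, 1) (k, 0)
  simp [Matrix.mul_apply, Fintype.sum_prod_type, Fin.sum_univ_two, Matrix.one_apply, jTwo] at e00 e01 e10
  fin_cases j <;> fin_cases l <;> simp [jTwo] <;>
    first
      | linear_combination e00
      | linear_combination -e00
      | linear_combination e01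
      | linear_combination -e01

/-- A symplectic element commuting with the complex structure is a tensor product. -/
theorem tensor_of_commute (h2 : (2 : F) ≠ 0) (hns : ¬ IsSquare (-1 : F))
    {T : Matrix (Fin 2 × Fin 2) (Fin 2 × Fin 2) F}
    (hG : Tᵀ * (jTwo F ⊗ₖ (1 : Matrix (Fin 2) (Fin 2) F)) * T = jTwo F ⊗ₖ (1 : Matrix (Fin 2) (Fin 2) F))
    (hc : T * ((1 : Matrix (Fin 2) (Fin 2) F) ⊗ₖ jTwo F) = ((1 : Matrix (Fin 2) (Fin 2) F) ⊗ₖ jTwo F) * T) :
    ∃ (a b : Matrix (Fin 2) (Fin 2) F) (κ : F), a.det ≠ 0 ∧ κ ≠ 0 ∧ bᵀ * b = κ • 1 ∧ T = a ⊗ₖ b := by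
  obtain ⟨A, B, rfl⟩ := commute_jTwo hc
  rw [Matrix.transpose_add, kron_transpose, kron_transpose, Matrix.transpose_one] at hG
  simp only [Matrix.add_mul, Matrix.mul_add, ← Matrix.mul_kronecker_mul, Matrix.one_mul, Matrix.mul_one] at hG
  have hJJ : (jTwo F)ᵀ * jTwo F = 1 := by ext i j; fin_cases i <;> fin_cases j <;> simp [jTwo, Matrix.mul_apply]
  rw [hJJ, jTwo_conj, jTwo_conj] at hG
  set X := Aᵀ * jTwo F * B with hX
  set Y := Bᵀ * jTwo F * A with hY
  have hXY : X = Y := by
    ext i k
    have := congrFun (congrFun hG (i, 0)) (k, 1)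
    simp [jTwo] at this
    linear_combination this
  have hdet : A.det + B.det = 1 := by
    have := congrFun (congrFun hG (0, 0)) (1, 0)
    simpa [jTwo] using this
  have hne : ∀ μ : F, 1 + μ * μ ≠ 0 := fun μ e => hns ⟨μ, by linear_combination -e⟩
  by_cases hA : A.det = 0
  · have hB : B.det ≠ 0 := by rw [hA, zero_add] at hdet; rw [hdet]; exact one_ne_zero
    obtain ⟨μ, hμ⟩ := proportional_of_skew h2 hB hXY.symm
    refine ⟨B, μ • 1 + jTwo F, μ * μ + 1, hB, by rw [add_comm]; exact hne μ, ?_, ?_⟩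
    · ext i j
      fin_cases i <;> fin_cases j <;> simp [jTwo, Matrix.mul_apply, Fin.sum_univ_two] <;> ring
    · rw [Matrix.kronecker_add, hμ, Matrix.smul_kronecker, Matrix.kronecker_smul]
  · obtain ⟨μ, hμ⟩ := proportional_of_skew h2 hA hXY
    refine ⟨A, 1 + μ • jTwo F, 1 + μ * μ, hA, hne μ, ?_, ?_⟩
    · ext i j
      fin_cases i <;> fin_cases j <;> simp [jTwo, Matrix.mul_apply, Fin.sum_univ_two] <;> ring
    · rw [Matrix.kronecker_add, hμ, Matrix.smul_kronecker, Matrix.kronecker_smul]

end Plane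

end Cfsg.Lib.Classical.Aschbacher
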