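import Cfsg.Agent.Classical.Aschbacher.SympFourBase

/-! The symplectic group in four variables over three elements. -/

set_option autoImplicit false
set_option linter.unusedSimpArgs false
set_option linter.unusedSectionVars false
set_option linter.style.haveILetI false

namespace Cfsg.Lib.Classical.Aschbacher

open Matrix Cfsg.Geo
open scoped MatrixGroups Kronecker commutatorElement
open Cfsg.Lib.Classical.PrimeDim (val_mul_inv val_inv_mul mem_matrixSet eq_inf_of_maximal two_ne_zero_of_odd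
  mem_scalars_of_val_eq scalar_commute finrank_pi_card gl_mulVec_ne_zero Normalises)

universe u

variable {F : Type u} [Field F]

theorem gram_symp (m : ℕ) : gramMatrix (Cfsg.sympForm m F) = Matrix.J (Fin m) F := by
  ext i j
  simp [gramMatrix, Cfsg.sympForm, Matrix.mulVec_single_one, single_one_dotProduct]

theorem gramIn_entry {m : ℕ} {κ : Type} [Fintype κ] [DecidableEq κ] (Φ : Matrix (Fin m ⊕ Fin m) κ F) (p q : κ) :
    (sp_refl m F).gramIn Φ p q = Cfsg.sympForm m F (fun i => Φ i p) (fun i => Φ i q) := by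
  have h := (sp_refl m F).apply_coords Φ (Pi.single p 1) (Pi.single q 1)
  rw [RingEquiv.coe_refl, Function.id_comp, Matrix.mulVec_single_one, Matrix.mulVec_single_one,
    Matrix.mulVec_single_one, single_one_dotProduct] at h
  exact h.symm

theorem jTwo_sq : jTwo F * jTwo F = -1 := by
  ext i j; fin_cases i <;> fin_cases j <;> simp [jTwo, Matrix.mul_apply]

theorem jTwo_transpose : (jTwo F)ᵀ = -jTwo F := by
  ext i j; fin_cases i <;> fin_cases j <;> simp [jTwo]

section Block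

variable [Fintype F]

/-- Elements of the monomial stabiliser commute or anticommute with the swap of the dual planes. -/
theorem swap_dual (hF : Fintype.card F = 3) {T : Matrix (Fin 2 ⊕ Fin 2) (Fin 2 ⊕ Fin 2) F}
    (hT : Tᵀ * Matrix.J (Fin 2) F * T = Matrix.J (Fin 2) F)
    (h : (∀ i j, T (Sum.inr i) (Sum.inl j) = 0 ∧ T (Sum.inl i) (Sum.inr j) = 0) ∨
      (∀ i j, T (Sum.inl i) (Sum.inl j) = 0 ∧ T (Sum.inr i) (Sum.inr j) = 0)) :
    ∃ ε : F, ε ≠ 0 ∧ T * Matrix.fromBlocks 0 (jTwo F) (jTwo F) 0 = ε • (Matrix.fromBlocks 0 (jTwo F) (jTwo F) 0 * T) := by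
  have hJ : Matrix.J (Fin 2) F = Matrix.fromBlocks 0 (-1) 1 0 := rfl
  have sgn : ∀ a b : F, a * b = 1 → a = b := fun a b hab => by
    rcases three_elts hF a with rfl | rfl | rfl
    · exact absurd hab (by simp)
    · simpa using hab.symm
    · linear_combination hab
  have conj : ∀ A D : Matrix (Fin 2) (Fin 2) F, Aᵀ * D = 1 → A * jTwo F = A.det • (jTwo F * D) := fun A D e => by
    have := congrArg (· * D) (jTwo_conj Aᵀ)
    simp only [Matrix.transpose_transpose, Matrix.det_transpose, Matrix.smul_mul, Matrix.mul_assoc] at this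
    rwa [e, Matrix.mul_one] at this
  obtain ⟨A, B, C, D, rfl⟩ : ∃ A B C D, T = Matrix.fromBlocks A B C D :=
    ⟨_, _, _, _, (Matrix.fromBlocks_toBlocks T).symm⟩
  rw [hJ, Matrix.fromBlocks_transpose, Matrix.fromBlocks_multiply, Matrix.fromBlocks_multiply,
    Matrix.fromBlocks_inj] at hT
  rcases h with h | h
  · obtain rfl : C = 0 := Matrix.ext fun i j => by simpa using (h i j).1
    obtain rfl : B = 0 := Matrix.ext fun i j => by simpa using (h i j).2
    obtain ⟨-, h1, h2, -⟩ := hT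
    simp only [Matrix.transpose_zero, Matrix.mul_zero, Matrix.zero_mul, add_zero, zero_add, Matrix.mul_neg,
      Matrix.mul_one, Matrix.neg_mul, neg_inj] at h1 h2
    have hd := congrArg Matrix.det h1
    rw [Matrix.det_mul, Matrix.det_transpose, Matrix.det_one] at hd
    have e := sgn _ _ hd
    refine ⟨A.det, left_ne_zero_of_mul_eq_one hd, ?_⟩
    simp only [Matrix.fromBlocks_multiply, Matrix.fromBlocks_smul, Matrix.mul_zero, Matrix.zero_mul, add_zero, zero_add,
      smul_zero]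
    rw [conj A D h1, conj D A h2, ← e]
  · obtain rfl : A = 0 := Matrix.ext fun i j => by simpa using (h i j).1
    obtain rfl : D = 0 := Matrix.ext fun i j => by simpa using (h i j).2
    obtain ⟨-, h1, h2, -⟩ := hT
    simp only [Matrix.transpose_zero, Matrix.mul_zero, Matrix.zero_mul, add_zero, zero_add, Matrix.mul_neg,
      Matrix.mul_one, Matrix.neg_mul] at h1 h2
    have hB : Bᵀ * (-C) = 1 := by rw [Matrix.mul_neg, h2]
    have hC : Cᵀ * (-B) = 1 := by rw [Matrix.mul_neg, h1, neg_neg]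
    have hd := congrArg Matrix.det hB
    rw [Matrix.det_mul, Matrix.det_transpose, Matrix.det_one, Matrix.det_neg, Fintype.card_fin, neg_one_sq, one_mul] at hd
    have e := sgn _ _ hd
    refine ⟨-B.det, neg_ne_zero.mpr (left_ne_zero_of_mul_eq_one hd), ?_⟩
    simp only [Matrix.fromBlocks_multiply, Matrix.fromBlocks_smul, Matrix.mul_zero, Matrix.zero_mul, add_zero, zero_add,
      smul_zero]
    rw [conj B (-C) hB, conj C (-B) hC, ← e]
    simp only [Matrix.mul_neg, smul_neg, neg_smul]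

/-- Over three elements a pair of singular planes gives a field of degree two. -/
theorem field_of_pair (hF : Fintype.card F = 3) {H : Subgroup (GL (Fin 2 ⊕ Fin 2) F)} (hH : H ≤ Cfsg.spGL 2 F)
    {D : Fin 2 → Submodule F (Fin 2 ⊕ Fin 2 → F)} (hD : IsMDecomposition 2 D)
    (hs : ∀ i, IsTotallySingularFor (Cfsg.sympForm 2 F) (D i)) (hle : H ≤ decompositionStabilizer D) :
    ∃ K : Subalgebra F (Matrix (Fin 2 ⊕ Fin 2) (Fin 2 ⊕ Fin 2) F), IsFieldSubalgebra 2 K ∧
      IsSelfAdjointFor (Cfsg.sympForm 2 F) K ∧ (∀ k ∈ K, ∀ v, Cfsg.sympForm 2 F (k *ᵥ v) v = 0) ∧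
      H ≤ subalgebraNormalizer K := by
  classical
  have hf := sp_refl 2 F
  let bU : Module.Basis (Fin 2) F (D 0) := Module.finBasisOfFinrankEq F (D 0) (hD.finrank_eq 0)
  set u : Fin 2 → (Fin 2 ⊕ Fin 2 → F) := fun i => (bU i : Fin 2 ⊕ Fin 2 → F)
  have hu : ∀ i, u i ∈ D 0 := fun i => (bU i).2
  let ev : D 1 →ₗ[F] (Fin 2 → F) :=
    { toFun := fun x i => Cfsg.sympForm 2 F (u i) (x : Fin 2 ⊕ Fin 2 → F)
      map_add' := fun x y => funext fun i => by
        show Cfsg.sympForm 2 F (u i) ((x : Fin 2 ⊕ Fin 2 → F) + y) = _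
        rw [hf.add_right]; rfl
      map_smul' := fun c x => funext fun i => by
        show Cfsg.sympForm 2 F (u i) (c • (x : Fin 2 ⊕ Fin 2 → F)) = _
        rw [hf.smul_right]; rfl }
  have hinj : Function.Injective ev := (injective_iff_map_eq_zero ev).mpr fun x hx => by
    by_contra hne
    obtain ⟨y, hy⟩ := (hf.nondegenerate (x : Fin 2 ⊕ Fin 2 → F) fun e => hne (Subtype.ext e)).1
    apply hy
    suffices key : ∀ z ∈ ⨆ i, D i, Cfsg.sympForm 2 F z (x : Fin 2 ⊕ Fin 2 → F) = 0 from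
      key y (hD.iSup_eq_top ▸ Submodule.mem_top)
    intro z hz
    induction hz using Submodule.iSup_induction' with
    | mem i z hz =>
      fin_cases i
      · have hz'' : z = bU.repr ⟨z, hz⟩ 0 • u 0 + bU.repr ⟨z, hz⟩ 1 • u 1 := by
          have := congrArg Subtype.val (bU.sum_repr ⟨z, hz⟩).symm
          rwa [Fin.sum_univ_two] at this
        have h0 : Cfsg.sympForm 2 F (u 0) x = 0 := congrFun hx 0
        have h1 : Cfsg.sympForm 2 F (u 1) x = 0 := congrFun hx 1
        rw [hz'', hf.add_left, hf.smul_left, hf.smul_left, h0, h1, mul_zero, mul_zero, add_zero]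
      · exact hs 1 z hz _ x.2
    | zero => exact hf.zero_left _
    | add y z _ _ h1 h2 => rw [hf.add_left, h1, h2, add_zero]
  have hsurj : Function.Surjective ev :=
    (LinearMap.injective_iff_surjective_of_finrank_eq_finrank (by rw [hD.finrank_eq, finrank_pi_card, Fintype.card_fin])).mp hinj
  choose w hw using fun j : Fin 2 => hsurj (Pi.single j (-1))
  have huw : ∀ i j, Cfsg.sympForm 2 F (u i) (w j : Fin 2 ⊕ Fin 2 → F) = if i = j then -1 else 0 := fun i j => by
    have := congrFun (hw j) i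
    rw [Pi.single_apply] at this
    exact this
  let col : Fin 2 ⊕ Fin 2 → (Fin 2 ⊕ Fin 2 → F) := Sum.elim u fun j => (w j : Fin 2 ⊕ Fin 2 → F)
  let Φ : Matrix (Fin 2 ⊕ Fin 2) (Fin 2 ⊕ Fin 2) F := Matrix.of fun i q => col q i
  have hG : hf.gramIn Φ = Matrix.J (Fin 2) F := by
    ext p q
    rw [gramIn_entry]
    show Cfsg.sympForm 2 F (col p) (col q) = _
    rcases p with i | i <;> rcases q with j | j <;> simp only [col, Sum.elim_inl, Sum.elim_inr]
    · rw [hs 0 _ (hu i) _ (hu j)]; simp [Matrix.J]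
    · rw [huw]; simp [Matrix.J, Matrix.one_apply, neg_ite]
    · rw [(sympForm_isSymplectic 2 F).skew, huw]
      by_cases h : j = i
      · subst h; simp [Matrix.J]
      · simp [Matrix.J, h, Ne.symm h]
    · rw [hs 1 _ (w i).2 _ (w j).2]; simp [Matrix.J]
  obtain ⟨Ψ, hc⟩ := coords_of_gram hf (Equiv.refl _) (Φ := Φ) (by
    rw [hG]; exact (Matrix.isUnit_det_J (Fin 2) F).ne_zero)
  set S₀ : Matrix (Fin 2 ⊕ Fin 2) (Fin 2 ⊕ Fin 2) F := Matrix.fromBlocks 0 (jTwo F) (jTwo F) 0 with hS₀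
  set S := Φ * S₀ * Ψ with hS
  have hSS : S * S = (-1 : F) • 1 := by
    have e : S₀ * S₀ = (-1 : F) • 1 := by
      rw [hS₀, Matrix.fromBlocks_multiply]
      simp [jTwo_sq, ← Matrix.fromBlocks_one, Matrix.fromBlocks_smul, Matrix.fromBlocks_neg]
    calc S * S = Φ * (S₀ * (Ψ * Φ) * S₀) * Ψ := by simp only [S, Matrix.mul_assoc]
      _ = _ := by rw [hc.right, Matrix.mul_one, e, Matrix.mul_smul, Matrix.smul_mul, Matrix.mul_one, hc.left]
  haveI : Nonempty (Fin 2 ⊕ Fin 2) := ⟨Sum.inl 0⟩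
  have hK : IsFieldSubalgebra 2 (Algebra.adjoin F {S}) := fieldSub_of_sq (not_isSquare_neg_one hF) hSS
  have hsaS : ∀ x y, Cfsg.sympForm 2 F (S *ᵥ x) y = Cfsg.sympForm 2 F x (S *ᵥ y) := fun x y => by
    obtain ⟨x', rfl⟩ : ∃ x', x = Φ *ᵥ x' := ⟨Ψ *ᵥ x, by rw [Matrix.mulVec_mulVec, hc.left, Matrix.one_mulVec]⟩
    obtain ⟨y', rfl⟩ : ∃ y', y = Φ *ᵥ y' := ⟨Ψ *ᵥ y, by rw [Matrix.mulVec_mulVec, hc.left, Matrix.one_mulVec]⟩
    have e : ∀ z, S *ᵥ (Φ *ᵥ z) = Φ *ᵥ (S₀ *ᵥ z) := fun z => by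
      rw [Matrix.mulVec_mulVec, hS, Matrix.mul_assoc, hc.right, Matrix.mul_one, Matrix.mulVec_mulVec]
    have e2 : S₀ᵀ * Matrix.J (Fin 2) F = Matrix.J (Fin 2) F * S₀ := by
      rw [hS₀, show Matrix.J (Fin 2) F = Matrix.fromBlocks 0 (-1) 1 0 from rfl, Matrix.fromBlocks_transpose,
        Matrix.fromBlocks_multiply, Matrix.fromBlocks_multiply]
      simp [jTwo_transpose]
    rw [e, e, hf.apply_coords, hf.apply_coords, hG, RingEquiv.coe_refl, Function.id_comp, Function.id_comp,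
      ← Matrix.vecMul_transpose, ← Matrix.dotProduct_mulVec, Matrix.mulVec_mulVec, Matrix.mulVec_mulVec, e2]
  have hsa : IsSelfAdjointFor (Cfsg.sympForm 2 F) (Algebra.adjoin F {S}) := fun k hk => by
    induction hk using Algebra.adjoin_induction with
    | mem x hx => rw [Set.mem_singleton_iff] at hx; rw [hx]; exact hsaS
    | algebraMap r =>
      intro x y
      rw [Algebra.algebraMap_eq_smul_one, Matrix.smul_mulVec, Matrix.smul_mulVec, Matrix.one_mulVec, Matrix.one_mulVec,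
        hf.smul_left, hf.smul_right, RingEquiv.refl_apply]
    | add a b _ _ h1 h2 =>
      intro x y
      rw [Matrix.add_mulVec, Matrix.add_mulVec, hf.add_left, hf.add_right, h1, h2]
    | mul a b ha hb h1 h2 =>
      intro x y
      rw [← Matrix.mulVec_mulVec, h1, h2, Matrix.mulVec_mulVec, hK.comm _ hb _ ha]
  refine ⟨_, hK, hsa, fieldSub_alternating hK (sympForm_isSymplectic 2 F) hsa, fun h hh => ?_⟩
  obtain ⟨π, hπ⟩ := hle hh
  set T := Ψ * (h : Matrix (Fin 2 ⊕ Fin 2) (Fin 2 ⊕ Fin 2) F) * Φ with hT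
  have hact := hc.act_of_conj hT.symm
  have hTfix : Tᵀ * Matrix.J (Fin 2) F * T = Matrix.J (Fin 2) F := by
    have := hf.gramIn_fix (sp_fixes hH) hh hact
    rwa [RingEquiv.coe_refl, Matrix.map_id, hG] at this
  have hΨu : ∀ q, Ψ *ᵥ col q = Pi.single q 1 := fun q => by
    rw [show col q = Φ *ᵥ Pi.single q 1 by rw [Matrix.mulVec_single_one]; rfl, Matrix.mulVec_mulVec, hc.right,
      Matrix.one_mulVec]
  have hblk0 : ∀ x ∈ D 0, ∀ i, (Ψ *ᵥ x) (Sum.inr i) = 0 := fun x hx i => by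
    have hz : x = bU.repr ⟨x, hx⟩ 0 • u 0 + bU.repr ⟨x, hx⟩ 1 • u 1 := by
      have := congrArg Subtype.val (bU.sum_repr ⟨x, hx⟩).symm
      rwa [Fin.sum_univ_two] at this
    rw [hz, Matrix.mulVec_add, Matrix.mulVec_smul, Matrix.mulVec_smul, show Ψ *ᵥ u 0 = _ from hΨu (Sum.inl 0),
      show Ψ *ᵥ u 1 = _ from hΨu (Sum.inl 1)]
    simp
  have hblk1 : ∀ x ∈ D 1, ∀ i, (Ψ *ᵥ x) (Sum.inl i) = 0 := fun x hx i => by
    set y := Ψ *ᵥ x
    have hx' : x = Φ *ᵥ y := by rw [Matrix.mulVec_mulVec, hc.left, Matrix.one_mulVec]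
    have h1 := hs 1 x hx _ (w i).2
    rw [hx', show (w i : Fin 2 ⊕ Fin 2 → F) = Φ *ᵥ Pi.single (Sum.inr i) 1 by rw [Matrix.mulVec_single_one]; rfl,
      hf.apply_coords, hG, RingEquiv.coe_refl, Function.id_comp, Matrix.mulVec_single_one] at h1
    simpa [Matrix.J, dotProduct, Fintype.sum_sum_type, Matrix.one_apply] using h1
  have hcol : ∀ q p, T p q = (Ψ *ᵥ ((h : Matrix (Fin 2 ⊕ Fin 2) (Fin 2 ⊕ Fin 2) F) *ᵥ col q)) p := fun q p => by
    have e : (Ψ * (h : Matrix (Fin 2 ⊕ Fin 2) (Fin 2 ⊕ Fin 2) F) * Φ) *ᵥ Pi.single q 1 = fun p => T p q := by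
      rw [← hT, Matrix.mulVec_single_one]; rfl
    rw [show col q = Φ *ᵥ Pi.single q 1 by rw [Matrix.mulVec_single_one]; rfl, Matrix.mulVec_mulVec, Matrix.mulVec_mulVec]
    exact (congrFun e p).symm
  have himg : ∀ i, ∀ x ∈ D i, (h : Matrix (Fin 2 ⊕ Fin 2) (Fin 2 ⊕ Fin 2) F) *ᵥ x ∈ D (π i) := fun i x hx => by
    rw [← hπ i]; exact ⟨x, hx, Matrix.toLin'_apply _ _⟩
  obtain ⟨ε, hε, he⟩ := swap_dual hF hTfix (by
    have hinjπ := π.injective
    rcases (show π 0 = 0 ∨ π 0 = 1 from Fin.exists_fin_two.mp ⟨π 0, rfl⟩) with h0 | h0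
    · have h1 : π 1 = 1 := by
        rcases (show π 1 = 0 ∨ π 1 = 1 from Fin.exists_fin_two.mp ⟨π 1, rfl⟩) with e | e
        · exact absurd (hinjπ (e.trans h0.symm)) (by decide)
        · exact e
      refine Or.inl fun i j => ⟨?_, ?_⟩
      · rw [hcol]; exact hblk0 _ (h0 ▸ himg 0 _ (hu j)) i
      · rw [hcol]; exact hblk1 _ (h1 ▸ himg 1 _ (w j).2) i
    · have h1 : π 1 = 0 := by
        rcases (show π 1 = 0 ∨ π 1 = 1 from Fin.exists_fin_two.mp ⟨π 1, rfl⟩) with e | e
        · exact e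
        · exact absurd (hinjπ (e.trans h0.symm)) (by decide)
      refine Or.inr fun i j => ⟨?_, ?_⟩
      · rw [hcol]; exact hblk1 _ (h0 ▸ himg 0 _ (hu j)) i
      · rw [hcol]; exact hblk0 _ (h1 ▸ himg 1 _ (w j).2) i)
  refine mem_normalizer_adjoin hε ?_
  calc (h : Matrix (Fin 2 ⊕ Fin 2) (Fin 2 ⊕ Fin 2) F) * S = Φ * (T * S₀) * Ψ := by
        rw [hS, ← Matrix.mul_assoc, ← Matrix.mul_assoc, hact]; simp only [Matrix.mul_assoc]
    _ = ε • (Φ * (S₀ * T) * Ψ) := by rw [he, Matrix.mul_smul, Matrix.smul_mul]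
    _ = _ := by
        congr 1
        rw [hS, hT]
        simp only [Matrix.mul_assoc]
        rw [hc.left, Matrix.mul_one]

end Block

end Cfsg.Lib.Classical.Aschbacher
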