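import Cfsg.Agent.Classical.Aschbacher.SympFourThree

/-! Unitary fields in four variables over three elements lie in a group of symplectic type. -/

set_option autoImplicit false
set_option linter.unusedSimpArgs false
set_option linter.unusedSectionVars false
set_option linter.style.haveILetI false

namespace Cfsg.Lib.Classical.Aschbacher

open Matrix Cfsg.Geo
open scoped MatrixGroups Kronecker commutatorElement
open Cfsg.Lib.Classical.PrimeDim (val_mul_inv val_inv_mul mem_matrixSet eq_inf_of_maximal two_ne_zero_of_odd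
  mem_scalars_of_val_eq scalar_commute finrank_pi_card Normalises gl_det_ne_zero)

universe u

variable {F : Type u} [Field F] [Fintype F]

/-- Tensor products of two invertible matrices of degree two. -/
def kronHom (F : Type u) [Field F] : GL (Fin 2) F × GL (Fin 2) F →* GL (Fin 2 × Fin 2) F where
  toFun p := ⟨(p.1 : Matrix (Fin 2) (Fin 2) F) ⊗ₖ (p.2 : Matrix (Fin 2) (Fin 2) F),
    ((p.1⁻¹ : GL (Fin 2) F) : Matrix (Fin 2) (Fin 2) F) ⊗ₖ ((p.2⁻¹ : GL (Fin 2) F) : Matrix (Fin 2) (Fin 2) F),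
    by rw [← Matrix.mul_kronecker_mul, val_mul_inv, val_mul_inv, Matrix.one_kronecker_one],
    by rw [← Matrix.mul_kronecker_mul, val_inv_mul, val_inv_mul, Matrix.one_kronecker_one]⟩
  map_one' := Units.ext (by
    show ((1 : GL (Fin 2) F) : Matrix (Fin 2) (Fin 2) F) ⊗ₖ ((1 : GL (Fin 2) F) : Matrix (Fin 2) (Fin 2) F) = 1
    rw [Units.val_one, Matrix.one_kronecker_one])
  map_mul' p q := Units.ext (by
    show ((p * q).1 : Matrix (Fin 2) (Fin 2) F) ⊗ₖ ((p * q).2 : Matrix (Fin 2) (Fin 2) F) = (_ * _)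
    rw [Prod.fst_mul, Prod.snd_mul, Units.val_mul, Units.val_mul, Matrix.mul_kronecker_mul])

theorem kronHom_val (p : GL (Fin 2) F × GL (Fin 2) F) : (kronHom F p : Matrix (Fin 2 × Fin 2) (Fin 2 × Fin 2) F) =
    (p.1 : Matrix (Fin 2) (Fin 2) F) ⊗ₖ (p.2 : Matrix (Fin 2) (Fin 2) F) := rfl

theorem kron_one_cancel {a b : Matrix (Fin 2) (Fin 2) F}
    (h : a ⊗ₖ (1 : Matrix (Fin 2) (Fin 2) F) = b ⊗ₖ (1 : Matrix (Fin 2) (Fin 2) F)) : a = b := by
  ext i k
  have := congrFun (congrFun h (i, 0)) (k, 0)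
  simpa using this

theorem one_kron_cancel {a b : Matrix (Fin 2) (Fin 2) F}
    (h : (1 : Matrix (Fin 2) (Fin 2) F) ⊗ₖ a = (1 : Matrix (Fin 2) (Fin 2) F) ⊗ₖ b) : a = b := by
  ext i k
  have := congrFun (congrFun h (0, i)) (0, k)
  simpa using this

/-- The orthogonal group of the sum of two squares. -/
def orthTwo (F : Type u) [Field F] : Subgroup (GL (Fin 2) F) where
  carrier := {y | (y : Matrix (Fin 2) (Fin 2) F)ᵀ * (y : Matrix (Fin 2) (Fin 2) F) = 1}
  one_mem' := by simp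
  mul_mem' {a b} ha hb := by
    simp only [Set.mem_setOf_eq, Units.val_mul, Matrix.transpose_mul] at *
    rw [Matrix.mul_assoc, ← Matrix.mul_assoc _ (a : Matrix (Fin 2) (Fin 2) F), ha, Matrix.one_mul, hb]
  inv_mem' {a} ha := by
    simp only [Set.mem_setOf_eq] at *
    have e : ((a⁻¹ : GL (Fin 2) F) : Matrix (Fin 2) (Fin 2) F) = (a : Matrix (Fin 2) (Fin 2) F)ᵀ :=
      Units.inv_eq_of_mul_eq_one_left ha
    rw [e, Matrix.transpose_transpose, mul_eq_one_comm.mp ha]

/-- The similitudes of the sum of two squares. -/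
def simTwo (F : Type u) [Field F] : Subgroup (GL (Fin 2) F) where
  carrier := {y | ∃ κ : F, κ ≠ 0 ∧ (y : Matrix (Fin 2) (Fin 2) F)ᵀ * (y : Matrix (Fin 2) (Fin 2) F) = κ • 1}
  one_mem' := ⟨1, one_ne_zero, by simp⟩
  mul_mem' {a b} := fun ⟨k, hk, ha⟩ ⟨l, hl, hb⟩ => ⟨k * l, mul_ne_zero hk hl, by
    rw [Units.val_mul, Matrix.transpose_mul, Matrix.mul_assoc, ← Matrix.mul_assoc _ (a : Matrix (Fin 2) (Fin 2) F),
      ha, Matrix.smul_mul, Matrix.one_mul, Matrix.mul_smul, hb, smul_smul]⟩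
  inv_mem' {a} := fun ⟨k, hk, ha⟩ => ⟨k⁻¹, inv_ne_zero hk, by
    have e : ((a⁻¹ : GL (Fin 2) F) : Matrix (Fin 2) (Fin 2) F) = k⁻¹ • (a : Matrix (Fin 2) (Fin 2) F)ᵀ :=
      Units.inv_eq_of_mul_eq_one_left (by rw [Matrix.smul_mul, ha, smul_smul, inv_mul_cancel₀ hk, one_smul])
    have h2 : (a : Matrix (Fin 2) (Fin 2) F) * (k⁻¹ • (a : Matrix (Fin 2) (Fin 2) F)ᵀ) = 1 :=
      mul_eq_one_comm.mp (by rw [Matrix.smul_mul, ha, smul_smul, inv_mul_cancel₀ hk, one_smul])
    rw [Matrix.mul_smul] at h2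
    rw [e, Matrix.transpose_smul, Matrix.transpose_transpose, Matrix.smul_mul, Matrix.mul_smul, h2]⟩

theorem orthTwo_conj {b y : GL (Fin 2) F} (hb : b ∈ simTwo F) (hy : y ∈ orthTwo F) : b * y * b⁻¹ ∈ orthTwo F := by
  obtain ⟨k, hk, hb⟩ := hb
  have hy' : (y : Matrix (Fin 2) (Fin 2) F)ᵀ * (y : Matrix (Fin 2) (Fin 2) F) = 1 := hy
  show ((b * y * b⁻¹ : GL (Fin 2) F) : Matrix (Fin 2) (Fin 2) F)ᵀ * ((b * y * b⁻¹ : GL (Fin 2) F) : Matrix (Fin 2) (Fin 2) F) = 1
  obtain ⟨bm, hbm⟩ : ∃ bm, bm = ((b⁻¹ : GL (Fin 2) F) : Matrix (Fin 2) (Fin 2) F) := ⟨_, rfl⟩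
  have e : bm = k⁻¹ • (b : Matrix (Fin 2) (Fin 2) F)ᵀ := hbm.trans
    (Units.inv_eq_of_mul_eq_one_left (by rw [Matrix.smul_mul, hb, smul_smul, inv_mul_cancel₀ hk, one_smul]))
  have hbb : (b : Matrix (Fin 2) (Fin 2) F) * (b : Matrix (Fin 2) (Fin 2) F)ᵀ = k • 1 := by
    have h := val_mul_inv b
    rw [← hbm, e, Matrix.mul_smul] at h
    rw [← h, smul_smul, mul_inv_cancel₀ hk, one_smul]
  rw [Units.val_mul, Units.val_mul, ← hbm, Matrix.transpose_mul, Matrix.transpose_mul]
  calc bmᵀ * ((y : Matrix (Fin 2) (Fin 2) F)ᵀ * (b : Matrix (Fin 2) (Fin 2) F)ᵀ) *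
        ((b : Matrix (Fin 2) (Fin 2) F) * (y : Matrix (Fin 2) (Fin 2) F) * bm)
      = bmᵀ * ((y : Matrix (Fin 2) (Fin 2) F)ᵀ * ((b : Matrix (Fin 2) (Fin 2) F)ᵀ * (b : Matrix (Fin 2) (Fin 2) F)) *
        (y : Matrix (Fin 2) (Fin 2) F)) * bm := by simp only [Matrix.mul_assoc]
    _ = k • (bmᵀ * bm) := by
        rw [hb, Matrix.mul_smul, Matrix.mul_one, Matrix.smul_mul, hy', Matrix.mul_smul, Matrix.mul_one, Matrix.smul_mul]
    _ = 1 := by
        rw [e, Matrix.transpose_smul, Matrix.transpose_transpose, Matrix.smul_mul, Matrix.mul_smul, hbb, smul_smul,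
          smul_smul, smul_smul, show k * k⁻¹ * k⁻¹ * k = 1 by field_simp, one_smul]

/-- The elements of the orthogonal group over three elements. -/
theorem orthTwo_cases (hF : Fintype.card F = 3) {y : Matrix (Fin 2) (Fin 2) F} (hy : yᵀ * y = 1) :
    ∃ c : F, (c = 1 ∨ c = -1) ∧ (y = c • 1 ∨ y = c • jTwo F ∨ y = c • !![1, 0; 0, -1] ∨ y = c • !![0, 1; 1, 0]) := by
  have h2 : (2 : F) ≠ 0 := two_ne_zero_of_odd (by rw [hF]; decide)
  have e00 : y 0 0 * y 0 0 + y 1 0 * y 1 0 = 1 := by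
    simpa [Matrix.mul_apply, Fin.sum_univ_two] using congrFun (congrFun hy 0) 0
  have e01 : y 0 0 * y 0 1 + y 1 0 * y 1 1 = 0 := by
    simpa [Matrix.mul_apply, Fin.sum_univ_two] using congrFun (congrFun hy 0) 1
  have e11 : y 0 1 * y 0 1 + y 1 1 * y 1 1 = 1 := by
    simpa [Matrix.mul_apply, Fin.sum_univ_two] using congrFun (congrFun hy 1) 1
  have sq : ∀ x : F, x ≠ 0 → x * x = 1 := fun x hx => by
    rcases three_elts hF x with e | e | e
    · exact absurd e hx
    · rw [e, one_mul]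
    · rw [e]; ring
  have sgn : ∀ x : F, x ≠ 0 → x = 1 ∨ x = -1 := fun x hx => (three_elts hF x).resolve_left hx
  by_cases hp : y 0 0 = 0
  · rw [hp] at e00 e01
    have hr : y 1 0 ≠ 0 := fun e => by simp [e] at e00
    have hs : y 1 1 = 0 := by simpa [hr] using e01
    rw [hs] at e11
    have hq : y 0 1 ≠ 0 := fun e => by simp [e] at e11
    rcases sgn _ hq with q | q <;> rcases sgn _ hr with r | r
    · exact ⟨1, Or.inl rfl, Or.inr (Or.inr (Or.inr (by ext i j; fin_cases i <;> fin_cases j <;> simp [hp, hs, q, r])))⟩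
    · exact ⟨1, Or.inl rfl, Or.inr (Or.inl (by ext i j; fin_cases i <;> fin_cases j <;> simp [jTwo, hp, hs, q, r]))⟩
    · exact ⟨-1, Or.inr rfl, Or.inr (Or.inl (by ext i j; fin_cases i <;> fin_cases j <;> simp [jTwo, hp, hs, q, r]))⟩
    · exact ⟨-1, Or.inr rfl, Or.inr (Or.inr (Or.inr (by ext i j; fin_cases i <;> fin_cases j <;> simp [hp, hs, q, r])))⟩
  · have hr : y 1 0 = 0 := by
      by_contra e
      rw [sq _ hp, sq _ e] at e00
      exact one_ne_zero (show (1 : F) = 0 by linear_combination e00)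
    rw [hr] at e01
    have hq : y 0 1 = 0 := by simpa [hp] using e01
    rw [hq] at e11
    have hs : y 1 1 ≠ 0 := fun e => by simp [e] at e11
    rcases sgn _ hp with p | p <;> rcases sgn _ hs with s | s
    · exact ⟨1, Or.inl rfl, Or.inl (by ext i j; fin_cases i <;> fin_cases j <;> simp [hr, hq, p, s])⟩
    · exact ⟨1, Or.inl rfl, Or.inr (Or.inr (Or.inl (by ext i j; fin_cases i <;> fin_cases j <;> simp [hr, hq, p, s])))⟩
    · exact ⟨-1, Or.inr rfl, Or.inr (Or.inr (Or.inl (by ext i j; fin_cases i <;> fin_cases j <;> simp [hr, hq, p, s])))⟩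
    · exact ⟨-1, Or.inr rfl, Or.inl (by ext i j; fin_cases i <;> fin_cases j <;> simp [hr, hq, p, s])⟩

theorem quat_commutes (hF : Fintype.card F = 3) {a b : GL (Fin 2) F} (ha : a ∈ quatGroup hF) (hb : b ∈ quatGroup hF) :
    ∃ c : F, (a : Matrix (Fin 2) (Fin 2) F) * (b : Matrix (Fin 2) (Fin 2) F) =
      c • ((b : Matrix (Fin 2) (Fin 2) F) * (a : Matrix (Fin 2) (Fin 2) F)) := by
  rcases ha.2 with hat | h | h
  · rcases hb.2 with hbt | h | h
    · rcases trace_or_scalar hF hat ha.1 hbt hb.1 with t | t | t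
      · refine ⟨-1, ?_⟩
        have := anti_of_trace hat hbt
        rw [t, zero_smul] at this
        rw [neg_one_smul]; exact eq_neg_of_add_eq_zero_left this
      · exact ⟨1, by rw [one_smul, t, mul_eq_one_comm.mp t]⟩
      · refine ⟨1, ?_⟩
        rw [one_smul, t, ← neg_neg ((b : Matrix (Fin 2) (Fin 2) F) * _), ← Matrix.mul_neg,
          mul_eq_one_comm.mp (show -(a : Matrix (Fin 2) (Fin 2) F) * (b : Matrix (Fin 2) (Fin 2) F) = 1 by
            rw [Matrix.neg_mul, t, neg_neg])]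
    · exact ⟨1, by rw [h, Matrix.mul_one, Matrix.one_mul, one_smul]⟩
    · exact ⟨1, by rw [h, Matrix.mul_neg, Matrix.mul_one, Matrix.neg_mul, Matrix.one_mul, one_smul]⟩
  · exact ⟨1, by rw [h, Matrix.mul_one, Matrix.one_mul, one_smul]⟩
  · exact ⟨1, by rw [h, Matrix.mul_neg, Matrix.mul_one, Matrix.neg_mul, Matrix.one_mul, one_smul]⟩

/-- A matrix commuting with two generators of the quaternion group is scalar. -/
theorem scalar_of_commute_quat (h2 : (2 : F) ≠ 0) {q : Matrix (Fin 2) (Fin 2) F} (h : q * jTwo F = jTwo F * q)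
    (h' : q * !![1, 1; 1, -1] = !![1, 1; 1, -1] * q) : q = q 0 0 • 1 := by
  have a := congrFun (congrFun h 0) 0
  have b := congrFun (congrFun h 0) 1
  have c := congrFun (congrFun h' 0) 0
  simp [jTwo, Matrix.mul_apply, Fin.sum_univ_two] at a b c
  have hq : q 0 1 = 0 :=
    (mul_eq_zero.mp (show (2 : F) * q 0 1 = 0 by first | linear_combination c - a | linear_combination c + a | linear_combination a - c)).resolve_left h2
  rw [hq] at a
  ext i j
  fin_cases i <;> fin_cases j <;> simp [hq] <;> first | linear_combination a | linear_combination -a | linear_combination b | linear_combination -b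

set_option maxHeartbeats 1000000 in
/-- Over three elements the unitary field lies in a normaliser of symplectic type. -/
theorem sympType_of_unitField (hF : Fintype.card F = 3) {H : Subgroup (GL (Fin 2 ⊕ Fin 2) F)}
    (hH : IsMaximalIn (Cfsg.spGL 2 F) H) {K : Subalgebra F (Matrix (Fin 2 ⊕ Fin 2) (Fin 2 ⊕ Fin 2) F)}
    (hK : IsFieldSubalgebra 2 K) (hs : IsAdjointClosedFor (Cfsg.sympForm 2 F) K)
    (hns : ¬ IsSelfAdjointFor (Cfsg.sympForm 2 F) K) (hle : H ≤ subalgebraNormalizer K) :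
    ∃ (p : ℕ) (R : Subgroup (GL (Fin 2 ⊕ Fin 2) F)), p.Prime ∧ Fintype.card F = p ∧ IsSymplecticTypeGroup 2 R ∧
      ActsAbsolutelyIrreducibly (matrixSet R) ∧ R ≤ similarityGroup (Cfsg.sympForm 2 F) ∧ Nat.card R = 32 ∧
      Nat.card (Subgroup.center R) = 2 ∧ IsOfMinusType 2 R ∧ H = subgroupNormalizer R ⊓ Cfsg.spGL 2 F := by
  classical
  haveI : Nonempty (Fin 2 ⊕ Fin 2) := ⟨Sum.inl 0⟩
  have hf := sp_refl 2 F
  have h2 : (2 : F) ≠ 0 := two_ne_zero_of_odd (by rw [hF]; decide)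
  have hns1 := not_isSquare_neg_one (F := F) hF
  have hadjK : ∀ k ∈ K, hf.adj k ∈ K := fun k hk => by
    obtain ⟨k', hk', e⟩ := hs k hk
    rw [hf.adj_unique e]; exact hk'
  -- a skew square root of minus one
  obtain ⟨k, hk, hkne⟩ : ∃ k ∈ K, hf.adj k ≠ k := by
    by_contra h
    push Not at h
    exact hns fun k hk u v => by rw [hf.adj_spec, h k hk]
  set s := k + (-1 : F) • hf.adj k with hs_def
  have hsK : s ∈ K := K.add_mem hk (K.smul_mem (hadjK k hk) _)
  have hadjsmul : ∀ (c : F) (M : Matrix (Fin 2 ⊕ Fin 2) (Fin 2 ⊕ Fin 2) F), hf.adj (c • M) = c • hf.adj M :=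
    fun c M => by
      rw [show c • M = (c • (1 : Matrix (Fin 2 ⊕ Fin 2) (Fin 2 ⊕ Fin 2) F)) * M by rw [Matrix.smul_mul, Matrix.one_mul],
        hf.adj_mul, hf.adj_smul_one, RingEquiv.refl_apply, Matrix.mul_smul, Matrix.mul_one]
  have hsadj : hf.adj s = -s := by
    rw [hs_def, hf.adj_add, hadjsmul, hf.adj_adj]; module
  have hs0 : s ≠ 0 := fun e => hkne (by
    rw [hs_def, neg_one_smul, ← sub_eq_add_neg, sub_eq_zero] at e; exact e.symm)
  have hone : ∀ c : F, hf.adj (c • 1) = c • (1 : Matrix (Fin 2 ⊕ Fin 2) (Fin 2 ⊕ Fin 2) F) := fun c => by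
    rw [hf.adj_smul_one, RingEquiv.refl_apply]
  have hind : ∀ p q : F, p • (1 : Matrix (Fin 2 ⊕ Fin 2) (Fin 2 ⊕ Fin 2) F) + q • s = 0 → p = 0 ∧ q = 0 := by
    intro p q e
    have e' := congrArg hf.adj e
    rw [hf.adj_add, hone, hadjsmul, hsadj, smul_neg,
      show hf.adj (0 : Matrix (Fin 2 ⊕ Fin 2) (Fin 2 ⊕ Fin 2) F) = 0 by
        have := hone 0; rwa [zero_smul] at this] at e'
    have e1 : ((2 : F) * p) • (1 : Matrix (Fin 2 ⊕ Fin 2) (Fin 2 ⊕ Fin 2) F) = 0 :=
      calc _ = (p • (1 : Matrix (Fin 2 ⊕ Fin 2) (Fin 2 ⊕ Fin 2) F) + q • s) + (p • 1 + -(q • s)) := by module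
        _ = 0 := by rw [e, e', add_zero]
    have hp0 : p = 0 := (mul_eq_zero.mp ((smul_eq_zero.mp e1).resolve_right one_ne_zero)).resolve_left h2
    rw [hp0, zero_smul, zero_add] at e
    exact ⟨hp0, (smul_eq_zero.mp e).resolve_right hs0⟩
  have hspan : ∀ x ∈ K, ∃ p q : F, x = p • 1 + q • s := by
    let L : (Fin 2 → F) →ₗ[F] K :=
      { toFun := fun c => ⟨c 0 • 1 + c 1 • s, K.add_mem (K.smul_mem K.one_mem _) (K.smul_mem hsK _)⟩
        map_add' := fun c d => Subtype.ext (by simp only [Pi.add_apply, Subalgebra.coe_add, add_smul]; abel)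
        map_smul' := fun r c => Subtype.ext (by
          simp only [Pi.smul_apply, smul_eq_mul, RingHom.id_apply, Subalgebra.coe_smul, smul_add, smul_smul]) }
    have hLi : Function.Injective L := (injective_iff_map_eq_zero L).mpr fun c hc => by
      obtain ⟨a, b⟩ := hind _ _ (congrArg Subtype.val hc)
      funext i; fin_cases i <;> assumption
    haveI : FiniteDimensional F K := FiniteDimensional.finiteDimensional_subalgebra K
    have hLs : Function.Surjective L :=
      (LinearMap.injective_iff_surjective_of_finrank_eq_finrank (by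
        rw [hK.finrank_eq, Module.finrank_pi, Fintype.card_fin])).mp hLi
    intro x hx
    obtain ⟨c, hc⟩ := hLs ⟨x, hx⟩
    exact ⟨c 0, c 1, (congrArg Subtype.val hc).symm⟩
  obtain ⟨a, b, hab⟩ := hspan (s * s) (K.mul_mem hsK hsK)
  have hb0 : b = 0 := by
    have e := congrArg hf.adj hab
    rw [hf.adj_mul, hsadj, hf.adj_add, hone, hadjsmul, hsadj, neg_mul_neg, hab] at e
    have e1 : (2 : F) • (b • s) = 0 := by
      rw [two_smul]
      have := add_left_cancel e
      rw [smul_neg, eq_neg_iff_add_eq_zero] at this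
      exact this
    exact (smul_eq_zero.mp ((smul_eq_zero.mp e1).resolve_left h2)).resolve_right hs0
  rw [hb0, zero_smul, add_zero] at hab
  have hI : s * s = -1 := by
    rcases three_elts hF a with e | e | e
    · exfalso
      obtain ⟨y, -, hy⟩ := hK.inv s hsK hs0
      rw [e, zero_smul] at hab
      exact hs0 (by rw [← mul_one s, ← hy, ← mul_assoc, hab, zero_mul])
    · exfalso
      rw [e, one_smul] at hab
      have hp1 : s - 1 ≠ 0 := fun e0 => one_ne_zero (hind (-1) 1 (by rw [← e0]; module)).2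
      obtain ⟨y, -, hy⟩ := hK.inv (s - 1) (K.sub_mem hsK K.one_mem) hp1
      have h0 : (s + 1) * (s - 1) = 0 := by
        rw [add_mul, mul_sub, mul_sub, hab, one_mul, one_mul, mul_one]; abel
      have h1 : s + 1 = 0 :=
        calc s + 1 = (s + 1) * ((s - 1) * y) := by rw [hy, mul_one]
          _ = 0 := by rw [← mul_assoc, h0, zero_mul]
      exact one_ne_zero (hind 1 1 (by rw [← h1]; module)).2
    · rw [hab, e, neg_one_smul]
  have hskew : ∀ x y, Cfsg.sympForm 2 F (s *ᵥ x) y = -Cfsg.sympForm 2 F x (s *ᵥ y) := fun x y => by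
    rw [hf.adj_spec, hsadj, Matrix.neg_mulVec, ← neg_one_smul F (s *ᵥ y), hf.smul_right, RingEquiv.refl_apply, neg_one_mul]
  have hss : ∀ x : Fin 2 ⊕ Fin 2 → F, s *ᵥ (s *ᵥ x) = -x := fun x => by
    rw [Matrix.mulVec_mulVec, hI, Matrix.neg_mulVec, Matrix.one_mulVec]
  have hII : ∀ x y, Cfsg.sympForm 2 F (s *ᵥ x) (s *ᵥ y) = Cfsg.sympForm 2 F x y := fun x y => by
    rw [hskew, hss, ← neg_one_smul F y, hf.smul_right, RingEquiv.refl_apply]; ring
  have hsk := (sympForm_isSymplectic 2 F).skew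
  have hsy : ∀ x y, Cfsg.sympForm 2 F x (s *ᵥ y) = Cfsg.sympForm 2 F y (s *ᵥ x) := fun x y => by
    rw [hsk x, hskew, neg_neg]
  -- an isotropic vector
  obtain ⟨v, hv0, hv⟩ : ∃ v : Fin 2 ⊕ Fin 2 → F, v ≠ 0 ∧ Cfsg.sympForm 2 F v (s *ᵥ v) = 0 := by
    obtain ⟨v₀, hv₀⟩ := exists_ne (α := Fin 2 ⊕ Fin 2 → F) 0
    set a₀ := Cfsg.sympForm 2 F v₀ (s *ᵥ v₀) with ha₀
    by_cases ha : a₀ = 0
    · exact ⟨v₀, hv₀, ha⟩
    let ev : (Fin 2 ⊕ Fin 2 → F) →ₗ[F] (Fin 2 → F) :=
      { toFun := fun x => ![Cfsg.sympForm 2 F v₀ x, Cfsg.sympForm 2 F (s *ᵥ v₀) x]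
        map_add' := fun x y => by funext i; fin_cases i <;> simp [hf.add_right]
        map_smul' := fun c x => by funext i; fin_cases i <;> simp [hf.smul_right] }
    obtain ⟨u, hu, hu0⟩ := (Submodule.ne_bot_iff (LinearMap.ker ev)).mp fun e => by
      have := LinearMap.finrank_le_finrank_of_injective (LinearMap.ker_eq_bot.mp e)
      rw [finrank_pi_card, finrank_pi_card, card_sum_fin, Fintype.card_fin] at this
      omega
    have u1 : Cfsg.sympForm 2 F v₀ u = 0 := congrFun hu 0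
    have u2 : Cfsg.sympForm 2 F (s *ᵥ v₀) u = 0 := congrFun hu 1
    set b₀ := Cfsg.sympForm 2 F u (s *ᵥ u) with hb₀
    obtain ⟨x, y, hxy⟩ : ∃ x y : F, (x * x + y * y) * a₀ + b₀ = 0 := by
      have h3 := three_zero hF
      rcases three_elts hF (-b₀ / a₀) with e | e | e
      · exact ⟨0, 0, by rw [div_eq_iff ha] at e; linear_combination -e⟩
      · exact ⟨1, 0, by rw [div_eq_iff ha] at e; linear_combination -e⟩
      · exact ⟨1, 1, by rw [div_eq_iff ha] at e; linear_combination -e + a₀ * h3⟩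
    refine ⟨x • v₀ + y • (s *ᵥ v₀) + u, fun e => hu0 ?_, ?_⟩
    · have ey : y = 0 := by
        have := congrArg (fun z => Cfsg.sympForm 2 F v₀ z) e
        simp only [hf.add_right, hf.smul_right, RingEquiv.refl_apply, sympForm_self, hf.zero_right, u1, ← ha₀] at this
        simpa [ha] using this
      have ex : x = 0 := by
        have := congrArg (fun z => Cfsg.sympForm 2 F (s *ᵥ v₀) z) e
        simp only [hf.add_right, hf.smul_right, RingEquiv.refl_apply, sympForm_self, hf.zero_right, u2,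
          hskew v₀ v₀, ← ha₀] at this
        simpa [ha] using this
      simpa [ex, ey] using e
    · have t1 : Cfsg.sympForm 2 F v₀ (s *ᵥ u) = 0 := by
        have := hskew v₀ u; rw [u2] at this; linear_combination this
      have t2 : Cfsg.sympForm 2 F u (s *ᵥ v₀) = 0 := by rw [hsy]; exact t1
      have t3 : Cfsg.sympForm 2 F u v₀ = 0 := hf.eq_zero_symm u1
      have t4 : Cfsg.sympForm 2 F (s *ᵥ v₀) v₀ = -a₀ := hskew v₀ v₀
      have hm : ∀ z : Fin 2 ⊕ Fin 2 → F, -z = (-1 : F) • z := fun z => (neg_one_smul F z).symm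
      simp only [Matrix.mulVec_add, Matrix.mulVec_smul, hss, hm, hf.add_left, hf.add_right, hf.smul_left, hf.smul_right,
        RingEquiv.refl_apply, sympForm_self, hII, u1, u2, t1, t2, t3, t4, ← ha₀, ← hb₀]
      linear_combination hxy
  -- a partner
  let ev : (Fin 2 ⊕ Fin 2 → F) →ₗ[F] (Fin 2 → F) :=
    { toFun := fun x => ![Cfsg.sympForm 2 F v x, Cfsg.sympForm 2 F (s *ᵥ v) x]
      map_add' := fun x y => by funext i; fin_cases i <;> simp [hf.add_right]
      map_smul' := fun c x => by funext i; fin_cases i <;> simp [hf.smul_right] }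
  have hevs : Function.Surjective ev := by
    obtain ⟨z, hz⟩ := (hf.nondegenerate v hv0).2
    intro t
    set p := Cfsg.sympForm 2 F v z
    set q := Cfsg.sympForm 2 F (s *ᵥ v) z
    have hzs1 : Cfsg.sympForm 2 F v (s *ᵥ z) = -q := by
      have := hskew v z; linear_combination this
    have hzs2 : Cfsg.sympForm 2 F (s *ᵥ v) (s *ᵥ z) = p := hII v z
    have hd : p * p + q * q ≠ 0 := fun e => hns1 ⟨q / p, by field_simp; linear_combination -e⟩
    refine ⟨((t 0 * p + t 1 * q) / (p * p + q * q)) • z + ((t 1 * p - t 0 * q) / (p * p + q * q)) • (s *ᵥ z), ?_⟩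
    funext i
    fin_cases i
    · show Cfsg.sympForm 2 F v _ = t 0
      simp only [hf.add_right, hf.smul_right, RingEquiv.refl_apply, hzs1]
      rw [show Cfsg.sympForm 2 F v z = p from rfl]
      rw [div_mul_eq_mul_div, div_mul_eq_mul_div, ← add_div, div_eq_iff hd]; ring
    · show Cfsg.sympForm 2 F (s *ᵥ v) _ = t 1
      simp only [hf.add_right, hf.smul_right, RingEquiv.refl_apply, hzs2]
      rw [show Cfsg.sympForm 2 F (s *ᵥ v) z = q from rfl]
      rw [div_mul_eq_mul_div, div_mul_eq_mul_div, ← add_div, div_eq_iff hd]; ring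
  obtain ⟨w₀, hw₀⟩ := hevs ![1, 0]
  have w1 : Cfsg.sympForm 2 F v w₀ = 1 := congrFun hw₀ 0
  have w2 : Cfsg.sympForm 2 F (s *ᵥ v) w₀ = 0 := congrFun hw₀ 1
  set lam := -(Cfsg.sympForm 2 F w₀ (s *ᵥ w₀)) / 2 with hlam
  set w := w₀ + lam • (s *ᵥ v) with hw
  have hvsv' : Cfsg.sympForm 2 F (s *ᵥ v) v = 0 := by rw [hskew, hv, neg_zero]
  have g1 : Cfsg.sympForm 2 F v w = 1 := by
    simp only [hw, hf.add_right, hf.smul_right, RingEquiv.refl_apply, w1, hv]; ring
  have g2 : Cfsg.sympForm 2 F (s *ᵥ v) w = 0 := by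
    simp only [hw, hf.add_right, hf.smul_right, RingEquiv.refl_apply, w2, sympForm_self]; ring
  have g3 : Cfsg.sympForm 2 F v (s *ᵥ w) = 0 := by
    have := hskew v w; rw [g2] at this; linear_combination this
  have g4 : Cfsg.sympForm 2 F w (s *ᵥ w) = 0 := by
    have r1 : Cfsg.sympForm 2 F w₀ v = -1 := by rw [hsk, w1]
    have hm : ∀ z : Fin 2 ⊕ Fin 2 → F, -z = (-1 : F) • z := fun z => (neg_one_smul F z).symm
    simp only [hw, Matrix.mulVec_add, Matrix.mulVec_smul, hss, hm, hf.add_left, hf.add_right, hf.smul_left, hf.smul_right,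
      RingEquiv.refl_apply, hII, w1, r1, hvsv', hlam]
    field_simp
    ring
  -- coordinates
  let col : Fin 2 × Fin 2 → (Fin 2 ⊕ Fin 2 → F) := fun p =>
    if p.1 = 0 then (if p.2 = 0 then v else -(s *ᵥ v)) else (if p.2 = 0 then w else -(s *ᵥ w))
  let Φ : Matrix (Fin 2 ⊕ Fin 2) (Fin 2 × Fin 2) F := Matrix.of fun i p => col p i
  have hG : hf.gramIn Φ = jTwo F ⊗ₖ (1 : Matrix (Fin 2) (Fin 2) F) := by
    have hnl : ∀ x y, Cfsg.sympForm 2 F (-x) y = -Cfsg.sympForm 2 F x y := fun x y => by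
      rw [← neg_one_smul F x, hf.smul_left, neg_one_mul]
    have hnr : ∀ x y, Cfsg.sympForm 2 F x (-y) = -Cfsg.sympForm 2 F x y := fun x y => by
      rw [← neg_one_smul F y, hf.smul_right, RingEquiv.refl_apply, neg_one_mul]
    have r1 : Cfsg.sympForm 2 F w v = -1 := by rw [hsk, g1]
    have r2 : Cfsg.sympForm 2 F w (s *ᵥ v) = 0 := hf.eq_zero_symm g2
    have r3 : Cfsg.sympForm 2 F (s *ᵥ w) v = 0 := hf.eq_zero_symm g3
    have r4 : Cfsg.sympForm 2 F (s *ᵥ w) w = 0 := hf.eq_zero_symm g4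
    ext ⟨i, j⟩ ⟨k, l⟩
    rw [gramIn_entry]
    show Cfsg.sympForm 2 F (col (i, j)) (col (k, l)) = _
    fin_cases i <;> fin_cases j <;> fin_cases k <;> fin_cases l <;>
      simp [col, jTwo, hnl, hnr, hII, sympForm_self, hv, hvsv', g1, g2, g3, g4, r1, r2, r3, r4]
  let e4 : (Fin 2 ⊕ Fin 2) ≃ Fin 2 × Fin 2 := finSumFinEquiv.trans (finProdFinEquiv (m := 2) (n := 2)).symm
  obtain ⟨Ψ, hc⟩ := coords_of_gram hf e4 (Φ := Φ) (by
    rw [hG, Matrix.det_kronecker]; simp [jTwo, Matrix.det_fin_two])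
  have hsΦ : s * Φ = Φ * ((1 : Matrix (Fin 2) (Fin 2) F) ⊗ₖ jTwo F) := by
    ext i ⟨k, l⟩
    have el : (s * Φ) i (k, l) = (s *ᵥ col (k, l)) i := rfl
    rw [el, Matrix.mul_apply, Fintype.sum_prod_type, Fin.sum_univ_two, Fin.sum_univ_two, Fin.sum_univ_two]
    fin_cases k <;> fin_cases l <;> simp [Φ, col, jTwo, Matrix.mulVec_neg, hss]
  set L := (hc.lift).comp (kronHom F)
  have hL : ∀ p, Ψ * (L p : Matrix (Fin 2 ⊕ Fin 2) (Fin 2 ⊕ Fin 2) F) * Φ =
      (p.1 : Matrix (Fin 2) (Fin 2) F) ⊗ₖ (p.2 : Matrix (Fin 2) (Fin 2) F) := fun p =>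
    (hc.conj_lift _).trans (kronHom_val p)
  set Q := quatGroup (F := F) hF
  set R := (Q.prod (orthTwo F)).map L with hR
  set G := ((⊤ : Subgroup (GL (Fin 2) F)).prod (simTwo F)).map L with hG'
  have hQn : ∀ g : GL (Fin 2) F, ∀ x ∈ Q, g * x * g⁻¹ ∈ Q := fun g x hx => by
    have hd : ((g * x * g⁻¹ : GL (Fin 2) F) : Matrix (Fin 2) (Fin 2) F) =
        (g : Matrix (Fin 2) (Fin 2) F) * (x : Matrix (Fin 2) (Fin 2) F) *
          ((g⁻¹ : GL (Fin 2) F) : Matrix (Fin 2) (Fin 2) F) := by rw [Units.val_mul, Units.val_mul]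
    refine ⟨by rw [hd, Matrix.det_units_conj, hx.1], ?_⟩
    rcases hx.2 with h | h | h
    · exact Or.inl (by rw [hd, Matrix.trace_units_conj, h])
    · exact Or.inr (Or.inl (by rw [hd, h, Matrix.mul_one, val_mul_inv]))
    · exact Or.inr (Or.inr (by rw [hd, h, Matrix.mul_neg, Matrix.mul_one, Matrix.neg_mul, val_mul_inv]))
  have hn : Normalises G R := by
    rintro _ ⟨⟨g, b⟩, ⟨-, hb⟩, rfl⟩ _ ⟨⟨q, y⟩, ⟨hq, hy⟩, rfl⟩
    exact ⟨(g * q * g⁻¹, b * y * b⁻¹), ⟨hQn g q hq, orthTwo_conj hb hy⟩, by rw [← map_inv, ← map_mul, ← map_mul]; rfl⟩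
  have hsp : R ≤ Cfsg.spGL 2 F := by
    rintro _ ⟨⟨q, y⟩, ⟨hq, hy⟩, rfl⟩
    refine mem_sp_of_gram hc (hL (q, y)) ?_
    rw [hG, kron_transpose, ← Matrix.mul_kronecker_mul, ← Matrix.mul_kronecker_mul, jTwo_conj, hq.1, one_smul,
      Matrix.mul_one, show ((y : Matrix (Fin 2) (Fin 2) F)ᵀ * (y : Matrix (Fin 2) (Fin 2) F)) = 1 from hy]
  -- generators
  let I : GL (Fin 2) F := Matrix.GeneralLinearGroup.mkOfDetNeZero (jTwo F) (by simp [jTwo, Matrix.det_fin_two])
  let J : GL (Fin 2) F := Matrix.GeneralLinearGroup.mkOfDetNeZero !![1, 1; 1, -1] (by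
    simp [Matrix.det_fin_two]; intro e; exact h2 (by linear_combination -e))
  let D : GL (Fin 2) F := Matrix.GeneralLinearGroup.mkOfDetNeZero !![1, 0; 0, -1] (by simp [Matrix.det_fin_two])
  let B : GL (Fin 2) F := Matrix.GeneralLinearGroup.mkOfDetNeZero !![1, 1; -1, 1] (by
    simp [Matrix.det_fin_two]; intro e; exact h2 (by linear_combination e))
  have h3 := three_zero hF
  have hI' : I ∈ Q := ⟨by simp [I, jTwo, Matrix.det_fin_two], Or.inl (by simp [I, jTwo, Matrix.trace_fin_two])⟩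
  have hJ' : J ∈ Q := ⟨by simp [J, Matrix.det_fin_two]; linear_combination -h3, Or.inl (by simp [J, Matrix.trace_fin_two])⟩
  have hIo : I ∈ orthTwo F := by
    show (jTwo F)ᵀ * jTwo F = 1
    rw [jTwo_transpose, Matrix.neg_mul, jTwo_sq, neg_neg]
  have hDo : D ∈ orthTwo F := by
    show (!![1, 0; 0, -1] : Matrix (Fin 2) (Fin 2) F)ᵀ * !![1, 0; 0, -1] = 1
    ext i j; fin_cases i <;> fin_cases j <;> simp [Matrix.mul_apply]
  have hBs : B ∈ simTwo F := ⟨2, h2, by
    show (!![1, 1; -1, 1] : Matrix (Fin 2) (Fin 2) F)ᵀ * !![1, 1; -1, 1] = _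
    ext i j; fin_cases i <;> fin_cases j <;> simp [Matrix.mul_apply] <;> ring⟩
  have hmemR : ∀ q y, q ∈ Q → y ∈ orthTwo F → L (q, y) ∈ R := fun q y hq hy => ⟨(q, y), ⟨hq, hy⟩, rfl⟩
  have hval : ∀ x ∈ R, ∃ q ∈ Q, ∃ y ∈ orthTwo F, L (q, y) = x := by
    rintro _ ⟨⟨q, y⟩, ⟨hq, hy⟩, rfl⟩; exact ⟨q, hq, y, hy, rfl⟩
  -- symplectic type
  have hspanR : ∀ X, X ∈ Submodule.span F (matrixSet R) := fun X => by
    let Sp := Submodule.span F (matrixSet R)
    have hgen : ∀ q ∈ Q, ∀ y ∈ orthTwo F,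
        Φ * ((q : Matrix (Fin 2) (Fin 2) F) ⊗ₖ (y : Matrix (Fin 2) (Fin 2) F)) * Ψ ∈ Sp := fun q hq y hy => by
      rw [← hL (q, y), hc.unconj_conj]
      exact Submodule.subset_span (mem_matrixSet (hmemR q y hq hy))
    let bil : Matrix (Fin 2) (Fin 2) F → Matrix (Fin 2) (Fin 2) F →ₗ[F] Matrix (Fin 2 ⊕ Fin 2) (Fin 2 ⊕ Fin 2) F :=
      fun M =>
        { toFun := fun N => Φ * (M ⊗ₖ N : Matrix (Fin 2 × Fin 2) (Fin 2 × Fin 2) F) * Ψ
          map_add' := fun N N' => by rw [Matrix.kronecker_add, Matrix.mul_add, Matrix.add_mul]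
          map_smul' := fun c N => by rw [Matrix.kronecker_smul, Matrix.mul_smul, Matrix.smul_mul]; rfl }
    have hO : ∀ N : Matrix (Fin 2) (Fin 2) F, N ∈ Submodule.span F (matrixSet (orthTwo F)) := fun N => by
      have a1 := Submodule.subset_span (R := F) (mem_matrixSet (orthTwo F).one_mem)
      have a2 := Submodule.subset_span (R := F) (mem_matrixSet hIo)
      have a3 := Submodule.subset_span (R := F) (mem_matrixSet hDo)
      have a4 := Submodule.subset_span (R := F) (mem_matrixSet ((orthTwo F).mul_mem hDo hIo))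
      have hN : N = (-(N 0 0 + N 1 1)) • ((1 : GL (Fin 2) F) : Matrix (Fin 2) (Fin 2) F) +
          (-(N 0 1 - N 1 0)) • (I : Matrix (Fin 2) (Fin 2) F) + (-(N 0 0 - N 1 1)) • (D : Matrix (Fin 2) (Fin 2) F) +
          (-(N 0 1 + N 1 0)) • ((D * I : GL (Fin 2) F) : Matrix (Fin 2) (Fin 2) F) := by
        ext i j
        fin_cases i <;> fin_cases j <;> simp [I, D, jTwo, Matrix.mul_apply, Fin.sum_univ_two] <;>
          first
            | linear_combination (N 0 0) * h3
            | linear_combination (N 0 1) * h3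
            | linear_combination (N 1 0) * h3
            | linear_combination (N 1 1) * h3
      rw [hN]
      exact add_mem (add_mem (add_mem (Submodule.smul_mem _ _ a1) (Submodule.smul_mem _ _ a2))
        (Submodule.smul_mem _ _ a3)) (Submodule.smul_mem _ _ a4)
    have hQs : ∀ M : Matrix (Fin 2) (Fin 2) F, M ∈ Submodule.span F (matrixSet Q) := fun M => by
      have a1 := Submodule.subset_span (R := F) (mem_matrixSet Q.one_mem)
      have a2 := Submodule.subset_span (R := F) (mem_matrixSet hI')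
      have a3 := Submodule.subset_span (R := F) (mem_matrixSet hJ')
      have a4 := Submodule.subset_span (R := F) (mem_matrixSet (Q.mul_mem hI' hJ'))
      have hM : M = (-(M 0 0 + M 1 1)) • ((1 : GL (Fin 2) F) : Matrix (Fin 2) (Fin 2) F) +
          (-(M 0 1 - M 1 0)) • (I : Matrix (Fin 2) (Fin 2) F) +
          (M 0 0 - M 1 1 + M 0 1 + M 1 0) • (J : Matrix (Fin 2) (Fin 2) F) +
          (M 0 0 - M 1 1 - M 0 1 - M 1 0) • ((I * J : GL (Fin 2) F) : Matrix (Fin 2) (Fin 2) F) := by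
        ext i j
        fin_cases i <;> fin_cases j <;> simp [I, J, jTwo, Matrix.mul_apply, Fin.sum_univ_two] <;>
          first
            | linear_combination (M 0 0) * h3
            | linear_combination (M 0 1) * h3
            | linear_combination (M 1 0) * h3
            | linear_combination (M 1 1) * h3
            | linear_combination -(M 0 0) * h3
            | linear_combination -(M 0 1) * h3
            | linear_combination -(M 1 0) * h3
            | linear_combination -(M 1 1) * h3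
      rw [hM]
      exact add_mem (add_mem (add_mem (Submodule.smul_mem _ _ a1) (Submodule.smul_mem _ _ a2))
        (Submodule.smul_mem _ _ a3)) (Submodule.smul_mem _ _ a4)
    have key : ∀ M N : Matrix (Fin 2) (Fin 2) F, Φ * (M ⊗ₖ N) * Ψ ∈ Sp := fun M N => by
      have h1 : ∀ q ∈ Q, bil (q : Matrix (Fin 2) (Fin 2) F) N ∈ Sp := fun q hq => by
        have := hO N
        induction this using Submodule.span_induction with
        | mem y hy => obtain ⟨y, hy, rfl⟩ := hy; exact hgen q hq y hy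
        | zero => rw [map_zero]; exact zero_mem _
        | add a b _ _ ha hb => rw [map_add]; exact add_mem ha hb
        | smul c a _ ha => rw [map_smul]; exact Submodule.smul_mem _ c ha
      have := hQs M
      induction this using Submodule.span_induction with
      | mem q hq => obtain ⟨q, hq, rfl⟩ := hq; exact h1 q hq
      | zero => simp
      | add a b _ _ ha hb => rw [Matrix.add_kronecker, Matrix.mul_add, Matrix.add_mul]; exact add_mem ha hb
      | smul c a _ ha => rw [Matrix.smul_kronecker, Matrix.mul_smul, Matrix.smul_mul]; exact Submodule.smul_mem _ c ha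
    rw [← hc.unconj_conj X, Matrix.matrix_eq_sum_single (Ψ * X * Φ), Matrix.mul_sum, Matrix.sum_mul]
    refine Submodule.sum_mem _ fun p _ => ?_
    rw [Matrix.mul_sum, Matrix.sum_mul]
    refine Submodule.sum_mem _ fun q _ => ?_
    rw [show Matrix.single p q ((Ψ * X * Φ) p q) =
      Matrix.single p.1 q.1 ((Ψ * X * Φ) p q) ⊗ₖ Matrix.single p.2 q.2 (1 : F) by
      ext ⟨i, j⟩ ⟨k, l⟩
      simp only [Matrix.kroneckerMap_apply, Matrix.single_apply]
      by_cases h1 : p.1 = i ∧ q.1 = k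
      · by_cases h2 : p.2 = j ∧ q.2 = l
        · rw [if_pos h1, if_pos h2, if_pos ⟨Prod.ext h1.1 h2.1, Prod.ext h1.2 h2.2⟩, mul_one]
        · rw [if_neg h2, if_neg (fun h => h2 ⟨congrArg Prod.snd h.1, congrArg Prod.snd h.2⟩), mul_zero]
      · rw [if_neg h1, if_neg (fun h => h1 ⟨congrArg Prod.fst h.1, congrArg Prod.fst h.2⟩), zero_mul]]
    exact key _ _
  have hcomm2 : ∀ x ∈ orthTwo F, ∀ y ∈ orthTwo F, ∃ c : F, (x : Matrix (Fin 2) (Fin 2) F) * (y : Matrix (Fin 2) (Fin 2) F) =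
      c • ((y : Matrix (Fin 2) (Fin 2) F) * (x : Matrix (Fin 2) (Fin 2) F)) := fun x hx y hy => by
    obtain ⟨c, -, hxc⟩ := orthTwo_cases hF hx
    obtain ⟨d, -, hyd⟩ := orthTwo_cases hF hy
    rcases hxc with e | e | e | e <;> rcases hyd with e' | e' | e' | e' <;> rw [e, e'] <;>
      first
        | (refine ⟨1, ?_⟩; ext i j; fin_cases i <;> fin_cases j <;> simp [jTwo, Matrix.mul_apply] <;> ring; done)
        | (refine ⟨-1, ?_⟩; ext i j; fin_cases i <;> fin_cases j <;> simp [jTwo, Matrix.mul_apply] <;> ring; done)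
  have hN : SympN 2 R := by
    refine ⟨absIrred_of_span hspanR, ?_, fun hle' => ?_, Nat.prime_two, ?_⟩
    · rintro _ ⟨⟨q, y⟩, ⟨hq, hy⟩, rfl⟩ _ ⟨⟨q', y'⟩, ⟨hq', hy'⟩, rfl⟩
      rw [← map_commutatorElement]
      obtain ⟨c, hc'⟩ := quat_commutes hF hq hq'
      obtain ⟨d, hd'⟩ := hcomm2 _ hy _ hy'
      refine hc.mem_scalars (c := c * d) ((hL _).trans ?_)
      have e1 : ((⁅q, q'⁆ : GL (Fin 2) F) : Matrix (Fin 2) (Fin 2) F) = c • 1 := by
        rw [show ⁅q, q'⁆ = (q * q') * (q' * q)⁻¹ by rw [commutatorElement_def]; group, Units.val_mul, Units.val_mul, hc',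
          Matrix.smul_mul, ← Units.val_mul, ← Units.val_mul, mul_inv_cancel, Units.val_one]
      have e2 : ((⁅y, y'⁆ : GL (Fin 2) F) : Matrix (Fin 2) (Fin 2) F) = d • 1 := by
        rw [show ⁅y, y'⁆ = (y * y') * (y' * y)⁻¹ by rw [commutatorElement_def]; group, Units.val_mul, Units.val_mul, hd',
          Matrix.smul_mul, ← Units.val_mul, ← Units.val_mul, mul_inv_cancel, Units.val_one]
      show ((⁅q, q'⁆ : GL (Fin 2) F) : Matrix (Fin 2) (Fin 2) F) ⊗ₖ ((⁅y, y'⁆ : GL (Fin 2) F) : Matrix (Fin 2) (Fin 2) F) = _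
      rw [e1, e2, Matrix.smul_kronecker, Matrix.kronecker_smul, Matrix.one_kronecker_one, smul_smul]
    · obtain ⟨c, hc'⟩ := (mem_scalars_iff _).mp (hle' (hmemR I 1 hI' (orthTwo F).one_mem))
      have h1 := hL (I, 1)
      rw [hc', Matrix.mul_smul, Matrix.mul_one, Matrix.smul_mul, hc.right] at h1
      have := congrFun (congrFun h1 (0, 0)) (1, 0)
      simp [I, jTwo] at this
    · rintro _ ⟨⟨q, y⟩, ⟨hq, hy⟩, rfl⟩
      rw [← map_pow]
      have e1 : ∃ c : F, (q : Matrix (Fin 2) (Fin 2) F) * (q : Matrix (Fin 2) (Fin 2) F) = c • 1 := by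
        rcases hq.2 with t | t | t
        · exact ⟨_, sq_of_trace t⟩
        · exact ⟨1, by rw [t, Matrix.one_mul, one_smul]⟩
        · exact ⟨1, by rw [t, Matrix.neg_mul, Matrix.mul_neg, Matrix.one_mul, neg_neg, one_smul]⟩
      have e2 : ∃ c : F, (y : Matrix (Fin 2) (Fin 2) F) * (y : Matrix (Fin 2) (Fin 2) F) = c • 1 := by
        obtain ⟨c, -, hyc⟩ := orthTwo_cases hF hy
        rcases hyc with e | e | e | e <;> rw [e]
        · exact ⟨c * c, by rw [Matrix.smul_mul, Matrix.mul_smul, Matrix.one_mul, smul_smul]⟩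
        · exact ⟨-(c * c), by rw [Matrix.smul_mul, Matrix.mul_smul, jTwo_sq, smul_smul, smul_neg, neg_smul]⟩
        · exact ⟨c * c, by ext i j; fin_cases i <;> fin_cases j <;> simp [Matrix.mul_apply]⟩
        · exact ⟨c * c, by ext i j; fin_cases i <;> fin_cases j <;> simp [Matrix.mul_apply]⟩
      obtain ⟨c, hc1⟩ := e1
      obtain ⟨d, hd1⟩ := e2
      refine hc.mem_scalars (c := d * c) ((hL _).trans ?_)
      rw [pow_two, Prod.fst_mul, Prod.snd_mul, Units.val_mul, Units.val_mul]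
      simp only [hc1, hd1, Matrix.smul_kronecker, Matrix.kronecker_smul, Matrix.one_kronecker_one, smul_smul]
  have hcyc : ∀ A : Subgroup R, Normalises G (A.map R.subtype) → IsMulCommutative A → IsCyclic A := by
    intro A hA hAc
    set A' := A.map R.subtype with hA'
    have hab' : ∀ x ∈ A', ∀ y ∈ A', x * y = y * x := by
      rintro _ ⟨x, hx, rfl⟩ _ ⟨y, hy, rfl⟩
      exact congrArg (fun z : A => ((z : R) : GL (Fin 2 ⊕ Fin 2) F)) (hAc.is_comm.comm ⟨x, hx⟩ ⟨y, hy⟩)
    have hAconj : ∀ g b, b ∈ simTwo F → ∀ q y, L (q, y) ∈ A' → L (g * q * g⁻¹, b * y * b⁻¹) ∈ A' := fun g b hb q y hm => by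
      have := hA (L (g, b)) ⟨(g, b), ⟨trivial, hb⟩, rfl⟩ _ hm
      rwa [← map_inv, ← map_mul, ← map_mul] at this
    have hcm : ∀ q y q' y', L (q, y) ∈ A' → L (q', y') ∈ A' →
        ((q * q' : GL (Fin 2) F) : Matrix (Fin 2) (Fin 2) F) ⊗ₖ ((y * y' : GL (Fin 2) F) : Matrix (Fin 2) (Fin 2) F) =
          ((q' * q : GL (Fin 2) F) : Matrix (Fin 2) (Fin 2) F) ⊗ₖ ((y' * y : GL (Fin 2) F) : Matrix (Fin 2) (Fin 2) F) := by
      intro q y q' y' h1 h2
      have e := hab' _ h1 _ h2
      rw [← map_mul, ← map_mul] at e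
      have e' := congrArg (fun x : GL (Fin 2 ⊕ Fin 2) F => Ψ * (x : Matrix (Fin 2 ⊕ Fin 2) (Fin 2 ⊕ Fin 2) F) * Φ) e
      simp only [hL] at e'
      exact e'
    have hne : ∀ q : GL (Fin 2) F, q ∉ scalars (Fin 2) F → ∃ t ∈ Q, t ∉ scalars (Fin 2) F ∧ q * t ≠ t * q := by
      intro q hqs
      by_contra hno
      push Not at hno
      have c1 : q * I = I * q := hno I hI' fun h => by
        obtain ⟨c, hc'⟩ := (mem_scalars_iff _).mp h
        have := congrFun (congrFun hc' 0) 1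
        simp [I, jTwo] at this
      have c2 : q * J = J * q := hno J hJ' fun h => by
        obtain ⟨c, hc'⟩ := (mem_scalars_iff _).mp h
        have := congrFun (congrFun hc' 0) 1
        simp [J] at this
      exact hqs (mem_scalars_of_val_eq (scalar_of_commute_quat h2 (congrArg Units.val c1) (congrArg Units.val c2)))
    have hsc : ∀ x ∈ Q, x ∉ scalars (Fin 2) F → (x : Matrix (Fin 2) (Fin 2) F).trace = 0 := fun x hx hxs => by
      rcases hx.2 with h | h | h
      · exact h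
      · exact absurd (mem_scalars_of_val_eq (c := 1) (by rw [h, one_smul])) hxs
      · exact absurd (mem_scalars_of_val_eq (c := -1) (by rw [h, neg_one_smul])) hxs
    -- the left factor is trivial
    have hleft : ∀ q ∈ Q, ∀ y, L (q, y) ∈ A' → q ∈ scalars (Fin 2) F := fun q hq y hm => by
      by_contra hqs
      obtain ⟨t, ht, hts, hqt⟩ := hne q hqs
      obtain ⟨g, hg⟩ := exists_conj_quat hF (hsc q hq hqs) hq.1 (hsc t ht hts) ht.1
      have h1 := mul_mem (hAconj g 1 (simTwo F).one_mem q y hm) (inv_mem hm)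
      rw [← map_inv, ← map_mul, hg, one_mul, inv_one, mul_one, Prod.inv_mk, Prod.mk_mul_mk, mul_inv_cancel] at h1
      have hq2 : t * q⁻¹ ∉ scalars (Fin 2) F := fun h => hqt (by
        have hcq := scalar_commute h q
        rw [mul_assoc, inv_mul_cancel, mul_one] at hcq
        rw [← mul_assoc] at hcq
        calc q * t = q * t * q⁻¹ * q := by rw [inv_mul_cancel_right]
          _ = t * q := by rw [← hcq])
      have hq2m : t * q⁻¹ ∈ Q := Q.mul_mem ht (Q.inv_mem hq)
      obtain ⟨t', ht', hts', hne'⟩ := hne _ hq2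
      obtain ⟨g', hg'⟩ := exists_conj_quat hF (hsc _ hq2m hq2) hq2m.1 (hsc t' ht' hts') ht'.1
      have h2' := hAconj g' 1 (simTwo F).one_mem _ _ h1
      rw [hg', one_mul, inv_one, mul_one] at h2'
      have e := hcm _ _ _ _ h1 h2'
      rw [mul_one, Units.val_one] at e
      exact hne' (Units.ext (kron_one_cancel e))
    -- the right factor is a rotation
    let j := L (1, I)
    have hsub : A' ≤ Subgroup.zpowers j := fun x hx => by
      obtain ⟨q, hq, y, hy, rfl⟩ := hval x (Subgroup.map_subtype_le A hx)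
      obtain ⟨c, hc'⟩ := (mem_scalars_iff _).mp (hleft q hq y hx)
      obtain ⟨y', hy', hxy⟩ : ∃ y' : GL (Fin 2) F, y' ∈ orthTwo F ∧ L (q, y) = L (1, y') := by
        have hc2 : (c : F) * c = 1 := by
          have := hq.1
          rw [hc', Matrix.det_smul, Matrix.det_one, mul_one, Fintype.card_fin, sq] at this
          exact this
        rcases mul_self_eq_one_iff.mp hc2 with e | e
        · refine ⟨y, hy, ?_⟩
          rw [show q = 1 from Units.ext (by rw [hc', e, one_smul, Units.val_one])]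
        · refine ⟨-y, by show ((-y : GL (Fin 2) F) : Matrix (Fin 2) (Fin 2) F)ᵀ * ((-y : GL (Fin 2) F) : Matrix (Fin 2) (Fin 2) F) = 1; rw [Units.val_neg, Matrix.transpose_neg, neg_mul_neg]; exact hy, ?_⟩
          show hc.lift (kronHom F (q, y)) = hc.lift (kronHom F (1, -y))
          congr 1
          refine Units.ext ?_
          rw [kronHom_val, kronHom_val, hc', e, neg_one_smul, Units.val_one, Units.val_neg,
            ← neg_one_smul F (1 : Matrix (Fin 2) (Fin 2) F), Matrix.smul_kronecker,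
            ← neg_one_smul F (y : Matrix (Fin 2) (Fin 2) F), Matrix.kronecker_smul]
      rw [hxy] at hx ⊢
      obtain ⟨d, hd, hyd⟩ := orthTwo_cases hF hy'
      have hrot : y' * (B * y' * B⁻¹) = B * y' * B⁻¹ * y' := by
        have h1 := hAconj 1 B hBs 1 y' hx
        rw [one_mul, inv_one, mul_one] at h1
        have e := hcm _ _ _ _ hx h1
        rw [one_mul, Units.val_one] at e
        exact Units.ext (one_kron_cancel e)
      have hBB : ∀ z : Matrix (Fin 2) (Fin 2) F, z * (B : Matrix (Fin 2) (Fin 2) F) =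
          (B : Matrix (Fin 2) (Fin 2) F) * (y' : Matrix (Fin 2) (Fin 2) F) →
          (y' : Matrix (Fin 2) (Fin 2) F) * z = z * (y' : Matrix (Fin 2) (Fin 2) F) := fun z hz => by
        have ez : ((B * y' * B⁻¹ : GL (Fin 2) F) : Matrix (Fin 2) (Fin 2) F) = z := by
          rw [Units.val_mul, Units.val_mul, ← hz, Matrix.mul_assoc, val_mul_inv, Matrix.mul_one]
        have := congrArg Units.val hrot
        rwa [Units.val_mul y', Units.val_mul _ y', ez] at this
      have hjpow : ∀ n : ℕ, j ^ n = L (1, I ^ n) := fun n => by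
        show L (1, I) ^ n = _
        rw [← map_pow, Prod.pow_mk, one_pow]
      have hrr : y' = I ^ 0 ∨ y' = I ^ 1 ∨ y' = I ^ 2 ∨ y' = I ^ 3 := by
        rcases hyd with e | e | e | e
        · rcases hd with rfl | rfl
          · exact Or.inl (Units.ext (by rw [e, one_smul, pow_zero, Units.val_one]))
          · refine Or.inr (Or.inr (Or.inl (Units.ext ?_)))
            rw [e, pow_two, Units.val_mul, neg_one_smul]; exact jTwo_sq.symm
        · rcases hd with rfl | rfl
          · exact Or.inr (Or.inl (Units.ext (by rw [e, one_smul, pow_one]; rfl)))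
          · refine Or.inr (Or.inr (Or.inr (Units.ext ?_)))
            rw [e, pow_succ, pow_two, Units.val_mul, Units.val_mul, neg_one_smul]
            show _ = jTwo F * jTwo F * jTwo F
            rw [jTwo_sq, Matrix.neg_mul, Matrix.one_mul]
        · exfalso
          have h := hBB (-(d • !![0, 1; 1, 0])) (by
            rw [e]; ext i j; fin_cases i <;> fin_cases j <;> simp [B, Matrix.mul_apply, Fin.sum_univ_two])
          rw [e] at h
          have := congrFun (congrFun h 0) 1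
          simp [Matrix.mul_apply, Fin.sum_univ_two] at this
          rcases hd with rfl | rfl <;> simp at this <;>
            exact h2 (by first | linear_combination this | linear_combination -this)
        · exfalso
          have h := hBB (d • !![1, 0; 0, -1]) (by
            rw [e]; ext i j; fin_cases i <;> fin_cases j <;> simp [B, Matrix.mul_apply, Fin.sum_univ_two])
          rw [e] at h
          have := congrFun (congrFun h 0) 1
          simp [Matrix.mul_apply, Fin.sum_univ_two] at this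
          rcases hd with rfl | rfl <;> simp at this <;>
            exact h2 (by first | linear_combination this | linear_combination -this)
      rcases hrr with e | e | e | e <;> rw [e, ← hjpow] <;> exact Subgroup.npow_mem_zpowers j _
    haveI : IsCyclic A' := Subgroup.isCyclic_of_le hsub
    exact isCyclic_of_surjective (A.equivMapOfInjective R.subtype R.subtype_injective).symm.toMonoidHom
      (A.equivMapOfInjective R.subtype R.subtype_injective).symm.surjective
  -- the group lies in `G`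
  have hHG : H ≤ G := fun h hh => by
    set T := Ψ * (h : Matrix (Fin 2 ⊕ Fin 2) (Fin 2 ⊕ Fin 2) F) * Φ with hT
    have hact := hc.act_of_conj hT.symm
    have hTfix : Tᵀ * (jTwo F ⊗ₖ (1 : Matrix (Fin 2) (Fin 2) F)) * T = jTwo F ⊗ₖ (1 : Matrix (Fin 2) (Fin 2) F) := by
      have := hf.gramIn_fix (sp_fixes hH.1.le) hh hact
      rwa [RingEquiv.coe_refl, Matrix.map_id, hG] at this
    obtain ⟨ε, hεε, hε⟩ : ∃ ε : F, (ε = 1 ∨ ε = -1) ∧
        (h : Matrix (Fin 2 ⊕ Fin 2) (Fin 2 ⊕ Fin 2) F) * s = ε • (s * (h : Matrix (Fin 2 ⊕ Fin 2) (Fin 2 ⊕ Fin 2) F)) := by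
      set hm := (h : Matrix (Fin 2 ⊕ Fin 2) (Fin 2 ⊕ Fin 2) F)
      set hi := ((h⁻¹ : GL (Fin 2 ⊕ Fin 2) F) : Matrix (Fin 2 ⊕ Fin 2) (Fin 2 ⊕ Fin 2) F)
      obtain ⟨p, q, hpq⟩ := hspan (hm * s * hi) ((hle hh s).mp hsK)
      have hsq : (hm * s * hi) * (hm * s * hi) = -1 := by
        calc _ = hm * (s * (hi * hm) * s) * hi := by simp only [Matrix.mul_assoc]
          _ = _ := by
            rw [show hi * hm = 1 from val_inv_mul h, Matrix.mul_one, hI, Matrix.mul_neg, Matrix.mul_one, Matrix.neg_mul,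
              show hm * hi = 1 from val_mul_inv h]
      have e0 : (p * p - q * q + 1) • (1 : Matrix (Fin 2 ⊕ Fin 2) (Fin 2 ⊕ Fin 2) F) + (2 * (p * q)) • s = 0 := by
        rw [hpq, Matrix.add_mul, Matrix.mul_add, Matrix.mul_add] at hsq
        simp only [Matrix.smul_mul, Matrix.mul_smul, Matrix.one_mul, Matrix.mul_one, hI] at hsq
        rw [← sub_eq_zero] at hsq
        rw [← hsq]
        module
      obtain ⟨e1, e2⟩ := hind _ _ e0
      have hp : p = 0 := by
        rcases mul_eq_zero.mp ((mul_eq_zero.mp e2).resolve_left h2) with e | e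
        · exact e
        · rw [e] at e1; exact absurd ⟨p, by linear_combination -e1⟩ hns1
      rw [hp] at e1 hpq
      refine ⟨q, mul_self_eq_one_iff.mp (by linear_combination -e1), ?_⟩
      rw [zero_smul, zero_add] at hpq
      rw [← Matrix.smul_mul, ← hpq]
      simp only [Matrix.mul_assoc]
      rw [show hi * hm = 1 from val_inv_mul h, Matrix.mul_one]
    have hTJ : T * ((1 : Matrix (Fin 2) (Fin 2) F) ⊗ₖ jTwo F) = ε • (((1 : Matrix (Fin 2) (Fin 2) F) ⊗ₖ jTwo F) * T) := by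
      calc T * _ = Ψ * ((h : Matrix (Fin 2 ⊕ Fin 2) (Fin 2 ⊕ Fin 2) F) * (Φ * ((1 : Matrix (Fin 2) (Fin 2) F) ⊗ₖ jTwo F))) := by
            simp only [hT, Matrix.mul_assoc]
        _ = Ψ * (((h : Matrix (Fin 2 ⊕ Fin 2) (Fin 2 ⊕ Fin 2) F) * s) * Φ) := by rw [← hsΦ, Matrix.mul_assoc]
        _ = ε • (Ψ * (s * ((h : Matrix (Fin 2 ⊕ Fin 2) (Fin 2 ⊕ Fin 2) F) * Φ))) := by
            rw [hε, Matrix.smul_mul, Matrix.mul_smul, Matrix.mul_assoc]
        _ = _ := by
            rw [hact, ← Matrix.mul_assoc s, hsΦ]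
            simp only [Matrix.mul_assoc]
            rw [← Matrix.mul_assoc Ψ Φ, hc.right, Matrix.one_mul]
    obtain ⟨a, b, κ, hda, hκ, hb, hab⟩ : ∃ (a b : Matrix (Fin 2) (Fin 2) F) (κ : F),
        a.det ≠ 0 ∧ κ ≠ 0 ∧ bᵀ * b = κ • 1 ∧ T = a ⊗ₖ b := by
      rcases hεε with rfl | rfl
      · rw [one_smul] at hTJ
        exact tensor_of_commute h2 hns1 hTfix hTJ
      · set Dm : Matrix (Fin 2) (Fin 2) F := !![1, 0; 0, -1]
        have hDD : Dm * Dm = 1 := by ext i j; fin_cases i <;> fin_cases j <;> simp [Dm, Matrix.mul_apply]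
        have hDt : Dmᵀ = Dm := by ext i j; fin_cases i <;> fin_cases j <;> simp [Dm]
        have hDJ : Dm * jTwo F = -(jTwo F * Dm) := by
          ext i j; fin_cases i <;> fin_cases j <;> simp [Dm, jTwo, Matrix.mul_apply]
        set T' := T * ((1 : Matrix (Fin 2) (Fin 2) F) ⊗ₖ Dm) with hT'
        have hfix' : T'ᵀ * (jTwo F ⊗ₖ (1 : Matrix (Fin 2) (Fin 2) F)) * T' = jTwo F ⊗ₖ (1 : Matrix (Fin 2) (Fin 2) F) := by
          calc _ = ((1 : Matrix (Fin 2) (Fin 2) F) ⊗ₖ Dm)ᵀ * (Tᵀ * (jTwo F ⊗ₖ (1 : Matrix (Fin 2) (Fin 2) F)) * T) *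
                ((1 : Matrix (Fin 2) (Fin 2) F) ⊗ₖ Dm) := by
                rw [hT', Matrix.transpose_mul]; simp only [Matrix.mul_assoc]
            _ = _ := by
                rw [hTfix, kron_transpose, ← Matrix.mul_kronecker_mul, ← Matrix.mul_kronecker_mul, Matrix.transpose_one,
                  Matrix.one_mul, Matrix.mul_one, Matrix.mul_one, hDt, hDD]
        have hcomm' : T' * ((1 : Matrix (Fin 2) (Fin 2) F) ⊗ₖ jTwo F) = ((1 : Matrix (Fin 2) (Fin 2) F) ⊗ₖ jTwo F) * T' := by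
          rw [hT', Matrix.mul_assoc, ← Matrix.mul_kronecker_mul, hDJ, ← neg_one_smul F (jTwo F * Dm), Matrix.kronecker_smul,
            Matrix.mul_kronecker_mul, Matrix.mul_smul, ← Matrix.mul_assoc, hTJ, Matrix.smul_mul, smul_smul, neg_one_mul,
            neg_neg, one_smul, Matrix.mul_assoc]
        obtain ⟨a, b, κ, hda, hκ, hb, hab⟩ := tensor_of_commute h2 hns1 hfix' hcomm'
        refine ⟨a, b * Dm, κ, hda, hκ, ?_, ?_⟩
        · rw [Matrix.transpose_mul, hDt, Matrix.mul_assoc, ← Matrix.mul_assoc bᵀ, hb, Matrix.smul_mul, Matrix.one_mul,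
            Matrix.mul_smul, hDD]
        · calc T = T' * ((1 : Matrix (Fin 2) (Fin 2) F) ⊗ₖ Dm) := by
                rw [hT', Matrix.mul_assoc, ← Matrix.mul_kronecker_mul, hDD, Matrix.one_mul, Matrix.one_kronecker_one,
                  Matrix.mul_one]
            _ = _ := by rw [hab, ← Matrix.mul_kronecker_mul, Matrix.mul_one]
    have hdb : b.det ≠ 0 := fun e => by
      have := congrArg Matrix.det hb
      rw [Matrix.det_mul, e, mul_zero, Matrix.det_smul, Matrix.det_one, mul_one, eq_comm, pow_eq_zero_iff (by decide)] at this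
      exact hκ this
    refine ⟨(Matrix.GeneralLinearGroup.mkOfDetNeZero a hda, Matrix.GeneralLinearGroup.mkOfDetNeZero b hdb),
      ⟨trivial, κ, hκ, hb⟩, Units.ext ?_⟩
    have := congrArg (fun X => Φ * X * Ψ) (hab.symm.trans hT)
    simp only [hc.unconj_conj] at this
    exact this
  rcases sympType_data_of_sympN (by norm_num) hN hsp hn hcyc hHG with
    ⟨hnp, -⟩ | ⟨p, k', hRt, ha, hss', hp, hpo, hcp, hcard, hz, hmi, hk', hx, hle'⟩
  · exact absurd (hF ▸ Nat.prime_three) hnp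
  · obtain rfl : k' = 2 := Nat.pow_right_injective (le_refl 2) (hk'.symm.trans (by norm_num))
    exact ⟨p, R, hp, hcp, hRt, ha, hss', hcard.trans (by norm_num), hz, hmi,
      eq_inf_of_maximal hH hle' ((SpMember.sympType _ p 2 hRt ha hss' hp hpo hcp hcard hz hmi hk' hx).not_le le_rfl)⟩

end Cfsg.Lib.Classical.Aschbacher
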