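import Cfsg.Agent.Classical.Aschbacher.SympMembers

/-! Tensor decompositions stabilised by subgroups of the symplectic groups. -/

set_option autoImplicit false
set_option linter.unusedSimpArgs false
set_option linter.unusedSectionVars false
set_option linter.style.haveILetI false

namespace Cfsg.Lib.Classical.Aschbacher

open Matrix Cfsg.Geo
open scoped MatrixGroups Kronecker
open Cfsg.Lib.Classical.PrimeDim (finrank_pi_card finrank_map_mulVec val_inv_mul val_mul_inv gl_det_ne_zero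
  no_alternating)

universe u

variable {m : ℕ} {F : Type u} [Field F] [Fintype F]

/-- A normalised skew-adjoint square root of a scalar gives a pair of subspaces or a field. -/
theorem inSpLE_of_involution {H : Subgroup (GL (Fin m ⊕ Fin m) F)} (hH : H ≤ Cfsg.spGL m F) (hm : 0 < m)
    (h2 : (2 : F) ≠ 0) {M : Matrix (Fin m ⊕ Fin m) (Fin m ⊕ Fin m) F} {δ : F} (hδ : δ ≠ 0) (hM : M * M = δ • 1)
    (hskew : ∀ u v, Cfsg.sympForm m F (M *ᵥ u) v = -Cfsg.sympForm m F u (M *ᵥ v))
    (hn : ∀ h ∈ H, ∃ e : F, M * (h : Matrix (Fin m ⊕ Fin m) (Fin m ⊕ Fin m) F) = e • ((h : Matrix (Fin m ⊕ Fin m) (Fin m ⊕ Fin m) F) * M)) : InSpLE H := by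
  classical
  haveI : Nonempty (Fin m ⊕ Fin m) := ⟨Sum.inl ⟨0, hm⟩⟩
  have hf := sp_refl m F
  have ho : Odd (Fintype.card F) := odd_card_iff.mpr h2
  have hn' : ∀ h ∈ H, ∃ e : F, (e = 1 ∨ e = -1) ∧ M * (h : Matrix (Fin m ⊕ Fin m) (Fin m ⊕ Fin m) F) = e • ((h : Matrix (Fin m ⊕ Fin m) (Fin m ⊕ Fin m) F) * M) := by
    intro h hh
    obtain ⟨e, he⟩ := hn h hh
    refine ⟨e, mul_self_eq_one_iff.mp ?_, he⟩
    have h1 : M * (M * (h : Matrix (Fin m ⊕ Fin m) (Fin m ⊕ Fin m) F)) = (e * e) • ((h : Matrix (Fin m ⊕ Fin m) (Fin m ⊕ Fin m) F) * (M * M)) := by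
      rw [he, Matrix.mul_smul, ← Matrix.mul_assoc, he, Matrix.smul_mul, smul_smul, Matrix.mul_assoc]
    rw [← Matrix.mul_assoc, hM, Matrix.smul_mul, Matrix.one_mul, Matrix.mul_smul, Matrix.mul_one, smul_smul] at h1
    have h2 := smul_left_injective F h.ne_zero h1
    exact (mul_eq_right₀ hδ).mp h2.symm
  by_cases hs : IsSquare δ
  · obtain ⟨s, rfl⟩ := hs
    have hs0 : s ≠ 0 := left_ne_zero_of_mul hδ
    have h2s : 2 * s ≠ 0 := mul_ne_zero h2 hs0
    let D : F → Submodule F (Fin m ⊕ Fin m → F) := fun c =>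
      { carrier := {v | M *ᵥ v = c • v}
        add_mem' := fun {x y} hx hy => by
          show M *ᵥ (x + y) = _
          rw [Matrix.mulVec_add, show M *ᵥ x = c • x from hx, show M *ᵥ y = c • y from hy, smul_add]
        zero_mem' := by show M *ᵥ 0 = _; simp
        smul_mem' := fun a x hx => by
          show M *ᵥ (a • x) = _
          rw [Matrix.mulVec_smul, show M *ᵥ x = c • x from hx, smul_comm] }
    have hD : ∀ c v, v ∈ D c ↔ M *ᵥ v = c • v := fun c v => Iff.rfl
    have hts : ∀ c, c ≠ 0 → IsTotallySingularFor (Cfsg.sympForm m F) (D c) := fun c hc u hu v hv => by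
      have h1 := hskew u v
      rw [(hD c u).mp hu, (hD c v).mp hv, hf.smul_left, hf.smul_right, RingEquiv.refl_apply, eq_neg_iff_add_eq_zero,
        ← two_mul] at h1
      exact (mul_eq_zero.mp ((mul_eq_zero.mp h1).resolve_left h2)).resolve_left hc
    have hle : ∀ c, c ≠ 0 → Module.finrank F (D c) ≤ m := fun c hc => by
      have h1 := hf.finrank_perp (D c)
      have h3 : D c ≤ hf.perp (D c) := fun x hx w hw => hts c hc x hx w hw
      have h4 := Submodule.finrank_mono h3
      rw [card_sum_fin] at h1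
      omega
    have hdisj : Disjoint (D s) (D (-s)) := Submodule.disjoint_def.mpr fun x hx hx' => by
      have h1 : (2 * s) • x = 0 := by
        rw [two_mul, add_smul, ← (hD s x).mp hx]
        nth_rw 1 [(hD (-s) x).mp hx']
        rw [(hD s x).mp hx, neg_smul, neg_add_cancel]
      exact (smul_eq_zero.mp h1).resolve_left h2s
    have hsup : D s ⊔ D (-s) = ⊤ := Submodule.eq_top_iff'.mpr fun v => by
      have hMM : M *ᵥ (M *ᵥ v) = (s * s) • v := by
        rw [Matrix.mulVec_mulVec, hM, Matrix.smul_mulVec, Matrix.one_mulVec]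
      refine Submodule.mem_sup.mpr ⟨(2 * s)⁻¹ • (M *ᵥ v + s • v), (hD _ _).mpr ?_, (2 * s)⁻¹ • (s • v - M *ᵥ v),
        (hD _ _).mpr ?_, ?_⟩
      · rw [Matrix.mulVec_smul, Matrix.mulVec_add, hMM, Matrix.mulVec_smul, smul_comm s]
        congr 1
        module
      · rw [Matrix.mulVec_smul, Matrix.mulVec_sub, hMM, Matrix.mulVec_smul, smul_comm (-s)]
        congr 1
        module
      · rw [← smul_add, show M *ᵥ v + s • v + (s • v - M *ᵥ v) = (2 * s) • v by module, smul_smul, inv_mul_cancel₀ h2s,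
          one_smul]
    have hdim : Module.finrank F (D s) = m ∧ Module.finrank F (D (-s)) = m := by
      have h1 := Submodule.finrank_sup_add_finrank_inf_eq (D s) (D (-s))
      rw [hsup, hdisj.eq_bot, finrank_bot, finrank_top, finrank_pi_card, card_sum_fin] at h1
      have := hle s hs0
      have := hle (-s) (neg_ne_zero.mpr hs0)
      omega
    refine ⟨_, .pair ![D s, D (-s)] ho ⟨le_rfl, hm, fun i => ?_, ?_, ?_⟩ (fun i => ?_), fun h hh => ?_⟩
    · fin_cases i
      · exact hdim.1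
      · exact hdim.2
    · exact (iSupIndep_pair (i := (0 : Fin 2)) (j := 1) (by decide) (fun k => by fin_cases k <;> simp)).mpr hdisj
    · exact top_le_iff.mp (hsup ▸ sup_le (le_iSup (![D s, D (-s)]) 0) (le_iSup (![D s, D (-s)]) 1))
    · fin_cases i
      · exact hts s hs0
      · exact hts _ (neg_ne_zero.mpr hs0)
    · obtain ⟨e, he, heq⟩ := hn' h hh
      have hmap : ∀ c, Module.finrank F (D c) = m → Module.finrank F (D (e * c)) = m →
          (D c).map (Matrix.toLin' (h : Matrix (Fin m ⊕ Fin m) (Fin m ⊕ Fin m) F)) = D (e * c) := fun c hc hec => by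
        refine Submodule.eq_of_le_of_finrank_eq ?_ ((finrank_map_mulVec _ _).trans (hc.trans hec.symm))
        rintro _ ⟨v, hv, rfl⟩
        rw [Matrix.toLin'_apply, hD, Matrix.mulVec_mulVec, heq, Matrix.smul_mulVec, ← Matrix.mulVec_mulVec,
          (hD c v).mp hv, Matrix.mulVec_smul, smul_smul]
      rcases he with rfl | rfl
      · refine ⟨1, fun i => ?_⟩
        fin_cases i
        · simpa using hmap s hdim.1 (by rw [one_mul]; exact hdim.1)
        · simpa using hmap (-s) hdim.2 (by rw [one_mul]; exact hdim.2)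
      · refine ⟨Equiv.swap 0 1, fun i => ?_⟩
        fin_cases i
        · simpa using hmap s hdim.1 (by rw [neg_one_mul]; exact hdim.2)
        · simpa using hmap (-s) hdim.2 (by rw [neg_one_mul, neg_neg]; exact hdim.1)
  · let K : Subalgebra F (Matrix (Fin m ⊕ Fin m) (Fin m ⊕ Fin m) F) :=
      { carrier := {x | ∃ a b : F, x = a • 1 + b • M}
        mul_mem' := by
          rintro _ _ ⟨a, b, rfl⟩ ⟨c, d, rfl⟩
          refine ⟨a * c + b * d * δ, a * d + b * c, ?_⟩
          simp only [Matrix.add_mul, Matrix.mul_add, Matrix.smul_mul, Matrix.mul_smul, Matrix.one_mul, Matrix.mul_one, hM]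
          module
        add_mem' := by
          rintro _ _ ⟨a, b, rfl⟩ ⟨c, d, rfl⟩
          exact ⟨a + c, b + d, by module⟩
        algebraMap_mem' := fun c => ⟨c, 0, by rw [Algebra.algebraMap_eq_smul_one]; simp⟩ }
    have hMK : M ∈ K := ⟨0, 1, by simp⟩
    have hindep : ∀ a b : F, a • (1 : Matrix (Fin m ⊕ Fin m) (Fin m ⊕ Fin m) F) + b • M = 0 → a = 0 ∧ b = 0 := by
      intro a b hab
      by_cases hb : b = 0
      · subst hb
        rw [zero_smul, add_zero] at hab
        exact ⟨(smul_eq_zero.mp hab).resolve_right one_ne_zero, rfl⟩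
      · exfalso
        have hMc : M = (-(a / b)) • (1 : Matrix (Fin m ⊕ Fin m) (Fin m ⊕ Fin m) F) := by
          have := congrArg (fun X => b⁻¹ • X) hab
          simp only [smul_add, smul_smul, inv_mul_cancel₀ hb, one_smul, smul_zero] at this
          rw [eq_neg_of_add_eq_zero_right this, neg_smul, div_eq_inv_mul]
        rw [hMc, Matrix.smul_mul, Matrix.one_mul, smul_smul] at hM
        exact hs ⟨_, (smul_left_injective F one_ne_zero hM).symm⟩
    have hnorm : ∀ a b : F, ¬ (a = 0 ∧ b = 0) → a * a - b * b * δ ≠ 0 := fun a b hab h0 => by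
      by_cases hb : b = 0
      · subst hb; exact hab ⟨mul_self_eq_zero.mp (by linear_combination h0), rfl⟩
      · exact hs ⟨a / b, by field_simp; linear_combination (-1 : F) * h0⟩
    let L : F × F →ₗ[F] K :=
      { toFun := fun p => ⟨p.1 • 1 + p.2 • M, p.1, p.2, rfl⟩
        map_add' := fun p q => Subtype.ext (by simp only [Prod.fst_add, Prod.snd_add, Subalgebra.coe_add]; module)
        map_smul' := fun c p => Subtype.ext (by
          simp only [Prod.smul_fst, Prod.smul_snd, smul_eq_mul, RingHom.id_apply, Subalgebra.coe_smul]; module) }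
    have hK : IsFieldSubalgebra 2 K := by
      refine ⟨?_, ?_, ?_⟩
      · rintro _ ⟨a, b, rfl⟩ _ ⟨c, d, rfl⟩
        simp only [Matrix.add_mul, Matrix.mul_add, Matrix.smul_mul, Matrix.mul_smul, Matrix.one_mul, Matrix.mul_one, hM]
        module
      · rintro _ ⟨a, b, rfl⟩ h0
        have hN := hnorm a b (fun h => h0 (by simp [h.1, h.2]))
        set w := (a * a - b * b * δ)⁻¹ with hw
        refine ⟨(w * a) • 1 + (-(w * b)) • M, ⟨_, _, rfl⟩, ?_⟩
        simp only [Matrix.add_mul, Matrix.mul_add, Matrix.smul_mul, Matrix.mul_smul, Matrix.one_mul, Matrix.mul_one, hM]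
        have : w * (a * a - b * b * δ) = 1 := inv_mul_cancel₀ hN
        match_scalars
        · linear_combination this
        · ring
      · rw [← LinearEquiv.finrank_eq (LinearEquiv.ofBijective L ⟨?_, ?_⟩), Module.finrank_prod, Module.finrank_self]
        · intro p q hpq
          have h := hindep (p.1 - q.1) (p.2 - q.2) (by
            have := congrArg Subtype.val hpq
            simp only [L, LinearMap.coe_mk, AddHom.coe_mk] at this
            rw [← sub_eq_zero] at this
            rw [← this]; module)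
          exact Prod.ext (sub_eq_zero.mp h.1) (sub_eq_zero.mp h.2)
        · rintro ⟨_, a, b, rfl⟩
          exact ⟨(a, b), rfl⟩
    have hadjM : hf.adj M = -M := hf.adj_unique fun u v => by
      rw [hskew, Matrix.neg_mulVec, ← neg_one_smul F (M *ᵥ v), hf.smul_right, RingEquiv.refl_apply, neg_one_mul]
    have hadjsmul : ∀ b : F, hf.adj (b • M) = b • -M := fun b => by
      rw [← Matrix.one_mul (b • M), Matrix.mul_smul, ← Matrix.smul_mul, hf.adj_mul, hf.adj_smul_one, hadjM,
        RingEquiv.refl_apply, Matrix.mul_smul, Matrix.mul_one]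
    refine ⟨_, .unitField K ho hK (adjClosed_of hf ?_) (fun hsa => ?_), fun h hh x => ?_⟩
    · rintro _ ⟨a, b, rfl⟩
      exact ⟨a, -b, by rw [hf.adj_add, hf.adj_smul_one, hadjsmul, RingEquiv.refl_apply, smul_neg, neg_smul]⟩
    · have h1 := (selfAdjoint_iff hf).mp hsa M hMK
      rw [hadjM, neg_eq_iff_add_eq_zero, ← two_smul F] at h1
      exact one_ne_zero (hindep 0 1 (by rw [zero_smul, one_smul, zero_add]; exact (smul_eq_zero.mp h1).resolve_left h2)).2
    · have key : ∀ g ∈ H, ∀ y ∈ K, (g : Matrix (Fin m ⊕ Fin m) (Fin m ⊕ Fin m) F) * y * ((g⁻¹ : GL (Fin m ⊕ Fin m) F) : Matrix (Fin m ⊕ Fin m) (Fin m ⊕ Fin m) F) ∈ K := by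
        rintro g hg _ ⟨a, b, rfl⟩
        obtain ⟨e, he, heq⟩ := hn' g hg
        refine ⟨a, b * e, ?_⟩
        have h3 : (g : Matrix (Fin m ⊕ Fin m) (Fin m ⊕ Fin m) F) * M = e • (M * (g : Matrix (Fin m ⊕ Fin m) (Fin m ⊕ Fin m) F)) := by
          rcases he with rfl | rfl <;> rw [heq, smul_smul] <;> simp
        simp only [Matrix.mul_add, Matrix.add_mul, Matrix.mul_smul, Matrix.smul_mul, Matrix.mul_one, h3,
          val_mul_inv, Matrix.mul_assoc, smul_smul]
      refine ⟨key h hh x, fun hx => ?_⟩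
      have := key h⁻¹ (H.inv_mem hh) _ hx
      rw [inv_inv] at this
      simp only [← mul_assoc, val_inv_mul, one_mul] at this
      rwa [mul_assoc, val_inv_mul, mul_one] at this

/-- A stabilised tensor decomposition gives one of the classes. -/
theorem inSpLE_of_tensor {H : Subgroup (GL (Fin m ⊕ Fin m) F)} (hH : H ≤ Cfsg.spGL m F) (hm : 0 < m)
    (hirr : ActsIrreducibly (matrixSet H)) {d k : ℕ} {Φ : Matrix (Fin m ⊕ Fin m) (Fin d × Fin k) F}
    {Ψ : Matrix (Fin d × Fin k) (Fin m ⊕ Fin m) F} {X₁ : Matrix (Fin d) (Fin d) F} {X₂ : Matrix (Fin k) (Fin k) F}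
    (hT : TensorForm (RingEquiv.refl F) (Cfsg.sympForm m F) H Φ Ψ X₁ X₂) {l : F} (hl : l * l = 1)
    (h1 : X₁ᵀ = l • X₁) (h2 : X₂ᵀ = (-1 / l) • X₂) : InSpLE H := by
  classical
  have hf := sp_refl m F
  by_cases hchar : (2 : F) = 0
  · haveI : CharP F 2 := CharTwo.of_one_ne_zero_of_two_eq_zero one_ne_zero hchar
    have hl1 : l = 1 := by
      rcases mul_self_eq_one_iff.mp hl with e | e
      · exact e
      · rw [e, CharTwo.neg_eq]
    subst hl1
    rw [one_smul] at h1
    rw [div_one, CharTwo.neg_eq, one_smul] at h2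
    have hd1 := hT.swap.diag_right hirr hchar h1
    have hd2 := hT.diag_right hirr hchar h2
    let U : Matrix (Fin d) (Fin d) F := Matrix.of fun i j => if i < j then X₁ i j else 0
    have hU : U + Uᵀ = X₁ := by
      ext i j
      simp only [Matrix.add_apply, Matrix.transpose_apply, U, Matrix.of_apply]
      rcases lt_trichotomy i j with h | h | h
      · rw [if_pos h, if_neg (not_lt.mpr h.le), add_zero]
      · subst h; simp [hd1 i]
      · rw [if_neg (not_lt.mpr h.le), if_pos h, zero_add]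
        exact congrFun (congrFun h1 i) j
    let A : Matrix (Fin d × Fin k) (Fin d × Fin k) F := U ⊗ₖ X₂
    let Q : (Fin m ⊕ Fin m → F) → F := fun v => (Ψ *ᵥ v) ⬝ᵥ (A *ᵥ (Ψ *ᵥ v))
    have hpol : ∀ u v, QuadraticMap.polar Q u v = Cfsg.sympForm m F u v := fun u v => by
      have e : A + Aᵀ = X₁ ⊗ₖ X₂ := by
        rw [kron_transpose, h2, ← Matrix.add_kronecker, hU]
      have hb : ∀ x y : Fin d × Fin k → F, x ⬝ᵥ (Aᵀ *ᵥ y) = y ⬝ᵥ (A *ᵥ x) := fun x y => by
        rw [Matrix.mulVec_transpose, dotProduct_comm, ← Matrix.dotProduct_mulVec]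
      conv_rhs => rw [show u = Φ *ᵥ (Ψ *ᵥ u) by rw [Matrix.mulVec_mulVec, hT.coords.left, Matrix.one_mulVec],
        show v = Φ *ᵥ (Ψ *ᵥ v) by rw [Matrix.mulVec_mulVec, hT.coords.left, Matrix.one_mulVec], hf.apply_coords,
        ReflForm.gramIn, hT.gram, RingEquiv.coe_refl, Function.id_comp, ← e, Matrix.add_mulVec, dotProduct_add, hb]
      simp only [QuadraticMap.polar, Q, Matrix.mulVec_add, add_dotProduct, dotProduct_add]
      ring
    have hs : ∀ (c : F) v, Q (c • v) = c ^ 2 * Q v := fun c v => by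
      simp only [Q, Matrix.mulVec_smul, smul_dotProduct, dotProduct_smul, smul_eq_mul]; ring
    have halt : ∀ y, y ⬝ᵥ (X₂ *ᵥ y) = 0 := fun y => by
      have := (matForm_symplectic hT.det_right (by rw [h2]; exact Matrix.ext fun i j => (CharTwo.neg_eq _).symm) hd2).alternating y
      simpa [matForm] using this
    have hpure : ∀ (x : Fin d → F) (y : Fin k → F) v, Ψ *ᵥ v = (fun p => x p.1 * y p.2) → Q v = 0 := fun x y v hv => by
      show (Ψ *ᵥ v) ⬝ᵥ (A *ᵥ (Ψ *ᵥ v)) = 0
      rw [hv]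
      have e : (fun p : Fin d × Fin k => x p.1 * y p.2) ⬝ᵥ (A *ᵥ fun p => x p.1 * y p.2) =
          (x ⬝ᵥ (U *ᵥ x)) * (y ⬝ᵥ (X₂ *ᵥ y)) := by
        have hA : ∀ q, (A *ᵥ fun p => x p.1 * y p.2) q = (U *ᵥ x) q.1 * (X₂ *ᵥ y) q.2 := fun q => by
          obtain ⟨q₁, q₂⟩ := q
          show ∑ p : Fin d × Fin k, A (q₁, q₂) p * (x p.1 * y p.2) = _
          simp only [Matrix.mulVec, dotProduct, A, Matrix.kronecker_apply, Fintype.sum_prod_type, Finset.sum_mul_sum]
          exact Finset.sum_congr rfl fun i _ => Finset.sum_congr rfl fun j _ => by ring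
        show ∑ q : Fin d × Fin k, x q.1 * y q.2 * _ = (∑ i, x i * _) * ∑ j, y j * _
        simp only [hA, Fintype.sum_prod_type, Finset.sum_mul_sum]
        exact Finset.sum_congr rfl fun i _ => Finset.sum_congr rfl fun j _ => by ring
      rw [e, halt, mul_zero]
    refine ⟨_, .quadratic Q (fun ho => odd_card_iff.mp ho hchar) ⟨hs, ⟨fun x y v => ?_, fun c x v => ?_,
      fun v x y => ?_, fun c v x => ?_⟩, fun v hv => ?_⟩ hpol, fun h hh => ⟨1, ?_⟩⟩
    · rw [hpol, hpol, hpol, hf.add_left]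
    · rw [hpol, hpol, hf.smul_left]
    · rw [hpol, hpol, hpol, hf.add_right]
    · rw [hpol, hpol, hf.smul_right]; rfl
    · exact ⟨(hf.nondegenerate v hv).1.imp fun x hx => by rwa [hpol],
        (hf.nondegenerate v hv).2.imp fun x hx => by rwa [hpol]⟩
    simp only [Units.val_one, one_mul]
    refine quad_fix_of_basis hT.coords hs (fun u v => by rw [hpol, hpol]; exact mem_spGL.mp (hH hh) u v) fun p => ?_
    obtain ⟨a, b, c, -, hab, -, -⟩ := hT.split h hh
    have hL : Ψ *ᵥ ((h : Matrix (Fin m ⊕ Fin m) (Fin m ⊕ Fin m) F) *ᵥ (Φ *ᵥ Pi.single p 1)) = fun q => a q.1 p.1 * b q.2 p.2 := by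
      rw [Matrix.mulVec_mulVec, Matrix.mulVec_mulVec]
      exact (congrArg (fun M => M *ᵥ _) hab).trans (Matrix.mulVec_single_one _ _)
    have hR : Ψ *ᵥ (Φ *ᵥ Pi.single p 1) = fun q => (1 : Matrix (Fin d) (Fin d) F) q.1 p.1 *
        (1 : Matrix (Fin k) (Fin k) F) q.2 p.2 := by
      rw [Matrix.mulVec_mulVec, hT.coords.right, ← Matrix.one_kronecker_one, Matrix.mulVec_single_one]; rfl
    rw [hpure (fun i => a i p.1) (fun j => b j p.2) _ hL,
      hpure (fun i => (1 : Matrix (Fin d) (Fin d) F) i p.1) (fun j => (1 : Matrix (Fin k) (Fin k) F) j p.2) _ hR]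
  -- odd characteristic
  have main : ∀ {d k : ℕ} {Φ : Matrix (Fin m ⊕ Fin m) (Fin d × Fin k) F}
      {Ψ : Matrix (Fin d × Fin k) (Fin m ⊕ Fin m) F} {X₁ : Matrix (Fin d) (Fin d) F} {X₂ : Matrix (Fin k) (Fin k) F},
      TensorForm (RingEquiv.refl F) (Cfsg.sympForm m F) H Φ Ψ X₁ X₂ → X₁ᵀ = -X₁ → X₂ᵀ = X₂ → InSpLE H := by
    intro d k Φ Ψ X₁ X₂ hT h1 h2
    rcases eq_or_lt_of_le hT.two_right with rfl | hk3
    · set J' : Matrix (Fin 2) (Fin 2) F := X₂⁻¹ * jTwo F with hJ'
      have hu : IsUnit X₂.det := isUnit_iff_ne_zero.mpr hT.det_right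
      have hXJ : X₂ * J' = jTwo F := by rw [hJ', ← Matrix.mul_assoc, Matrix.mul_nonsing_inv _ hu, Matrix.one_mul]
      have hJT : (jTwo F)ᵀ = -jTwo F := by ext i j; fin_cases i <;> fin_cases j <;> simp [jTwo]
      have hJX : J'ᵀ * X₂ = -(X₂ * J') := by
        rw [hXJ, hJ', Matrix.transpose_mul, Matrix.transpose_nonsing_inv, h2, Matrix.mul_assoc,
          Matrix.nonsing_inv_mul _ hu, Matrix.mul_one, hJT]
      have hsq : J' * J' = (-(X₂⁻¹).det) • 1 := by
        have hs : X₂⁻¹ 1 0 = X₂⁻¹ 0 1 := by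
          have h := Matrix.transpose_nonsing_inv X₂
          rw [h2] at h
          exact congrFun (congrFun h 0) 1
        rw [hJ']
        generalize X₂⁻¹ = Y at hs ⊢
        ext i j
        fin_cases i <;> fin_cases j <;> simp [jTwo, Matrix.mul_apply, Fin.sum_univ_two, Matrix.det_fin_two, hs] <;> ring
      have hdJ : (-(X₂⁻¹).det) ≠ 0 := by
        rw [neg_ne_zero, Matrix.det_nonsing_inv, Ring.inverse_eq_inv']; exact inv_ne_zero hT.det_right
      refine inSpLE_of_involution hH hm hchar (M := Φ * ((1 : Matrix (Fin d) (Fin d) F) ⊗ₖ J') * Ψ) hdJ ?_ ?_ ?_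
      · rw [show ∀ A B : Matrix (Fin d × Fin 2) (Fin d × Fin 2) F, Φ * A * Ψ * (Φ * B * Ψ) = Φ * (A * B) * Ψ from
          fun A B => by simp only [Matrix.mul_assoc]; rw [← Matrix.mul_assoc Ψ Φ, hT.coords.right, Matrix.one_mul],
          ← Matrix.mul_kronecker_mul, hsq, Matrix.one_mul, Matrix.kronecker_smul, Matrix.one_kronecker_one,
          Matrix.mul_smul, Matrix.mul_one, Matrix.smul_mul, hT.coords.left]
      · intro u v
        set Z : Matrix (Fin d × Fin 2) (Fin d × Fin 2) F := (1 : Matrix (Fin d) (Fin d) F) ⊗ₖ J' with hZ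
        have hG : Zᵀ * (X₁ ⊗ₖ X₂) = -((X₁ ⊗ₖ X₂) * Z) := by
          rw [hZ, kron_transpose, ← Matrix.mul_kronecker_mul, ← Matrix.mul_kronecker_mul, Matrix.transpose_one,
            Matrix.one_mul, Matrix.mul_one, hJX]
          ext p q
          simp [Matrix.kronecker_apply]
        have hu' : ∀ u : Fin m ⊕ Fin m → F, u = Φ *ᵥ (Ψ *ᵥ u) := fun u => by
          rw [Matrix.mulVec_mulVec, hT.coords.left, Matrix.one_mulVec]
        have hMu : ∀ u, (Φ * Z * Ψ) *ᵥ u = Φ *ᵥ (Z *ᵥ (Ψ *ᵥ u)) := fun u => by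
          simp only [Matrix.mulVec_mulVec, Matrix.mul_assoc]
        have hl : Cfsg.sympForm m F ((Φ * Z * Ψ) *ᵥ u) v = (Ψ *ᵥ u) ⬝ᵥ ((Zᵀ * (X₁ ⊗ₖ X₂)) *ᵥ (Ψ *ᵥ v)) := by
          conv_lhs => rw [hMu, hu' v]
          rw [hf.apply_coords, ReflForm.gramIn, hT.gram, RingEquiv.coe_refl, Function.id_comp, ← Matrix.mulVec_mulVec,
            Matrix.dotProduct_mulVec (Ψ *ᵥ u) Zᵀ, Matrix.vecMul_transpose]
        have hr : Cfsg.sympForm m F u ((Φ * Z * Ψ) *ᵥ v) = (Ψ *ᵥ u) ⬝ᵥ (((X₁ ⊗ₖ X₂) * Z) *ᵥ (Ψ *ᵥ v)) := by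
          conv_lhs => rw [hMu, hu' u]
          rw [hf.apply_coords, ReflForm.gramIn, hT.gram, RingEquiv.coe_refl, Function.id_comp, Matrix.mulVec_mulVec]
        rw [hl, hr, hG, Matrix.neg_mulVec, dotProduct_neg]
      · intro h hh
        obtain ⟨a, b, c, hc, hab, -, hb⟩ := hT.split h hh
        rw [RingEquiv.coe_refl, Matrix.map_id] at hb
        have hdet : b.det ≠ 0 := fun e => by
          have := congrArg Matrix.det hb
          rw [Matrix.det_mul, Matrix.det_mul, Matrix.det_transpose, e, zero_mul, zero_mul, Matrix.det_smul] at this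
          exact mul_ne_zero (pow_ne_zero _ (inv_ne_zero hc)) hT.det_right this.symm
        refine ⟨b.det * c, ?_⟩
        have key : J' * b = (b.det * c) • (b * J') := by
          apply ((Matrix.isUnit_iff_isUnit_det (bᵀ * X₂)).mpr (isUnit_iff_ne_zero.mpr (by
            rw [Matrix.det_mul, Matrix.det_transpose]; exact mul_ne_zero hdet hT.det_right))).mul_left_cancel
          calc bᵀ * X₂ * (J' * b) = bᵀ * (X₂ * J') * b := by simp only [Matrix.mul_assoc]
            _ = b.det • jTwo F := by rw [hXJ, jTwo_conj]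
            _ = (b.det * c) • ((bᵀ * X₂ * b) * J') := by
              rw [hb, Matrix.smul_mul, hXJ, smul_smul, mul_assoc, mul_inv_cancel₀ hc, mul_one]
            _ = _ := by rw [Matrix.mul_smul]; simp only [Matrix.mul_assoc]
        have hh' := hT.coords.act_of_conj hab
        have hΨh : Ψ * (h : Matrix (Fin m ⊕ Fin m) (Fin m ⊕ Fin m) F) = (a ⊗ₖ b) * Ψ := by
          rw [← hab, Matrix.mul_assoc _ Φ Ψ, hT.coords.left, Matrix.mul_one]
        calc Φ * ((1 : Matrix (Fin d) (Fin d) F) ⊗ₖ J') * Ψ * (h : Matrix (Fin m ⊕ Fin m) (Fin m ⊕ Fin m) F)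
            = Φ * (((1 : Matrix (Fin d) (Fin d) F) ⊗ₖ J') * (a ⊗ₖ b)) * Ψ := by
              rw [Matrix.mul_assoc _ Ψ, hΨh]; simp only [Matrix.mul_assoc]
          _ = (b.det * c) • (Φ * ((a ⊗ₖ b) * ((1 : Matrix (Fin d) (Fin d) F) ⊗ₖ J')) * Ψ) := by
              rw [← Matrix.mul_kronecker_mul, ← Matrix.mul_kronecker_mul, Matrix.one_mul, Matrix.mul_one, key,
                Matrix.kronecker_smul, Matrix.mul_smul, Matrix.smul_mul]
          _ = _ := by rw [← Matrix.mul_assoc Φ (a ⊗ₖ b), ← hh']; simp only [Matrix.mul_assoc]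
    · let e : (Fin m ⊕ Fin m) ≃ Fin d × Fin k := Fintype.equivOfCardEq hT.coords.card_eq.symm
      have hdiag : ∀ i, X₁ i i = 0 := fun i => by
        have := congrFun (congrFun h1 i) i
        rw [Matrix.transpose_apply, Matrix.neg_apply, eq_neg_iff_add_eq_zero, ← two_mul] at this
        exact (mul_eq_zero.mp this).resolve_left hchar
      have hs1 := matForm_symplectic hT.det_left h1 hdiag
      have hev : Even d := by
        by_contra ho
        exact no_alternating (Fintype.card_fin d) (Nat.not_even_iff_odd.mp ho) hs1.bilinear hs1.alternating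
          hs1.nondegenerate
      exact ⟨_, .tensor d k e (hT.coords.toGL e) _ _ (odd_card_iff.mpr hchar) hk3 hev hs1
        ⟨matForm_bilinear hT.det_right, fun u v => by rw [matForm_transpose (c := 1) (by rw [one_smul]; exact h2) u v, one_mul],
          matForm_nondegenerate hT.det_right⟩ (hT.structure' hf e), hT.le_stabilizer e⟩
  rcases mul_self_eq_one_iff.mp hl with rfl | rfl
  · exact main hT.swap (by rw [h2]; simp) (by rw [h1, one_smul])
  · exact main hT (by rw [h1, neg_one_smul]) (by rw [h2]; simp)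

end Cfsg.Lib.Classical.Aschbacher
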