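import Cfsg.Agent.Classical.Aschbacher.Trichotomy
import Cfsg.Agent.Classical.Aschbacher.Forms

/-! Tensor powers, their stabilisers, and the classes they give. -/

set_option autoImplicit false
set_option linter.unusedSimpArgs false
set_option linter.unusedSectionVars false
set_option linter.style.haveILetI false

namespace Cfsg.Lib.Classical.Aschbacher

open Matrix Cfsg.Geo
open scoped MatrixGroups Kronecker
open Cfsg.Lib.Classical.PrimeDim (gl_det_ne_zero val_inv_mul val_mul_inv)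

universe u

variable {F : Type u} [Field F]

/-- The tensor product of a family of matrices. -/
def piKron {t : ℕ} {d : Fin t → ℕ} (A : ∀ i, Matrix (Fin (d i)) (Fin (d i)) F) :
    Matrix (∀ i, Fin (d i)) (∀ i, Fin (d i)) F :=
  Matrix.of fun x y => ∏ i, A i (x i) (y i)

theorem piKron_apply {t : ℕ} {d : Fin t → ℕ} (A : ∀ i, Matrix (Fin (d i)) (Fin (d i)) F) (x y : ∀ i, Fin (d i)) :
    piKron A x y = ∏ i, A i (x i) (y i) := rfl

theorem piKron_mul {t : ℕ} {d : Fin t → ℕ} (A B : ∀ i, Matrix (Fin (d i)) (Fin (d i)) F) :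
    piKron A * piKron B = piKron (A * B) := by
  ext x y
  simp only [Matrix.mul_apply, piKron_apply, Pi.mul_apply]
  rw [Fintype.prod_sum]
  exact Finset.sum_congr rfl fun z _ => Finset.prod_mul_distrib.symm

theorem piKron_one {t : ℕ} (d : Fin t → ℕ) : piKron (1 : ∀ i, Matrix (Fin (d i)) (Fin (d i)) F) = 1 := by
  ext x y
  rw [piKron_apply]
  by_cases h : x = y
  · subst h; simp
  · obtain ⟨i, hi⟩ := Function.ne_iff.mp h
    rw [Matrix.one_apply_ne h, Finset.prod_eq_zero (Finset.mem_univ i)]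
    simp [hi]

theorem piKron_transpose {t : ℕ} {d : Fin t → ℕ} (A : ∀ i, Matrix (Fin (d i)) (Fin (d i)) F) :
    (piKron A)ᵀ = piKron fun i => (A i)ᵀ := rfl

theorem piKron_smul {t : ℕ} {d : Fin t → ℕ} (c : Fin t → F) (A : ∀ i, Matrix (Fin (d i)) (Fin (d i)) F) :
    piKron (fun i => c i • A i) = (∏ i, c i) • piKron A := by
  ext x y
  simp only [Matrix.smul_apply, piKron_apply, smul_eq_mul, Finset.prod_mul_distrib]

/-- A tensor product of invertible matrices as an element of the general linear group. -/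
def piKronGL {t : ℕ} {d : Fin t → ℕ} (a : ∀ i, GL (Fin (d i)) F) : GL (∀ i, Fin (d i)) F :=
  ⟨piKron fun i => (a i : Matrix (Fin (d i)) (Fin (d i)) F),
    piKron fun i => (((a i)⁻¹ : GL (Fin (d i)) F) : Matrix (Fin (d i)) (Fin (d i)) F),
    by
      rw [piKron_mul, show ((fun i => (a i : Matrix (Fin (d i)) (Fin (d i)) F)) * fun i =>
        (((a i)⁻¹ : GL (Fin (d i)) F) : Matrix (Fin (d i)) (Fin (d i)) F)) = 1 from
          funext fun i => by rw [Pi.mul_apply, ← Units.val_mul, mul_inv_cancel]; rfl, piKron_one],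
    by
      rw [piKron_mul, show ((fun i => (((a i)⁻¹ : GL (Fin (d i)) F) : Matrix (Fin (d i)) (Fin (d i)) F)) * fun i =>
        (a i : Matrix (Fin (d i)) (Fin (d i)) F)) = 1 from
          funext fun i => by rw [Pi.mul_apply, ← Units.val_mul, inv_mul_cancel]; rfl, piKron_one]⟩

theorem piKronGL_val {t : ℕ} {d : Fin t → ℕ} (a : ∀ i, GL (Fin (d i)) F) :
    (piKronGL a : Matrix (∀ i, Fin (d i)) (∀ i, Fin (d i)) F) = piKron fun i => (a i : Matrix (Fin (d i)) (Fin (d i)) F) :=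
  rfl

/-- A matrix acting in a single factor. -/
def fac {t : ℕ} {d : Fin t → ℕ} (i : Fin t) (A : Matrix (Fin (d i)) (Fin (d i)) F) :
    Matrix (∀ i, Fin (d i)) (∀ i, Fin (d i)) F :=
  piKron (Pi.mulSingle i A)

theorem fac_submatrix {t : ℕ} {d : Fin t → ℕ} (i : Fin t) (A : Matrix (Fin (d i)) (Fin (d i)) F) :
    (fac i A).submatrix (Equiv.piSplitAt i (fun j => Fin (d j))).symm (Equiv.piSplitAt i (fun j => Fin (d j))).symm =
      A ⊗ₖ (1 : Matrix (∀ j : {j // j ≠ i}, Fin (d j)) (∀ j : {j // j ≠ i}, Fin (d j)) F) := by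
  ext ⟨a, x⟩ ⟨b, y⟩
  rw [Matrix.submatrix_apply, fac, piKron_apply, Matrix.kronecker_apply, ← Finset.mul_prod_erase _ _ (Finset.mem_univ i),
    Pi.mulSingle_eq_same]
  congr 1
  · simp
  · by_cases h : x = y
    · subst h
      rw [Matrix.one_apply_eq]
      refine Finset.prod_eq_one fun j hj => ?_
      rw [Pi.mulSingle_eq_of_ne (Finset.ne_of_mem_erase hj)]
      refine (Matrix.one_apply.trans (if_pos ?_))
      simp [Finset.ne_of_mem_erase hj]
    · obtain ⟨⟨j, hj⟩, hne⟩ := Function.ne_iff.mp h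
      rw [Matrix.one_apply_ne h]
      refine Finset.prod_eq_zero (Finset.mem_erase.mpr ⟨hj, Finset.mem_univ j⟩) ?_
      rw [Pi.mulSingle_eq_of_ne hj, Matrix.one_apply_ne]
      simpa [hj] using hne

/-- The permutation of tensor factors. -/
def permMat {t m : ℕ} (F : Type u) [Field F] (σ : Equiv.Perm (Fin t)) : Matrix (Fin t → Fin m) (Fin t → Fin m) F :=
  Matrix.of fun x y => if y = x ∘ σ then 1 else 0

theorem permMat_apply_mul {t m : ℕ} (σ : Equiv.Perm (Fin t)) (M : Matrix (Fin t → Fin m) (Fin t → Fin m) F)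
    (x y : Fin t → Fin m) : (permMat (m := m) F σ * M) x y = M (x ∘ σ) y := by
  simp [Matrix.mul_apply, permMat]

theorem mul_permMat_apply {t m : ℕ} (σ : Equiv.Perm (Fin t)) (M : Matrix (Fin t → Fin m) (Fin t → Fin m) F)
    (x y : Fin t → Fin m) : (M * permMat (m := m) F σ) x y = M x (y ∘ σ.symm) := by
  rw [Matrix.mul_apply, Finset.sum_eq_single (y ∘ σ.symm)]
  · simp [permMat, Function.comp_assoc]
  · intro z _ hz
    simp only [permMat, Matrix.of_apply]
    rw [if_neg, mul_zero]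
    exact fun e => hz (by rw [e, Function.comp_assoc, Equiv.self_comp_symm, Function.comp_id])
  · simp

theorem permMat_transpose {t m : ℕ} (σ : Equiv.Perm (Fin t)) :
    (permMat (m := m) F σ)ᵀ = permMat F σ.symm := by
  ext x y
  simp only [Matrix.transpose_apply, permMat, Matrix.of_apply]
  refine if_congr ⟨fun h => ?_, fun h => ?_⟩ rfl rfl <;> rw [h] <;> simp [Function.comp_assoc]

/-- The permutation of tensor factors as an element of the general linear group. -/
def permGL {t m : ℕ} (F : Type u) [Field F] (σ : Equiv.Perm (Fin t)) : GL (Fin t → Fin m) F :=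
  ⟨permMat F σ, permMat F σ.symm,
    by ext x y; rw [permMat_apply_mul]; simp [permMat, Matrix.one_apply, Function.comp_assoc, eq_comm],
    by ext x y; rw [permMat_apply_mul]; simp [permMat, Matrix.one_apply, Function.comp_assoc, eq_comm]⟩

theorem permMat_piKron {t m : ℕ} (σ : Equiv.Perm (Fin t)) (A : Fin t → Matrix (Fin m) (Fin m) F) :
    permMat F σ * piKron (d := fun _ => m) A = piKron (d := fun _ => m) (fun i => A (σ.symm i)) * permMat F σ := by
  ext x y
  rw [permMat_apply_mul, mul_permMat_apply, piKron_apply, piKron_apply]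
  exact Fintype.prod_equiv σ _ _ fun i => by simp

theorem permMat_fac {t m : ℕ} (σ : Equiv.Perm (Fin t)) (i : Fin t) (A : Matrix (Fin m) (Fin m) F) :
    permMat F σ * fac (d := fun _ => m) i A = fac (d := fun _ => m) (σ i) A * permMat F σ := by
  rw [fac, permMat_piKron, fac]
  congr 2
  funext j
  by_cases h : j = σ i
  · subst h; simp
  · rw [Pi.mulSingle_eq_of_ne h, Pi.mulSingle_eq_of_ne]
    exact fun e => h (by rw [← e, Equiv.apply_symm_apply])

/-- A factor permutation times a pure tensor. -/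
def IsWreathMat {t m : ℕ} (M : Matrix (Fin t → Fin m) (Fin t → Fin m) F) : Prop :=
  ∃ (σ : Equiv.Perm (Fin t)) (a : Fin t → GL (Fin m) F),
    M = permMat F σ * piKron (d := fun _ => m) fun i => (a i : Matrix (Fin m) (Fin m) F)

variable {ι : Type} [Fintype ι] [DecidableEq ι]

/-- An element in coordinates. -/
def inCoords {κ : Type} (e : ι ≃ κ) (P g : GL ι F) : Matrix κ κ F :=
  ((P⁻¹ * g * P : GL ι F) : Matrix ι ι F).submatrix e.symm e.symm

theorem mem_conjReindex {κ : Type} [Fintype κ] [DecidableEq κ] {K : Subgroup (GL κ F)} (e : ι ≃ κ) (P g : GL ι F)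
    {k : GL κ F} (hk : k ∈ K) (h : inCoords e P g = (k : Matrix κ κ F)) :
    g ∈ (K.map (glReindex e.symm).toMonoidHom).map (MulAut.conj P).toMonoidHom := by
  refine ⟨_, ⟨k, hk, rfl⟩, ?_⟩
  have e1 : (P⁻¹ * g * P : GL ι F) = glReindex e.symm k := Units.ext (by
    show ((P⁻¹ * g * P : GL ι F) : Matrix ι ι F) = (k : Matrix κ κ F).submatrix e e
    rw [← h, inCoords, Matrix.submatrix_submatrix]
    simp)
  rw [MulEquiv.coe_toMonoidHom, MulEquiv.coe_toMonoidHom, MulAut.conj_apply, ← e1]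
  simp [mul_assoc]

theorem mem_wreath {t m : ℕ} (e : ι ≃ (Fin t → Fin m)) (P g : GL ι F) (h : IsWreathMat (inCoords e P g)) :
    g ∈ tensorWreathSubgroup m t e P := by
  obtain ⟨σ, a, h⟩ := h
  exact mem_conjReindex e P g (K := tensorWreathStandard m t F) (k := permGL F σ * piKronGL (d := fun _ => m) a)
    (mul_mem (Subgroup.subset_closure (Or.inr ⟨σ, fun x y => rfl⟩))
      (Subgroup.subset_closure (Or.inl ⟨a, fun x y => rfl⟩))) h

/-- Coordinates as a change of basis. -/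
theorem Coords.exists_gl {κ : Type} [Fintype κ] [DecidableEq κ] {Φ : Matrix ι κ F} {Ψ : Matrix κ ι F}
    (hc : Coords Φ Ψ) (e : ι ≃ κ) : ∃ P : GL ι F, ∀ g : GL ι F, inCoords e P g = Ψ * (g : Matrix ι ι F) * Φ := by
  refine ⟨⟨Φ.submatrix id e, Ψ.submatrix e id, ?_, ?_⟩, fun g => ?_⟩
  · rw [Matrix.submatrix_mul_equiv, hc.left, Matrix.submatrix_id_id]
  · rw [← Matrix.submatrix_mul Ψ Φ e id e Function.bijective_id, hc.right, Matrix.submatrix_one_equiv]
  · simp only [inCoords, Units.val_mul, Units.inv_mk]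
    ext a b
    simp [Matrix.mul_apply]

/-- The alternating matrix of degree two. -/
def jTwo (F : Type u) [Field F] : Matrix (Fin 2) (Fin 2) F := !![0, 1; -1, 0]

theorem jTwo_conj (a : Matrix (Fin 2) (Fin 2) F) : aᵀ * jTwo F * a = a.det • jTwo F := by
  ext i j
  fin_cases i <;> fin_cases j <;> simp [jTwo, Matrix.mul_apply, Fin.sum_univ_two, Matrix.det_fin_two] <;> ring

/-- Stabilisers of a tensor power of planes preserve a form up to scalars. -/
theorem form_of_wreath_two [Fintype F] {t : ℕ} (ht : 0 < t) (e : ι ≃ (Fin t → Fin 2)) (P : GL ι F)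
    {H : Subgroup (GL ι F)} (hH : ∀ g ∈ H, IsWreathMat (inCoords e P g)) :
    ((2 : F) ≠ 0 ∧ ∃ Q : (ι → F) → F, IsNondegenerateQuadraticForm Q ∧ H ≤ quadSimilarityGroup Q) ∨
      ∃ f : (ι → F) → (ι → F) → F, IsSymplecticForm f ∧ H ≤ similarityGroup f := by
  set J : Matrix (Fin t → Fin 2) (Fin t → Fin 2) F := piKron (d := fun _ => 2) fun _ => jTwo F with hJ
  set Pi' : Matrix ι ι F := ((P⁻¹ : GL ι F) : Matrix ι ι F) with hPi
  set X : Matrix ι ι F := Pi'ᵀ * J.submatrix e e * Pi' with hX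
  have hJdet : J.det ≠ 0 := Matrix.det_ne_zero_of_left_inverse (B := piKron (d := fun _ => 2) fun _ => -jTwo F) (by
    rw [hJ, piKron_mul, ← piKron_one (F := F) (fun _ : Fin t => 2)]
    congr 1
    funext i
    ext a b
    fin_cases a <;> fin_cases b <;> simp [jTwo, Matrix.mul_apply, Fin.sum_univ_two])
  have hXdet : X.det ≠ 0 := by
    rw [hX, Matrix.det_mul, Matrix.det_mul, Matrix.det_transpose, Matrix.det_submatrix_equiv_self]
    exact mul_ne_zero (mul_ne_zero (gl_det_ne_zero _) hJdet) (gl_det_ne_zero _)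
  have hJT : Jᵀ = (-1 : F) ^ t • J := by
    rw [hJ, piKron_transpose, show (fun _ : Fin t => (jTwo F)ᵀ) = fun _ => (-1 : F) • jTwo F from funext fun _ => by
      ext a b; fin_cases a <;> fin_cases b <;> simp [jTwo],
      piKron_smul (fun _ => (-1 : F)) (fun _ => jTwo F), Finset.prod_const, Finset.card_univ, Fintype.card_fin]
  have hXT : Xᵀ = (-1 : F) ^ t • X := by
    rw [hX, Matrix.transpose_mul, Matrix.transpose_mul, Matrix.transpose_transpose, Matrix.transpose_submatrix, hJT,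
      Matrix.submatrix_smul, Pi.smul_apply, Pi.smul_apply, Matrix.smul_mul, Matrix.mul_smul, Matrix.mul_assoc]
  have key : ∀ g ∈ H, ∃ c : F, c ≠ 0 ∧ (g : Matrix ι ι F)ᵀ * X * (g : Matrix ι ι F) = c • X := by
    intro g hg
    obtain ⟨σ, a, ha⟩ := hH g hg
    set N := inCoords e P g with hN
    refine ⟨∏ i, (a i : Matrix (Fin 2) (Fin 2) F).det, Finset.prod_ne_zero_iff.mpr fun i _ => gl_det_ne_zero _, ?_⟩
    have h1 : Nᵀ * J * N = (∏ i, (a i : Matrix (Fin 2) (Fin 2) F).det) • J := by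
      have hperm : (permMat (m := 2) F σ)ᵀ * permMat (m := 2) F σ = 1 := by
        rw [permMat_transpose]
        exact (permGL (m := 2) F σ).inv_mul
      rw [ha, Matrix.transpose_mul]
      calc _ = (piKron (d := fun _ => 2) fun i => (a i : Matrix (Fin 2) (Fin 2) F))ᵀ *
            ((permMat F σ)ᵀ * (J * permMat (m := 2) F σ)) *
            (piKron (d := fun _ => 2) fun i => (a i : Matrix (Fin 2) (Fin 2) F)) := by simp only [Matrix.mul_assoc]
        _ = _ := by
          rw [show J * permMat (m := 2) F σ = permMat F σ * J by rw [hJ, permMat_piKron],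
            ← Matrix.mul_assoc (permMat F σ)ᵀ, hperm, Matrix.one_mul, hJ, piKron_transpose, piKron_mul, piKron_mul,
            ← piKron_smul]
          congr 1
          funext i
          exact jTwo_conj _
    have h2 : ((P⁻¹ * g * P : GL ι F) : Matrix ι ι F) = N.submatrix e e := by
      rw [hN, inCoords, Matrix.submatrix_submatrix]; simp
    have h3 : ((P⁻¹ * g * P : GL ι F) : Matrix ι ι F)ᵀ * J.submatrix e e * ((P⁻¹ * g * P : GL ι F) : Matrix ι ι F) =
        (∏ i, (a i : Matrix (Fin 2) (Fin 2) F).det) • J.submatrix e e := by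
      rw [h2, Matrix.transpose_submatrix, Matrix.submatrix_mul_equiv, Matrix.submatrix_mul_equiv, h1,
        Matrix.submatrix_smul]
      rfl
    have h4 : Pi' * (g : Matrix ι ι F) = ((P⁻¹ * g * P : GL ι F) : Matrix ι ι F) * Pi' := by
      rw [hPi, ← Units.val_mul, ← Units.val_mul, mul_inv_cancel_right]
    calc (g : Matrix ι ι F)ᵀ * X * (g : Matrix ι ι F)
        = (Pi' * (g : Matrix ι ι F))ᵀ * J.submatrix e e * (Pi' * (g : Matrix ι ι F)) := by
          rw [hX, Matrix.transpose_mul]; simp only [Matrix.mul_assoc]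
      _ = Pi'ᵀ * (((P⁻¹ * g * P : GL ι F) : Matrix ι ι F)ᵀ * J.submatrix e e *
            ((P⁻¹ * g * P : GL ι F) : Matrix ι ι F)) * Pi' := by
          rw [h4, Matrix.transpose_mul]; simp only [Matrix.mul_assoc]
      _ = _ := by rw [h3, hX, Matrix.mul_smul, Matrix.smul_mul]
  by_cases hq : (2 : F) ≠ 0 ∧ Even t
  · obtain ⟨h2, ht2⟩ := hq
    rw [ht2.neg_one_pow, one_smul] at hXT
    refine Or.inl ⟨h2, _, matQuad_nondegenerate hXdet hXT h2, fun g hg => ?_⟩
    obtain ⟨c, hc, h⟩ := key g hg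
    exact mem_quadSimilarity_of hc h
  · have hneg : (-1 : F) ^ t = -1 := by
      rcases Nat.even_or_odd t with he | ho
      · have h2 : (2 : F) = 0 := by_contra fun h2 => hq ⟨h2, he⟩
        rw [he.neg_one_pow, eq_neg_iff_add_eq_zero, one_add_one_eq_two, h2]
      · exact ho.neg_one_pow
    rw [hneg, neg_one_smul] at hXT
    have hJ' : IsSymplecticForm (matForm (RingEquiv.refl F) (J.submatrix e e)) := by
      refine matForm_symplectic (by rw [Matrix.det_submatrix_equiv_self]; exact hJdet) ?_ fun i => ?_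
      · rw [Matrix.transpose_submatrix, hJT, hneg, neg_one_smul]
        rfl
      · rw [Matrix.submatrix_apply, hJ, piKron_apply]
        exact Finset.prod_eq_zero (Finset.mem_univ ⟨0, ht⟩) (by
          generalize e i ⟨0, ht⟩ = a
          fin_cases a <;> simp [jTwo])
    have hXd : ∀ i, X i i = 0 := fun i => by
      have h1 := hJ'.alternating (Pi' *ᵥ Pi.single i 1)
      rw [matForm_mulVec, RingEquiv.coe_refl, Matrix.map_id, ← hX, matForm, single_one_dotProduct,
        RingEquiv.coe_refl, Function.id_comp, Matrix.mulVec_single_one] at h1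
      exact h1
    refine Or.inr ⟨_, matForm_symplectic hXdet hXT hXd, fun g hg => ?_⟩
    obtain ⟨c, hc, h⟩ := key g hg
    exact mem_similarity_of hc (by rw [RingEquiv.coe_refl, Matrix.map_id]; exact h)

/-- The classes of subgroups reached by the structure theorem, with the degree in the symplectic-type class. -/
def Refined (n : ℕ) (F : Type u) [Field F] [Fintype F] (M : Subgroup (GL (Fin n) F)) : Prop :=
  (∃ W : Submodule F (Fin n → F), W ≠ ⊥ ∧ W ≠ ⊤ ∧ M = subspaceStabilizer W) ∨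
  (∃ (t m : ℕ) (D : Fin t → Submodule F (Fin n → F)), IsMDecomposition m D ∧ M = decompositionStabilizer D) ∨
  (∃ (r : ℕ) (K : Subalgebra F (Matrix (Fin n) (Fin n) F)), r.Prime ∧ IsFieldSubalgebra r K ∧
      M = subalgebraNormalizer K) ∨
  (∃ (n₁ n₂ : ℕ) (e : Fin n ≃ Fin n₁ × Fin n₂) (P : GL (Fin n) F), 2 ≤ n₁ ∧ n₁ < n₂ ∧
      M = tensorProductSubgroup n₁ n₂ e P) ∨
  (∃ (F₀ : Subfield F) (r : ℕ) (P : GL (Fin n) F), r.Prime ∧ Fintype.card F = Nat.card F₀ ^ r ∧
      M = subfieldSubgroup F₀ P) ∨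
  (∃ (r : ℕ) (R : Subgroup (GL (Fin n) F)), IsLinearSymplecticTypeData r R ∧ (∃ m : ℕ, n = r ^ m) ∧
      M = subgroupNormalizer R) ∨
  (∃ (m t : ℕ) (e : Fin n ≃ (Fin t → Fin m)) (P : GL (Fin n) F), 3 ≤ m ∧ 2 ≤ t ∧
      M = tensorWreathSubgroup m t e P) ∨
  (∃ f : (Fin n → F) → (Fin n → F) → F, IsSymplecticForm f ∧ Even n ∧ 4 ≤ n ∧ M = similarityGroup f) ∨
  (∃ (σ : F ≃+* F) (f : (Fin n → F) → (Fin n → F) → F), IsUnitaryForm σ f ∧ 3 ≤ n ∧ M = similarityGroup f) ∨
  (∃ Q : (Fin n → F) → F, IsNondegenerateQuadraticForm Q ∧ Odd (Fintype.card F) ∧ 3 ≤ n ∧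
      M = quadSimilarityGroup Q)

theorem Refined.inLinearClass {n : ℕ} [Fintype F] {M : Subgroup (GL (Fin n) F)} (h : Refined n F M) :
    InLinearClass n F M := by
  rcases h with h | h | h | h | h | ⟨r, R, hR, -, hM⟩ | h | h | h | h
  · exact Or.inl h
  · exact Or.inr (Or.inr (Or.inr (Or.inl h)))
  · exact Or.inr (Or.inr (Or.inr (Or.inr (Or.inl h))))
  · exact Or.inr (Or.inr (Or.inr (Or.inr (Or.inr (Or.inl h)))))
  · exact Or.inr (Or.inr (Or.inr (Or.inr (Or.inr (Or.inr (Or.inl h))))))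
  · exact Or.inr (Or.inr (Or.inr (Or.inr (Or.inr (Or.inr (Or.inr (Or.inl ⟨r, R, hR, hM⟩)))))))
  · exact Or.inr (Or.inr (Or.inr (Or.inr (Or.inr (Or.inr (Or.inr (Or.inr (Or.inl h))))))))
  · exact Or.inr (Or.inr (Or.inr (Or.inr (Or.inr (Or.inr (Or.inr (Or.inr (Or.inr (Or.inl h)))))))))
  · exact Or.inr (Or.inr (Or.inr (Or.inr (Or.inr (Or.inr (Or.inr (Or.inr (Or.inr (Or.inr (Or.inl h))))))))))
  · exact Or.inr (Or.inr (Or.inr (Or.inr (Or.inr (Or.inr (Or.inr (Or.inr (Or.inr (Or.inr (Or.inr h))))))))))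

/-- Some member of the geometric classes contains `H`. -/
def InClassLE {n : ℕ} [Fintype F] (H : Subgroup (GL (Fin n) F)) : Prop :=
  ∃ M : Subgroup (GL (Fin n) F), Refined n F M ∧ H ≤ M

theorem InClassLE.exists_class {n : ℕ} [Fintype F] {H : Subgroup (GL (Fin n) F)} (h : InClassLE H) :
    ∃ M : Subgroup (GL (Fin n) F), InLinearClass n F M ∧ H ≤ M :=
  let ⟨M, hM, hle⟩ := h; ⟨M, hM.inLinearClass, hle⟩

variable {n : ℕ} [Fintype F] {H : Subgroup (GL (Fin n) F)}

theorem inClassLE_subspace {W : Submodule F (Fin n → F)} (h0 : W ≠ ⊥) (h1 : W ≠ ⊤) (h : H ≤ subspaceStabilizer W) :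
    InClassLE H :=
  ⟨_, Or.inl ⟨W, h0, h1, rfl⟩, h⟩

theorem inClassLE_decomposition {t m : ℕ} {D : Fin t → Submodule F (Fin n → F)} (hD : IsMDecomposition m D)
    (h : H ≤ decompositionStabilizer D) : InClassLE H :=
  ⟨_, Or.inr (Or.inl ⟨t, m, D, hD, rfl⟩), h⟩

theorem inClassLE_field {r : ℕ} {K : Subalgebra F (Matrix (Fin n) (Fin n) F)} (hr : r.Prime)
    (hK : IsFieldSubalgebra r K) (h : H ≤ subalgebraNormalizer K) : InClassLE H :=
  ⟨_, Or.inr (Or.inr (Or.inl ⟨r, K, hr, hK, rfl⟩)), h⟩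

theorem inClassLE_tensor {n₁ n₂ : ℕ} {e : Fin n ≃ Fin n₁ × Fin n₂} {P : GL (Fin n) F} (h1 : 2 ≤ n₁) (h2 : n₁ < n₂)
    (h : H ≤ tensorProductSubgroup n₁ n₂ e P) : InClassLE H :=
  ⟨_, Or.inr (Or.inr (Or.inr (Or.inl ⟨n₁, n₂, e, P, h1, h2, rfl⟩))), h⟩

theorem inClassLE_subfield {F₀ : Subfield F} {r : ℕ} {P : GL (Fin n) F} (hr : r.Prime)
    (hc : Fintype.card F = Nat.card F₀ ^ r) (h : H ≤ subfieldSubgroup F₀ P) : InClassLE H :=
  ⟨_, Or.inr (Or.inr (Or.inr (Or.inr (Or.inl ⟨F₀, r, P, hr, hc, rfl⟩)))), h⟩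

theorem inClassLE_symplecticType {r : ℕ} {R : Subgroup (GL (Fin n) F)} (hR : IsLinearSymplecticTypeData r R)
    (hm : ∃ m : ℕ, n = r ^ m)
    (h : H ≤ subgroupNormalizer R) : InClassLE H :=
  ⟨_, Or.inr (Or.inr (Or.inr (Or.inr (Or.inr (Or.inl ⟨r, R, hR, hm, rfl⟩))))), h⟩

theorem inClassLE_wreath {m t : ℕ} {e : Fin n ≃ (Fin t → Fin m)} {P : GL (Fin n) F} (hm : 3 ≤ m) (ht : 2 ≤ t)
    (h : H ≤ tensorWreathSubgroup m t e P) : InClassLE H :=
  ⟨_, Or.inr (Or.inr (Or.inr (Or.inr (Or.inr (Or.inr (Or.inl ⟨m, t, e, P, hm, ht, rfl⟩)))))), h⟩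

theorem inClassLE_symplectic (hn : 3 ≤ n) {f : (Fin n → F) → (Fin n → F) → F} (hf : IsSymplecticForm f)
    (h : H ≤ similarityGroup f) : InClassLE H := by
  have heven : Even n := by
    by_contra ho
    exact Cfsg.Lib.Classical.PrimeDim.no_alternating (Fintype.card_fin n) (Nat.not_even_iff_odd.mp ho) hf.bilinear
      hf.alternating hf.nondegenerate
  refine ⟨_, Or.inr (Or.inr (Or.inr (Or.inr (Or.inr (Or.inr (Or.inr (Or.inl
    ⟨f, hf, heven, ?_, rfl⟩))))))), h⟩
  obtain ⟨k, hk⟩ := heven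
  omega

theorem inClassLE_unitary (hn : 3 ≤ n) {σ : F ≃+* F} {f : (Fin n → F) → (Fin n → F) → F} (hf : IsUnitaryForm σ f)
    (h : H ≤ similarityGroup f) : InClassLE H :=
  ⟨_, Or.inr (Or.inr (Or.inr (Or.inr (Or.inr (Or.inr (Or.inr (Or.inr (Or.inl
    ⟨σ, f, hf, hn, rfl⟩)))))))), h⟩

theorem odd_card_of_two_ne_zero (h2 : (2 : F) ≠ 0) : Odd (Fintype.card F) := by
  rw [Nat.odd_iff]
  refine FiniteField.odd_card_of_char_ne_two fun h => h2 ?_
  have h0 := ringChar.Nat.cast_ringChar (R := F)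
  rwa [h, Nat.cast_ofNat] at h0

theorem inClassLE_quadratic (hn : 3 ≤ n) (h2 : (2 : F) ≠ 0) {Q : (Fin n → F) → F}
    (hQ : IsNondegenerateQuadraticForm Q) (h : H ≤ quadSimilarityGroup Q) : InClassLE H :=
  ⟨_, Or.inr (Or.inr (Or.inr (Or.inr (Or.inr (Or.inr (Or.inr (Or.inr (Or.inr
    ⟨Q, hQ, odd_card_of_two_ne_zero h2, hn, rfl⟩)))))))), h⟩

/-- Stabilisers of tensor decompositions with equal factors. -/
theorem inClassLE_of_wreath (hn : 3 ≤ n) {m t : ℕ} (hm : 2 ≤ m) (ht : 2 ≤ t) (e : Fin n ≃ (Fin t → Fin m))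
    (P : GL (Fin n) F) (hH : ∀ g ∈ H, IsWreathMat (inCoords e P g)) : InClassLE H := by
  rcases eq_or_lt_of_le hm with rfl | hm3
  · rcases form_of_wreath_two (by omega) e P hH with ⟨h2, Q, hQ, hle⟩ | ⟨f, hf, hle⟩
    · exact inClassLE_quadratic hn h2 hQ hle
    · exact inClassLE_symplectic hn hf hle
  · exact inClassLE_wreath hm3 ht fun g hg => mem_wreath e P g (hH g hg)

/-- Stabilisers of tensor products. -/
theorem inClassLE_of_kron (hn : 3 ≤ n) {d k : ℕ} (hd : 2 ≤ d) (hk : 2 ≤ k) {Φ : Matrix (Fin n) (Fin d × Fin k) F}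
    {Ψ : Matrix (Fin d × Fin k) (Fin n) F} (hc : Coords Φ Ψ)
    (hH : ∀ h ∈ H, ∃ (a : GL (Fin d) F) (b : GL (Fin k) F), Ψ * (h : Matrix (Fin n) (Fin n) F) * Φ =
      (a : Matrix (Fin d) (Fin d) F) ⊗ₖ (b : Matrix (Fin k) (Fin k) F)) : InClassLE H := by
  let e : Fin n ≃ Fin d × Fin k := Fintype.equivOfCardEq hc.card_eq.symm
  obtain ⟨P, hP⟩ := hc.exists_gl e
  rcases lt_trichotomy d k with hlt | rfl | hlt
  · refine inClassLE_tensor hd hlt (e := e) (P := P) fun h hh => ?_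
    obtain ⟨a, b, hab⟩ := hH h hh
    have hdet : ((a : Matrix (Fin d) (Fin d) F) ⊗ₖ (b : Matrix (Fin k) (Fin k) F)).det ≠ 0 := by
      rw [Matrix.det_kronecker]
      exact mul_ne_zero (pow_ne_zero _ (gl_det_ne_zero a)) (pow_ne_zero _ (gl_det_ne_zero b))
    exact mem_conjReindex e P h (K := kroneckerSubgroup d k F) (k := Matrix.GeneralLinearGroup.mkOfDetNeZero _ hdet)
      ⟨a, b, rfl⟩ ((hP h).trans hab)
  · refine inClassLE_of_wreath hn hd le_rfl (e.trans (finTwoArrowEquiv (Fin d)).symm) P fun h hh => ?_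
    obtain ⟨a, b, hab⟩ := hH h hh
    refine ⟨1, ![a, b], Matrix.ext fun x y => ?_⟩
    have h1 := congrFun (congrFun ((hP h).trans hab) (x 0, x 1)) (y 0, y 1)
    rw [permMat_apply_mul, piKron_apply, Fin.prod_univ_two]
    simpa [inCoords] using h1
  · let e' : Fin n ≃ Fin k × Fin d := e.trans (Equiv.prodComm _ _)
    refine inClassLE_tensor hk hlt (e := e') (P := P) fun h hh => ?_
    obtain ⟨a, b, hab⟩ := hH h hh
    have hdet : ((b : Matrix (Fin k) (Fin k) F) ⊗ₖ (a : Matrix (Fin d) (Fin d) F)).det ≠ 0 := by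
      rw [Matrix.det_kronecker]
      exact mul_ne_zero (pow_ne_zero _ (gl_det_ne_zero b)) (pow_ne_zero _ (gl_det_ne_zero a))
    refine mem_conjReindex e' P h (K := kroneckerSubgroup k d F) (k := Matrix.GeneralLinearGroup.mkOfDetNeZero _ hdet)
      ⟨b, a, rfl⟩ (Matrix.ext fun x y => ?_)
    have h1 := congrFun (congrFun ((hP h).trans hab) (x.2, x.1)) (y.2, y.1)
    simp only [Matrix.kronecker_apply] at h1
    show _ = ((b : Matrix (Fin k) (Fin k) F) ⊗ₖ (a : Matrix (Fin d) (Fin d) F)) x y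
    rw [Matrix.kronecker_apply, mul_comm, ← h1]
    rfl

end Cfsg.Lib.Classical.Aschbacher
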