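import Cfsg.Agent.Classical.Aschbacher.Pairing
import Cfsg.Agent.Classical.Aschbacher.Descent
import Cfsg.Agent.Classical.Aschbacher.Tensor
import Cfsg.Agent.Classical.PrimeDim.Linear

/-! Normalisers of groups of symplectic type. -/

set_option autoImplicit false
set_option linter.unusedSimpArgs false
set_option linter.unusedSectionVars false
set_option linter.style.haveILetI false

namespace Cfsg.Lib.Classical.Aschbacher

open Matrix Cfsg.Geo
open scoped MatrixGroups commutatorElement
open Cfsg.Lib.Classical.PrimeDim (Normalises forall_matrixSet mem_matrixSet scalar_commute exists_char_card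
  orderOf_natCast_facts powField card_powField exists_conj mem_scalars_of_val_eq val_mul_inv val_inv_mul
  le_subfield_of_realisable)

universe u

theorem pow_mul_of_central {G : Type*} [Group G] {g h z : G} (hz : ∀ x, z * x = x * z) (hhg : h * g = g * h * z)
    (k : ℕ) : (g * h) ^ k = g ^ k * h ^ k * z ^ k.choose 2 := by
  have hzk : ∀ (j : ℕ) x, z ^ j * x = x * z ^ j := fun j x => (Commute.pow_left (hz x) j).eq
  have hk : ∀ j, h ^ j * g = g * h ^ j * z ^ j := by
    intro j
    induction j with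
    | zero => simp
    | succ j ih =>
      rw [pow_succ', mul_assoc, ih, ← mul_assoc, ← mul_assoc, hhg, mul_assoc (g * h), hz, ← mul_assoc,
        mul_assoc g, ← pow_succ', mul_assoc (g * _), ← pow_succ', pow_succ']
  induction k with
  | zero => simp
  | succ k ih =>
    rw [pow_succ, ih, Nat.choose_succ_succ', Nat.choose_one_right, pow_add z k (k.choose 2)]
    calc g ^ k * h ^ k * z ^ k.choose 2 * (g * h) = g ^ k * (h ^ k * g) * h * z ^ k.choose 2 := by
          rw [mul_assoc (g ^ k * h ^ k), hzk]; simp only [mul_assoc]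
      _ = g ^ k * (g * h ^ k * z ^ k) * h * z ^ k.choose 2 := by rw [hk]
      _ = g ^ k * g * h ^ k * (z ^ k * h) * z ^ k.choose 2 := by simp only [mul_assoc]
      _ = g ^ k * g * h ^ k * (h * z ^ k) * z ^ k.choose 2 := by rw [hzk]
      _ = g ^ (k + 1) * h ^ (k + 1) * (z ^ k * z ^ k.choose 2) := by
          rw [pow_succ g k, pow_succ h k]; simp only [mul_assoc]

section

variable {ι : Type} [Fintype ι] [DecidableEq ι] {F : Type u} [Field F] [Nonempty ι]

/-- The scalar matrix with a given unit. -/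
def scl (ι : Type) [Fintype ι] [DecidableEq ι] (c : Fˣ) : GL ι F :=
  Units.map (Matrix.scalar ι : F →+* Matrix ι ι F).toMonoidHom c

theorem scl_mem (c : Fˣ) : scl ι c ∈ scalars ι F := ⟨c, rfl⟩

theorem scl_val (c : Fˣ) : (scl ι c : Matrix ι ι F) = (c : F) • (1 : Matrix ι ι F) := by
  simp [scl, Matrix.smul_one_eq_diagonal]

theorem scl_injective : Function.Injective (scl ι : Fˣ → GL ι F) := fun a b h => by
  have := congrArg (fun z : GL ι F => sval z) h
  rw [sval_eq (scl_val a), sval_eq (scl_val b)] at this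
  exact Units.ext this

/-- The scalars killed by `E` correspond to the roots of unity. -/
theorem card_scalar_roots [Finite F] (E : ℕ) :
    Nat.card {s : GL ι F // s ∈ scalars ι F ∧ s ^ E = 1} = (Nat.card Fˣ).gcd E := by
  rw [← IsCyclic.card_powMonoidHom_ker (G := Fˣ) E]
  refine (Nat.card_eq_of_bijective
    (fun c : (powMonoidHom E : Fˣ →* Fˣ).ker => (⟨scl ι (c : Fˣ), scl_mem _, by
      rw [scl, ← map_pow, show (c : Fˣ) ^ E = 1 from c.2, map_one]⟩ : {s : GL ι F // s ∈ scalars ι F ∧ s ^ E = 1}))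
    ⟨fun a b h => Subtype.ext (scl_injective (congrArg Subtype.val h)), fun s => ?_⟩).symm
  obtain ⟨c, hc⟩ := s.2.1
  have hc' : scl ι c = (s : GL ι F) := hc
  refine ⟨⟨c, scl_injective (ι := ι) ?_⟩, Subtype.ext hc'⟩
  show scl ι ((powMonoidHom E) c) = scl ι 1
  rw [powMonoidHom_apply, scl, map_pow, show Units.map _ c = (s : GL ι F) from hc', s.2.2, scl, map_one]

/-- In a finite cyclic group, powers of a non-`r`-th power reach every class modulo `r`-th powers. -/
theorem exists_pow_mul_isPow {r : ℕ} (hr : r.Prime) [Finite F] {a b : Fˣ} (ha : ¬ ∃ c, c ^ r = a) :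
    ∃ (i : ℕ) (c : Fˣ), c ^ r = a ^ i * b := by
  obtain ⟨γ, hγ⟩ := IsCyclic.exists_generator (α := Fˣ)
  obtain ⟨x, rfl⟩ := mem_powers_iff_mem_zpowers.mpr (hγ a)
  obtain ⟨y, rfl⟩ := mem_powers_iff_mem_zpowers.mpr (hγ b)
  haveI := Fact.mk hr
  have hx : (x : ZMod r) ≠ 0 := fun e => by
    obtain ⟨j, hj⟩ := (ZMod.natCast_eq_zero_iff x r).mp e
    exact ha ⟨γ ^ j, by show (γ ^ j) ^ r = γ ^ x; rw [← pow_mul, hj, mul_comm]⟩
  refine ⟨(-(y : ZMod r) * (x : ZMod r)⁻¹).val, ?_⟩
  set i := (-(y : ZMod r) * (x : ZMod r)⁻¹).val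
  have : ((x * i + y : ℕ) : ZMod r) = 0 := by
    rw [Nat.cast_add, Nat.cast_mul, ZMod.natCast_zmod_val, mul_comm (-(y : ZMod r)), ← mul_assoc, mul_inv_cancel₀ hx,
      one_mul, neg_add_cancel]
  obtain ⟨j, hj⟩ := (ZMod.natCast_eq_zero_iff _ r).mp this
  refine ⟨γ ^ j, ?_⟩
  show (γ ^ j) ^ r = (γ ^ x) ^ i * γ ^ y
  rw [← pow_mul, ← pow_mul, ← pow_add, hj, mul_comm]

namespace SympN

variable [Finite F] {r : ℕ} {H N : Subgroup (GL ι F)}

theorem comm_sup (hN : SympN r N) {x y : GL ι F} (hx : x ∈ N ⊔ scalars ι F) (hy : y ∈ N ⊔ scalars ι F) :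
    ⁅x, y⁆ ∈ scalars ι F ∧ ⁅x, y⁆ ^ r = 1 := by
  obtain ⟨a, ha, s, hs, rfl⟩ := Subgroup.mem_sup_of_normal_right.mp hx
  obtain ⟨b, hb, t, ht, rfl⟩ := Subgroup.mem_sup_of_normal_right.mp hy
  have e : ⁅a * s, b * t⁆ = ⁅a, b⁆ := by
    simp only [commutatorElement_def, _root_.mul_inv_rev]
    have h2 := scalar_commute ht (s⁻¹ * a⁻¹)
    calc a * s * (b * t) * (s⁻¹ * a⁻¹) * (t⁻¹ * b⁻¹)
        = a * s * b * (t * (s⁻¹ * a⁻¹)) * t⁻¹ * b⁻¹ := by simp only [mul_assoc]
      _ = a * (s * b) * s⁻¹ * a⁻¹ * b⁻¹ := by rw [h2]; simp [mul_assoc]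
      _ = a * b * a⁻¹ * b⁻¹ := by rw [scalar_commute hs b]; simp [mul_assoc]
  rw [e]
  exact ⟨hN.comm a ha b hb, hN.comm_pow_r ha hb⟩

/-- The elements killed by `E`. -/
def roots (hN : SympN r N) {E : ℕ} (hE : r ∣ E.choose 2) : Subgroup (GL ι F) where
  carrier := {x | x ∈ N ⊔ scalars ι F ∧ x ^ E = 1}
  one_mem' := ⟨one_mem _, one_pow E⟩
  inv_mem' := fun {x} hx => ⟨inv_mem hx.1, by rw [inv_pow, hx.2, inv_one]⟩
  mul_mem' := fun {x y} hx hy => ⟨mul_mem hx.1 hy.1, by
    obtain ⟨hs, hr⟩ := hN.comm_sup (inv_mem hy.1) (inv_mem hx.1)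
    rw [pow_mul_of_central (z := ⁅y⁻¹, x⁻¹⁆) (fun z => scalar_commute hs z)
      (by simp only [commutatorElement_def, inv_inv]; group) E, hx.2, hy.2, one_mul, one_mul]
    obtain ⟨j, hj⟩ := hE
    rw [hj, pow_mul, hr, one_pow]⟩

theorem normalises_sup (hn : Normalises H N) : Normalises H (N ⊔ scalars ι F) := by
  intro h hh x hx
  obtain ⟨a, ha, s, hs, rfl⟩ := Subgroup.mem_sup_of_normal_right.mp hx
  rw [show h * (a * s) * h⁻¹ = (h * a * h⁻¹) * (h * s * h⁻¹) by group]
  exact mul_mem (Subgroup.mem_sup_left (hn h hh a ha)) (Subgroup.mem_sup_right (scalars_normal.conj_mem s hs h))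

theorem roots_normalises (hN : SympN r N) {E : ℕ} (hE : r ∣ E.choose 2) (hn : Normalises H N) :
    Normalises H (hN.roots hE) := fun h hh x hx =>
  ⟨normalises_sup hn h hh x hx.1, by rw [conj_pow, hx.2, mul_one, mul_inv_cancel]⟩

/-- Every element can be scaled so as to be killed by `E`. -/
def HasReps (N : Subgroup (GL ι F)) (E : ℕ) : Prop := ∀ g ∈ N, ∃ c : Fˣ, (scl ι c * g) ^ E = 1

theorem roots_absIrred (hN : SympN r N) {E : ℕ} (hE : r ∣ E.choose 2) (hrep : HasReps N E) :
    ActsAbsolutelyIrreducibly (matrixSet (hN.roots hE)) := by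
  have key : ∀ g ∈ N, ∃ x ∈ hN.roots hE, ∃ c : F, (g : Matrix ι ι F) = c • (x : Matrix ι ι F) := by
    intro g hg
    obtain ⟨c, hc⟩ := hrep g hg
    refine ⟨scl ι c * g, ⟨mul_mem (Subgroup.mem_sup_right (scl_mem c)) (Subgroup.mem_sup_left hg), hc⟩, (c⁻¹ : Fˣ), ?_⟩
    rw [Units.val_mul, scl_val, Matrix.smul_mul, Matrix.one_mul, smul_smul, ← Units.val_mul, inv_mul_cancel,
      Units.val_one, one_smul]
  refine ⟨(Cfsg.Lib.Classical.PrimeDim.irreducible_iff _).mpr fun W hW => ?_, fun M hM => ?_⟩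
  · refine (Cfsg.Lib.Classical.PrimeDim.irreducible_iff _).mp hN.absIrred.1 W fun g hg v hv => ?_
    obtain ⟨x, hx, c, hc⟩ := key g hg
    rw [hc, Matrix.smul_mulVec]
    exact W.smul_mem c (hW x hx v hv)
  · refine hN.absIrred.2 M (forall_matrixSet.mpr fun g hg => ?_)
    obtain ⟨x, hx, c, hc⟩ := key g hg
    rw [hc, Matrix.mul_smul, Matrix.smul_mul, hM _ (mem_matrixSet hx)]

theorem mem_center_roots (hN : SympN r N) {E : ℕ} (hE : r ∣ E.choose 2) (hrep : HasReps N E)
    (x : hN.roots hE) : x ∈ Subgroup.center (hN.roots hE) ↔ (x : GL ι F) ∈ scalars ι F := by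
  refine ⟨fun h => ?_, fun h => Subgroup.mem_center_iff.mpr fun y =>
    Subtype.ext (scalar_commute h (y : GL ι F)).symm⟩
  obtain ⟨c, hc⟩ := (hN.roots_absIrred hE hrep).2 ((x : GL ι F) : Matrix ι ι F) (forall_matrixSet.mpr fun y hy => by
    rw [← Units.val_mul, ← Units.val_mul]
    exact congrArg Units.val (congrArg Subtype.val (Subgroup.mem_center_iff.mp h ⟨y, hy⟩)).symm)
  exact mem_scalars_of_val_eq hc

theorem card_center_roots (hN : SympN r N) {E : ℕ} (hE : r ∣ E.choose 2) (hrep : HasReps N E) :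
    Nat.card (Subgroup.center (hN.roots hE)) = (Nat.card Fˣ).gcd E := by
  rw [← card_scalar_roots (ι := ι) (F := F) E]
  exact Nat.card_congr
    { toFun := fun x => ⟨((x : hN.roots hE) : GL ι F), (hN.mem_center_roots hE hrep _).mp x.2, (x : hN.roots hE).2.2⟩
      invFun := fun s => ⟨⟨(s : GL ι F), Subgroup.mem_sup_right s.2.1, s.2.2⟩, (hN.mem_center_roots hE hrep _).mpr s.2.1⟩
      left_inv := fun x => rfl
      right_inv := fun s => rfl }

theorem card_roots (hN : SympN r N) {E : ℕ} (hE : r ∣ E.choose 2) (hrep : HasReps N E) :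
    Nat.card (hN.roots hE) = (Nat.card Fˣ).gcd E * Fintype.card ι ^ 2 := by
  classical
  let Q := N ⧸ (scalars ι F).subgroupOf N
  choose c hc using fun q : Q => hrep _ (Quotient.out q : N).2
  let s : Q → GL ι F := fun q => scl ι (c q) * ((Quotient.out q : N) : GL ι F)
  have hs : ∀ q, s q ∈ hN.roots hE := fun q =>
    ⟨mul_mem (Subgroup.mem_sup_right (scl_mem _)) (Subgroup.mem_sup_left (Quotient.out q : N).2), hc q⟩
  rw [← card_scalar_roots (ι := ι) (F := F) E, ← (hN.card_classes).1, ← Nat.card_prod]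
  refine (Nat.card_eq_of_bijective (fun zq : {z : GL ι F // z ∈ scalars ι F ∧ z ^ E = 1} × Q =>
    (⟨(zq.1 : GL ι F) * s zq.2, mul_mem ⟨Subgroup.mem_sup_right zq.1.2.1, zq.1.2.2⟩ (hs zq.2)⟩ : hN.roots hE))
    ⟨?_, ?_⟩).symm
  · rintro ⟨z, q⟩ ⟨z', q'⟩ h
    have h1 : (z : GL ι F) * s q = (z' : GL ι F) * s q' := congrArg Subtype.val h
    have hq : q = q' := by
      rw [← Quotient.out_eq q, ← Quotient.out_eq q']
      refine QuotientGroup.eq.mpr ?_
      show ((Quotient.out q : N) : GL ι F)⁻¹ * ((Quotient.out q' : N) : GL ι F) ∈ scalars ι F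
      set a := ((Quotient.out q : N) : GL ι F)
      set b := ((Quotient.out q' : N) : GL ι F)
      have h2 : ((z' : GL ι F) * scl ι (c q'))⁻¹ * ((z : GL ι F) * scl ι (c q)) * a = b := by
        rw [mul_assoc _ ((z : GL ι F) * _) a, mul_assoc (z : GL ι F), h1]
        simp only [s, a, b]; group
      rw [← h2, scalar_commute (mul_mem (inv_mem (mul_mem z'.2.1 (scl_mem _))) (mul_mem z.2.1 (scl_mem _))) a,
        inv_mul_cancel_left]
      exact mul_mem (inv_mem (mul_mem z'.2.1 (scl_mem _))) (mul_mem z.2.1 (scl_mem _))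
    subst hq
    exact Prod.ext (Subtype.ext (mul_right_cancel h1)) rfl
  · rintro ⟨x, hx, hxE⟩
    obtain ⟨g, hg, z, hz, hgz⟩ := Subgroup.mem_sup_of_normal_right.mp hx
    let q : Q := QuotientGroup.mk ⟨g, hg⟩
    have hq : g⁻¹ * ((Quotient.out q : N) : GL ι F) ∈ scalars ι F :=
      (QuotientGroup.eq (s := (scalars ι F).subgroupOf N)).mp (Quotient.out_eq q).symm
    have hzs : x * (s q)⁻¹ ∈ scalars ι F := by
      rw [← hgz]
      simp only [s, _root_.mul_inv_rev]
      set b := ((Quotient.out q : N) : GL ι F)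
      rw [show g * z * (b⁻¹ * (scl ι (c q))⁻¹) = (g * (z * (g⁻¹ * b)⁻¹) * g⁻¹) * (scl ι (c q))⁻¹ by group]
      exact mul_mem (scalars_normal.conj_mem _ (mul_mem hz (inv_mem hq)) g) (inv_mem (scl_mem _))
    have hzE : (x * (s q)⁻¹) ^ E = 1 := (mul_mem (⟨hx, hxE⟩ : x ∈ hN.roots hE) (inv_mem (hs q))).2
    exact ⟨(⟨_, hzs, hzE⟩, q), Subtype.ext (inv_mul_cancel_right x (s q))⟩

/-- The minimality of `N` among non-scalar normalised subgroups. -/
def Minimal (H N : Subgroup (GL ι F)) : Prop :=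
  ∀ K : Subgroup (GL ι F), K ≤ N → Normalises H K → ¬ K ≤ scalars ι F → K = N

theorem roots_symplecticType (hN : SympN r N) {E : ℕ} (hE : r ∣ E.choose 2) (hrep : HasReps N E)
    (hn : Normalises H N) (hmin : Minimal H N) (hEr : E = r * Nat.gcd 2 r)
    (hord : ∃ x ∈ hN.roots hE, orderOf x = E) {m : ℕ} (hcard : Nat.card (hN.roots hE) = r ^ m) :
    IsSymplecticTypeGroup r (hN.roots hE) where
  prime := hN.prime
  pGroup := IsPGroup.of_card hcard
  cyclic_of_characteristic A hA hAc := by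
    have hn' := Cfsg.Lib.Classical.PrimeDim.char_normalises (hN.roots_normalises hE hn) A hA
    set A' := A.map (hN.roots hE).subtype
    have hle : A' ≤ scalars ι F := by
      by_contra hns
      let K := N ⊓ (A' ⊔ scalars ι F)
      have hKn : Normalises H K := fun h hh x hx => by
        obtain ⟨a, ha, z, hz, hx'⟩ := Subgroup.mem_sup_of_normal_right.mp hx.2
        refine ⟨hn h hh x hx.1, ?_⟩
        rw [← hx', show h * (a * z) * h⁻¹ = (h * a * h⁻¹) * (h * z * h⁻¹) by group]
        exact mul_mem (Subgroup.mem_sup_left (hn' h hh a ha)) (Subgroup.mem_sup_right (scalars_normal.conj_mem z hz h))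
      obtain ⟨a, ha, hans⟩ := SetLike.not_le_iff_exists.mp hns
      have hKns : ¬ K ≤ scalars ι F := fun hK => by
        have hmem := Subgroup.map_subtype_le A ha
        obtain ⟨g, hg, z, hz, hgz⟩ := Subgroup.mem_sup_of_normal_right.mp hmem.1
        refine hans (hgz ▸ mul_mem (hK ⟨hg, ?_⟩) hz)
        rw [eq_mul_inv_of_mul_eq hgz]
        exact mul_mem (Subgroup.mem_sup_left ha) (Subgroup.mem_sup_right (inv_mem hz))
      have hKN := hmin K inf_le_left hKn hKns
      obtain ⟨x, hx, y, hy, hxy⟩ := hN.exists_comm_ne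
      rw [← hKN] at hx hy
      obtain ⟨a₁, ha₁, z₁, hz₁, rfl⟩ := Subgroup.mem_sup_of_normal_right.mp hx.2
      obtain ⟨a₂, ha₂, z₂, hz₂, rfl⟩ := Subgroup.mem_sup_of_normal_right.mp hy.2
      refine hxy (commutatorElement_eq_one_iff_mul_comm.mpr ?_)
      obtain ⟨⟨a₁, h₁⟩, hA₁, rfl⟩ := ha₁
      obtain ⟨⟨a₂, h₂⟩, hA₂, rfl⟩ := ha₂
      have hab : a₁ * a₂ = a₂ * a₁ :=
        congrArg (fun w : A => ((w : hN.roots hE) : GL ι F)) (hAc.is_comm.comm ⟨⟨a₁, h₁⟩, hA₁⟩ ⟨⟨a₂, h₂⟩, hA₂⟩)
      show a₁ * z₁ * (a₂ * z₂) = a₂ * z₂ * (a₁ * z₁)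
      calc a₁ * z₁ * (a₂ * z₂) = a₁ * (z₁ * a₂) * z₂ := by simp only [mul_assoc]
        _ = (a₁ * a₂) * (z₁ * z₂) := by rw [scalar_commute hz₁ a₂]; simp only [mul_assoc]
        _ = a₂ * (a₁ * z₂) * z₁ := by rw [hab, scalar_commute hz₁ z₂]; simp only [mul_assoc]
        _ = _ := by rw [← scalar_commute hz₂ a₁]; simp only [mul_assoc]
    haveI : Finite A := Finite.of_injective (fun x : A => ((x : hN.roots hE) : GL ι F))
      (fun x y h => Subtype.ext (Subtype.ext h))
    exact isCyclic_of_subgroup_isDomain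
      (⟨⟨fun x => sval ((x : hN.roots hE) : GL ι F), sval_one⟩,
        fun x y => sval_mul (hle ⟨_, x.2, rfl⟩) (hle ⟨_, y.2, rfl⟩)⟩ : A →* F)
      (fun x y h => by
        refine Subtype.ext (Subtype.ext (Units.ext ?_))
        have h' : sval ((x : hN.roots hE) : GL ι F) = sval ((y : hN.roots hE) : GL ι F) := h
        exact (val_eq_sval (hle ⟨_, x.2, rfl⟩)).trans ((congrArg (fun a : F => a • (1 : Matrix ι ι F)) h').trans
          (val_eq_sval (hle ⟨_, y.2, rfl⟩)).symm))
  exponent_eq := by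
    rw [← hEr]
    refine Nat.dvd_antisymm (Monoid.exponent_dvd_of_forall_pow_eq_one fun x => Subtype.ext x.2.2) ?_
    obtain ⟨x, hx, hx'⟩ := hord
    have := Monoid.order_dvd_exponent (⟨x, hx⟩ : hN.roots hE)
    rw [Subgroup.orderOf_mk] at this
    exact hx'.symm.dvd.trans this

theorem trace_sum (hN : SympN r N) {E : ℕ} (hE : r ∣ E.choose 2) (hrep : HasReps N E) [Fintype (hN.roots hE)]
    {φ : GL ι F → F} (hφ0 : ∀ x : GL ι F, (x : Matrix ι ι F).trace = 0 → φ x = 0)
    (hφ : ∀ x, x ∈ scalars ι F → x ^ E = 1 → φ x = (Fintype.card ι : F) ^ 2) :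
    ∑ g : hN.roots hE, φ (g : GL ι F) = ((Nat.card Fˣ).gcd E : F) * (Fintype.card ι : F) ^ 2 := by
  classical
  rw [← Finset.sum_filter_add_sum_filter_not Finset.univ (fun g : hN.roots hE => (g : GL ι F) ∈ scalars ι F),
    Finset.sum_congr rfl (fun g hg => hφ _ (Finset.mem_filter.mp hg).2 g.2.2), Finset.sum_eq_zero (fun g hg =>
      hφ0 _ (hN.trace_zero g.2.1 (Finset.mem_filter.mp hg).2)), add_zero, Finset.sum_const, nsmul_eq_mul,
    ← hN.card_center_roots hE hrep, Nat.card_eq_fintype_card, ← Fintype.card_subtype]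
  congr 2
  exact Fintype.card_congr (Equiv.subtypeEquivRight fun g => (hN.mem_center_roots hE hrep g).symm)

/-- Scaling is possible when the roots of commutators are powers. -/
theorem exists_scaling (hN : SympN r N) (hn : Normalises H N) (hmin : Minimal H N)
    (hpow : ∀ a ∈ N, ∀ b ∈ N, ∃ c : Fˣ, ⁅a, b⁆ ^ r.choose 2 = scl ι c ^ r) :
    ∀ g ∈ N, ∃ c : Fˣ, (scl ι c * g) ^ r = 1 := by
  let K : Subgroup (GL ι F) :=
    { carrier := {g | g ∈ N ∧ ∃ c : Fˣ, g ^ r = scl ι c ^ r}
      one_mem' := ⟨one_mem N, 1, by simp [scl]⟩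
      inv_mem' := fun {g} ⟨hg, c, hc⟩ => ⟨inv_mem hg, c⁻¹, by rw [inv_pow, hc, scl, scl, map_inv, inv_pow]⟩
      mul_mem' := fun {g g'} ⟨hg, c, hc⟩ ⟨hg', c', hc'⟩ => ⟨mul_mem hg hg', by
        obtain ⟨d, hd⟩ := hpow _ (inv_mem hg') _ (inv_mem hg)
        refine ⟨c * c' * d, ?_⟩
        rw [pow_mul_of_central (z := ⁅g'⁻¹, g⁻¹⁆) (fun z => scalar_commute (hN.comm _ (inv_mem hg') _ (inv_mem hg)) z)
          (by simp only [commutatorElement_def, inv_inv]; group) r, hc, hc', hd]
        simp only [scl, ← map_pow, ← map_mul, mul_pow]⟩ }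
  have hKn : Normalises H K := fun h hh g ⟨hg, c, hc⟩ => ⟨hn h hh g hg, c, by
    rw [conj_pow, hc, ← scalar_commute (_root_.pow_mem (scl_mem c) r) h, mul_inv_cancel_right]⟩
  intro g hg
  have hgK : g ∈ K := by
    by_cases hKs : K ≤ scalars ι F
    swap
    · rw [hmin K (fun x hx => hx.1) hKn hKs]; exact hg
    by_contra hgK
    have key : ∀ x ∈ N, ∃ i, g ^ i * x ∈ scalars ι F := by
      intro x hx
      obtain ⟨a, ha⟩ := hN.pow_mem g hg
      obtain ⟨b, hb⟩ := hN.pow_mem x hx
      have hna : ¬ ∃ c : Fˣ, c ^ r = a := fun ⟨c, hc⟩ => hgK ⟨hg, c, by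
        rw [← ha, ← hc, scl, ← map_pow]⟩
      obtain ⟨i, c, hc⟩ := exists_pow_mul_isPow hN.prime (b := b) hna
      refine ⟨i, hKs ⟨mul_mem (_root_.pow_mem hg i) hx, ?_⟩⟩
      obtain ⟨d, hd⟩ := hpow _ (inv_mem hx) _ (inv_mem (_root_.pow_mem hg i))
      refine ⟨c * d, ?_⟩
      rw [pow_mul_of_central (z := ⁅x⁻¹, (g ^ i)⁻¹⁆)
        (fun z => scalar_commute (hN.comm _ (inv_mem hx) _ (inv_mem (_root_.pow_mem hg i))) z)
        (by simp only [commutatorElement_def, inv_inv]; group) r, hd, ← pow_mul, mul_comm i r, pow_mul, ← ha, ← hb]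
      simp only [scl, ← map_pow, ← map_mul, mul_pow, hc]
    obtain ⟨a, ha, b, hb, hab⟩ := hN.exists_comm_ne
    apply hab
    obtain ⟨i, hi⟩ := key a ha
    obtain ⟨j, hj⟩ := key b hb
    have ea : a = (g ^ i)⁻¹ * (g ^ i * a) := by group
    have eb : b = (g ^ j)⁻¹ * (g ^ j * b) := by group
    rw [commutatorElement_eq_one_iff_mul_comm, ea, eb]
    set s := g ^ i * a
    set t := g ^ j * b
    calc (g ^ i)⁻¹ * s * ((g ^ j)⁻¹ * t) = (g ^ i)⁻¹ * (s * (g ^ j)⁻¹) * t := by simp only [mul_assoc]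
      _ = ((g ^ i)⁻¹ * (g ^ j)⁻¹) * (s * t) := by rw [scalar_commute hi]; simp only [mul_assoc]
      _ = ((g ^ j)⁻¹ * (g ^ i)⁻¹) * (s * t) := by
          congr 1
          exact ((Commute.pow_pow (Commute.refl g) i j).inv_inv).eq
      _ = (g ^ j)⁻¹ * ((g ^ i)⁻¹ * t) * s := by rw [scalar_commute hi t]; simp only [mul_assoc]
      _ = _ := by rw [← scalar_commute hj]; simp only [mul_assoc]
  obtain ⟨-, c, hc⟩ := hgK
  refine ⟨c⁻¹, ?_⟩
  rw [(show Commute (scl ι c⁻¹) g from scalar_commute (scl_mem _) g).mul_pow, hc]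
  simp only [scl, map_inv, inv_pow, inv_mul_cancel]

/-- When `-1` is not a square, elements of square scalar can be scaled to order dividing four. -/
theorem hasReps_four (hN : SympN 2 N) (hneg : ¬ IsSquare (-1 : F)) : HasReps N 4 := by
  intro g hg
  obtain ⟨a, ha⟩ := hN.pow_mem g hg
  by_cases hsq : ∃ c : Fˣ, c ^ 2 = a
  · obtain ⟨c, hc⟩ := hsq
    refine ⟨c⁻¹, ?_⟩
    rw [show (4 : ℕ) = 2 * 2 from rfl, pow_mul, (show Commute (scl ι c⁻¹) g from scalar_commute (scl_mem _) g).mul_pow,
      ← ha, ← hc]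
    simp [scl]
  · have hn1 : ¬ ∃ c : Fˣ, c ^ 2 = -1 := fun ⟨c, hc⟩ => hneg ⟨(c : F), by
      rw [← sq, ← Units.val_pow_eq_pow_val, hc]; rfl⟩
    obtain ⟨i, c, hc⟩ := exists_pow_mul_isPow Nat.prime_two (b := a) hn1
    have hi : (-1 : Fˣ) ^ i = -1 := by
      rcases neg_one_pow_eq_or Fˣ i with e | e
      · exact absurd ⟨c, by rw [hc, e, one_mul]⟩ hsq
      · exact e
    rw [hi] at hc
    refine ⟨c⁻¹, ?_⟩
    rw [show (4 : ℕ) = 2 * 2 from rfl, pow_mul, (show Commute (scl ι c⁻¹) g from scalar_commute (scl_mem _) g).mul_pow,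
      ← ha, show a = -1 * c ^ 2 by rw [hc]; simp]
    simp [scl, ← map_pow, ← map_inv, ← map_mul]

end SympN

end

open SympN (Minimal HasReps)

variable {n : ℕ} {F : Type u} [Field F] [Fintype F] {r : ℕ} {H N : Subgroup (GL (Fin n) F)}

/-- A group of symplectic type gives one of the classes. -/
theorem inClassLE_of_sympN [Nonempty (Fin n)] (hn3 : 3 ≤ n) (hN : SympN r N) (hn : Normalises H N)
    (hmin : Minimal H N) : InClassLE H := by
  classical
  obtain ⟨p, f, hp, hchar, hf0, hf⟩ := exists_char_card F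
  haveI := Fact.mk hp
  haveI := Fact.mk hN.prime
  obtain ⟨m, hm, -⟩ := (hN.card_classes).2
  rw [Fintype.card_fin] at hm
  have hm0 : m ≠ 0 := fun e => by rw [e, pow_zero] at hm; omega
  have hrp : r ≠ p := fun e => hN.natCast_ne_zero (e ▸ CharP.cast_eq_zero F p)
  have hn0 : (n : F) ≠ 0 := by rw [hm, Nat.cast_pow]; exact pow_ne_zero _ hN.natCast_ne_zero
  have hpr : ¬ r ∣ p := fun h => hrp ((Nat.prime_dvd_prime_iff_eq hN.prime hp).mp h)
  obtain ⟨ζ, hζ⟩ := hN.exists_primitiveRoot
  have hru : r ∣ Nat.card Fˣ := by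
    have hu := hζ.isUnit hN.prime.ne_zero
    rw [hζ.eq_orderOf, ← hu.unit_spec, orderOf_units]
    exact orderOf_dvd_natCard hu.unit
  have hunits : Nat.card Fˣ = p ^ f - 1 := by rw [Nat.card_units, hf]
  have hfcard : Fintype.card F = p ^ f := by rw [← Nat.card_eq_fintype_card, hf]
  -- the final case distinction, given the scaling
  have finish : ∀ (E e : ℕ) (hE : r ∣ E.choose 2) (hrep : HasReps N E) (hEr : E = r * Nat.gcd 2 r)
      (μ : ℕ) (hμ : (Nat.card Fˣ).gcd E = μ) (hμE : μ = E) (he : 0 < e) (hef : e ∣ f)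
      (hmine : ∀ d, μ ∣ p ^ d - 1 ↔ e ∣ d)
      (hfield : Odd e → e = f → (Odd r ∧ μ = r) ∨ (r = 2 ∧ e = 1 ∧ μ = 4)),
      InClassLE H := by
    intro E e hE hrep hEr μ hμ hμE he hef hmine hfield
    haveI : Fintype (hN.roots hE) := Fintype.ofFinite _
    set R := hN.roots hE with hR_def
    have hai := hN.roots_absIrred hE hrep
    have hRn := hN.roots_normalises hE hn
    have hcardR : Nat.card R = μ * n ^ 2 := by rw [hN.card_roots hE hrep, hμ, Fintype.card_fin]
    have hμ0 : (μ : F) ≠ 0 := by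
      rw [hμE, hEr, Nat.cast_mul]
      refine mul_ne_zero hN.natCast_ne_zero ?_
      rcases (Nat.dvd_prime Nat.prime_two).mp (Nat.gcd_dvd_left 2 r) with e | e
      · rw [e, Nat.cast_one]; exact one_ne_zero
      · have hr2 : r = 2 := ((Nat.prime_dvd_prime_iff_eq Nat.prime_two hN.prime).mp (e ▸ Nat.gcd_dvd_right 2 r)).symm
        rw [e, ← hr2]
        exact hN.natCast_ne_zero
    have hsum0 : (μ : F) * (n : F) ^ 2 ≠ 0 := mul_ne_zero hμ0 (pow_ne_zero _ hn0)
    have hsc : ∀ x : GL (Fin n) F, x ∈ scalars (Fin n) F → x ^ E = 1 → sval x ^ μ = 1 := fun x hx hxE => by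
      rw [hμE, ← sval_pow hx, hxE, sval_one]
    have htr : ∀ x : GL (Fin n) F, x ∈ scalars (Fin n) F →
        (x : Matrix (Fin n) (Fin n) F).trace = sval x * n := fun x hx => by
      rw [val_eq_sval hx, Matrix.trace_smul, Matrix.trace_one, Fintype.card_fin, smul_eq_mul]
    obtain ⟨s, hs⟩ := hef
    have hs0 : 0 < s := Nat.pos_of_ne_zero fun h => by rw [h, mul_zero] at hs; omega
    rcases Nat.lt_or_ge 1 s with hs1 | hs1
    · -- a proper subfield
      have hsum : ∑ g : R, ((g : GL (Fin n) F) : Matrix (Fin n) (Fin n) F).trace ^ p ^ e *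
          (((g : GL (Fin n) F)⁻¹ : GL (Fin n) F) : Matrix (Fin n) (Fin n) F).trace ≠ 0 := by
        rw [hN.trace_sum hE hrep (φ := fun g => (g : Matrix (Fin n) (Fin n) F).trace ^ p ^ e *
          ((g⁻¹ : GL (Fin n) F) : Matrix (Fin n) (Fin n) F).trace) (fun x hx => by
            rw [hx, zero_pow (pow_ne_zero _ hp.ne_zero), zero_mul]) (fun x hx hxE => by
            rw [htr x hx, htr _ (inv_mem hx), mul_pow, show (n : F) ^ p ^ e = n by
              rw [← iterateFrobenius_def, map_natCast], Fintype.card_fin]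
            have h1 : sval x ^ p ^ e = sval x := by
              obtain ⟨k, hk⟩ := (hmine e).mpr dvd_rfl
              rw [show p ^ e = μ * k + 1 by have := Nat.one_le_pow e p hp.pos; omega, pow_succ, pow_mul,
                hsc x hx hxE, one_pow, one_mul]
            have h2 : sval x * sval x⁻¹ = 1 := by rw [← sval_mul hx (inv_mem hx), mul_inv_cancel, sval_one]
            rw [h1]
            linear_combination ((n : F) ^ 2) * h2), hμ, Fintype.card_fin]
        exact hsum0
      have hreal := realisable_of_sum (p := p) (e := e) (s := s) he hs0 (by rw [hfcard, hs]) hai hsum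
      obtain ⟨F₁, r', B, hr', hcF, hle, -⟩ := le_subfield_of_realisable hRn hai (F₀ := powField F p e) (fun h => by
        have h1 := card_powField (F := F) (p := p) he hf (Dvd.intro s hs.symm)
        rw [h, Nat.card_congr Subfield.topEquiv.toEquiv, hf] at h1
        have := Nat.pow_right_injective hp.two_le h1
        rw [hs] at this
        nlinarith) hreal
      exact inClassLE_subfield hr' (by rw [← Nat.card_eq_fintype_card]; exact hcF) hle
    · have hes : e = f := by rw [hs, show s = 1 by omega, mul_one]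
      rcases Nat.even_or_odd e with ⟨e', he'⟩ | hodd
      · -- a unitary form
        have hF : Fintype.card F = (p ^ e') ^ 2 := by rw [hfcard, ← hes, he', ← pow_mul]; ring_nf
        obtain ⟨σ, hσ, hne, hinv⟩ := exists_conj hF
        have hdvd : μ ∣ p ^ e' + 1 := by
          have hμr : r ∣ μ := by rw [hμE, hEr]; exact dvd_mul_right _ _
          have h1 := (hmine e).mpr dvd_rfl
          have hnot : ¬ μ ∣ p ^ e' - 1 := fun h => by have := Nat.le_of_dvd (by omega) ((hmine e').mp h); omega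
          rw [show e = e' + e' from he', pow_add] at h1
          rcases Nat.even_or_odd r with hre | hro
          · -- `μ = 4`
            have hr2 : r = 2 := (hN.prime.even_iff).mp hre
            subst hr2
            rw [hμE, hEr] at h1 hnot ⊢
            norm_num at h1 hnot ⊢
            have hpo : Odd (p ^ e') := (hp.odd_of_ne_two fun h => hrp h.symm).pow
            obtain ⟨k, hk⟩ := hpo
            rw [hk] at hnot ⊢
            omega
          · have hμ' : μ = r := by
              rw [hμE, hEr, Nat.Coprime.gcd_eq_one ((Nat.coprime_two_left).mpr hro), mul_one]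
            rw [hμ'] at h1 hnot ⊢
            have h3 : p ^ e' * p ^ e' - 1 = (p ^ e' + 1) * (p ^ e' - 1) := by
              have h5 := Nat.sq_sub_sq (p ^ e') 1
              rwa [one_pow, sq] at h5
            rw [h3] at h1
            exact (hN.prime.dvd_mul.mp h1).resolve_right hnot
        obtain ⟨f', hf', hle⟩ := le_unitary_of_sum hRn hai hne hinv (by
          rw [hN.trace_sum hE hrep (φ := fun g => (g : Matrix (Fin n) (Fin n) F).trace *
            σ (g : Matrix (Fin n) (Fin n) F).trace) (fun x hx => by rw [hx, zero_mul]) (fun x hx hxE => by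
              rw [htr x hx, map_mul, map_natCast, Fintype.card_fin]
              obtain ⟨k, hk⟩ := hdvd
              have h1 : sval x * σ (sval x) = 1 := by
                rw [hσ, ← pow_succ', hk, pow_mul, hsc x hx hxE, one_pow]
              linear_combination ((n : F) ^ 2) * h1), hμ, Fintype.card_fin]
          exact hsum0)
        exact inClassLE_unitary hn3 hf' hle
      · -- the class of symplectic type
        have hcase := hfield hodd hes
        have hcen : Nat.card (Subgroup.center R) = μ := by rw [hN.card_center_roots hE hrep, hμ]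
        have hRr : Nat.card R = r ^ ((if r = 2 then 2 else 1) + 2 * m) := by
          rw [hcardR, hμE, hEr, hm, ← pow_mul, mul_comm m 2]
          split_ifs with h2
          · rw [h2, pow_add]; norm_num
          · rw [Nat.Coprime.gcd_eq_one ((Nat.coprime_two_left).mpr (hN.prime.odd_of_ne_two h2)), mul_one, pow_add,
              pow_one]
        have hord : ∃ x ∈ R, orderOf x = E := by
          rcases hcase with ⟨ho, hμr⟩ | ⟨hr2, -, hμ4⟩
          · have hEr' : E = r := hμE.symm.trans hμr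
            haveI : Nontrivial R := Finite.one_lt_card_iff_nontrivial.mp (by
              rw [hRr]; exact Nat.one_lt_pow (by split_ifs <;> omega) hN.prime.one_lt)
            obtain ⟨x, hx⟩ := exists_ne (1 : R)
            refine ⟨x, x.2, ?_⟩
            rw [hEr']
            exact orderOf_eq_prime (hEr' ▸ x.2.2) (fun e => hx (Subtype.ext e))
          · obtain ⟨γ, hγ⟩ := IsCyclic.exists_ofOrder_eq_natCard (α := Fˣ)
            have h4 : 4 ∣ Nat.card Fˣ := by rw [← hμ4, ← hμ]; exact Nat.gcd_dvd_left _ _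
            obtain ⟨k, hk⟩ := h4
            have ho4 : orderOf (γ ^ k) = 4 := by
              rw [orderOf_pow' γ (fun e => by rw [e, mul_zero] at hk; exact Nat.card_pos.ne' hk), hγ, hk,
                Nat.gcd_mul_left_left, Nat.mul_div_cancel _ (Nat.pos_of_ne_zero fun e => by
                  rw [e, mul_zero] at hk; exact Nat.card_pos.ne' hk)]
            have hE4 : E = 4 := hμE.symm.trans hμ4
            refine ⟨scl (Fin n) (γ ^ k), ⟨Subgroup.mem_sup_right (scl_mem _), ?_⟩, ?_⟩
            · rw [hE4, scl, ← map_pow, ← ho4, pow_orderOf_eq_one, map_one]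
            · rw [hE4, ← ho4]
              exact orderOf_injective (Units.map (Matrix.scalar (Fin n) : F →+* Matrix (Fin n) (Fin n) F).toMonoidHom)
                scl_injective _
        refine inClassLE_symplecticType (r := r) (R := R) ⟨hN.roots_symplecticType hE hrep hn hmin hEr hord hRr, hai,
          p, e, hrp, ⟨hp, hchar, by rw [hfcard, hes], by rw [hcen]; exact (hmine e).mpr dvd_rfl,
            fun d hd0 hde h => by
              rw [hcen] at h
              have := Nat.le_of_dvd hd0 ((hmine d).mp h)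
              omega⟩, ?_⟩ ⟨m, hm⟩ (fun h hh => ?_)
        · rcases hcase with ⟨ho, hμr⟩ | ⟨hr2, he1, hμ4⟩
          · refine Or.inl ⟨ho, hodd, by rw [hcen, hμr], m, Nat.pos_of_ne_zero hm0, ?_⟩
            rw [hRr, if_neg (fun h => absurd ho (Nat.not_odd_iff_even.mpr (by rw [h]; exact even_two)))]
          · refine Or.inr (Or.inl ⟨hr2, he1, by rw [hcen, hμ4], ?_, m, ?_⟩)
            · rw [Fintype.card_fin, hm, hr2]
              rcases Nat.lt_or_ge m 2 with hm2 | hm2
              · have : m = 1 := by omega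
                subst this; rw [hr2] at hm; omega
              · exact le_trans (by norm_num) (Nat.pow_le_pow_right (show 1 ≤ 2 by norm_num) hm2)
            · rw [hRr, if_pos hr2, hr2]
        · rw [subgroupNormalizer, Subgroup.mem_normalizer_iff]
          exact fun x => ⟨fun hx => hRn h hh x hx, fun hx => by simpa [mul_assoc] using hRn.inv hh hx⟩
  rcases hN.prime.eq_two_or_odd' with rfl | hro
  · -- `r = 2`
    have hpo : Odd p := hp.odd_of_ne_two fun h => hrp h.symm
    by_cases hneg : IsSquare (-1 : F)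
    · have h4 : 4 ∣ p ^ f - 1 := by
        have h := (FiniteField.isSquare_neg_one_iff (F := F)).mp hneg
        rw [hfcard] at h
        have := Nat.odd_iff.mp (hpo.pow (n := f))
        omega
      obtain ⟨w, hw⟩ := hneg
      have hrep : HasReps N 4 := fun g hg => by
        obtain ⟨c, hc⟩ := hN.exists_scaling hn hmin (fun a ha b hb => by
          have h2 : ⁅a, b⁆ ^ 2 = 1 := hN.comm_pow_r ha hb
          rw [show Nat.choose 2 2 = 1 from rfl, pow_one]
          rcases eq_or_ne ⁅a, b⁆ 1 with e | e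
          · exact ⟨1, by rw [e]; simp [scl]⟩
          · have hw0 : w ≠ 0 := fun e => by rw [e, mul_zero] at hw; exact neg_ne_zero.mpr one_ne_zero hw
            refine ⟨Units.mk0 w hw0, Units.ext ?_⟩
            rw [val_eq_sval (hN.comm a ha b hb), Units.val_pow_eq_pow_val, scl_val, Units.val_mk0, _root_.smul_pow,
              one_pow, sq w, ← hw]
            have h3 : sval ⁅a, b⁆ ^ 2 = 1 := by rw [← sval_pow (hN.comm a ha b hb), h2, sval_one]
            rcases mul_self_eq_one_iff.mp ((sq (sval ⁅a, b⁆)).symm.trans h3) with h4 | h4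
            · exact absurd (eq_one_of_sval (hN.comm a ha b hb) h4) e
            · rw [h4]) g hg
        exact ⟨c, by rw [show (4 : ℕ) = 2 * 2 from rfl, pow_mul, hc, one_pow]⟩
      have hp14 : p % 4 = 1 ∨ p % 4 = 3 := by have := Nat.odd_iff.mp hpo; omega
      have hmod : ∀ d, 4 ∣ p ^ d - 1 ↔ p ^ d % 4 = 1 := fun d => by
        have := Nat.one_le_pow d p hp.pos; omega
      rcases hp14 with h1 | h3
      · refine finish 4 1 (⟨3, rfl⟩) hrep rfl 4 ?_ rfl one_pos (one_dvd f) (fun d => ?_) (fun _ _ => Or.inr ⟨rfl, rfl, rfl⟩)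
        · rw [hunits]; exact Nat.gcd_eq_right h4
        · simp [hmod, Nat.pow_mod, h1]
      · have key : ∀ d, p ^ d % 4 = 1 ↔ 2 ∣ d := fun d => by
          obtain ⟨j, rfl⟩ | ⟨j, rfl⟩ := Nat.even_or_odd d
          · simp [← two_mul, Nat.pow_mod, h3, pow_mul]
          · simp [pow_succ, Nat.mul_mod, Nat.pow_mod, h3, pow_mul]
        refine finish 4 2 (⟨3, rfl⟩) hrep rfl 4 ?_ rfl two_pos ?_ (fun d => ?_)
          (fun ho => absurd ho (Nat.not_odd_iff_even.mpr even_two))
        · rw [hunits]; exact Nat.gcd_eq_right h4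
        · exact (key f).mp ((hmod f).mp h4)
        · rw [hmod, key]
    · -- a bilinear form
      have hrep := hN.hasReps_four hneg
      have hE : 2 ∣ Nat.choose 4 2 := ⟨3, rfl⟩
      haveI : Fintype (hN.roots hE) := Fintype.ofFinite _
      have h4 : (Nat.card Fˣ).gcd 4 = 2 := by
        have h : ¬ 4 ∣ p ^ f - 1 := fun h => hneg ((FiniteField.isSquare_neg_one_iff (F := F)).mpr (by
          rw [hfcard]; have := Nat.one_le_pow f p hp.pos; omega))
        rw [hunits]
        rw [hunits] at hru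
        rcases (Nat.dvd_prime_pow Nat.prime_two (m := 2)).mp (Nat.gcd_dvd_right (p ^ f - 1) 4) with ⟨j, hj, he⟩
        interval_cases j
        · have := Nat.dvd_gcd hru (show 2 ∣ 4 by norm_num)
          rw [he] at this
          omega
        · exact he
        · exact absurd (by have h5 := Nat.gcd_dvd_left (p ^ f - 1) 4; rw [he] at h5; simpa using h5) h
      have h2 : (2 : F) ≠ 0 := by exact_mod_cast hN.natCast_ne_zero
      rcases le_bilinear_of_sum (hN.roots_normalises hE hn) (hN.roots_absIrred hE hrep) h2 (by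
        rw [hN.trace_sum hE hrep (φ := fun g => (g : Matrix (Fin n) (Fin n) F).trace *
          (g : Matrix (Fin n) (Fin n) F).trace) (fun x hx => by rw [hx, zero_mul]) (fun x hx hxE => by
            rw [val_eq_sval hx, Matrix.trace_smul, Matrix.trace_one, smul_eq_mul]
            have h1 : sval x ^ 4 = 1 := by rw [← sval_pow hx, hxE, sval_one]
            have h1' : sval x * sval x = 1 := by
              rcases mul_self_eq_one_iff.mp (show sval x ^ 2 * sval x ^ 2 = 1 by rw [← h1]; ring) with e | e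
              · rw [← sq]; exact e
              · exact absurd ⟨sval x, by rw [← sq]; exact e.symm⟩ hneg
            linear_combination ((Fintype.card (Fin n) : F) ^ 2) * h1'), h4, Fintype.card_fin]
        exact mul_ne_zero (by simpa using h2) (pow_ne_zero _ hn0))
        with ⟨Q, hQ, hle⟩ | ⟨g, hg, hle⟩
      · exact inClassLE_quadratic hn3 h2 hQ hle
      · exact inClassLE_symplectic hn3 hg hle
  · -- odd `r`
    have hC : r ∣ r.choose 2 := hN.prime.dvd_choose_self two_ne_zero (lt_of_le_of_ne hN.prime.two_le (by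
      rintro rfl; exact absurd hro (Nat.not_odd_iff_even.mpr even_two)))
    have hrep : HasReps N r := hN.exists_scaling hn hmin (fun a ha b hb => ⟨1, by
      obtain ⟨j, hj⟩ := hC
      rw [hj, pow_mul, hN.comm_pow_r ha hb, one_pow]
      simp [scl]⟩)
    obtain ⟨he0, -, he⟩ := orderOf_natCast_facts (p := p) hN.prime hpr
    have hg1 : Nat.gcd 2 r = 1 := (Nat.coprime_two_left).mpr hro
    refine finish r (orderOf (p : ZMod r)) hC hrep (by rw [hg1, mul_one]) r ?_ rfl he0 ?_ he
      (fun _ _ => Or.inl ⟨hro, rfl⟩)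
    · exact Nat.gcd_eq_right hru
    · exact (he f).mp (hunits ▸ hru)

end Cfsg.Lib.Classical.Aschbacher
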