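import Cfsg.Agent.Classical.Aschbacher.SympMembers
import Cfsg.Agent.Classical.Aschbacher.FormSubfield
import Cfsg.Agent.Classical.Aschbacher.Symplectic

/-! Normalisers of groups of symplectic type in the symplectic groups. -/

set_option autoImplicit false
set_option linter.unusedSimpArgs false
set_option linter.unusedSectionVars false
set_option linter.style.haveILetI false

namespace Cfsg.Lib.Classical.Aschbacher

open Matrix Cfsg.Geo
open scoped MatrixGroups commutatorElement
open Cfsg.Lib.Classical.PrimeDim (Normalises forall_matrixSet mem_matrixSet scalar_commute exists_char_card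
  mem_scalars_of_val_eq powField card_powField eigen_indep finrank_pi_card val_mul_inv val_inv_mul)

universe u

variable {ι : Type} [Fintype ι] [DecidableEq ι] {F : Type u} [Field F]

namespace SympN

variable [Nonempty ι] {r : ℕ} {N : Subgroup (GL ι F)}

/-- Elements in different classes modulo scalars are linearly independent. -/
theorem indep_classes (hN : SympN r N) {κ : Type*} [Fintype κ] (g : κ → GL ι F) (hg : ∀ i, g i ∈ N)
    (hsep : ∀ i j, (g i)⁻¹ * g j ∈ scalars ι F → i = j) :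
    LinearIndependent F fun i => (g i : Matrix ι ι F) := by
  classical
  have hinj : Function.Injective fun (i : κ) (a : N) => sval ⁅(a : GL ι F), g i⁆ := fun i j he => by
    refine hsep i j (hN.eq_one_all fun a ha => ?_)
    have hm := hN.comm a ha _ (mul_mem (inv_mem (hg i)) (hg j))
    have h1 : ⁅a, g j⁆ = ⁅a, g i⁆ * ⁅a, (g i)⁻¹ * g j⁆ := by
      rw [← hN.comm_mul ha (mul_mem (inv_mem (hg i)) (hg j)), mul_inv_cancel_left]
    have h2 : sval ⁅a, g i⁆ = sval ⁅a, g j⁆ := congrFun he ⟨a, ha⟩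
    rw [h1, sval_mul (hN.comm a ha _ (hg i)) hm] at h2
    exact eq_one_of_sval hm ((mul_eq_left₀ (sval_ne_zero (hN.comm a ha _ (hg i)))).mp h2.symm)
  rw [Fintype.linearIndependent_iff]
  intro c hc q
  have := eigen_indep (fun a : N => SympN.conjLin (a : GL ι F)) _ hinj Finset.univ
    (fun q => c q • (g q : Matrix ι ι F))
    (fun q _ a => by rw [map_smul, hN.conjLin_val a.2 (hg q), smul_comm]) hc q (Finset.mem_univ q)
  exact (smul_eq_zero.mp this).resolve_right (g q).ne_zero

end SympN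

section Separating

variable [Fintype F]

/-- A commutative algebra of diagonalisable matrices has a separating vector. -/
theorem exists_separating {S : Subalgebra F (Matrix ι ι F)} (hcomm : ∀ a ∈ S, ∀ b ∈ S, a * b = b * a)
    (hq : ∀ s ∈ S, s ^ Fintype.card F = s) : ∃ v, ∀ s ∈ S, s *ᵥ v = 0 → s = 0 := by
  classical
  let ev : (ι → F) → (S →ₗ[F] ι → F) := fun v =>
    { toFun := fun s => (s : Matrix ι ι F) *ᵥ v
      map_add' := fun a b => Matrix.add_mulVec (a : Matrix ι ι F) (b : Matrix ι ι F) v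
      map_smul' := fun c a => Matrix.smul_mulVec c (a : Matrix ι ι F) v }
  have hmem : ∀ v (s : S), s ∈ LinearMap.ker (ev v) ↔ (s : Matrix ι ι F) *ᵥ v = 0 := fun v s => Iff.rfl
  have hex : ∃ d v, Module.finrank F (LinearMap.ker (ev v)) = d := ⟨_, 0, rfl⟩
  obtain ⟨v, hv⟩ := Nat.find_spec hex
  refine ⟨v, fun s hs hsv => ?_⟩
  by_contra hs0
  obtain ⟨w, hw⟩ : ∃ w, s *ᵥ w ≠ 0 := by
    by_contra h
    push Not at h
    exact hs0 (Matrix.ext fun i j => by
      have := congrFun (h (Pi.single j 1)) i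
      simpa [Matrix.mulVec_single_one] using this)
  obtain ⟨j, hj⟩ : ∃ j, Fintype.card F = j + 2 := ⟨Fintype.card F - 2, by
    have := Fintype.one_lt_card (α := F); omega⟩
  set e := s ^ (j + 1)
  have he : e ∈ S := S.pow_mem hs _
  have hse : s * e = s := by
    show s * s ^ (j + 1) = s
    rw [← pow_succ', show j + 1 + 1 = Fintype.card F by omega, hq s hs]
  have hee : e * e = e := by
    show s ^ (j + 1) * s ^ (j + 1) = s ^ (j + 1)
    rw [← pow_add, show j + 1 + (j + 1) = Fintype.card F + j by omega, pow_add, hq s hs, ← pow_succ']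
  have hev : e *ᵥ v = 0 := by
    show s ^ (j + 1) *ᵥ v = 0
    rw [pow_succ, ← Matrix.mulVec_mulVec, hsv, Matrix.mulVec_zero]
  have hle : LinearMap.ker (ev (v + e *ᵥ w)) ≤ LinearMap.ker (ev v) := fun t ht => by
    rw [hmem, Matrix.mulVec_add] at ht
    rw [hmem]
    have h1 := congrArg (fun x => e *ᵥ x) ht
    simp only [Matrix.mulVec_add, Matrix.mulVec_mulVec, Matrix.mulVec_zero] at h1
    rw [hcomm e he _ t.2, ← Matrix.mulVec_mulVec, hev, Matrix.mulVec_zero, zero_add, ← Matrix.mul_assoc,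
      hcomm e he _ t.2, Matrix.mul_assoc, hee] at h1
    rwa [Matrix.mulVec_mulVec, h1, add_zero] at ht
  have hlt : LinearMap.ker (ev (v + e *ᵥ w)) < LinearMap.ker (ev v) := lt_of_le_of_ne hle fun h => by
    have h1 : (⟨s, hs⟩ : S) ∈ LinearMap.ker (ev v) := hsv
    rw [← h, hmem, Matrix.mulVec_add, hsv, zero_add, Matrix.mulVec_mulVec, hse] at h1
    exact hw h1
  have := Submodule.finrank_lt_finrank_of_lt hlt
  have h' := Nat.find_min' hex (⟨v + e *ᵥ w, rfl⟩ : ∃ v',
    Module.finrank F (LinearMap.ker (ev v')) = Module.finrank F (LinearMap.ker (ev (v + e *ᵥ w))))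
  omega

/-- A commutative algebra of self-adjoint diagonalisable matrices has dimension at most half the degree. -/
theorem two_mul_finrank_le [Nonempty ι] {σ : F ≃+* F} {ε : F} {f : (ι → F) → (ι → F) → F} (hf : ReflForm σ ε f)
    (h2 : (2 : F) ≠ 0) (hskew : ∀ u v, f v u = - f u v)
    {S : Subalgebra F (Matrix ι ι F)} (hcomm : ∀ a ∈ S, ∀ b ∈ S, a * b = b * a)
    (hq : ∀ s ∈ S, s ^ Fintype.card F = s) (hsa : ∀ s ∈ S, ∀ u v, f (s *ᵥ u) v = f u (s *ᵥ v)) :
    2 * Module.finrank F S ≤ Fintype.card ι := by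
  obtain ⟨v, hv⟩ := exists_separating hcomm hq
  let ev : S →ₗ[F] ι → F :=
    { toFun := fun s => (s : Matrix ι ι F) *ᵥ v
      map_add' := fun a b => Matrix.add_mulVec (a : Matrix ι ι F) (b : Matrix ι ι F) v
      map_smul' := fun c a => Matrix.smul_mulVec c (a : Matrix ι ι F) v }
  have hinj : Function.Injective ev := (injective_iff_map_eq_zero ev).mpr fun s hs =>
    Subtype.ext (hv _ s.2 hs)
  have hle : LinearMap.range ev ≤ hf.perp (LinearMap.range ev) := by
    rintro _ ⟨a, rfl⟩
    rw [ReflForm.mem_perp]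
    rintro _ ⟨b, rfl⟩
    show f ((a : Matrix ι ι F) *ᵥ v) ((b : Matrix ι ι F) *ᵥ v) = 0
    rw [hsa _ a.2, Matrix.mulVec_mulVec]
    have h1 := hskew v (((a : Matrix ι ι F) * (b : Matrix ι ι F)) *ᵥ v)
    rw [hsa _ (S.mul_mem a.2 b.2)] at h1
    have h3 : (2 : F) * f v (((a : Matrix ι ι F) * (b : Matrix ι ι F)) *ᵥ v) = 0 := by
      rw [two_mul]; nth_rewrite 1 [h1]; exact neg_add_cancel _
    exact (mul_eq_zero.mp h3).resolve_left h2
  have h1 := hf.finrank_perp (LinearMap.range ev)
  have h3 := Submodule.finrank_mono hle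
  rw [LinearMap.finrank_range_of_inj hinj] at h1 h3
  omega

end Separating

variable {m : ℕ} [Fintype F] {H G R : Subgroup (GL (Fin m ⊕ Fin m) F)}

-- A group of symplectic type in the symplectic group gives a subfield or a normaliser of symplectic type.
set_option maxHeartbeats 1000000 in
theorem sympType_data_of_sympN (hm : 2 ≤ m) {r : ℕ} (hN : SympN r R) (hsp : R ≤ Cfsg.spGL m F) (hn : Normalises G R)
    (hcyc : ∀ A : Subgroup R, Normalises G (A.map R.subtype) → IsMulCommutative A → IsCyclic A) (hle : H ≤ G) :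
    (¬ (Fintype.card F).Prime ∧ InSpLE H) ∨
      ∃ p k : ℕ, IsSymplecticTypeGroup 2 R ∧ ActsAbsolutelyIrreducibly (matrixSet R) ∧
        R ≤ similarityGroup (Cfsg.sympForm m F) ∧ p.Prime ∧ Odd p ∧ Fintype.card F = p ∧
        Nat.card R = 2 ^ (1 + 2 * k) ∧ Nat.card (Subgroup.center R) = 2 ∧ IsOfMinusType k R ∧ 2 * m = 2 ^ k ∧
        (∃ x ∈ R, x ∈ Cfsg.spGL m F ∧ x * x = 1 ∧ x ∉ scalars (Fin m ⊕ Fin m) F) ∧ H ≤ subgroupNormalizer R := by
  classical
  haveI : Nonempty (Fin m ⊕ Fin m) := ⟨Sum.inl ⟨0, by omega⟩⟩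
  have hf := sp_refl m F
  have hfix : Fixes (Cfsg.sympForm m F) R := sp_fixes hsp
  -- the scalars are signs
  have hsgn : ∀ z ∈ R, z ∈ scalars (Fin m ⊕ Fin m) F → sval z * sval z = 1 := fun z hz hzs => by
    obtain ⟨u, hu⟩ : ∃ u : Fin m ⊕ Fin m → F, u ≠ 0 := exists_ne 0
    obtain ⟨w, hw⟩ := (hf.nondegenerate u hu).2
    have h := hfix z hz u w
    rw [val_eq_sval hzs, Matrix.smul_mulVec, Matrix.smul_mulVec, Matrix.one_mulVec, Matrix.one_mulVec,
      hf.smul_left, hf.smul_right, RingEquiv.refl_apply, ← mul_assoc] at h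
    exact (mul_eq_right₀ hw).mp h
  obtain ⟨a, ha, b, hb, hab⟩ := hN.exists_comm_ne
  have hz2 : ∀ z ∈ R, z ∈ scalars (Fin m ⊕ Fin m) F → z * z = 1 := fun z hz hzs =>
    eq_one_of_sval (mul_mem hzs hzs) (by rw [sval_mul hzs hzs, hsgn z hz hzs])
  have hr2 : r = 2 := by
    have h1 := hN.comm_pow_r ha hb
    have hord : orderOf ⁅a, b⁆ = 2 := by
      haveI := Fact.mk Nat.prime_two
      refine orderOf_eq_prime ?_ hab
      rw [sq]
      exact hz2 _ (R.mul_mem (R.mul_mem (R.mul_mem ha hb) (R.inv_mem ha)) (R.inv_mem hb)) (hN.comm a ha b hb)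
    have := hord ▸ orderOf_dvd_of_pow_eq_one h1
    exact ((Nat.prime_dvd_prime_iff_eq Nat.prime_two hN.prime).mp this).symm
  subst hr2
  have h2 : (2 : F) ≠ 0 := by exact_mod_cast hN.natCast_ne_zero
  have hneg : ⁅a, b⁆ ∈ R ⊓ scalars (Fin m ⊕ Fin m) F :=
    ⟨R.mul_mem (R.mul_mem (R.mul_mem ha hb) (R.inv_mem ha)) (R.inv_mem hb), hN.comm a ha b hb⟩
  have hS : ∀ x ∈ R, x ∈ scalars (Fin m ⊕ Fin m) F → x = 1 ∨ x = ⁅a, b⁆ := fun x hx hxs => by
    rcases mul_self_eq_one_iff.mp (hsgn x hx hxs) with e | e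
    · exact Or.inl (eq_one_of_sval hxs e)
    · refine Or.inr (Units.ext ?_)
      rcases mul_self_eq_one_iff.mp (hsgn _ hneg.1 hneg.2) with e' | e'
      · exact absurd (eq_one_of_sval hneg.2 e') hab
      · rw [val_eq_sval hxs, val_eq_sval hneg.2, e, e']
  let Z : Subgroup R := (scalars (Fin m ⊕ Fin m) F).subgroupOf R
  have hZ2 : Nat.card Z = 2 := by
    rw [Nat.card_eq_two_iff]
    refine ⟨1, ⟨⟨⁅a, b⁆, hneg.1⟩, hneg.2⟩, fun e => hab (congrArg (fun x : Z => ((x : R) : GL (Fin m ⊕ Fin m) F)) e).symm, ?_⟩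
    refine Set.eq_univ_of_forall fun x => ?_
    rcases hS _ (x : R).2 x.2 with e | e
    · exact Or.inl (Subtype.ext (Subtype.ext e))
    · exact Or.inr (Subtype.ext (Subtype.ext e))
  have hcenter : Subgroup.center R = Z := by
    ext x
    refine ⟨fun h => hN.eq_one_all fun y hy => ?_, fun h => Subgroup.mem_center_iff.mpr fun y =>
      Subtype.ext (scalar_commute h (y : GL (Fin m ⊕ Fin m) F)).symm⟩
    exact commutatorElement_eq_one_iff_mul_comm.mpr
      (congrArg Subtype.val (Subgroup.mem_center_iff.mp h ⟨y, hy⟩))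
  obtain ⟨k, hk, hQ⟩ := (hN.card_classes).2
  rw [card_sum_fin] at hk
  haveI : Finite R := Finite.of_injective _ Subtype.val_injective
  have hcard : Nat.card R = 2 ^ (1 + 2 * k) := by
    rw [Subgroup.card_eq_card_quotient_mul_card_subgroup Z, hZ2, hQ, pow_add, pow_one, mul_comm]
  have hsq : ∀ x ∈ R, (x * x) * (x * x) = 1 := fun x hx => by
    refine hz2 _ (mul_mem hx hx) ?_
    have := hN.pow_mem x hx
    rwa [sq] at this
  -- the field is a prime field
  obtain ⟨p, f, hp, hchar, hf0, hcF⟩ := exists_char_card F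
  haveI := Fact.mk hp
  rcases Nat.lt_or_ge 1 f with hf1 | hf1
  · haveI : Fintype R := Fintype.ofFinite _
    have hai := hN.absIrred
    have hsum : ∑ g : R, ((g : GL (Fin m ⊕ Fin m) F) : Matrix (Fin m ⊕ Fin m) (Fin m ⊕ Fin m) F).trace ^ p ^ 1 *
        (((g : GL (Fin m ⊕ Fin m) F)⁻¹ : GL (Fin m ⊕ Fin m) F) : Matrix (Fin m ⊕ Fin m) (Fin m ⊕ Fin m) F).trace ≠ 0 := by
      rw [← Finset.sum_filter_add_sum_filter_not Finset.univ (fun g : R => g ∈ Z),
        Finset.sum_eq_zero (s := Finset.univ.filter (fun g : R => g ∉ Z)) (fun g hg => by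
          rw [hN.trace_zero (Subgroup.mem_sup_left g.2) (Finset.mem_filter.mp hg).2,
            zero_pow (pow_ne_zero _ hp.ne_zero), zero_mul]), add_zero,
        Finset.sum_congr rfl (g := fun _ => ((2 * m : ℕ) : F) ^ 2) (fun g hg => ?_), Finset.sum_const,
        ← Fintype.card_subtype, ← Nat.card_eq_fintype_card, show Nat.card {g : R // g ∈ Z} = 2 from hZ2, nsmul_eq_mul,
        hk]
      · push_cast
        exact mul_ne_zero h2 (pow_ne_zero _ (pow_ne_zero _ h2))
      · have hgs : (g : GL (Fin m ⊕ Fin m) F) ∈ scalars (Fin m ⊕ Fin m) F := (Finset.mem_filter.mp hg).2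
        rw [val_eq_sval hgs, val_eq_sval (inv_mem hgs), Matrix.trace_smul, Matrix.trace_smul, Matrix.trace_one,
          smul_eq_mul, smul_eq_mul, card_sum_fin, mul_pow, ← iterateFrobenius_def, ← iterateFrobenius_def, map_natCast]
        have h1 : sval (g : GL (Fin m ⊕ Fin m) F) ^ p ^ 1 = sval (g : GL (Fin m ⊕ Fin m) F) := by
          rcases mul_self_eq_one_iff.mp (hsgn _ g.2 hgs) with e | e
          · rw [e, one_pow]
          · rw [e, pow_one, (hp.odd_of_ne_two fun e2 => h2 (by
              have := CharP.cast_eq_zero F p; rw [e2] at this; exact_mod_cast this)).neg_one_pow]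
        have h3 : sval (g : GL (Fin m ⊕ Fin m) F) * sval ((g : GL (Fin m ⊕ Fin m) F)⁻¹) = 1 := by
          rw [← sval_mul hgs (inv_mem hgs), mul_inv_cancel, sval_one]
        rw [iterateFrobenius_def, h1]
        linear_combination (((2 * m : ℕ) : F) ^ 2) * h3
    have hreal := realisable_of_sum (p := p) (e := 1) (s := f) one_pos hf0
      (by rw [one_mul, ← Nat.card_eq_fintype_card, hcF]) hai hsum
    obtain ⟨F₁, r', B, c, hr', hcF', hle', hc0, hs, -⟩ := hf.subfield_of_realisable (fun _ x hx => hx)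
      (fun h hh => hn h (hle hh)) hfix hai (F₀ := powField F p 1) (fun h => by
        have h1 := card_powField (F := F) (p := p) one_pos hcF (one_dvd f)
        rw [h, Nat.card_congr Subfield.topEquiv.toEquiv, hcF] at h1
        have := Nat.pow_right_injective hp.two_le h1
        omega) hreal
    refine Or.inl ⟨fun hprime => ?_, _, .subfield F₁ r' B c hr' (by rw [← Nat.card_eq_fintype_card]; exact hcF') hc0 hs, hle'⟩
    rw [← Nat.card_eq_fintype_card, hcF] at hprime
    exact absurd ((Nat.Prime.pow_eq_iff hprime).mp rfl).2 (by omega)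
  have hFp : Fintype.card F = p := by
    rw [← Nat.card_eq_fintype_card, hcF, show f = 1 by omega, pow_one]
  have hpo : Odd p := hFp ▸ odd_card_iff.mpr h2
  have hRtype : IsSymplecticTypeGroup 2 R := by
    refine ⟨Nat.prime_two, IsPGroup.of_card hcard, fun A hA hAc => ?_, ?_⟩
    · exact hcyc A (Cfsg.Lib.Classical.PrimeDim.char_normalises hn A hA) hAc
    · show Monoid.exponent R = 4
      refine Nat.dvd_antisymm (Monoid.exponent_dvd_of_forall_pow_eq_one fun x => Subtype.ext ?_) ?_
      · show (x : GL (Fin m ⊕ Fin m) F) ^ 4 = 1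
        rw [← hsq _ x.2]; simp [pow_succ, mul_assoc]
      obtain ⟨x, hx, hx2⟩ : ∃ x ∈ R, x * x ≠ 1 := by
        by_contra h
        push Not at h
        apply hab
        rw [commutatorElement_eq_one_iff_mul_comm]
        calc a * b = a * b * ((b * a) * (b * a)) := by rw [h _ (mul_mem hb ha), mul_one]
          _ = a * (b * b) * a * (b * a) := by simp only [mul_assoc]
          _ = b * a := by rw [h b hb, mul_one, h a ha, one_mul]
      have hord : orderOf (⟨x, hx⟩ : R) = 4 := by
        haveI := Fact.mk Nat.prime_two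
        exact orderOf_eq_prime_pow (p := 2) (n := 1)
          (fun e => hx2 (by simpa [pow_succ] using congrArg Subtype.val e))
          (Subtype.ext (by simp [pow_succ, ← hsq x hx, mul_assoc]))
      exact hord ▸ Monoid.order_dvd_exponent _
  -- minus type
  have hminus : IsOfMinusType k R := fun A hAc hA2 => by
    set T : Set (Matrix (Fin m ⊕ Fin m) (Fin m ⊕ Fin m) F) :=
      Set.range fun x : A => (((x : R) : GL (Fin m ⊕ Fin m) F) : Matrix (Fin m ⊕ Fin m) (Fin m ⊕ Fin m) F)
    have hTc : ∀ x ∈ T, ∀ y ∈ T, x * y = y * x := by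
      rintro _ ⟨x, rfl⟩ _ ⟨y, rfl⟩
      exact congrArg (fun w : A => (((w : R) : GL (Fin m ⊕ Fin m) F) : Matrix (Fin m ⊕ Fin m) (Fin m ⊕ Fin m) F)) (hAc.is_comm.comm x y)
    set S := Algebra.adjoin F T
    letI : CommRing S := Algebra.adjoinCommRingOfComm F hTc
    have hcomm : ∀ x ∈ S, ∀ y ∈ S, x * y = y * x := fun x hx y hy =>
      congrArg Subtype.val (mul_comm (⟨x, hx⟩ : S) ⟨y, hy⟩)
    have hsa : ∀ s ∈ S, ∀ u v, Cfsg.sympForm m F (s *ᵥ u) v = Cfsg.sympForm m F u (s *ᵥ v) := fun s hs => by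
      induction hs using Algebra.adjoin_induction with
      | mem x hx =>
        obtain ⟨x, rfl⟩ := hx
        intro u v
        have h1 : (x : R) * (x : R) = 1 := hA2 _ x.2
        have h := hfix _ (x : R).2 u ((((x : R) : GL (Fin m ⊕ Fin m) F) : Matrix (Fin m ⊕ Fin m) (Fin m ⊕ Fin m) F) *ᵥ v)
        rw [Matrix.mulVec_mulVec, ← Units.val_mul, ← Subgroup.coe_mul, h1, OneMemClass.coe_one, Units.val_one,
          Matrix.one_mulVec] at h
        exact h
      | algebraMap c =>
        intro u v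
        rw [Algebra.algebraMap_eq_smul_one, Matrix.smul_mulVec, Matrix.smul_mulVec, Matrix.one_mulVec,
          Matrix.one_mulVec, hf.smul_left, hf.smul_right, RingEquiv.refl_apply]
      | add x y _ _ h1 h2 =>
        intro u v
        rw [Matrix.add_mulVec, Matrix.add_mulVec, hf.add_left, hf.add_right, h1, h2]
      | mul x y hx hy h1 h2 =>
        intro u v
        rw [← Matrix.mulVec_mulVec, h1, h2, Matrix.mulVec_mulVec, hcomm _ hy _ hx]
    have hq : ∀ s ∈ S, s ^ Fintype.card F = s := fun s hs => by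
      induction hs using Algebra.adjoin_induction with
      | mem x hx =>
        obtain ⟨x, rfl⟩ := hx
        obtain ⟨j, hj⟩ := odd_card_iff.mpr h2
        have h1 : ((x : R) : GL (Fin m ⊕ Fin m) F) * ((x : R) : GL (Fin m ⊕ Fin m) F) = 1 := congrArg Subtype.val (hA2 _ x.2)
        rw [← Units.val_pow_eq_pow_val, hj, pow_succ, pow_mul, sq, h1, one_pow, one_mul]
      | algebraMap c => rw [← map_pow, FiniteField.pow_card]
      | add x y hx hy h1 h2 =>
        rw [hFp] at h1 h2 ⊢
        rw [add_pow_char_of_commute (p := p) (h := hcomm _ hx _ hy), h1, h2]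
      | mul x y hx hy h1 h2 => rw [(show Commute x y from hcomm _ hx _ hy).mul_pow, h1, h2]
    have hdim := two_mul_finrank_le hf h2
      (fun u v => by rw [hf.herm u v, RingEquiv.refl_apply, neg_one_mul]) hcomm hq hsa
    rw [card_sum_fin, hk] at hdim
    let K : Subgroup A := Z.subgroupOf A
    haveI : Finite A := Finite.of_injective (fun x : A => (x : R)) Subtype.val_injective
    haveI : Fintype (A ⧸ K) := Fintype.ofFinite _
    have hind := hN.indep_classes (fun i : A ⧸ K => (((Quotient.out i : A) : R) : GL (Fin m ⊕ Fin m) F))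
      (fun i => ((Quotient.out i : A) : R).2) (fun i j h => by
        rw [← Quotient.out_eq i, ← Quotient.out_eq j]
        exact QuotientGroup.eq.mpr h)
    have hc1 : Fintype.card (A ⧸ K) ≤ Module.finrank F S := by
      rw [← finrank_span_eq_card hind]
      refine Submodule.finrank_mono (t := Subalgebra.toSubmodule S) ?_
      rw [Submodule.span_le]
      rintro _ ⟨i, rfl⟩
      exact Algebra.subset_adjoin ⟨Quotient.out i, rfl⟩
    have hc2 : Nat.card K ≤ 2 := by
      rw [← hZ2]
      exact Nat.card_le_card_of_injective (fun x : K => (⟨((x : A) : R), x.2⟩ : Z))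
        (fun x y h => Subtype.ext (Subtype.ext (congrArg (fun z : Z => (z : R)) h)))
    have hA : Nat.card A ≤ 2 ^ k := by
      rw [Subgroup.card_eq_card_quotient_mul_card_subgroup K, Nat.card_eq_fintype_card]
      calc Fintype.card (A ⧸ K) * Nat.card K ≤ Module.finrank F S * 2 := Nat.mul_le_mul hc1 hc2
        _ ≤ 2 ^ k := by rw [mul_comm]; exact hdim
    calc Nat.card A ≤ 2 ^ k := hA
      _ < 2 ^ (k + 1) := Nat.pow_lt_pow_right one_lt_two (by omega)
  -- a non-scalar involution
  have hinv : ∃ x ∈ R, x ∈ Cfsg.spGL m F ∧ x * x = 1 ∧ x ∉ scalars (Fin m ⊕ Fin m) F := by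
    by_contra hno
    push Not at hno
    have hsgn' : ∀ x ∈ R, x ∉ scalars (Fin m ⊕ Fin m) F → x * x = ⁅a, b⁆ := fun x hx hxs => by
      rcases hS (x * x) (R.mul_mem hx hx) (by have := hN.pow_mem x hx; rwa [sq] at this) with e | e
      · exact absurd (hno x hx (hsp hx) e) hxs
      · exact e
    have hans : a ∉ scalars (Fin m ⊕ Fin m) F := fun h =>
      hab (commutatorElement_eq_one_iff_mul_comm.mpr (scalar_commute h b))
    have hca : ∀ z ∈ R, a * z = z * a → z⁻¹ * a ∈ scalars (Fin m ⊕ Fin m) F ∨ z ∈ scalars (Fin m ⊕ Fin m) F := by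
      intro z hz hcz
      by_cases hzs : z ∈ scalars (Fin m ⊕ Fin m) F
      · exact Or.inr hzs
      refine Or.inl (hno _ (R.mul_mem (R.inv_mem hz) ha) (hsp (R.mul_mem (R.inv_mem hz) ha)) ?_)
      calc z⁻¹ * a * (z⁻¹ * a) = z⁻¹ * (a * z⁻¹) * a := by simp only [mul_assoc]
        _ = (z * z)⁻¹ * (a * a) := by
          rw [show a * z⁻¹ = z⁻¹ * a from (show Commute a z from hcz).inv_right, _root_.mul_inv_rev]
          simp only [mul_assoc]
        _ = 1 := by rw [hsgn' z hz hzs, hsgn' a ha hans, inv_mul_cancel]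
    -- the centraliser of `a` has index two
    let φ : R → Bool := fun z => decide (a * (z : GL (Fin m ⊕ Fin m) F) = z * a)
    have hcount : Nat.card R ≤ 2 * 4 := by
      have hC : Nat.card {z : R // a * (z : GL (Fin m ⊕ Fin m) F) = z * a} ≤ 4 := by
        let T : Finset (GL (Fin m ⊕ Fin m) F) := {1, ⁅a, b⁆, a, a * ⁅a, b⁆⁻¹}
        refine le_trans (Nat.card_le_card_of_injective
          (fun z : {z : R // a * (z : GL (Fin m ⊕ Fin m) F) = z * a} => (⟨((z : R) : GL (Fin m ⊕ Fin m) F), ?_⟩ : T))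
          (fun z w e => Subtype.ext (Subtype.ext (congrArg (fun t : T => (t : GL (Fin m ⊕ Fin m) F)) e)))) ?_
        · simp only [T, Finset.mem_insert, Finset.mem_singleton]
          rcases hca _ (z : R).2 z.2 with h | h
          · rcases hS _ (R.mul_mem (R.inv_mem (z : R).2) ha) h with e | e
            · exact Or.inr (Or.inr (Or.inl (inv_mul_eq_one.mp e)))
            · exact Or.inr (Or.inr (Or.inr (by rw [← e]; group)))
          · rcases hS _ (z : R).2 h with e | e
            · exact Or.inl e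
            · exact Or.inr (Or.inl e)
        · rw [Nat.card_eq_fintype_card, Fintype.card_coe]
          exact Finset.card_le_four
      refine le_trans (le_of_eq ?_) (Nat.mul_le_mul_left 2 hC)
      let Ca : Subgroup R := (Subgroup.centralizer {a}).subgroupOf R
      have hCa : ∀ z : R, z ∈ Ca ↔ a * (z : GL (Fin m ⊕ Fin m) F) = z * a := fun z => by
        rw [Subgroup.mem_subgroupOf, Subgroup.mem_centralizer_singleton_iff]; exact eq_comm
      have hidx : Ca.index = 2 := by
        rw [Subgroup.index_eq_two_iff]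
        refine ⟨⟨b, hb⟩, fun z => ?_⟩
        have hz := hN.comm a ha z z.2
        have hmul : ⁅a, (z : GL (Fin m ⊕ Fin m) F) * b⁆ = ⁅a, (z : GL (Fin m ⊕ Fin m) F)⁆ * ⁅a, b⁆ := hN.comm_mul ha hb
        rw [xor_iff_iff_not, hCa, hCa]
        rw [← commutatorElement_eq_one_iff_mul_comm, ← commutatorElement_eq_one_iff_mul_comm]
        simp only [Subgroup.coe_mul]
        rw [hmul]
        rcases hS _ (R.mul_mem (R.mul_mem (R.mul_mem ha z.2) (R.inv_mem ha)) (R.inv_mem z.2)) hz with e | e
        · have e' : ⁅a, (z : GL (Fin m ⊕ Fin m) F)⁆ = 1 := e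
          rw [e', one_mul]; simp [hab]
        · have e' : ⁅a, (z : GL (Fin m ⊕ Fin m) F)⁆ = ⁅a, b⁆ := e
          rw [e']; simp [hab, hz2 _ hneg.1 hneg.2]
      rw [← Subgroup.card_mul_index Ca, hidx, mul_comm]
      congr 1
      exact Nat.card_congr (Equiv.subtypeEquivRight hCa)
    rw [hcard] at hcount
    have hk2 : 2 ≤ k := by
      by_contra h
      have : 2 ^ k ≤ 2 ^ 1 := Nat.pow_le_pow_right two_pos (by omega)
      omega
    have : 2 ^ 5 ≤ 2 ^ (1 + 2 * k) := Nat.pow_le_pow_right two_pos (by omega)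
    omega
  refine Or.inr ⟨p, k, hRtype, hN.absIrred, (fun g hg => ⟨1, fun u v => by
    rw [Units.val_one, one_mul]; exact hfix g hg u v⟩), hp, hpo, hFp, hcard, (by rw [hcenter, hZ2]), hminus, hk, hinv, ?_⟩
  intro h hh
  rw [subgroupNormalizer, Subgroup.mem_normalizer_iff]
  exact fun x => ⟨fun hx => hn h (hle hh) x hx, fun hx => by simpa [mul_assoc] using hn.inv (hle hh) hx⟩

/-- A group of symplectic type in the symplectic group gives one of the classes. -/
theorem inSpLE_of_sympN_of_cyclic (hm : 2 ≤ m) {r : ℕ} (hN : SympN r R) (hsp : R ≤ Cfsg.spGL m F) (hn : Normalises G R)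
    (hcyc : ∀ A : Subgroup R, Normalises G (A.map R.subtype) → IsMulCommutative A → IsCyclic A) (hle : H ≤ G) :
    InSpLE H := by
  rcases sympType_data_of_sympN hm hN hsp hn hcyc hle with ⟨-, h⟩ | ⟨p, k, h1, h2, h3, h4, h5, h6, h7, h8, h9, h10, h11, h12⟩
  · exact h
  · exact ⟨_, .sympType R p k h1 h2 h3 h4 h5 h6 h7 h8 h9 h10 h11, h12⟩

/-- Normal abelian subgroups of a minimal normalised group of symplectic type are cyclic. -/
theorem cyclic_of_minimal (hm : 2 ≤ m) {r : ℕ} (hN : SympN r R) (hmin : SympN.Minimal G R) :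
    ∀ A : Subgroup R, Normalises G (A.map R.subtype) → IsMulCommutative A → IsCyclic A := by
  intro A hA hAc
  haveI : Nonempty (Fin m ⊕ Fin m) := ⟨Sum.inl ⟨0, by omega⟩⟩
  by_cases hs : A.map R.subtype ≤ scalars (Fin m ⊕ Fin m) F
  · haveI : Finite A := Finite.of_injective (fun x : A => ((x : R) : GL (Fin m ⊕ Fin m) F))
      (fun x y h => Subtype.ext (Subtype.ext h))
    exact isCyclic_of_subgroup_isDomain
      (⟨⟨fun x => sval ((x : R) : GL (Fin m ⊕ Fin m) F), sval_one⟩,
        fun x y => sval_mul (hs ⟨_, x.2, rfl⟩) (hs ⟨_, y.2, rfl⟩)⟩ : A →* F)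
      (fun x y h => by
        refine Subtype.ext (Subtype.ext (Units.ext ?_))
        have h' : sval ((x : R) : GL (Fin m ⊕ Fin m) F) = sval ((y : R) : GL (Fin m ⊕ Fin m) F) := h
        exact (val_eq_sval (hs ⟨_, x.2, rfl⟩)).trans ((congrArg (fun a : F => a • (1 : Matrix (Fin m ⊕ Fin m) (Fin m ⊕ Fin m) F)) h').trans
          (val_eq_sval (hs ⟨_, y.2, rfl⟩)).symm))
  · exfalso
    have hK := hmin (A.map R.subtype) (Subgroup.map_subtype_le A) hA hs
    obtain ⟨a, ha, b, hb, hab⟩ := hN.exists_comm_ne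
    rw [← hK] at ha hb
    obtain ⟨⟨a', ha'⟩, hA1, rfl⟩ := ha
    obtain ⟨⟨b', hb'⟩, hB1, rfl⟩ := hb
    exact hab (commutatorElement_eq_one_iff_mul_comm.mpr
      (congrArg (fun w : A => ((w : R) : GL (Fin m ⊕ Fin m) F)) (hAc.is_comm.comm ⟨_, hA1⟩ ⟨_, hB1⟩)))

/-- A minimal normalised group of symplectic type in the symplectic group gives one of the classes. -/
theorem inSpLE_of_sympN (hm : 2 ≤ m) {r : ℕ} (hN : SympN r R) (hsp : R ≤ Cfsg.spGL m F) (hn : Normalises G R)
    (hmin : SympN.Minimal G R) (hle : H ≤ G) : InSpLE H :=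
  inSpLE_of_sympN_of_cyclic hm hN hsp hn (cyclic_of_minimal hm hN hmin) hle

end Cfsg.Lib.Classical.Aschbacher
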