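import Cfsg.Agent.Classical.Aschbacher.SympPower
import Cfsg.Agent.Classical.Aschbacher.SympType
import Cfsg.Agent.Classical.Aschbacher.SympTensor

/-! Tensor powers in the symplectic groups. -/

set_option autoImplicit false
set_option linter.unusedSimpArgs false
set_option linter.unusedSectionVars false
set_option linter.style.haveILetI false

namespace Cfsg.Lib.Classical.Aschbacher

open Matrix Cfsg.Geo
open scoped MatrixGroups
open Cfsg.Lib.Classical.PrimeDim (Normalises Invariant val_mul_inv gl_det_ne_zero IsSesq)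

universe u

variable {F : Type u} [Field F]

/-- A pure tensor. -/
def piVec {t k : ℕ} (w : Fin t → Fin k → F) : (Fin t → Fin k) → F := fun x => ∏ i, w i (x i)

theorem piKron_mulVec {t k : ℕ} (A : Fin t → Matrix (Fin k) (Fin k) F) (w : Fin t → Fin k → F) :
    piKron (d := fun _ => k) A *ᵥ piVec w = piVec fun i => A i *ᵥ w i := by
  funext x
  simp only [Matrix.mulVec, dotProduct, piKron_apply, piVec]
  rw [Finset.prod_univ_sum, Fintype.piFinset_univ]
  exact Finset.sum_congr rfl fun y _ => by rw [← Finset.prod_mul_distrib]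

theorem piVec_single {t k : ℕ} (p : Fin t → Fin k) :
    piVec (F := F) (fun i => Pi.single (p i) 1) = Pi.single p 1 := by
  funext x
  simp only [piVec, Pi.single_apply]
  by_cases h : x = p
  · subst h; simp
  · obtain ⟨i, hi⟩ := Function.ne_iff.mp h
    rw [if_neg h, Finset.prod_eq_zero (Finset.mem_univ i) (if_neg hi)]

theorem permMat_mulVec_piVec {t k : ℕ} (π : Equiv.Perm (Fin t)) (w : Fin t → Fin k → F) :
    permMat (m := k) F π *ᵥ piVec w = piVec fun i => w (π.symm i) := by
  funext x
  simp only [Matrix.mulVec, dotProduct, permMat, Matrix.of_apply, ite_mul, one_mul, zero_mul, Finset.sum_ite_eq',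
    Finset.mem_univ, if_true, piVec]
  exact Fintype.prod_equiv π _ _ fun i => by simp

/-- The half form of a product of alternating pairings vanishes on pure tensors. -/
theorem halfForm_piVec {t k : ℕ} (ht : 2 ≤ t) (h2 : (2 : F) = 0) {X : Matrix (Fin k) (Fin k) F} (hXs : Xᵀ = X)
    (hXd : ∀ i, X i i = 0) (w : Fin t → Fin k → F) :
    ∑ x : Fin t → Fin k, ∑ y : Fin t → Fin k,
      (if x ⟨0, by omega⟩ < y ⟨0, by omega⟩ then piVec w x * piVec w y * ∏ i, X (x i) (y i) else 0) = 0 := by
  classical
  rw [← Fintype.sum_prod_type' (f := fun (x : Fin t → Fin k) (y : Fin t → Fin k) =>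
    if x ⟨0, by omega⟩ < y ⟨0, by omega⟩ then piVec w x * piVec w y * ∏ i, X (x i) (y i) else 0)]
  let j : Fin t := ⟨1, by omega⟩
  let i₀ : Fin t := ⟨0, by omega⟩
  have hij : i₀ ≠ j := fun h => by simp [i₀, j, Fin.ext_iff] at h
  refine Finset.sum_involution (fun p _ => (Function.update p.1 j (p.2 j), Function.update p.2 j (p.1 j)))
    (fun p _ => ?_) (fun p _ hp e => ?_) (fun p _ => Finset.mem_univ _) (fun p _ => by simp)
  · show (if p.1 i₀ < p.2 i₀ then piVec w p.1 * piVec w p.2 * ∏ i, X (p.1 i) (p.2 i) else 0) +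
      (if Function.update p.1 j (p.2 j) i₀ < Function.update p.2 j (p.1 j) i₀ then _ else 0) = 0
    rw [Function.update_of_ne hij, Function.update_of_ne hij]
    split_ifs with h
    · have e : piVec w (Function.update p.1 j (p.2 j)) * piVec w (Function.update p.2 j (p.1 j)) *
          ∏ i, X (Function.update p.1 j (p.2 j) i) (Function.update p.2 j (p.1 j) i) =
          piVec w p.1 * piVec w p.2 * ∏ i, X (p.1 i) (p.2 i) := by
        simp only [piVec, ← Finset.prod_mul_distrib]
        refine Finset.prod_congr rfl fun i _ => ?_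
        by_cases hi : i = j
        · subst hi
          rw [Function.update_self, Function.update_self, show X (p.2 j) (p.1 j) = X (p.1 j) (p.2 j) from
            congrFun (congrFun hXs (p.1 j)) (p.2 j)]
          ring
        · rw [Function.update_of_ne hi, Function.update_of_ne hi]
      rw [e, ← two_mul, h2, zero_mul]
    · exact add_zero _
  · apply hp
    have h1 : p.2 j = p.1 j := by
      have := congrFun (congrArg Prod.fst e) j
      simpa using this
    show (if p.1 i₀ < p.2 i₀ then piVec w p.1 * piVec w p.2 * ∏ i, X (p.1 i) (p.2 i) else 0) = 0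
    rw [Finset.prod_eq_zero (Finset.mem_univ j) (by rw [h1, hXd]), mul_zero, ite_self]

variable {m : ℕ} [Fintype F] {H : Subgroup (GL (Fin m ⊕ Fin m) F)}

set_option maxHeartbeats 1000000 in
theorem inSpLE_of_wreath (hH : H ≤ Cfsg.spGL m F) (hm : 2 ≤ m) (hirr : ActsIrreducibly (matrixSet H)) {t k : ℕ}
    {Φ : Matrix (Fin m ⊕ Fin m) (Fin t → Fin k) F} {Ψ : Matrix (Fin t → Fin k) (Fin m ⊕ Fin m) F}
    {X : Matrix (Fin k) (Fin k) F} {c : F}
    (hW : WreathForm (RingEquiv.refl F) (Cfsg.sympForm m F) H Φ Ψ X c) {l : F} (hll : l * l = 1)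
    (hX : Xᵀ = l • X) (hlt : l ^ t = -1) : InSpLE H := by
  classical
  haveI : Nonempty (Fin m ⊕ Fin m) := ⟨Sum.inl ⟨0, by omega⟩⟩
  have hf := sp_refl m F
  have hc := hW.coords
  have ht := hW.two_le_t
  have hk := hW.two_le_k
  haveI : Nonempty (Fin k) := ⟨⟨0, by omega⟩⟩
  have hXne : X ≠ 0 := fun e => hW.det_ne_zero (by rw [e, Matrix.det_zero])
  have hG : hf.gramIn Φ = c • piKron (d := fun _ => k) fun _ => X := hW.gram
  -- the factors are similitudes
  have hsim : ∀ h ∈ H, ∃ (π : Equiv.Perm (Fin t)) (a : Fin t → GL (Fin k) F),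
      Ψ * (h : Matrix (Fin m ⊕ Fin m) (Fin m ⊕ Fin m) F) * Φ =
        permMat F π * piKron (d := fun _ => k) (fun i => (a i : Matrix (Fin k) (Fin k) F)) ∧
      ∀ i, ∃ e : F, e ≠ 0 ∧ (a i : Matrix (Fin k) (Fin k) F)ᵀ * X * (a i : Matrix (Fin k) (Fin k) F) = e • X := by
    intro h hh
    obtain ⟨π, a, ha⟩ := hW.stab h hh
    refine ⟨π, a, ha, fun i => ?_⟩
    have h1 := hf.gramIn_fix (sp_fixes hH) hh (hc.act_of_conj ha)
    rw [hG, Matrix.mul_smul, Matrix.smul_mul, wreath_congr] at h1
    obtain ⟨e, he, h2⟩ := piKron_eq_piKron (smul_right_injective _ hW.ne_zero h1) (fun _ => hXne) i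
    rw [RingEquiv.coe_refl, Matrix.map_id] at h2
    exact ⟨e, he, h2⟩
  by_cases h2 : (2 : F) = 0
  · have hneg : ∀ a : F, -a = a := fun a => by
      rw [neg_eq_iff_add_eq_zero, ← two_mul, h2, zero_mul]
    have hl : l = 1 := by
      rcases mul_self_eq_one_iff.mp hll with e | e
      · exact e
      · rw [e, hneg]
    rw [hl, one_smul] at hX
    haveI : CharP F 2 := CharTwo.of_one_ne_zero_of_two_eq_zero one_ne_zero h2
    have hsq : ∀ x : F, ∃ r, r ^ 2 = x := fun x =>
      (FiniteField.isSquare_of_char_two (ringChar.eq F 2) x).imp fun r hr => by rw [hr, sq]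
    have hdiag : ∀ v : Fin k → F, v ⬝ᵥ (X *ᵥ v) = ∑ i, X i i * v i ^ 2 := fun v => by
      rw [← Cfsg.Lib.Classical.PrimeDim.symm_quad_diag (G := X) (fun i j => (congrFun (congrFun hX i) j).symm) v]
      simp only [dotProduct, Matrix.mulVec, Finset.mul_sum, mul_assoc]
    by_cases hd : ∀ i, X i i = 0
    · -- a quadratic form
      let i₀ : Fin t := ⟨0, by omega⟩
      let Q₀ : ((Fin t → Fin k) → F) → F := fun v => c * ∑ x : Fin t → Fin k, ∑ y : Fin t → Fin k,
        if x i₀ < y i₀ then v x * v y * ∏ i, X (x i) (y i) else 0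
      let Q : (Fin m ⊕ Fin m → F) → F := fun v => Q₀ (Ψ *ᵥ v)
      have hsmul : ∀ (a : F) v, Q (a • v) = a ^ 2 * Q v := fun a v => by
        simp only [Q, Q₀, Matrix.mulVec_smul, Pi.smul_apply, smul_eq_mul, Finset.mul_sum]
        refine Finset.sum_congr rfl fun x _ => Finset.sum_congr rfl fun y _ => ?_
        split_ifs <;> ring
      have hsym : ∀ a b, X a b = X b a := fun a b => congrFun (congrFun hX b) a
      have hpol : ∀ u v, QuadraticMap.polar Q u v = Cfsg.sympForm m F u v := fun u v => by
        set x' := Ψ *ᵥ u with hx'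
        set y' := Ψ *ᵥ v with hy'
        have hf' : Cfsg.sympForm m F u v = x' ⬝ᵥ ((c • piKron (d := fun _ => k) fun _ => X) *ᵥ y') := by
          rw [← hG, show x' ⬝ᵥ (hf.gramIn Φ *ᵥ y') = x' ⬝ᵥ (hf.gramIn Φ *ᵥ (⇑(RingEquiv.refl F) ∘ y')) from rfl,
            ← hf.apply_coords, hx', hy',
            Matrix.mulVec_mulVec, Matrix.mulVec_mulVec, hc.left, Matrix.one_mulVec, Matrix.one_mulVec]
        rw [hf', Matrix.smul_mulVec, dotProduct_smul, smul_eq_mul]
        simp only [QuadraticMap.polar, Q, Q₀, Matrix.mulVec_add, ← mul_sub, ← hx', ← hy']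
        congr 1
        simp only [dotProduct, Matrix.mulVec, piKron_apply, Finset.mul_sum, Pi.add_apply]
        have hsymP : ∀ x y : Fin t → Fin k, (∏ i, X (x i) (y i)) = ∏ i, X (y i) (x i) := fun x y =>
          Finset.prod_congr rfl fun i _ => hsym _ _
        calc _ = ∑ x : Fin t → Fin k, ∑ y : Fin t → Fin k,
              ((if x i₀ < y i₀ then x' x * y' y * ∏ i, X (x i) (y i) else 0) +
                (if x i₀ < y i₀ then x' y * y' x * ∏ i, X (x i) (y i) else 0)) := by
              rw [← Finset.sum_sub_distrib, ← Finset.sum_sub_distrib]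
              refine Finset.sum_congr rfl fun x _ => ?_
              rw [← Finset.sum_sub_distrib, ← Finset.sum_sub_distrib]
              refine Finset.sum_congr rfl fun y _ => ?_
              split_ifs <;> ring
          _ = ∑ x : Fin t → Fin k, ∑ y : Fin t → Fin k,
              ((if x i₀ < y i₀ then x' x * y' y * ∏ i, X (x i) (y i) else 0) +
                (if y i₀ < x i₀ then x' x * y' y * ∏ i, X (x i) (y i) else 0)) := by
              simp only [Finset.sum_add_distrib]
              congr 1
              rw [Finset.sum_comm]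
              refine Finset.sum_congr rfl fun x _ => Finset.sum_congr rfl fun y _ => ?_
              rw [hsymP y x]
          _ = _ := by
              refine Finset.sum_congr rfl fun x _ => Finset.sum_congr rfl fun y _ => ?_
              rcases lt_trichotomy (x i₀) (y i₀) with h | h | h
              · rw [if_pos h, if_neg (lt_asymm h)]; ring
              · have h0 : ∏ i, X (x i) (y i) = 0 := Finset.prod_eq_zero (Finset.mem_univ i₀) (by rw [h, hd])
                rw [h0]; simp
              · rw [if_neg (lt_asymm h), if_pos h]; ring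
      have hp2 : QuadraticMap.polar Q = Cfsg.sympForm m F := funext fun u => funext fun v => hpol u v
      have hQ : IsNondegenerateQuadraticForm Q :=
        ⟨hsmul, hp2 ▸ (sympForm_isSymplectic m F).bilinear, hp2 ▸ hf.nondegenerate⟩
      have hpure : ∀ w, Q (Φ *ᵥ piVec w) = 0 := fun w => by
        show c * _ = 0
        rw [Matrix.mulVec_mulVec, hc.right, Matrix.one_mulVec, halfForm_piVec ht h2 hX hd w, mul_zero]
      refine ⟨_, .quadratic Q (fun ho => odd_card_iff.mp ho h2) hQ hpol, fun h hh => ⟨1, fun v => ?_⟩⟩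
      rw [Units.val_one, one_mul]
      refine quad_fix_of_basis hc hsmul (fun u v => ?_) (fun p => ?_) v
      · rw [hpol, hpol]; exact mem_spGL.mp (hH hh) u v
      · obtain ⟨π, a, ha, -⟩ := hsim h hh
        rw [Matrix.mulVec_mulVec, hc.act_of_conj ha, ← Matrix.mulVec_mulVec, ← piVec_single, ← Matrix.mulVec_mulVec,
          piKron_mulVec, permMat_mulVec_piVec, hpure, hpure]
    · -- an invariant subspace
      push Not at hd
      obtain ⟨i₁, hi₁⟩ := hd
      choose r hr using fun i => hsq (X i i)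
      let φ : (Fin k → F) → F := fun v => ∑ i, r i * v i
      have hφ : ∀ v, v ⬝ᵥ (X *ᵥ v) = φ v ^ 2 := fun v => by
        rw [hdiag, sum_pow_char]
        exact Finset.sum_congr rfl fun i _ => by rw [mul_pow, hr]
      have hr1 : r i₁ ≠ 0 := fun e => hi₁ (by rw [← hr, e]; ring)
      obtain ⟨w₀, hw0, hw⟩ : ∃ w₀ : Fin k → F, w₀ ≠ 0 ∧ φ w₀ = 0 := by
        obtain ⟨j, hj⟩ : ∃ j, j ≠ i₁ := Fintype.exists_ne_of_one_lt_card (by rw [Fintype.card_fin]; omega) i₁
        refine ⟨Pi.single j (r i₁) - Pi.single i₁ (r j), fun e => hr1 ?_, ?_⟩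
        · have := congrFun e j
          simpa [Pi.single_apply, hj] using this
        · simp only [φ, Pi.sub_apply, mul_sub, Finset.sum_sub_distrib]
          rw [Finset.sum_eq_single j (fun i _ hi => by simp [Pi.single_apply, hi]) (by simp),
            Finset.sum_eq_single i₁ (fun i _ hi => by simp [Pi.single_apply, hi]) (by simp)]
          simp [mul_comm]
      let S : Set (Fin m ⊕ Fin m → F) := {v | ∃ w : Fin t → Fin k → F, (∀ i, φ (w i) = 0) ∧ v = Φ *ᵥ piVec w}
      refine inSpLE_of_invariant hH (W := Submodule.span F S) (fun e => ?_) (fun e => ?_) ?_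
      · obtain ⟨a, ha⟩ := Function.ne_iff.mp hw0
        have h1 : Φ *ᵥ piVec (fun _ : Fin t => w₀) ∈ Submodule.span F S :=
          Submodule.subset_span ⟨_, fun _ => hw, rfl⟩
        rw [e, Submodule.mem_bot] at h1
        have h3 := congrArg (fun v => (Ψ *ᵥ v) fun _ => a) h1
        simp only [Matrix.mulVec_mulVec, hc.right, Matrix.one_mulVec, Matrix.mulVec_zero, piVec] at h3
        exact pow_ne_zero t ha (by simpa using h3)
      · let L : (Fin m ⊕ Fin m → F) →ₗ[F] F :=
          { toFun := fun v => (fun x => ∏ i, r (x i)) ⬝ᵥ (Ψ *ᵥ v)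
            map_add' := fun u v => by rw [Matrix.mulVec_add, dotProduct_add]
            map_smul' := fun a v => by rw [Matrix.mulVec_smul, dotProduct_smul]; rfl }
        have hle : Submodule.span F S ≤ LinearMap.ker L := by
          rw [Submodule.span_le]
          rintro _ ⟨w, hw', rfl⟩
          show (fun x => ∏ i, r (x i)) ⬝ᵥ (Ψ *ᵥ (Φ *ᵥ piVec w)) = 0
          rw [Matrix.mulVec_mulVec, hc.right, Matrix.one_mulVec]
          have h1 : ∏ i, φ (w i) = 0 := Finset.prod_eq_zero (Finset.mem_univ ⟨0, by omega⟩) (hw' _)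
          simp only [φ] at h1
          rw [Finset.prod_univ_sum, Fintype.piFinset_univ] at h1
          simpa only [dotProduct, piVec, ← Finset.prod_mul_distrib] using h1
        rw [e, top_le_iff] at hle
        have h4 : Φ *ᵥ Pi.single (fun _ => i₁) 1 ∈ LinearMap.ker L := hle ▸ Submodule.mem_top
        rw [LinearMap.mem_ker] at h4
        change (fun x => ∏ i, r (x i)) ⬝ᵥ (Ψ *ᵥ (Φ *ᵥ Pi.single (fun _ => i₁) 1)) = 0 at h4
        rw [Matrix.mulVec_mulVec, hc.right, Matrix.one_mulVec, dotProduct_single_one] at h4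
        exact pow_ne_zero t hr1 (by simpa using h4)
      · intro h hh v hv
        obtain ⟨π, a, ha, he⟩ := hsim h hh
        induction hv using Submodule.span_induction with
        | mem x hx =>
          obtain ⟨w, hw', rfl⟩ := hx
          refine Submodule.subset_span ⟨fun i => (a (π.symm i) : Matrix (Fin k) (Fin k) F) *ᵥ w (π.symm i),
            fun i => ?_, ?_⟩
          · obtain ⟨e, -, he'⟩ := he (π.symm i)
            set A := (a (π.symm i) : Matrix (Fin k) (Fin k) F)
            set u := w (π.symm i)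
            have h1 : φ (A *ᵥ u) ^ 2 = e * φ u ^ 2 := by
              rw [← hφ, ← hφ, ← smul_eq_mul e, ← dotProduct_smul, ← Matrix.smul_mulVec, ← he', ← Matrix.mulVec_mulVec,
                ← Matrix.mulVec_mulVec, Matrix.dotProduct_mulVec u Aᵀ, Matrix.vecMul_transpose]
            rw [show φ u = 0 from hw' _, sq 0, mul_zero, mul_zero] at h1
            exact eq_zero_of_pow_eq_zero h1
          · rw [Matrix.mulVec_mulVec, hc.act_of_conj ha, ← Matrix.mulVec_mulVec, ← Matrix.mulVec_mulVec, piKron_mulVec,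
              permMat_mulVec_piVec]
        | zero => rw [Matrix.mulVec_zero]; exact zero_mem _
        | add x y _ _ h1 h2 => rw [Matrix.mulVec_add]; exact add_mem h1 h2
        | smul a x _ h1 => rw [Matrix.mulVec_smul]; exact Submodule.smul_mem _ _ h1
  -- odd order
  have hl : l = -1 := by
    rcases mul_self_eq_one_iff.mp hll with e | e
    · rw [e, one_pow, eq_neg_iff_add_eq_zero, one_add_one_eq_two] at hlt
      exact absurd hlt h2
    · exact e
  have hto : Odd t := by
    rcases Nat.even_or_odd t with he | ho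
    · rw [hl, he.neg_one_pow, eq_neg_iff_add_eq_zero, one_add_one_eq_two] at hlt
      exact absurd hlt h2
    · exact ho
  have h3 : 3 ≤ t := by rcases hto with ⟨j, rfl⟩; omega
  rw [hl, neg_one_smul] at hX
  have hdiag : ∀ i, X i i = 0 := fun i => by
    have h1 : X i i = -X i i := congrFun (congrFun hX i) i
    have : (2 : F) * X i i = 0 := by rw [two_mul]; nth_rewrite 2 [h1]; exact add_neg_cancel _
    exact (mul_eq_zero.mp this).resolve_left h2
  have hke : Even k := by
    rcases Nat.even_or_odd k with he | ho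
    · exact he
    · have h1 := congrArg Matrix.det hX
      rw [Matrix.det_transpose, Matrix.det_neg, Fintype.card_fin, ho.neg_one_pow, neg_one_mul] at h1
      have : (2 : F) * X.det = 0 := by rw [two_mul]; nth_rewrite 2 [h1]; exact add_neg_cancel _
      exact absurd ((mul_eq_zero.mp this).resolve_left h2) hW.det_ne_zero
  let e : (Fin m ⊕ Fin m) ≃ (Fin t → Fin k) := Fintype.equivOfCardEq hc.card_eq.symm
  by_cases hex : Fintype.card F = 3 ∧ k = 2
  swap
  · exact ⟨_, .wreath k t e _ _ (odd_card_iff.mpr h2) hto h3 hex hke (matForm_symplectic hW.det_ne_zero hX hdiag)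
      (hW.structure' hf e), hW.le_stabilizer e⟩
  obtain ⟨hF3, rfl⟩ := hex
  obtain ⟨R₁, hR₁, hN, hn, hmin, hmem⟩ := tensorPower_quaternion hF3 (t := t) (by omega) hc
  refine inSpLE_of_sympN hm hN (fun g hg => ?_) hn hmin (fun h hh => ?_)
  · obtain ⟨a, ha, rfl⟩ := (mem_tensorPower hc).mp hg
    have hXJ : X = X 0 1 • jTwo F := by
      have h10 : X 1 0 = -X 0 1 := congrFun (congrFun hX 0) 1
      ext i j
      fin_cases i <;> fin_cases j <;> simp [jTwo, hdiag, h10]
    rw [mem_spGL]
    intro u v
    obtain ⟨u', rfl⟩ : ∃ u', u = Φ *ᵥ u' := ⟨Ψ *ᵥ u, by rw [Matrix.mulVec_mulVec, hc.left, Matrix.one_mulVec]⟩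
    obtain ⟨v', rfl⟩ : ∃ v', v = Φ *ᵥ v' := ⟨Ψ *ᵥ v, by rw [Matrix.mulVec_mulVec, hc.left, Matrix.one_mulVec]⟩
    rw [Matrix.mulVec_mulVec, Matrix.mulVec_mulVec, hc.act_of_conj (hc.conj_lift _), ← Matrix.mulVec_mulVec,
      ← Matrix.mulVec_mulVec, hf.apply_coords, hf.apply_coords, RingEquiv.coe_refl, Function.id_comp,
      Function.id_comp, hG, piKronHom_val]
    set A := piKron (d := fun _ => 2) fun i => (a i : Matrix (Fin 2) (Fin 2) F)
    set G := c • piKron (d := fun _ : Fin t => 2) fun _ => X
    have hA : Aᵀ * G * A = G := by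
      rw [Matrix.mul_smul, Matrix.smul_mul, piKron_transpose, piKron_mul, piKron_mul]
      congr 1
      congr 1
      funext i
      show (a i : Matrix (Fin 2) (Fin 2) F)ᵀ * X * (a i : Matrix (Fin 2) (Fin 2) F) = X
      rw [hXJ, Matrix.mul_smul, Matrix.smul_mul, jTwo_conj, hR₁ _ (ha i), one_smul]
    conv_rhs => rw [← hA]
    rw [Matrix.mul_assoc, ← Matrix.mulVec_mulVec, ← Matrix.mulVec_mulVec, Matrix.dotProduct_mulVec u' Aᵀ,
      Matrix.vecMul_transpose]
  · obtain ⟨π, a, ha⟩ := hW.stab h hh
    refine hmem h π a (Units.ext ?_)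
    rw [hc.lift_val, Units.val_mul, piKronHom_val]
    show _ = Φ * (permMat F π * _) * Ψ
    rw [← ha, hc.unconj_conj]

end Cfsg.Lib.Classical.Aschbacher
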