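import Cfsg.Agent.Classical.Aschbacher.FormCases
import Cfsg.Agent.Classical.Aschbacher.SympWreath

/-! Subgroup structure of the symplectic groups: geometric classes or almost simple. -/

set_option autoImplicit false
set_option linter.unusedSimpArgs false
set_option linter.unusedSectionVars false
set_option linter.style.haveILetI false

namespace Cfsg.Lib.Classical.Aschbacher

open Matrix Cfsg.Geo
open scoped MatrixGroups Kronecker
open Cfsg.Lib.Classical.PrimeDim (Normalises IsPreCore forall_matrixSet mem_matrixSet irreducible_iff Invariant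
  finrank_pi_card IsSesq polar_self gl_det_ne_zero)

universe u

variable {m : ℕ} {F : Type u} [Field F] [Fintype F] {H : Subgroup (GL (Fin m ⊕ Fin m) F)}

/-- A pair of totally singular subspaces in characteristic two carries a quadratic form. -/
theorem inSpLE_of_pair (hH : H ≤ Cfsg.spGL m F) {D : Fin 2 → Submodule F (Fin m ⊕ Fin m → F)}
    (hD : IsMDecomposition m D) (hts : ∀ i, IsTotallySingularFor (Cfsg.sympForm m F) (D i))
    (hle : H ≤ decompositionStabilizer D) : InSpLE H := by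
  classical
  by_cases h2 : (2 : F) = 0
  swap
  · exact ⟨_, .pair D (odd_card_iff.mpr h2) hD hts, hle⟩
  have hf := sp_refl m F
  have hc : IsCompl (D 0) (D 1) := by
    refine ⟨?_, codisjoint_iff.mpr ?_⟩
    · exact hD.indep.pairwiseDisjoint (show (0 : Fin 2) ≠ 1 by decide)
    · rw [eq_top_iff, ← hD.iSup_eq_top]
      exact iSup_le fun i => by fin_cases i <;> first | exact le_sup_left | exact le_sup_right
  let p₀ := (D 0).projectionOnto (D 1) hc
  let p₁ := (D 1).projectionOnto (D 0) hc.symm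
  have hproj : ∀ x ∈ D 0, ∀ y ∈ D 1, (p₀ (x + y) : Fin m ⊕ Fin m → F) = x ∧ (p₁ (x + y) : Fin m ⊕ Fin m → F) = y :=
    fun x hx y hy => by
      simp only [p₀, p₁, map_add]
      rw [Submodule.projectionOnto_apply_left hc ⟨x, hx⟩, Submodule.projectionOnto_apply_right hc ⟨y, hy⟩,
        Submodule.projectionOnto_apply_left hc.symm ⟨y, hy⟩, Submodule.projectionOnto_apply_right hc.symm ⟨x, hx⟩]
      simp
  have hdec : ∀ v, (p₀ v : Fin m ⊕ Fin m → F) + p₁ v = v := fun v => by
    obtain ⟨x, hx, y, hy, rfl⟩ := Submodule.mem_sup.mp (show v ∈ D 0 ⊔ D 1 by rw [hc.sup_eq_top]; trivial)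
    rw [(hproj x hx y hy).1, (hproj x hx y hy).2]
  have hts' : ∀ i, ∀ x ∈ D i, ∀ y ∈ D i, Cfsg.sympForm m F x y = 0 := fun i x hx y hy => hts i x hx y hy
  have hsymm : ∀ u v, Cfsg.sympForm m F v u = Cfsg.sympForm m F u v := fun u v => by
    rw [hf.herm u v, RingEquiv.refl_apply, neg_one_mul, neg_eq_iff_add_eq_zero, ← two_mul, h2, zero_mul]
  let Q : (Fin m ⊕ Fin m → F) → F := fun v => Cfsg.sympForm m F (p₀ v) (p₁ v)
  have hQ : ∀ x ∈ D 0, ∀ y ∈ D 1, Q (x + y) = Cfsg.sympForm m F x y := fun x hx y hy => by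
    show Cfsg.sympForm m F _ _ = _
    rw [(hproj x hx y hy).1, (hproj x hx y hy).2]
  have hsmul : ∀ (a : F) v, Q (a • v) = a ^ 2 * Q v := fun a v => by
    simp only [Q, map_smul, Submodule.coe_smul, hf.smul_left, hf.smul_right, RingEquiv.refl_apply]; ring
  have hpol : ∀ u v, QuadraticMap.polar Q u v = Cfsg.sympForm m F u v := fun u v => by
    conv_rhs => rw [← hdec u, ← hdec v]
    simp only [QuadraticMap.polar, Q, map_add, Submodule.coe_add, hf.add_left, hf.add_right]
    rw [hts' 0 _ (p₀ u).2 _ (p₀ v).2, hts' 1 _ (p₁ u).2 _ (p₁ v).2, hsymm (p₀ v) (p₁ u)]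
    ring
  have hp2 : QuadraticMap.polar Q = Cfsg.sympForm m F := funext fun u => funext fun v => hpol u v
  refine ⟨_, .quadratic Q (fun ho => odd_card_iff.mp ho h2)
    ⟨hsmul, hp2 ▸ (sympForm_isSymplectic m F).bilinear, hp2 ▸ hf.nondegenerate⟩ hpol, fun h hh => ⟨1, fun v => ?_⟩⟩
  rw [Units.val_one, one_mul]
  obtain ⟨π, hπ⟩ := hle hh
  have hmem : ∀ i, ∀ x ∈ D i, (h : Matrix (Fin m ⊕ Fin m) (Fin m ⊕ Fin m) F) *ᵥ x ∈ D (π i) := fun i x hx => by
    rw [← hπ i]; exact ⟨x, hx, Matrix.toLin'_apply _ _⟩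
  conv_lhs => rw [← hdec v, Matrix.mulVec_add]
  have hfix := mem_spGL.mp (hH hh) (p₀ v : Fin m ⊕ Fin m → F) (p₁ v : Fin m ⊕ Fin m → F)
  by_cases h0 : π 0 = 0
  · have h1 : π 1 = 1 := by
      by_contra hne
      exact absurd (π.injective (h0.trans (show (0 : Fin 2) = π 1 by omega))) (by decide)
    rw [hQ _ (by have := hmem 0 _ (p₀ v).2; rwa [h0] at this) _ (by have := hmem 1 _ (p₁ v).2; rwa [h1] at this)]
    exact hfix
  · have h0' : π 0 = 1 := by omega
    have h1 : π 1 = 0 := by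
      by_contra hne
      exact absurd (π.injective (h0'.trans (show (1 : Fin 2) = π 1 by omega))) (by decide)
    rw [add_comm, hQ _ (by have := hmem 1 _ (p₁ v).2; rwa [h1] at this) _ (by have := hmem 0 _ (p₀ v).2; rwa [h0'] at this),
      hsymm]
    exact hfix

/-- A non-scalar normalised subgroup is absolutely irreducible, or a class occurs. -/
theorem absIrred_or_inSpLE (hH : H ≤ Cfsg.spGL m F) (hm : 0 < m) (hirr : ActsIrreducibly (matrixSet H))
    {K : Subgroup (GL (Fin m ⊕ Fin m) F)} (hKH : K ≤ H) (hK : Normalises H K)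
    (hns : ¬ K ≤ scalars (Fin m ⊕ Fin m) F) : ActsAbsolutelyIrreducibly (matrixSet K) ∨ InSpLE H := by
  classical
  haveI : Nonempty (Fin m ⊕ Fin m) := ⟨Sum.inl ⟨0, hm⟩⟩
  have hf := sp_refl m F
  have hKf := sp_fixes (hKH.trans hH)
  rcases homog_or_components hirr hK with ⟨d, k, Φ, Ψ, ρ, hh⟩ | ⟨d, k, t, Φ, Ψ, ρ, cls, D, hC⟩
  · by_cases habs : AbsIrr ρ
    · rcases Nat.lt_or_ge k 2 with hk | hk
      · exact Or.inl (hh.absIrred_of_one habs (by have := hh.pos; omega))
      · rcases Nat.lt_or_ge d 2 with hd | hd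
        · refine absurd (hh.scalar_of_one ?_) hns
          have : 0 < d := Fin.pos_iff_nonempty.mpr habs.nonempty
          omega
        · obtain ⟨X₁, X₂, l, hl, h1, h2, hT⟩ := hh.tensorForm habs hK hf hKf (sp_fixes hH) hd hk
          rw [RingEquiv.refl_apply] at hl
          rw [RingEquiv.coe_refl, Matrix.map_id] at h1 h2
          exact Or.inr (inSpLE_of_tensor hH hm hirr hT hl h1 h2)
    · obtain ⟨r, L, hr, hL, hadj, -, hle⟩ := hh.form_field hK hf hKf habs
      exact Or.inr (inSpLE_of_field hH hm hr hL hadj hle)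
  · rcases hC.formDecomp hf (sp_fixes hH) hKf hirr with ⟨t', k', D', hD, hle⟩ | ⟨k', D', hk', hD, hts, hle⟩
    · exact Or.inr ⟨_, .decomp t' k' D' hD, hle⟩
    · rw [card_sum_fin] at hk'
      obtain rfl : k' = m := by omega
      exact Or.inr (inSpLE_of_pair hH hD hts hle)

/-- The residual conditions, or one of the classes. -/
theorem inSpLE_or_residual_of_preCore (hH : H ≤ Cfsg.spGL m F) (hm : 0 < m) {P : Subgroup (GL (Fin m ⊕ Fin m) F)}
    (hP : IsPreCore H P) : InSpLE H ∨ InSymplecticResidualClass H := by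
  classical
  haveI : Nonempty (Fin m ⊕ Fin m) := ⟨Sum.inl ⟨0, hm⟩⟩
  have hf := sp_refl m F
  have hPf := sp_fixes (hP.le.trans hH)
  by_cases hreal : ∃ F₀ : Subfield F, F₀ ≠ ⊤ ∧ RealisableOver F₀ (matrixSet P)
  · obtain ⟨F₀, hne, hreal⟩ := hreal
    obtain ⟨F₁, r, B, c, hr, hc, hle, hc0, hs, -⟩ :=
      hf.subfield_of_realisable (fun _ x hx => hx) hP.normal hPf hP.absIrred hne hreal
    exact Or.inl ⟨_, .subfield F₁ r B c hr (by rw [← Nat.card_eq_fintype_card]; exact hc) hc0 hs, hle⟩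
  by_cases hq : ∃ Q : (Fin m ⊕ Fin m → F) → F, IsNondegenerateQuadraticForm Q ∧ FixesQuadForm (matrixSet P) Q
  · obtain ⟨Q, hQ, hfix⟩ := hq
    have hsq : IsSesq (RingEquiv.refl F) (QuadraticMap.polar Q) := IsSesq.of_quadratic hQ
    have hpfix : Fixes (QuadraticMap.polar Q) P := fun s hs u v => by
      simp only [QuadraticMap.polar, ← Matrix.mulVec_add, hfix _ (mem_matrixSet hs)]
    have hrep : AbsIrr fun g : P => ((g : GL (Fin m ⊕ Fin m) F) : Matrix (Fin m ⊕ Fin m) (Fin m ⊕ Fin m) F) :=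
      ⟨⟨inferInstance, fun W hW => (irreducible_iff _).mp hP.absIrred.1 W fun g hg v hv => hW ⟨g, hg⟩ v hv⟩,
        fun A hA => hP.absIrred.2 A (forall_matrixSet.mpr fun g hg => hA ⟨g, hg⟩)⟩
    obtain ⟨c, hc⟩ := pairing_unique (σ := RingEquiv.refl F) (fun _ => rfl) hrep
      (fun g => gl_det_ne_zero (g : GL (Fin m ⊕ Fin m) F))
      (fun g => hf.gram_fix hPf g.2)
      (fun g => by
        have := (hsq.fixes_iff (1 : F)).mp (fun u v => by rw [one_mul]; exact hpfix _ g.2 u v)
        rwa [one_smul] at this)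
      hf.toIsSesq.det_gram_ne_zero
    have hc0 : c ≠ 0 := fun e => hsq.det_gram_ne_zero (by rw [hc, e, zero_smul, Matrix.det_zero])
    have hpc : ∀ u v, QuadraticMap.polar Q u v = c * Cfsg.sympForm m F u v := fun u v => by
      rw [hsq.apply_eq, hc, Matrix.smul_mulVec, dotProduct_smul, smul_eq_mul, ← hf.toIsSesq.apply_eq]
    by_cases h2 : (2 : F) = 0
    swap
    · exfalso
      obtain ⟨u, hu⟩ := exists_ne (0 : Fin m ⊕ Fin m → F)
      obtain ⟨v, hv⟩ := (hf.nondegenerate u hu).2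
      have e1 := hpc u v
      rw [QuadraticMap.polar_comm, hpc, hf.herm u v, RingEquiv.refl_apply, neg_one_mul, mul_neg] at e1
      exact hv ((mul_eq_zero.mp (show (2 : F) * (c * Cfsg.sympForm m F u v) = 0 by linear_combination -e1)).resolve_left h2
        |> fun h => (mul_eq_zero.mp h).resolve_left hc0)
    haveI : CharP F 2 := CharTwo.of_one_ne_zero_of_two_eq_zero one_ne_zero h2
    let Q' : (Fin m ⊕ Fin m → F) → F := fun v => c⁻¹ * Q v
    have hpol : ∀ u v, QuadraticMap.polar Q' u v = Cfsg.sympForm m F u v := fun u v => by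
      have e : QuadraticMap.polar Q' u v = c⁻¹ * QuadraticMap.polar Q u v := by
        simp only [QuadraticMap.polar, Q']; ring
      rw [e, hpc, ← mul_assoc, inv_mul_cancel₀ hc0, one_mul]
    have hp2 : QuadraticMap.polar Q' = Cfsg.sympForm m F := funext fun u => funext fun v => hpol u v
    have hs' : ∀ (a : F) v, Q' (a • v) = a ^ 2 * Q' v := fun a v => by simp only [Q', hQ.smul]; ring
    refine Or.inl ⟨_, .quadratic Q' (fun ho => odd_card_iff.mp ho h2)
      ⟨hs', hp2 ▸ (sympForm_isSymplectic m F).bilinear, hp2 ▸ hf.nondegenerate⟩ hpol, fun h hh => ⟨1, fun v => ?_⟩⟩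
    rw [Units.val_one, one_mul]
    set Hm : Matrix (Fin m ⊕ Fin m) (Fin m ⊕ Fin m) F := (h : Matrix (Fin m ⊕ Fin m) (Fin m ⊕ Fin m) F)
    let D : (Fin m ⊕ Fin m → F) → F := fun v => Q' (Hm *ᵥ v) - Q' v
    have hDa : ∀ u v, D (u + v) = D u + D v := fun u v => by
      have e1 := hpol (Hm *ᵥ u) (Hm *ᵥ v)
      rw [mem_spGL.mp (hH hh) u v, ← hpol u v] at e1
      simp only [QuadraticMap.polar, ← Matrix.mulVec_add] at e1
      simp only [D]
      linear_combination e1
    have hDs : ∀ (a : F) v, D (a • v) = a ^ 2 * D v := fun a v => by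
      simp only [D, Matrix.mulVec_smul, hs']; ring
    have hDP : ∀ g ∈ P, ∀ v, D ((g : Matrix (Fin m ⊕ Fin m) (Fin m ⊕ Fin m) F) *ᵥ v) = D v := fun g hg v => by
      have e : Hm *ᵥ ((g : Matrix (Fin m ⊕ Fin m) (Fin m ⊕ Fin m) F) *ᵥ v) =
          ((h * g * h⁻¹ : GL (Fin m ⊕ Fin m) F) : Matrix (Fin m ⊕ Fin m) (Fin m ⊕ Fin m) F) *ᵥ (Hm *ᵥ v) := by
        rw [Matrix.mulVec_mulVec, Matrix.mulVec_mulVec, ← Units.val_mul, ← Units.val_mul, inv_mul_cancel_right]
      simp only [D, Q', e, hfix _ (mem_matrixSet hg), hfix _ (mem_matrixSet (hP.normal h hh g hg))]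
    let W : Submodule F (Fin m ⊕ Fin m → F) :=
      { carrier := {v | D v = 0}
        zero_mem' := by simpa using hDs 0 0
        add_mem' := fun {u v} hu hv => by
          show D (u + v) = 0
          rw [hDa, show D u = 0 from hu, show D v = 0 from hv, add_zero]
        smul_mem' := fun a v hv => by
          show D (a • v) = 0
          rw [hDs, show D v = 0 from hv, mul_zero] }
    rcases (irreducible_iff _).mp hP.absIrred.1 W (fun g hg v hv => by
      show D _ = 0
      rw [hDP g hg]; exact hv) with e | e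
    · exfalso
      obtain ⟨u, hu⟩ := exists_ne (0 : Fin m ⊕ Fin m → F)
      have hDu : D u ≠ 0 := fun h0 => hu ((Submodule.eq_bot_iff _).mp e u h0)
      have htop : Submodule.span F {u} = ⊤ := Submodule.eq_top_iff'.mpr fun v => by
        obtain ⟨a, ha⟩ := FiniteField.isSquare_of_char_two (ringChar.eq F 2) (D v / D u)
        have h0 : v + a • u = 0 := (Submodule.eq_bot_iff _).mp e _ (show D _ = 0 by
          rw [hDa, hDs, sq, ← ha, div_mul_cancel₀ _ hDu, ← two_mul, h2, zero_mul])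
        exact Submodule.mem_span_singleton.mpr ⟨-a, by rw [neg_smul, eq_comm, eq_neg_iff_add_eq_zero, h0]⟩
      have h1 := finrank_span_singleton (K := F) hu
      rw [htop, finrank_top, finrank_pi_card, card_sum_fin] at h1
      omega
    · exact sub_eq_zero.mp (show v ∈ W from e ▸ Submodule.mem_top)
  by_cases hu : ∃ (σ : F ≃+* F) (f : (Fin m ⊕ Fin m → F) → (Fin m ⊕ Fin m → F) → F),
      IsUnitaryForm σ f ∧ FixesForm (matrixSet P) f
  · obtain ⟨σ, f, hu, hfix⟩ := hu
    exact absurd (realisable_of_two_forms hP.absIrred hu.ne_refl hu.involutive hf.toIsSesq hPf.fixesForm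
      (IsSesq.of_unitary hu) hfix) hreal
  push Not at hreal
  exact Or.inr ⟨P, hP.residualCore hreal, hq, hu⟩

/-- Subgroup structure of the symplectic groups. -/
theorem symplectic_structure (hm : 2 ≤ m) (hH : H ≤ Cfsg.spGL m F) : InSpLE H ∨ InSymplecticResidualClass H := by
  classical
  haveI : Nonempty (Fin m ⊕ Fin m) := ⟨Sum.inl ⟨0, by omega⟩⟩
  by_cases hcls : InSpLE H
  · exact Or.inl hcls
  have hm0 : 0 < m := by omega
  have hirr : ActsIrreducibly (matrixSet H) := (irreducible_iff H).mpr fun W hinv => by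
    by_contra hc
    push Not at hc
    exact hcls (inSpLE_of_invariant hH hc.1 hc.2 hinv)
  rcases aschbacher_cases (by rw [card_sum_fin]; omega) hirr
    (fun K hKH hK hns => (absIrred_or_inSpLE hH hm0 hirr hKH hK hns).resolve_right hcls) with
    ⟨N, r, hNH, hN, hn, hmin⟩ | ⟨t, k, M, Φ, Ψ, ρ, ht, hF, hMH, hai, hperm, htrans⟩ | ⟨P, hP⟩
  · exact absurd (inSpLE_of_sympN hm hN (hNH.trans hH) hn hmin le_rfl) hcls
  · obtain ⟨Φ', Ψ', X, c, l, hll, hX, hlt, hW⟩ :=
      hF.wreathForm ht hai (sp_refl m F) (sp_fixes (hMH.trans hH)) (sp_fixes hH) hperm htrans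
    rw [RingEquiv.refl_apply] at hll hlt
    rw [RingEquiv.coe_refl, Matrix.map_id] at hX
    exact absurd (inSpLE_of_wreath hH hm hirr hW hll hX
      (mul_left_cancel₀ hW.ne_zero (by linear_combination hlt))) hcls
  · exact inSpLE_or_residual_of_preCore hH hm0 hP

end Cfsg.Lib.Classical.Aschbacher
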