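import Cfsg.Agent.Classical.Aschbacher.SympMain
import Cfsg.Agent.Classical.Aschbacher.LinearMembers

/-! Maximal subgroups of the symplectic groups: the members are proper. -/

set_option autoImplicit false
set_option linter.unusedSimpArgs false
set_option linter.unusedSectionVars false
set_option linter.style.haveILetI false

namespace Cfsg.Lib.Classical.Aschbacher

open Matrix Cfsg.Geo
open scoped MatrixGroups Kronecker
open Cfsg.Lib.Classical.PrimeDim (eq_inf_of_maximal val_inv_mul val_mul_inv finrank_pi_card mem_scalars_of_val_eq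
  fieldSub_isUnit gl_mulVec_ne_zero Invariant exists_char_card)

universe u

variable {m : ℕ} {F : Type u} [Field F]

theorem sympTransvection_mulVec' (v x : Fin m ⊕ Fin m → F) (c : F) :
    Cfsg.sympTransvection m v c *ᵥ x = x + (c * Cfsg.sympForm m F x v) • v := by
  rw [Cfsg.Lib.Classical.sympTransvection_mulVec, Cfsg.Lib.Classical.sympBilin_eq_sympForm]

theorem sympForm_self (v : Fin m ⊕ Fin m → F) : Cfsg.sympForm m F v v = 0 :=
  (sympForm_isSymplectic m F).alternating v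

theorem sympTransvection_mul (v : Fin m ⊕ Fin m → F) (a b : F) :
    Cfsg.sympTransvection m v a * Cfsg.sympTransvection m v b = Cfsg.sympTransvection m v (a + b) :=
  Matrix.toLin'.injective (LinearMap.ext fun x => by
    simp only [Matrix.toLin'_apply, ← Matrix.mulVec_mulVec, sympTransvection_mulVec']
    rw [(sp_refl m F).add_left, (sp_refl m F).smul_left, sympForm_self, mul_zero, add_zero, add_assoc, ← add_smul]
    congr 2
    ring)

/-- A transvection of the symplectic group. -/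
noncomputable def trv (v : Fin m ⊕ Fin m → F) (c : F) : GL (Fin m ⊕ Fin m) F :=
  ⟨Cfsg.sympTransvection m v c, Cfsg.sympTransvection m v (-c),
    by rw [sympTransvection_mul, add_neg_cancel]; simp [Cfsg.sympTransvection],
    by rw [sympTransvection_mul, neg_add_cancel]; simp [Cfsg.sympTransvection]⟩

theorem trv_mulVec (v x : Fin m ⊕ Fin m → F) (c : F) :
    (trv v c : Matrix (Fin m ⊕ Fin m) (Fin m ⊕ Fin m) F) *ᵥ x = x + (c * Cfsg.sympForm m F x v) • v :=
  sympTransvection_mulVec' v x c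

theorem trv_inv_mulVec (v x : Fin m ⊕ Fin m → F) (c : F) :
    ((trv v c)⁻¹ : GL (Fin m ⊕ Fin m) F).1 *ᵥ x = x + (-c * Cfsg.sympForm m F x v) • v :=
  sympTransvection_mulVec' v x (-c)

theorem trv_mem (v : Fin m ⊕ Fin m → F) (c : F) : trv v c ∈ Cfsg.spGL m F := by
  rw [mem_spGL]
  intro u w
  have hf := sp_refl m F
  rw [trv_mulVec, trv_mulVec]
  simp only [hf.add_left, hf.add_right, hf.smul_left, hf.smul_right, RingEquiv.refl_apply, sympForm_self, mul_zero,
    add_zero]
  rw [hf.herm w v, RingEquiv.refl_apply]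
  ring

/-- A matrix having every vector as an eigenvector is scalar. -/
theorem scalar_of_eigen {ι : Type} [Fintype ι] [DecidableEq ι] [Nonempty ι] {M : Matrix ι ι F}
    (h : ∀ v, ∃ a : F, M *ᵥ v = a • v) : ∃ a : F, M = a • 1 := by
  choose a ha using fun i => h (Pi.single i (1 : F))
  have hM : ∀ i j, M i j = if i = j then a j else 0 := fun i j => by
    have := congrFun (ha j) i
    rw [Matrix.mulVec_single_one, Matrix.col_apply] at this
    rw [this, Pi.smul_apply, Pi.single_apply, smul_eq_mul]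
    split_ifs <;> simp
  let i₀ : ι := Classical.arbitrary ι
  refine ⟨a i₀, Matrix.ext fun i j => ?_⟩
  rw [Matrix.smul_apply, Matrix.one_apply, smul_eq_mul, hM]
  by_cases hij : i = j
  · subst hij
    rw [if_pos rfl, if_pos rfl, mul_one]
    by_cases h0 : i = i₀
    · rw [h0]
    obtain ⟨b, hb⟩ := h (Pi.single i 1 + Pi.single i₀ 1)
    have e1 := congrFun hb i
    have e2 := congrFun hb i₀
    simp [Matrix.mulVec_add, hM, Ne.symm h0, h0] at e1 e2
    rw [e1, e2]
  · simp [hij]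

/-- A map with a fixed hyperplane which is a tensor product is trivial. -/
theorem kron_fix_hyperplane {n₁ n₂ : ℕ} (h1 : 2 ≤ n₁) (h2 : 2 ≤ n₂) {a : Matrix (Fin n₁) (Fin n₁) F}
    {b : Matrix (Fin n₂) (Fin n₂) F} (ha : a.det ≠ 0) (hb : b.det ≠ 0) (φ : (Fin n₁ × Fin n₂ → F) →ₗ[F] F)
    (hfix : ∀ x, φ x = 0 → (a ⊗ₖ b) *ᵥ x = x) : a ⊗ₖ b = 1 := by
  classical
  haveI : Nonempty (Fin n₁) := ⟨⟨0, by omega⟩⟩
  haveI : Nonempty (Fin n₂) := ⟨⟨0, by omega⟩⟩
  let pr : (Fin n₁ → F) → (Fin n₂ → F) → (Fin n₁ × Fin n₂ → F) := fun u w p => u p.1 * w p.2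
  have happ : ∀ u w, (a ⊗ₖ b) *ᵥ pr u w = pr (a *ᵥ u) (b *ᵥ w) := fun u w => funext fun p => by
    simp only [pr, Matrix.mulVec, dotProduct, Finset.sum_mul_sum, Fintype.sum_prod_type, Matrix.kroneckerMap_apply]
    exact Finset.sum_congr rfl fun x _ => Finset.sum_congr rfl fun y _ => by
      show a p.1 x * b p.2 y * _ = _
      ring
  have hker : ∀ {n : ℕ}, 2 ≤ n → ∀ ψ : (Fin n → F) →ₗ[F] F, ∃ w, w ≠ 0 ∧ ψ w = 0 := fun {n} hn ψ => by
    obtain ⟨w, hw, hw0⟩ := (Submodule.ne_bot_iff _).mp (LinearMap.ker_ne_bot_of_finrank_lt (f := ψ) (by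
      rw [Module.finrank_self, Module.finrank_pi, Fintype.card_fin]; omega))
    exact ⟨w, hw0, hw⟩
  have hA : ∀ u, ∃ s : F, a *ᵥ u = s • u := fun u => by
    obtain ⟨w, hw0, hw⟩ := hker h2 (φ.comp ({
        toFun := fun w => pr u w
        map_add' := fun w w' => funext fun p => mul_add _ _ _
        map_smul' := fun c w => funext fun p => mul_left_comm (u p.1) c (w p.2) } :
      (Fin n₂ → F) →ₗ[F] Fin n₁ × Fin n₂ → F))
    have h : (a ⊗ₖ b) *ᵥ pr u w = pr u w := hfix _ hw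
    rw [happ] at h
    obtain ⟨j, hj⟩ := Function.ne_iff.mp hw0
    have hbj : (b *ᵥ w) j ≠ 0 ∨ ∀ i, u i = 0 := by
      refine or_iff_not_imp_left.mpr fun e i => ?_
      rw [not_not] at e
      have := congrFun h (i, j)
      simp only [pr, e, mul_zero] at this
      exact (mul_eq_zero.mp this.symm).resolve_right hj
    rcases hbj with hbj | hu
    · refine ⟨w j / (b *ᵥ w) j, funext fun i => ?_⟩
      have := congrFun h (i, j)
      simp only [pr] at this
      rw [Pi.smul_apply, smul_eq_mul, div_mul_eq_mul_div, eq_div_iff hbj, this, mul_comm]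
    · exact ⟨1, by rw [show u = 0 from funext hu, Matrix.mulVec_zero, smul_zero]⟩
  have hB : ∀ w, ∃ s : F, b *ᵥ w = s • w := fun w => by
    obtain ⟨u, hu0, hu⟩ := hker h1 (φ.comp ({
        toFun := fun u => pr u w
        map_add' := fun u u' => funext fun p => add_mul _ _ _
        map_smul' := fun c u => funext fun p => mul_assoc c (u p.1) (w p.2) } :
      (Fin n₁ → F) →ₗ[F] Fin n₁ × Fin n₂ → F))
    have h : (a ⊗ₖ b) *ᵥ pr u w = pr u w := hfix _ hu
    rw [happ] at h
    obtain ⟨j, hj⟩ := Function.ne_iff.mp hu0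
    have haj : (a *ᵥ u) j ≠ 0 ∨ ∀ i, w i = 0 := by
      refine or_iff_not_imp_left.mpr fun e i => ?_
      rw [not_not] at e
      have := congrFun h (j, i)
      simp only [pr, e, zero_mul] at this
      exact (mul_eq_zero.mp this.symm).resolve_left hj
    rcases haj with haj | hw
    · refine ⟨u j / (a *ᵥ u) j, funext fun i => ?_⟩
      have := congrFun h (j, i)
      simp only [pr] at this
      rw [Pi.smul_apply, smul_eq_mul, div_mul_eq_mul_div, eq_div_iff haj, ← this, mul_comm]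
    · exact ⟨1, by rw [show w = 0 from funext hw, Matrix.mulVec_zero, smul_zero]⟩
  obtain ⟨s, hs⟩ := scalar_of_eigen hA
  obtain ⟨s', hs'⟩ := scalar_of_eigen hB
  have hab : a ⊗ₖ b = (s * s') • (1 : Matrix (Fin n₁ × Fin n₂) (Fin n₁ × Fin n₂) F) := by
    rw [hs, hs', Matrix.smul_kronecker, Matrix.kronecker_smul, Matrix.one_kronecker_one, smul_smul]
  obtain ⟨x, hx, hx0⟩ := (Submodule.ne_bot_iff _).mp (LinearMap.ker_ne_bot_of_finrank_lt (f := φ) (by
    rw [Module.finrank_self, Module.finrank_pi, Fintype.card_prod, Fintype.card_fin, Fintype.card_fin]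
    nlinarith))
  have h := hfix x hx
  rw [hab, Matrix.smul_mulVec, Matrix.one_mulVec] at h
  rw [hab, smul_left_injective F hx0 (show (s * s') • x = (1 : F) • x by rw [h, one_smul]), one_smul]

/-- A map with a fixed hyperplane which is a wreath matrix with at least three factors is trivial. -/
theorem wreath_fix_hyperplane {t k : ℕ} (ht : 3 ≤ t) (hk : 2 ≤ k) {π : Equiv.Perm (Fin t)}
    {a : Fin t → GL (Fin k) F} (φ : ((Fin t → Fin k) → F) →ₗ[F] F)
    (hfix : ∀ x, φ x = 0 →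
      (permMat F π * piKron (d := fun _ => k) fun i => (a i : Matrix (Fin k) (Fin k) F)) *ᵥ x = x) :
    (permMat F π * piKron (d := fun _ => k) fun i => (a i : Matrix (Fin k) (Fin k) F)) = 1 := by
  classical
  haveI : Nonempty (Fin k) := ⟨⟨0, by omega⟩⟩
  have happ : ∀ w, (permMat F π * piKron (d := fun _ => k) fun i => (a i : Matrix (Fin k) (Fin k) F)) *ᵥ piVec w =
      piVec fun i => (a (π.symm i) : Matrix (Fin k) (Fin k) F) *ᵥ w (π.symm i) := fun w => by
    rw [← Matrix.mulVec_mulVec, piKron_mulVec, permMat_mulVec_piVec]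
  have hprop : ∀ w w' : Fin t → Fin k → F, (∀ i, w i ≠ 0) → piVec w' = piVec w → ∀ i, ∃ s : F, w' i = s • w i := by
    intro w w' hw h i
    choose p hp using fun j => Function.ne_iff.mp (hw j)
    have e : ∀ x, w' i x * ∏ j ∈ Finset.univ.erase i, w' j (p j) = w i x * ∏ j ∈ Finset.univ.erase i, w j (p j) := by
      intro x
      have h1 := congrFun h (Function.update p i x)
      rw [piVec, piVec, ← Finset.mul_prod_erase _ _ (Finset.mem_univ i), ← Finset.mul_prod_erase _ _ (Finset.mem_univ i),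
        Function.update_self] at h1
      refine (congrArg (w' i x * ·) (Finset.prod_congr rfl fun j hj => ?_)).trans
        (h1.trans (congrArg (w i x * ·) (Finset.prod_congr rfl fun j hj => ?_)))
      · rw [Function.update_of_ne (Finset.ne_of_mem_erase hj)]
      · rw [Function.update_of_ne (Finset.ne_of_mem_erase hj)]
    set A := ∏ j ∈ Finset.univ.erase i, w' j (p j)
    set B := ∏ j ∈ Finset.univ.erase i, w j (p j)
    have hB : B ≠ 0 := Finset.prod_ne_zero_iff.mpr fun j _ => hp j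
    have hA : A ≠ 0 := fun e0 => mul_ne_zero (hp i) hB (by rw [← e, e0, mul_zero])
    refine ⟨B / A, funext fun x => ?_⟩
    rw [Pi.smul_apply, smul_eq_mul, div_mul_eq_mul_div, eq_div_iff hA, e, mul_comm]
  -- complete a partial tuple inside the hyperplane
  have hext : ∀ (w : Fin t → Fin k → F) (j : Fin t), (∀ i, i ≠ j → w i ≠ 0) → ∃ y, y ≠ 0 ∧
      ∀ i, ∃ s : F, (a (π.symm i) : Matrix (Fin k) (Fin k) F) *ᵥ Function.update w j y (π.symm i) =
        s • Function.update w j y i := by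
    intro w j hw
    have hrest : ∀ (y : Fin k → F) (x : Fin t → Fin k),
        ∏ i ∈ Finset.univ.erase j, Function.update w j y i (x i) = ∏ i ∈ Finset.univ.erase j, w i (x i) := fun y x =>
      Finset.prod_congr rfl fun i hi => by rw [Function.update_of_ne (Finset.ne_of_mem_erase hi)]
    let L : (Fin k → F) →ₗ[F] (Fin t → Fin k) → F :=
      { toFun := fun y => piVec (Function.update w j y)
        map_add' := fun y y' => funext fun x => by
          simp only [piVec, Pi.add_apply, ← Finset.mul_prod_erase _ _ (Finset.mem_univ j), Function.update_self, hrest]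
          ring
        map_smul' := fun c y => funext fun x => by
          simp only [piVec, Pi.smul_apply, RingHom.id_apply, ← Finset.mul_prod_erase _ _ (Finset.mem_univ j),
            Function.update_self, hrest, smul_eq_mul]
          ring }
    obtain ⟨y, hy, hy0⟩ := (Submodule.ne_bot_iff _).mp (LinearMap.ker_ne_bot_of_finrank_lt (f := φ.comp L) (by
      rw [Module.finrank_self, Module.finrank_pi, Fintype.card_fin]; omega))
    refine ⟨y, hy0, hprop _ _ (fun i => ?_) ?_⟩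
    · by_cases h : i = j
      · subst h; rwa [Function.update_self]
      · rw [Function.update_of_ne h]; exact hw i h
    · rw [← happ]; exact hfix _ hy
  let e₀ : Fin k → F := Pi.single ⟨0, by omega⟩ 1
  have he₀ : e₀ ≠ 0 := fun e => by simpa [e₀] using congrFun e ⟨0, by omega⟩
  -- the permutation is trivial
  have hπ : ∀ l, π l = l := by
    intro l
    by_contra hl
    obtain ⟨j, hj1, hj2⟩ : ∃ j, j ≠ l ∧ j ≠ π l := by
      have : (({l, π l} : Finset (Fin t))ᶜ).Nonempty := by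
        rw [← Finset.card_pos, Finset.card_compl, Fintype.card_fin]
        have := Finset.card_le_two (a := l) (b := π l)
        omega
      obtain ⟨j, hj⟩ := this
      exact ⟨j, by simpa using hj⟩
    obtain ⟨z, hz0, hz⟩ : ∃ z : Fin k → F, z ≠ 0 ∧ ∀ s : F, (a l : Matrix (Fin k) (Fin k) F) *ᵥ e₀ ≠ s • z := by
      set u := (a l : Matrix (Fin k) (Fin k) F) *ᵥ e₀
      have hu : u ≠ 0 := gl_mulVec_ne_zero _ he₀
      obtain ⟨p, hp⟩ := Function.ne_iff.mp hu
      obtain ⟨q, hq⟩ : ∃ q, q ≠ p := Fintype.exists_ne_of_one_lt_card (by rw [Fintype.card_fin]; omega) p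
      refine ⟨Pi.single q 1, fun e => by simpa using congrFun e q, fun s e => hp ?_⟩
      rw [e]; simp [Pi.single_apply, Ne.symm hq]
    obtain ⟨y, -, hy⟩ := hext (fun i => if i = π l then z else e₀) j (fun i _ => by split_ifs <;> assumption)
    obtain ⟨s, hs⟩ := hy (π l)
    rw [Equiv.symm_apply_apply, Function.update_of_ne (Ne.symm hj1), Function.update_of_ne (Ne.symm hj2), if_pos rfl,
      if_neg (Ne.symm hl)] at hs
    exact hz s hs
  have hπ1 : π = 1 := Equiv.ext hπ
  have hscal : ∀ i, ∃ s : F, (a i : Matrix (Fin k) (Fin k) F) = s • 1 := fun i => scalar_of_eigen fun v => by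
    by_cases hv : v = 0
    · exact ⟨1, by rw [hv, Matrix.mulVec_zero, smul_zero]⟩
    obtain ⟨j, hj⟩ : ∃ j, j ≠ i := Fintype.exists_ne_of_one_lt_card (by rw [Fintype.card_fin]; omega) i
    obtain ⟨y, -, hy⟩ := hext (fun _ => v) j (fun _ _ => hv)
    obtain ⟨s, hs⟩ := hy i
    rw [hπ1, Equiv.Perm.one_symm, Equiv.Perm.one_apply, Function.update_of_ne (Ne.symm hj)] at hs
    exact ⟨s, hs⟩
  choose s hs using hscal
  have hM : (permMat F π * piKron (d := fun _ => k) fun i => (a i : Matrix (Fin k) (Fin k) F)) =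
      (∏ i, s i) • (1 : Matrix (Fin t → Fin k) (Fin t → Fin k) F) := by
    rw [show permMat (m := k) F π = 1 by rw [hπ1]; ext x y; simp [permMat, Matrix.one_apply, eq_comm], Matrix.one_mul,
      funext hs, piKron_smul (d := fun _ => k) s (fun _ => (1 : Matrix (Fin k) (Fin k) F)), ← piKron_one]
    rfl
  obtain ⟨x, hx, hx0⟩ := (Submodule.ne_bot_iff _).mp (LinearMap.ker_ne_bot_of_finrank_lt (f := φ) (by
    rw [Module.finrank_self, Module.finrank_pi, Fintype.card_fun, Fintype.card_fin, Fintype.card_fin]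
    exact lt_of_lt_of_le (by norm_num) (Nat.le_self_pow (by omega) k |>.trans' hk)))
  have h := hfix x hx
  rw [hM, Matrix.smul_mulVec, Matrix.one_mulVec] at h
  rw [hM, smul_left_injective F hx0 (show (∏ i, s i) • x = (1 : F) • x by rw [h, one_smul]), one_smul]

/-- A transvection in coordinates fixes a hyperplane. -/
theorem inCoords_trv_fix {κ : Type} [Fintype κ] [DecidableEq κ] (e : (Fin m ⊕ Fin m) ≃ κ)
    (P : GL (Fin m ⊕ Fin m) F) (v : Fin m ⊕ Fin m → F) :
    ∃ φ : (κ → F) →ₗ[F] F, ∀ x, φ x = 0 → inCoords e P (trv v 1) *ᵥ x = x := by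
  refine ⟨{ toFun := fun x => Cfsg.sympForm m F ((P : Matrix (Fin m ⊕ Fin m) (Fin m ⊕ Fin m) F) *ᵥ (x ∘ e)) v
            map_add' := fun x y => by
              rw [show (x + y) ∘ e = x ∘ e + y ∘ e from rfl, Matrix.mulVec_add, (sp_refl m F).add_left]
            map_smul' := fun c x => by
              rw [show (c • x) ∘ e = c • (x ∘ e) from rfl, Matrix.mulVec_smul, (sp_refl m F).smul_left]; rfl },
    fun x hx => ?_⟩
  change Cfsg.sympForm m F _ v = 0 at hx
  rw [inCoords, Matrix.submatrix_mulVec_equiv, Units.val_mul, Units.val_mul, ← Matrix.mulVec_mulVec,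
    ← Matrix.mulVec_mulVec, Equiv.symm_symm, trv_mulVec, hx, mul_zero, zero_smul, add_zero, Matrix.mulVec_mulVec,
    val_inv_mul, Matrix.one_mulVec]
  funext a
  simp

theorem inCoords_trv_ne {κ : Type} [Fintype κ] [DecidableEq κ] (e : (Fin m ⊕ Fin m) ≃ κ)
    (P : GL (Fin m ⊕ Fin m) F) {v : Fin m ⊕ Fin m → F} (hv : v ≠ 0) : inCoords e P (trv v 1) ≠ 1 := by
  intro h
  obtain ⟨w, hw⟩ := ((sp_refl m F).nondegenerate v hv).1
  have h1 : P⁻¹ * trv v 1 * P = (1 : GL (Fin m ⊕ Fin m) F) := Units.ext (by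
    have := congrArg (fun M : Matrix κ κ F => M.submatrix e e) h
    simp only [inCoords, Matrix.submatrix_submatrix, Matrix.submatrix_one_equiv] at this
    simpa using this)
  have h2 : trv v 1 = 1 := by
    rw [mul_assoc, inv_mul_eq_one] at h1
    exact mul_right_cancel (h1.symm.trans (one_mul P).symm)
  have h3 := trv_mulVec v w 1
  rw [h2, Units.val_one, Matrix.one_mulVec, one_mul, left_eq_add, smul_eq_zero] at h3
  rcases h3 with h3 | h3
  · exact hw h3
  · exact hv h3

variable [Fintype F]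

theorem not_le_stabilizer (hm : 0 < m) {W : Submodule F (Fin m ⊕ Fin m → F)} (h0 : W ≠ ⊥) (h1 : W ≠ ⊤) :
    ∃ (g : GL (Fin m ⊕ Fin m) F), g ∈ Cfsg.spGL m F ∧ ∃ v, g = trv v 1 ∧ ∃ w ∈ W, (g : Matrix _ _ F) *ᵥ w ∉ W := by
  obtain ⟨w, hw, hw0⟩ := (Submodule.ne_bot_iff _).mp h0
  obtain ⟨x, hx⟩ : ∃ x, x ∉ W := by
    by_contra h; push Not at h; exact h1 (Submodule.eq_top_iff'.mpr h)
  obtain ⟨y, hy⟩ := ((sp_refl m F).nondegenerate w hw0).2
  obtain ⟨v, hv, hfv⟩ : ∃ v, v ∉ W ∧ Cfsg.sympForm m F w v ≠ 0 := by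
    by_cases hyW : y ∈ W
    · by_cases hwx : Cfsg.sympForm m F w x = 0
      · refine ⟨x + y, fun h => hx (by simpa using sub_mem h hyW), ?_⟩
        rwa [(sp_refl m F).add_right, hwx, zero_add]
      · exact ⟨x, hx, hwx⟩
    · exact ⟨y, hyW, hy⟩
  refine ⟨trv v 1, trv_mem v 1, v, rfl, w, hw, fun h => hv ?_⟩
  rw [trv_mulVec, one_mul] at h
  have := W.smul_mem (Cfsg.sympForm m F w v)⁻¹ (sub_mem h hw)
  rwa [add_sub_cancel_left, smul_smul, inv_mul_cancel₀ hfv, one_smul] at this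

theorem not_le_subspace' (hm : 0 < m) {W : Submodule F (Fin m ⊕ Fin m → F)} (h0 : W ≠ ⊥) (h1 : W ≠ ⊤) :
    ¬ Cfsg.spGL m F ≤ subspaceStabilizer W := fun hle => by
  obtain ⟨g, hg, -, -, w, hw, hgw⟩ := not_le_stabilizer hm h0 h1
  exact hgw ((hle hg w).mp hw)

theorem not_le_decomposition' {t k : ℕ} {D : Fin t → Submodule F (Fin m ⊕ Fin m → F)} (hk : 2 ≤ k)
    (hD : IsMDecomposition k D) : ¬ Cfsg.spGL m F ≤ decompositionStabilizer D := fun hle => by
  classical
  have h2 := hD.two_le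
  have hne : ∀ i, D i ≠ ⊥ := fun i e => by
    have := hD.finrank_eq i
    rw [e, finrank_bot] at this
    omega
  let i₀ : Fin t := ⟨0, by omega⟩
  have hm : 0 < m := by
    rcases Nat.eq_zero_or_pos m with h | h
    · exfalso
      subst h
      exact hne i₀ ((Submodule.eq_bot_iff _).mpr fun x _ => funext fun i => by rcases i with i | i <;> exact i.elim0)
    · exact h
  have htop : D i₀ ≠ ⊤ := fun e => by
    let i₁ : Fin t := ⟨1, by omega⟩
    have := hD.indep.pairwiseDisjoint (show i₀ ≠ i₁ by simp [i₀, i₁])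
    rw [Function.onFun, e, top_disjoint] at this
    exact hne i₁ this
  obtain ⟨g, hg, v, rfl, w, hw, hgw⟩ := not_le_stabilizer hm (hne i₀) htop
  obtain ⟨π, hπ⟩ := hle hg
  let φ : (D i₀) →ₗ[F] F :=
    { toFun := fun x => Cfsg.sympForm m F (x : Fin m ⊕ Fin m → F) v
      map_add' := fun x y => by rw [Submodule.coe_add, (sp_refl m F).add_left]
      map_smul' := fun c x => by rw [Submodule.coe_smul, (sp_refl m F).smul_left]; rfl }
  obtain ⟨x, hx, hx0⟩ := (Submodule.ne_bot_iff _).mp (LinearMap.ker_ne_bot_of_finrank_lt (f := φ) (by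
    rw [Module.finrank_self, hD.finrank_eq]; omega))
  have hfix : (trv v 1 : Matrix (Fin m ⊕ Fin m) (Fin m ⊕ Fin m) F) *ᵥ (x : Fin m ⊕ Fin m → F) = x := by
    rw [trv_mulVec, show Cfsg.sympForm m F (x : Fin m ⊕ Fin m → F) v = 0 from hx, mul_zero, zero_smul, add_zero]
  have hxπ : (x : Fin m ⊕ Fin m → F) ∈ D (π i₀) := by
    rw [← hπ i₀, ← hfix]; exact ⟨(x : Fin m ⊕ Fin m → F), x.2, Matrix.toLin'_apply _ _⟩
  have h0 : π i₀ = i₀ := by
    by_contra hne'
    exact hx0 (Subtype.ext (Submodule.disjoint_def.mp (hD.indep.pairwiseDisjoint hne') _ hxπ x.2))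
  exact hgw (by
    have h3 := hπ i₀
    rw [h0] at h3
    rw [← h3]; exact ⟨w, hw, Matrix.toLin'_apply _ _⟩)

theorem not_le_field' (hm : 2 ≤ m) {r : ℕ} (hr : 1 < r)
    {K : Subalgebra F (Matrix (Fin m ⊕ Fin m) (Fin m ⊕ Fin m) F)} (hK : IsFieldSubalgebra r K) :
    ¬ Cfsg.spGL m F ≤ subalgebraNormalizer K := fun hle => by
  classical
  haveI : Nonempty (Fin m ⊕ Fin m) := ⟨Sum.inl ⟨0, by omega⟩⟩
  have hf := sp_refl m F
  have hsc : ∀ k ∈ K, ∃ a : F, k = a • 1 := fun k hk => scalar_of_eigen fun v => by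
    by_cases hv : v = 0
    · exact ⟨1, by rw [hv, Matrix.mulVec_zero, smul_zero]⟩
    set T : GL (Fin m ⊕ Fin m) F := trv v 1
    set D : Matrix (Fin m ⊕ Fin m) (Fin m ⊕ Fin m) F :=
      (T : Matrix (Fin m ⊕ Fin m) (Fin m ⊕ Fin m) F) * k * ((T⁻¹ : GL (Fin m ⊕ Fin m) F) : Matrix (Fin m ⊕ Fin m) (Fin m ⊕ Fin m) F) - k
    have hD : D ∈ K := sub_mem ((hle (trv_mem v 1) k).mp hk) hk
    let φ : (Fin m ⊕ Fin m → F) →ₗ[F] F × F :=
      { toFun := fun x => (Cfsg.sympForm m F x v, Cfsg.sympForm m F (k *ᵥ x) v)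
        map_add' := fun x y => by rw [Matrix.mulVec_add, hf.add_left, hf.add_left]; rfl
        map_smul' := fun c x => by rw [Matrix.mulVec_smul, hf.smul_left, hf.smul_left]; rfl }
    obtain ⟨x, hx, hx0⟩ := (Submodule.ne_bot_iff _).mp (LinearMap.ker_ne_bot_of_finrank_lt (f := φ) (by
      rw [Module.finrank_prod, Module.finrank_self, finrank_pi_card, card_sum_fin]; omega))
    have hx1 : Cfsg.sympForm m F x v = 0 := congrArg Prod.fst hx
    have hx2 : Cfsg.sympForm m F (k *ᵥ x) v = 0 := congrArg Prod.snd hx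
    have hDx : D *ᵥ x = 0 := by
      show ((T : Matrix (Fin m ⊕ Fin m) (Fin m ⊕ Fin m) F) * k * _ - k) *ᵥ x = 0
      rw [Matrix.sub_mulVec, ← Matrix.mulVec_mulVec, trv_inv_mulVec, hx1, mul_zero, zero_smul, add_zero,
        ← Matrix.mulVec_mulVec, trv_mulVec, hx2, mul_zero, zero_smul, add_zero, sub_self]
    have hD0 : D = 0 := by
      by_contra h0
      obtain ⟨E, -, hE⟩ := hK.inv D hD h0
      rw [mul_eq_one_comm] at hE
      exact hx0 (by rw [← Matrix.one_mulVec x, ← hE, ← Matrix.mulVec_mulVec, hDx, Matrix.mulVec_zero])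
    have hcom : (T : Matrix (Fin m ⊕ Fin m) (Fin m ⊕ Fin m) F) * k = k * (T : Matrix (Fin m ⊕ Fin m) (Fin m ⊕ Fin m) F) := by
      have h1 := congrArg (fun M => M * (T : Matrix (Fin m ⊕ Fin m) (Fin m ⊕ Fin m) F)) (sub_eq_zero.mp hD0)
      simp only [mul_assoc, val_inv_mul, mul_one] at h1
      exact h1
    obtain ⟨w, hw⟩ := (hf.nondegenerate v hv).1
    have h2 := congrArg (fun M => M *ᵥ w) hcom
    simp only [← Matrix.mulVec_mulVec, T, trv_mulVec, one_mul, Matrix.mulVec_add, Matrix.mulVec_smul,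
      add_right_inj] at h2
    refine ⟨(Cfsg.sympForm m F w v)⁻¹ * Cfsg.sympForm m F (k *ᵥ w) v, ?_⟩
    rw [mul_smul, h2, smul_smul, inv_mul_cancel₀ hw, one_smul]
  have h1 : K ≤ ⊥ := fun k hk => by
    obtain ⟨a, rfl⟩ := hsc k hk
    exact Algebra.mem_bot.mpr ⟨a, (Algebra.algebraMap_eq_smul_one a)⟩
  have h2 : Module.finrank F K ≤ 1 := by
    rw [← Subalgebra.finrank_bot (F := F) (E := Matrix (Fin m ⊕ Fin m) (Fin m ⊕ Fin m) F)]
    exact Submodule.finrank_mono (s := Subalgebra.toSubmodule K) (t := Subalgebra.toSubmodule ⊥) h1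
  rw [hK.finrank_eq] at h2
  omega

theorem not_le_subfield' (hm : 0 < m) {F₀ : Subfield F} (hne : F₀ ≠ ⊤) (P : GL (Fin m ⊕ Fin m) F) :
    ¬ Cfsg.spGL m F ≤ subfieldSubgroup F₀ P := fun hle => by
  classical
  let i₀ : Fin m ⊕ Fin m := Sum.inl ⟨0, hm⟩
  set v := (P : Matrix (Fin m ⊕ Fin m) (Fin m ⊕ Fin m) F) *ᵥ Pi.single i₀ 1
  have hf := sp_refl m F
  have hv : v ≠ 0 := gl_mulVec_ne_zero _ (fun e => by simpa using congrFun e i₀)
  obtain ⟨w, hw⟩ := (hf.nondegenerate v hv).1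
  obtain ⟨j, hj⟩ : ∃ j, Cfsg.sympForm m F ((P : Matrix (Fin m ⊕ Fin m) (Fin m ⊕ Fin m) F) *ᵥ Pi.single j 1) v ≠ 0 := by
    by_contra h
    push Not at h
    let L : (Fin m ⊕ Fin m → F) →ₗ[F] F :=
      { toFun := fun x => Cfsg.sympForm m F ((P : Matrix (Fin m ⊕ Fin m) (Fin m ⊕ Fin m) F) *ᵥ x) v
        map_add' := fun x y => by rw [Matrix.mulVec_add, hf.add_left]
        map_smul' := fun c x => by rw [Matrix.mulVec_smul, hf.smul_left]; rfl }
    have hL : L = 0 := (Pi.basisFun F _).ext fun i => by rw [Pi.basisFun_apply]; exact h i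
    have h1 := LinearMap.congr_fun hL (((P⁻¹ : GL (Fin m ⊕ Fin m) F) : Matrix (Fin m ⊕ Fin m) (Fin m ⊕ Fin m) F) *ᵥ w)
    apply hw
    simpa [L, Matrix.mulVec_mulVec, val_mul_inv] using h1
  set φj := Cfsg.sympForm m F ((P : Matrix (Fin m ⊕ Fin m) (Fin m ⊕ Fin m) F) *ᵥ Pi.single j 1) v
  apply hne
  have key : ∀ a : F, a * φj ∈ F₀ := by
    intro a
    obtain ⟨_, ⟨g, hg, hgT⟩⟩ : ∃ _ : Unit, trv v a ∈ subfieldSubgroup F₀ P := ⟨(), hle (trv_mem v a)⟩
    obtain ⟨_, ⟨B, rfl⟩, z, hz, rfl⟩ := Subgroup.mem_sup_of_normal_right.mp hg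
    obtain ⟨c, hc⟩ := (mem_scalars_iff z).mp hz
    have he : (P : Matrix (Fin m ⊕ Fin m) (Fin m ⊕ Fin m) F) *
        ((c : F) • (B : Matrix (Fin m ⊕ Fin m) (Fin m ⊕ Fin m) F₀).map F₀.subtype) =
        (trv v a : Matrix (Fin m ⊕ Fin m) (Fin m ⊕ Fin m) F) * (P : Matrix (Fin m ⊕ Fin m) (Fin m ⊕ Fin m) F) := by
      rw [MulEquiv.coe_toMonoidHom, MulAut.conj_apply, mul_inv_eq_iff_eq_mul] at hgT
      have h1 := congrArg Units.val hgT
      rw [Units.val_mul, Units.val_mul, Units.val_mul, hc, Matrix.mul_smul _ (c : F) 1, Matrix.mul_one] at h1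
      exact h1
    have hentry : ∀ i l, (c : F) * F₀.subtype ((B : Matrix (Fin m ⊕ Fin m) (Fin m ⊕ Fin m) F₀) i l) =
        (if i = l then 1 else 0) + a * Cfsg.sympForm m F ((P : Matrix (Fin m ⊕ Fin m) (Fin m ⊕ Fin m) F) *ᵥ Pi.single l 1) v *
          (if i = i₀ then 1 else 0) := by
      intro i l
      have h1 := congrArg (fun M => ((P⁻¹ : GL (Fin m ⊕ Fin m) F) : Matrix (Fin m ⊕ Fin m) (Fin m ⊕ Fin m) F) *ᵥ
        (M *ᵥ Pi.single l 1)) he
      simp only [← Matrix.mulVec_mulVec, trv_mulVec, Matrix.mulVec_add, Matrix.mulVec_smul] at h1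
      simp only [v, Matrix.mulVec_mulVec, val_inv_mul, Matrix.one_mulVec, ← Matrix.mul_assoc] at h1
      have h2 := congrFun h1 i
      simpa [v, Matrix.mulVec_single_one, Pi.single_apply, mul_comm, mul_left_comm] using h2
    obtain ⟨l, hl⟩ : ∃ l, l ≠ i₀ := ⟨Sum.inr ⟨0, hm⟩, by simp [i₀]⟩
    have h11 := hentry l l
    rw [if_pos rfl, if_neg hl, mul_zero, add_zero] at h11
    have hcF : (c : F) ∈ F₀ := by
      have hx : F₀.subtype ((B : Matrix (Fin m ⊕ Fin m) (Fin m ⊕ Fin m) F₀) l l) ∈ F₀ := SetLike.coe_mem _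
      rw [eq_inv_of_mul_eq_one_left h11]
      exact F₀.inv_mem hx
    have h0 := hentry i₀ j
    rw [if_pos rfl, mul_one] at h0
    have hmem : (c : F) * F₀.subtype ((B : Matrix (Fin m ⊕ Fin m) (Fin m ⊕ Fin m) F₀) i₀ j) ∈ F₀ :=
      F₀.mul_mem hcF (SetLike.coe_mem _)
    rw [h0] at hmem
    have h01 : (if i₀ = j then (1 : F) else 0) ∈ F₀ := by split_ifs; exacts [F₀.one_mem, F₀.zero_mem]
    simpa [φj] using F₀.sub_mem hmem h01
  refine top_le_iff.mp fun x _ => ?_
  have := key (x / φj)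
  rwa [div_mul_cancel₀ _ hj] at this

theorem not_le_sympType (hm : 2 ≤ m) (h2 : (2 : F) ≠ 0) {R : Subgroup (GL (Fin m ⊕ Fin m) F)} (hR : IsPGroup 2 R)
    (hx : ∃ x ∈ R, x ∈ Cfsg.spGL m F ∧ x * x = 1 ∧ x ∉ scalars (Fin m ⊕ Fin m) F) :
    ¬ Cfsg.spGL m F ≤ subgroupNormalizer R := fun hle => by
  classical
  haveI : Nonempty (Fin m ⊕ Fin m) := ⟨Sum.inl ⟨0, by omega⟩⟩
  obtain ⟨x, hxR, hxsp, hxx, hxs⟩ := hx
  have hf := sp_refl m F
  set X : Matrix (Fin m ⊕ Fin m) (Fin m ⊕ Fin m) F := (x : Matrix (Fin m ⊕ Fin m) (Fin m ⊕ Fin m) F)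
  have hXX : ∀ w, X *ᵥ (X *ᵥ w) = w := fun w => by
    rw [Matrix.mulVec_mulVec, ← Units.val_mul, hxx, Units.val_one, Matrix.one_mulVec]
  obtain ⟨v, hv⟩ : ∃ v, ∀ a : F, X *ᵥ v ≠ a • v := by
    by_contra h
    push Not at h
    obtain ⟨a, ha⟩ := scalar_of_eigen h
    exact hxs (mem_scalars_of_val_eq ha)
  have hv0 : v ≠ 0 := fun e => hv 0 (by rw [e, Matrix.mulVec_zero, smul_zero])
  have hsa : ∀ u w, Cfsg.sympForm m F (X *ᵥ u) w = Cfsg.sympForm m F u (X *ᵥ w) := fun u w => by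
    conv_lhs => rw [← hXX w]
    exact mem_spGL.mp hxsp u (X *ᵥ w)
  have hvv : Cfsg.sympForm m F v (X *ᵥ v) = 0 := by
    have h1 := hf.herm v (X *ᵥ v)
    rw [hsa v v, RingEquiv.refl_apply, neg_one_mul] at h1
    have h3 : (2 : F) * Cfsg.sympForm m F v (X *ᵥ v) = 0 := by rw [two_mul]; nth_rewrite 1 [h1]; exact neg_add_cancel _
    exact (mul_eq_zero.mp h3).resolve_left h2
  have hvv' : Cfsg.sympForm m F (X *ᵥ v) v = 0 := hf.eq_zero_symm hvv
  set T : GL (Fin m ⊕ Fin m) F := trv v 1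
  set y : GL (Fin m ⊕ Fin m) F := T * x * T⁻¹ * x⁻¹
  have hy : y ∈ R := R.mul_mem ((Subgroup.mem_normalizer_iff.mp (hle (trv_mem v 1)) x).mp hxR) (R.inv_mem hxR)
  have hxi : x⁻¹ = x := inv_eq_of_mul_eq_one_right hxx
  let N : (Fin m ⊕ Fin m → F) → (Fin m ⊕ Fin m → F) := fun w =>
    Cfsg.sympForm m F w v • v - Cfsg.sympForm m F w (X *ᵥ v) • (X *ᵥ v)
  have hyw : ∀ w, (y : Matrix (Fin m ⊕ Fin m) (Fin m ⊕ Fin m) F) *ᵥ w = w + N w := fun w => by
    simp only [y, hxi, Units.val_mul, ← Matrix.mulVec_mulVec, T, trv_inv_mulVec, trv_mulVec]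
    rw [show (x : Matrix (Fin m ⊕ Fin m) (Fin m ⊕ Fin m) F) = X from rfl, Matrix.mulVec_add, Matrix.mulVec_smul, hXX,
      one_mul, hf.add_left, hf.smul_left, hvv', mul_zero, add_zero, hsa w v]
    simp only [N, neg_mul, one_mul, neg_smul]
    abel
  have hNv : ∀ w, N (w + N w) = N w := fun w => by
    simp only [N]
    simp only [hf.left_add, sub_eq_add_neg, ← neg_smul, hf.smul_left, hvv, hvv', sympForm_self, mul_zero, add_zero]
  have hpow : ∀ (j : ℕ) w, ((y ^ j : GL (Fin m ⊕ Fin m) F) : Matrix (Fin m ⊕ Fin m) (Fin m ⊕ Fin m) F) *ᵥ w =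
      w + (j : F) • N w := by
    intro j
    induction j with
    | zero => intro w; simp
    | succ j ih =>
      intro w
      rw [pow_succ, Units.val_mul, ← Matrix.mulVec_mulVec, hyw, ih, hNv, Nat.cast_succ, add_smul, one_smul]
      abel
  obtain ⟨s, hs⟩ := hR ⟨y, hy⟩
  have hys : y ^ (2 ^ s) = 1 := congrArg Subtype.val hs
  obtain ⟨w, hw⟩ := (hf.nondegenerate v hv0).1
  have h3 := hpow (2 ^ s) w
  rw [hys, Units.val_one, Matrix.one_mulVec, left_eq_add, Nat.cast_pow, smul_eq_zero] at h3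
  rcases h3 with h3 | h3
  · exact pow_ne_zero s (by exact_mod_cast h2) h3
  · rw [sub_eq_zero] at h3
    rcases eq_or_ne (Cfsg.sympForm m F w (X *ᵥ v)) 0 with e | e
    · rw [e, zero_smul, smul_eq_zero] at h3
      exact h3.elim hw hv0
    · refine hv ((Cfsg.sympForm m F w (X *ᵥ v))⁻¹ * Cfsg.sympForm m F w v) ?_
      rw [mul_smul, h3, smul_smul, inv_mul_cancel₀ e, one_smul]

theorem not_le_quadratic (hm : 2 ≤ m) (h2 : (2 : F) = 0) {Q : (Fin m ⊕ Fin m → F) → F}
    (hQ : IsNondegenerateQuadraticForm Q) (hp : ∀ u v, QuadraticMap.polar Q u v = Cfsg.sympForm m F u v) :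
    ¬ Cfsg.spGL m F ≤ quadSimilarityGroup Q := fun hle => by
  classical
  have hf := sp_refl m F
  have hQadd : ∀ u v, Q (u + v) = Q u + Q v + Cfsg.sympForm m F u v := fun u v => by
    rw [← hp]; simp [QuadraticMap.polar]
  have hone : ∀ v, v ≠ 0 → Q v = 1 := by
    intro v hv
    obtain ⟨c, hc⟩ := hle (trv_mem v 1)
    have key : ∀ w, Q w + Cfsg.sympForm m F w v ^ 2 * (Q v + 1) = (c : F) * Q w := fun w => by
      rw [← hc w, trv_mulVec, one_mul, hQadd, hQ.smul, hf.smul_right, RingEquiv.refl_apply]; ring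
    obtain ⟨w₀, hw₀, hQw₀⟩ : ∃ w, Cfsg.sympForm m F w v = 0 ∧ Q w ≠ 0 := by
      by_contra h
      push Not at h
      let L : (Fin m ⊕ Fin m → F) →ₗ[F] F :=
        { toFun := fun x => Cfsg.sympForm m F x v
          map_add' := fun x y => hf.add_left x y v
          map_smul' := fun a x => hf.smul_left a x v }
      have hts : LinearMap.ker L ≤ hf.perp (LinearMap.ker L) := fun x hx => by
        rw [ReflForm.mem_perp]
        intro y hy
        have := hQadd x y
        rw [h x hx, h y hy, h _ ((LinearMap.ker L).add_mem hx hy)] at this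
        simpa using this.symm
      have h1 := Submodule.finrank_mono hts
      have h3 := hf.finrank_perp (LinearMap.ker L)
      have h4 := LinearMap.finrank_range_add_finrank_ker L
      have h5 := Submodule.finrank_le (LinearMap.range L)
      rw [Module.finrank_self] at h5
      rw [finrank_pi_card, card_sum_fin] at h4
      rw [card_sum_fin] at h3
      omega
    have hc1 : (c : F) = 1 := by
      have := key w₀
      rw [hw₀, sq, zero_mul, zero_mul, add_zero] at this
      exact (mul_eq_right₀ hQw₀).mp this.symm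
    obtain ⟨w, hw⟩ := (hf.nondegenerate v hv).1
    have := key w
    rw [hc1, one_mul, add_eq_left, mul_eq_zero] at this
    rcases this with h | h
    · exact absurd (pow_eq_zero_iff two_ne_zero |>.mp h) hw
    · rw [eq_neg_of_add_eq_zero_left h, neg_eq_iff_add_eq_zero, one_add_one_eq_two, h2]
  haveI : Nonempty (Fin m ⊕ Fin m) := ⟨Sum.inl ⟨0, by omega⟩⟩
  obtain ⟨u, hu⟩ := exists_ne (α := Fin m ⊕ Fin m → F) 0
  obtain ⟨x, hux⟩ := (hf.nondegenerate u hu).2
  have hxu : Cfsg.sympForm m F u x = 1 := by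
    have hx0 : x ≠ 0 := fun e => hux (by rw [e]; exact hf.zero_right u)
    have hux' : u + x ≠ 0 := fun e => hux (by
      rw [eq_neg_of_add_eq_zero_right e, ← neg_one_smul F u, hf.smul_right, sympForm_self, mul_zero])
    have := hQadd u x
    rw [hone _ hu, hone _ hx0, hone _ hux', one_add_one_eq_two, h2, zero_add] at this
    exact this.symm
  -- a vector orthogonal to `u` and not in its span
  let L : (Fin m ⊕ Fin m → F) →ₗ[F] F :=
    { toFun := fun z => Cfsg.sympForm m F u z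
      map_add' := fun a b => hf.add_right u a b
      map_smul' := fun a z => by rw [hf.smul_right]; rfl }
  obtain ⟨z, hz, hzu⟩ : ∃ z, L z = 0 ∧ z ∉ Submodule.span F {u} := by
    by_contra h
    push Not at h
    have h1 := Submodule.finrank_mono (show LinearMap.ker L ≤ Submodule.span F {u} from fun z hz => h z hz)
    have h4 := LinearMap.finrank_range_add_finrank_ker L
    have h5 := Submodule.finrank_le (LinearMap.range L)
    rw [Module.finrank_self] at h5
    rw [finrank_span_singleton hu] at h1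
    rw [finrank_pi_card, card_sum_fin] at h4
    omega
  have hz0 : z ≠ 0 := fun e => hzu (e ▸ Submodule.zero_mem _)
  have huz : u + z ≠ 0 := fun e => hzu (by
    rw [eq_neg_of_add_eq_zero_right e]; exact neg_mem (Submodule.mem_span_singleton_self u))
  have := hQadd u z
  rw [hone _ hu, hone _ hz0, hone _ huz, show Cfsg.sympForm m F u z = 0 from hz, one_add_one_eq_two, h2, zero_add] at this
  exact one_ne_zero this

/-- No member contains the symplectic group. -/
theorem SpMember.not_le (hm : 2 ≤ m) {M : Subgroup (GL (Fin m ⊕ Fin m) F)} (h : SpMember m F M) :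
    ¬ Cfsg.spGL m F ≤ M := by
  classical
  have hm0 : 0 < m := by omega
  haveI : Nonempty (Fin m ⊕ Fin m) := ⟨Sum.inl ⟨0, hm0⟩⟩
  have hf := sp_refl m F
  cases h with
  | singular W h0 hs =>
    refine not_le_subspace' hm0 h0 fun e => ?_
    subst e
    obtain ⟨u, hu⟩ := exists_ne (α := Fin m ⊕ Fin m → F) 0
    obtain ⟨w, hw⟩ := (hf.nondegenerate u hu).2
    exact hw (hs u trivial w trivial)
  | nondeg W h0 hn hd =>
    refine not_le_subspace' hm0 h0 fun e => ?_
    subst e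
    rw [finrank_top, finrank_pi_card, card_sum_fin] at hd
    omega
  | decomp t k D hD =>
    refine not_le_decomposition' ?_ hD.decomp
    by_contra hk
    have hk1 : k = 1 := by have := hD.decomp.pos; omega
    have h2 := hD.decomp.two_le
    obtain ⟨u, hu, hu0⟩ := (Submodule.ne_bot_iff (D ⟨0, by omega⟩)).mp (fun e => by
      have := hD.decomp.finrank_eq ⟨0, by omega⟩
      rw [e, finrank_bot] at this; omega)
    obtain ⟨⟨w, hw, hne⟩, -⟩ := hD.nondegenerate ⟨0, by omega⟩ u hu hu0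
    have hspan : D ⟨0, by omega⟩ = Submodule.span F {u} :=
      (Submodule.eq_of_le_of_finrank_eq (by rwa [Submodule.span_le, Set.singleton_subset_iff]) (by
        rw [finrank_span_singleton hu0, hD.decomp.finrank_eq, hk1])).symm
    rw [hspan] at hw
    obtain ⟨a, rfl⟩ := Submodule.mem_span_singleton.mp hw
    exact hne (by rw [hf.smul_left, sympForm_self, mul_zero])
  | pair D ho hD hs => exact not_le_decomposition' hm hD
  | field r K hr hrm hK hs ha => exact not_le_field' hm hr.one_lt hK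
  | unitField K ho hK hs hns => exact not_le_field' hm one_lt_two hK
  | tensor n₁ n₂ e P f₁ f₂ ho h3 he h1 h2 hs =>
    intro hle
    obtain ⟨u, hu⟩ := exists_ne (α := Fin m ⊕ Fin m → F) 0
    obtain ⟨k, ⟨a, b, hk⟩, hc⟩ := exists_of_mem_conjReindex (K := kroneckerSubgroup n₁ n₂ F) e P _ (hle (trv_mem u 1))
    have hn1 : 2 ≤ n₁ := by
      have : 0 < n₁ := Fin.pos (e (Sum.inl ⟨0, hm0⟩)).1
      obtain ⟨j, rfl⟩ := he; omega
    obtain ⟨φ, hφ⟩ := inCoords_trv_fix e P u
    rw [hc, hk] at hφ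
    refine inCoords_trv_ne e P hu (hc.trans (hk.trans (kron_fix_hyperplane hn1 (by omega) ?_ ?_ φ hφ)))
    · exact Cfsg.Lib.Classical.PrimeDim.gl_det_ne_zero a
    · exact Cfsg.Lib.Classical.PrimeDim.gl_det_ne_zero b
  | subfield F₀ r P ζ hr hc hζ hs =>
    refine not_le_subfield' hm0 (fun h => ?_) P
    rw [h, Nat.card_congr Subfield.topEquiv.toEquiv, Nat.card_eq_fintype_card] at hc
    have : Fintype.card F < Fintype.card F ^ r := lt_self_pow₀ Fintype.one_lt_card hr.one_lt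
    omega
  | sympType R p k hR ha hs hp ho hc hcard hz hm' hk hx =>
    exact not_le_sympType hm (Cfsg.Lib.Classical.PrimeDim.two_ne_zero_of_odd (hc ▸ ho)) hR.pGroup hx
  | wreath k t e P f₁ ho hto h3 hex hke h1 hs =>
    intro hle
    obtain ⟨u, hu⟩ := exists_ne (α := Fin m ⊕ Fin m → F) 0
    obtain ⟨π, a, hc⟩ := exists_isWreath_of_mem e P _ (hle (trv_mem u 1))
    have hk2 : 2 ≤ k := by
      have : 0 < k := Fin.pos (e (Sum.inl ⟨0, hm0⟩) ⟨0, by omega⟩)
      obtain ⟨j, rfl⟩ := hke; omega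
    obtain ⟨φ, hφ⟩ := inCoords_trv_fix e P u
    rw [hc] at hφ
    exact inCoords_trv_ne e P hu (hc.trans (wreath_fix_hyperplane h3 hk2 φ hφ))
  | quadratic Q he hQ hp =>
    exact not_le_quadratic hm (by_contra fun h => he (odd_card_iff.mpr h)) hQ hp

/-- A maximal subgroup is a member or residual. -/
theorem sp_maximal_type (hm : 2 ≤ m) {H : Subgroup (GL (Fin m ⊕ Fin m) F)} (hH : IsMaximalIn (Cfsg.spGL m F) H) :
    (∃ M, SpMember m F M ∧ H = M ⊓ Cfsg.spGL m F) ∨ InSymplecticResidualClass H :=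
  (symplectic_structure hm hH.1.le).imp_left fun ⟨M, hM, hle⟩ => ⟨M, hM, eq_inf_of_maximal hH hle (hM.not_le hm)⟩

end Cfsg.Lib.Classical.Aschbacher
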