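import Cfsg.Agent.Classical.Aschbacher.FormWreath
import Cfsg.Agent.Classical.Aschbacher.Symplectic

/-! Tensor powers of groups of symplectic type. -/

set_option autoImplicit false
set_option linter.unusedSimpArgs false
set_option linter.unusedSectionVars false
set_option linter.style.haveILetI false

namespace Cfsg.Lib.Classical.Aschbacher

open Matrix Cfsg.Geo
open scoped MatrixGroups commutatorElement
open Cfsg.Lib.Classical.PrimeDim (Normalises mem_matrixSet forall_matrixSet irreducible_iff scalar_commute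
  mem_scalars_of_val_eq)

universe u

variable {ι : Type} [Fintype ι] [DecidableEq ι] {F : Type u} [Field F]

/-- Tensor products of invertible matrices, as a homomorphism. -/
def piKronHom (t k : ℕ) : (Fin t → GL (Fin k) F) →* GL (Fin t → Fin k) F where
  toFun a := piKronGL (d := fun _ => k) a
  map_one' := Units.ext (by
    rw [piKronGL_val, Units.val_one, ← piKron_one (F := F) (fun _ : Fin t => k)]
    rfl)
  map_mul' a b := Units.ext (by
    rw [Units.val_mul, piKronGL_val, piKronGL_val, piKronGL_val, piKron_mul]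
    rfl)

theorem piKronHom_val {t k : ℕ} (a : Fin t → GL (Fin k) F) :
    (piKronHom t k a : Matrix (Fin t → Fin k) (Fin t → Fin k) F) =
      piKron (d := fun _ => k) fun i => (a i : Matrix (Fin k) (Fin k) F) := rfl

theorem permGL_conj {t k : ℕ} (π : Equiv.Perm (Fin t)) (a : Fin t → GL (Fin k) F) :
    permGL F π * piKronHom t k a * (permGL F π)⁻¹ = piKronHom t k (a ∘ π.symm) := by
  rw [mul_inv_eq_iff_eq_mul]
  refine Units.ext ?_
  rw [Units.val_mul, Units.val_mul]
  exact permMat_piKron π _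

/-- Matrices in coordinates as invertible matrices. -/
def Coords.lift {κ : Type} [Fintype κ] [DecidableEq κ] {Φ : Matrix ι κ F} {Ψ : Matrix κ ι F} (hc : Coords Φ Ψ) :
    GL κ F →* GL ι F where
  toFun T := ⟨Φ * (T : Matrix κ κ F) * Ψ, Φ * ((T⁻¹ : GL κ F) : Matrix κ κ F) * Ψ, by
    simp only [Matrix.mul_assoc]
    rw [← Matrix.mul_assoc Ψ Φ, hc.right, Matrix.one_mul, ← Matrix.mul_assoc (T : Matrix κ κ F), ← Units.val_mul,
      mul_inv_cancel, Units.val_one, Matrix.one_mul, hc.left], by
    simp only [Matrix.mul_assoc]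
    rw [← Matrix.mul_assoc Ψ Φ, hc.right, Matrix.one_mul, ← Matrix.mul_assoc ((T⁻¹ : GL κ F) : Matrix κ κ F),
      ← Units.val_mul, inv_mul_cancel, Units.val_one, Matrix.one_mul, hc.left]⟩
  map_one' := Units.ext (by
    show Φ * ((1 : GL κ F) : Matrix κ κ F) * Ψ = ((1 : GL ι F) : Matrix ι ι F)
    rw [Units.val_one, Matrix.mul_one, hc.left, Units.val_one])
  map_mul' S T := Units.ext (by
    show Φ * ((S * T : GL κ F) : Matrix κ κ F) * Ψ =
      (Φ * (S : Matrix κ κ F) * Ψ) * (Φ * (T : Matrix κ κ F) * Ψ)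
    simp only [Matrix.mul_assoc]
    rw [← Matrix.mul_assoc Ψ Φ, hc.right, Matrix.one_mul, Units.val_mul, Matrix.mul_assoc])

theorem Coords.lift_val {κ : Type} [Fintype κ] [DecidableEq κ] {Φ : Matrix ι κ F} {Ψ : Matrix κ ι F}
    (hc : Coords Φ Ψ) (T : GL κ F) : (hc.lift T : Matrix ι ι F) = Φ * (T : Matrix κ κ F) * Ψ := rfl

theorem Coords.conj_lift {κ : Type} [Fintype κ] [DecidableEq κ] {Φ : Matrix ι κ F} {Ψ : Matrix κ ι F}
    (hc : Coords Φ Ψ) (T : GL κ F) : Ψ * (hc.lift T : Matrix ι ι F) * Φ = T := hc.conj_unconj _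

/-- The tensor power of a group. -/
def tensorPowerGroup {t k : ℕ} {Φ : Matrix ι (Fin t → Fin k) F} {Ψ : Matrix (Fin t → Fin k) ι F}
    (hc : Coords Φ Ψ) (R₁ : Subgroup (GL (Fin k) F)) : Subgroup (GL ι F) :=
  (Subgroup.pi Set.univ fun _ : Fin t => R₁).map (hc.lift.comp (piKronHom t k))

section

variable {t k : ℕ} {Φ : Matrix ι (Fin t → Fin k) F} {Ψ : Matrix (Fin t → Fin k) ι F} (hc : Coords Φ Ψ)
  {R₁ G₁ : Subgroup (GL (Fin k) F)}

theorem mem_tensorPower {x : GL ι F} :
    x ∈ tensorPowerGroup hc R₁ ↔ ∃ a : Fin t → GL (Fin k) F, (∀ i, a i ∈ R₁) ∧ hc.lift (piKronHom t k a) = x :=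
  ⟨fun ⟨a, ha, e⟩ => ⟨a, fun i => ha i (Set.mem_univ i), e⟩, fun ⟨a, ha, e⟩ => ⟨a, fun i _ => ha i, e⟩⟩

theorem wreath_mem_normalizer (hn : Normalises G₁ R₁) {g : GL ι F} {π : Equiv.Perm (Fin t)}
    {a : Fin t → GL (Fin k) F} (ha : ∀ i, a i ∈ G₁) (hg : g = hc.lift (permGL F π * piKronHom t k a)) :
    g ∈ subgroupNormalizer (tensorPowerGroup hc R₁) := by
  have conj : ∀ r : Fin t → GL (Fin k) F,
      g * hc.lift (piKronHom t k r) * g⁻¹ = hc.lift (piKronHom t k ((a * r * a⁻¹) ∘ π.symm)) := fun r => by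
    rw [hg, ← map_inv, ← map_mul, ← map_mul, ← permGL_conj, map_mul (piKronHom t k), map_mul (piKronHom t k), map_inv]
    congr 1
    group
  rw [subgroupNormalizer, Subgroup.mem_normalizer_iff]
  intro x
  constructor
  · intro hx
    obtain ⟨r, hr, rfl⟩ := (mem_tensorPower hc).mp hx
    exact (mem_tensorPower hc).mpr ⟨_, fun i => hn _ (ha _) _ (hr _), (conj r).symm⟩
  · intro hx
    obtain ⟨r, hr, e⟩ := (mem_tensorPower hc).mp hx
    refine (mem_tensorPower hc).mpr ⟨a⁻¹ * (r ∘ π) * a, fun i => hn.inv (ha i) (hr (π i)), ?_⟩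
    have h1 := conj (a⁻¹ * (r ∘ π) * a)
    rw [show ((a * (a⁻¹ * (r ∘ π) * a) * a⁻¹) ∘ π.symm) = r from funext fun i => by simp [mul_assoc], e] at h1
    exact mul_left_cancel (mul_right_cancel h1)

/-- The span of a tensor power of a spanning set. -/
theorem piKron_span (hspan : Submodule.span F (matrixSet R₁) = ⊤) (A : Fin t → Matrix (Fin k) (Fin k) F) :
    piKron (d := fun _ => k) A ∈ Submodule.span F
      {M | ∃ a : Fin t → GL (Fin k) F, (∀ i, a i ∈ R₁) ∧
        M = piKron (d := fun _ => k) fun i => (a i : Matrix (Fin k) (Fin k) F)} := by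
  classical
  set S := Submodule.span F {M | ∃ a : Fin t → GL (Fin k) F, (∀ i, a i ∈ R₁) ∧
    M = piKron (d := fun _ => k) fun i => (a i : Matrix (Fin k) (Fin k) F)}
  have key : ∀ s : Finset (Fin t), ∀ A : Fin t → Matrix (Fin k) (Fin k) F,
      (∀ i ∉ s, ∃ a ∈ R₁, A i = (a : Matrix (Fin k) (Fin k) F)) → piKron (d := fun _ => k) A ∈ S := by
    intro s
    induction s using Finset.induction_on with
    | empty =>
      intro A hA
      choose a ha ha' using fun i => hA i (Finset.notMem_empty i)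
      exact Submodule.subset_span ⟨a, ha, congrArg piKron (funext ha')⟩
    | insert j s hj ih =>
      intro A hA
      have hupd : ∀ B : Matrix (Fin k) (Fin k) F, ∀ x y : Fin t → Fin k,
          piKron (d := fun _ => k) (Function.update A j B) x y =
            B (x j) (y j) * ∏ i ∈ Finset.univ.erase j, A i (x i) (y i) := fun B x y => by
        rw [piKron_apply, ← Finset.mul_prod_erase _ _ (Finset.mem_univ j), Function.update_self]
        congr 1
        exact Finset.prod_congr rfl fun i hi => by rw [Function.update_of_ne (Finset.ne_of_mem_erase hi)]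
      let L : Matrix (Fin k) (Fin k) F →ₗ[F] Matrix (Fin t → Fin k) (Fin t → Fin k) F :=
        { toFun := fun B => piKron (d := fun _ => k) (Function.update A j B)
          map_add' := fun B C => Matrix.ext fun x y => by
            rw [Matrix.add_apply, hupd, hupd, hupd, Matrix.add_apply, add_mul]
          map_smul' := fun c B => Matrix.ext fun x y => by
            rw [RingHom.id_apply, Matrix.smul_apply, hupd, hupd, Matrix.smul_apply, smul_eq_mul, smul_eq_mul, mul_assoc] }
      have h1 : ⊤ ≤ S.comap L := by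
        rw [← hspan, Submodule.span_le]
        rintro _ ⟨a, ha, rfl⟩
        refine ih _ fun i hi => ?_
        by_cases hij : i = j
        · subst hij; exact ⟨a, ha, by rw [Function.update_self]⟩
        · rw [Function.update_of_ne hij]; exact hA i (by simp [hij, hi])
      have h2 : L (A j) ∈ S := h1 Submodule.mem_top
      simpa [L] using h2
  exact key Finset.univ A fun i hi => absurd (Finset.mem_univ i) hi

/-- The tensor power of a group of symplectic type is of symplectic type, minimal in its normaliser. -/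
theorem tensorPower_sympN [Finite F] [Nonempty ι] (ht : 0 < t) (hk : 2 ≤ k) {r : ℕ} (hr : r.Prime)
    (hn : Normalises G₁ R₁) (hcomm : ∀ a ∈ R₁, ∀ b ∈ R₁, ⁅a, b⁆ ∈ scalars (Fin k) F)
    (hpow : ∀ a ∈ R₁, a ^ r ∈ scalars (Fin k) F) (hspan : Submodule.span F (matrixSet R₁) = ⊤)
    (hmin : SympN.Minimal G₁ R₁)
    (hmove : ∀ x ∈ R₁, x ∉ scalars (Fin k) F → ∃ g ∈ G₁, g * x * g⁻¹ * x⁻¹ ∉ scalars (Fin k) F) :
    SympN r (tensorPowerGroup hc R₁) ∧
      Normalises (subgroupNormalizer (tensorPowerGroup hc R₁)) (tensorPowerGroup hc R₁) ∧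
      SympN.Minimal (subgroupNormalizer (tensorPowerGroup hc R₁)) (tensorPowerGroup hc R₁) := by
  classical
  haveI : Nonempty (Fin k) := ⟨⟨0, by omega⟩⟩
  set R := tensorPowerGroup hc R₁
  set Λ := hc.lift.comp (piKronHom t k)
  have hscal : ∀ a : Fin t → GL (Fin k) F, (∀ i, a i ∈ scalars (Fin k) F) → Λ a ∈ scalars ι F := fun a ha => by
    choose c hc' using fun i => (mem_scalars_iff (a i)).mp (ha i)
    refine hc.mem_scalars (c := ∏ i, (c i : F)) ?_
    show Ψ * (hc.lift (piKronHom t k a) : Matrix ι ι F) * Φ = _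
    rw [hc.conj_lift, piKronHom_val, ← piKron_one (F := F) (fun _ : Fin t => k), ← piKron_smul]
    exact congrArg piKron (funext hc')
  have hns1 : ¬ R₁ ≤ scalars (Fin k) F := fun hle => by
    have hs : Submodule.span F (matrixSet R₁) ≤ Submodule.span F {(1 : Matrix (Fin k) (Fin k) F)} := by
      rw [Submodule.span_le]
      rintro _ ⟨a, ha, rfl⟩
      obtain ⟨c, hc'⟩ := (mem_scalars_iff a).mp (hle ha)
      exact Submodule.mem_span_singleton.mpr ⟨c, hc'.symm⟩
    rw [hspan] at hs
    obtain ⟨c, hc'⟩ := Submodule.mem_span_singleton.mp (hs (Submodule.mem_top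
      (x := Matrix.single (⟨0, by omega⟩ : Fin k) (⟨1, by omega⟩ : Fin k) (1 : F))))
    have := congrFun (congrFun hc' ⟨0, by omega⟩) ⟨1, by omega⟩
    simp [Matrix.one_apply, Fin.ext_iff] at this
  have hfac : ∀ i, ∀ a ∈ R₁, Λ (Pi.mulSingle i a) ∈ R := fun i a ha =>
    (mem_tensorPower hc).mpr ⟨_, fun j => by
      by_cases h : j = i
      · subst h; rwa [Pi.mulSingle_eq_same]
      · rw [Pi.mulSingle_eq_of_ne h]; exact one_mem _, rfl⟩
  have hfs : ∀ i a, Λ (Pi.mulSingle i a) ∈ scalars ι F → a ∈ scalars (Fin k) F := fun i a h => by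
    obtain ⟨c, hc'⟩ := (mem_scalars_iff _).mp h
    have h1 := hc.conj_lift (piKronHom t k (Pi.mulSingle i a))
    rw [show (hc.lift (piKronHom t k (Pi.mulSingle i a)) : Matrix ι ι F) = (c : F) • 1 from hc', Matrix.mul_smul,
      Matrix.mul_one, Matrix.smul_mul, hc.right, piKronHom_val] at h1
    let i₀ : Fin t := i
    obtain ⟨s, -, hs⟩ := piKron_eq_piKron (d := fun _ => k)
      (A := fun j => ((Pi.mulSingle i a : Fin t → GL (Fin k) F) j : Matrix (Fin k) (Fin k) F))
      (B := fun j => if j = i then (c : F) • (1 : Matrix (Fin k) (Fin k) F) else 1) (by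
        rw [← h1]
        have hp : (c : F) = ∏ j, (if j = i then (c : F) else 1) := by simp
        conv_lhs => rw [hp, ← piKron_one (F := F) (fun _ : Fin t => k), ← piKron_smul]
        congr 1
        funext j
        split_ifs with hj <;> simp) (fun j => by
        split_ifs with hj
        · exact smul_ne_zero c.ne_zero one_ne_zero
        · exact one_ne_zero) i
    rw [if_pos rfl, Pi.mulSingle_eq_same, smul_smul] at hs
    exact mem_scalars_of_val_eq hs
  have hsp : ∀ X, X ∈ Submodule.span F (matrixSet R) := fun X => by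
    let L : Matrix (Fin t → Fin k) (Fin t → Fin k) F →ₗ[F] Matrix ι ι F :=
      { toFun := fun T => Φ * T * Ψ
        map_add' := fun A B => by rw [Matrix.mul_add, Matrix.add_mul]
        map_smul' := fun c A => by rw [Matrix.mul_smul, Matrix.smul_mul]; rfl }
    rw [← hc.unconj_conj X, Matrix.matrix_eq_sum_single (Ψ * X * Φ)]
    show L _ ∈ _
    rw [map_sum]
    refine Submodule.sum_mem _ fun x _ => ?_
    rw [map_sum]
    refine Submodule.sum_mem _ fun y _ => ?_
    rw [show Matrix.single x y ((Ψ * X * Φ) x y) = (Ψ * X * Φ) x y • piKron (d := fun _ => k) fun i =>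
        Matrix.single (x i) (y i) (1 : F) by
      ext p q
      simp only [Matrix.smul_apply, piKron_apply, smul_eq_mul, Matrix.single_apply]
      by_cases h : x = p ∧ y = q
      · obtain ⟨rfl, rfl⟩ := h; simp
      · rw [if_neg h]
        obtain ⟨i, hi⟩ : ∃ i, ¬ (x i = p i ∧ y i = q i) := by
          by_contra hh; push Not at hh
          exact h ⟨funext fun i => (hh i).1, funext fun i => (hh i).2⟩
        rw [Finset.prod_eq_zero (Finset.mem_univ i) (if_neg hi), mul_zero], map_smul]
    refine Submodule.smul_mem _ _ ?_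
    have h1 := Submodule.mem_map_of_mem (f := L) (piKron_span hspan fun i => Matrix.single (x i) (y i) (1 : F))
    rw [Submodule.map_span] at h1
    refine Submodule.span_mono ?_ h1
    rintro _ ⟨_, ⟨a, ha, rfl⟩, rfl⟩
    exact mem_matrixSet ((mem_tensorPower hc).mpr ⟨a, ha, rfl⟩ : hc.lift (piKronHom t k a) ∈ R)
  have hai : ActsAbsolutelyIrreducibly (matrixSet R) := by
    refine ⟨(irreducible_iff R).mpr fun W hW => ?_, fun M hM => ?_⟩
    · have key : ∀ X ∈ Submodule.span F (matrixSet R), ∀ v ∈ W, X *ᵥ v ∈ W := fun X hX v hv => by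
        induction hX using Submodule.span_induction with
        | mem x hx => obtain ⟨g, hg, rfl⟩ := hx; exact hW g hg v hv
        | zero => simp
        | add x y _ _ h1 h2 => rw [Matrix.add_mulVec]; exact add_mem h1 h2
        | smul c x _ h1 => rw [Matrix.smul_mulVec]; exact W.smul_mem c h1
      refine or_iff_not_imp_left.mpr fun h0 => Submodule.eq_top_iff'.mpr fun w => ?_
      obtain ⟨v, hv, hv0⟩ := (Submodule.ne_bot_iff W).mp h0
      obtain ⟨i, hi⟩ := Function.ne_iff.mp hv0
      have := key _ (hsp (Matrix.of fun a b => if b = i then w a / v i else 0)) v hv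
      rwa [show (Matrix.of fun a b => if b = i then w a / v i else 0) *ᵥ v = w from funext fun a => by
        simp [Matrix.mulVec, dotProduct, ite_mul, div_mul_cancel₀ _ hi]] at this
    · have key : ∀ X ∈ Submodule.span F (matrixSet R), M * X = X * M := fun X hX => by
        induction hX using Submodule.span_induction with
        | mem x hx => exact hM x hx
        | zero => simp
        | add x y _ _ h1 h2 => rw [Matrix.mul_add, Matrix.add_mul, h1, h2]
        | smul c x _ h1 => rw [Matrix.mul_smul, Matrix.smul_mul, h1]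
      let i₀ : ι := Classical.arbitrary ι
      refine ⟨M i₀ i₀, Matrix.ext fun a b => ?_⟩
      have h1 := congrFun (congrFun (key _ (hsp (Matrix.single b i₀ 1))) a) i₀
      simp [Matrix.mul_apply, Matrix.single_apply, ite_and] at h1
      rw [h1, Matrix.smul_apply, Matrix.one_apply]
      by_cases hab : a = b
      · subst hab; simp
      · simp [hab, Ne.symm hab]
  have hnR : Normalises (subgroupNormalizer R) R := fun g hg x hx => (Subgroup.mem_normalizer_iff.mp hg x).mp hx
  refine ⟨⟨hai, ?_, fun hle => hns1 fun a ha => hfs ⟨0, ht⟩ a (hle (hfac _ a ha)), hr, ?_⟩, hnR, ?_⟩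
  · intro x hx y hy
    obtain ⟨a, ha, rfl⟩ := (mem_tensorPower hc).mp hx
    obtain ⟨b, hb, rfl⟩ := (mem_tensorPower hc).mp hy
    show ⁅Λ a, Λ b⁆ ∈ _
    rw [← map_commutatorElement]
    exact hscal _ fun i => hcomm _ (ha i) _ (hb i)
  · intro x hx
    obtain ⟨a, ha, rfl⟩ := (mem_tensorPower hc).mp hx
    show (Λ a) ^ r ∈ _
    rw [← map_pow]
    exact hscal _ fun i => hpow _ (ha i)
  intro K hKR hKn hKs
  obtain ⟨x, hxK, hxs⟩ := SetLike.not_le_iff_exists.mp hKs
  obtain ⟨a, ha, rfl⟩ := (mem_tensorPower hc).mp (hKR hxK)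
  obtain ⟨i, hi⟩ : ∃ i, a i ∉ scalars (Fin k) F := by
    by_contra hh; push Not at hh; exact hxs (hscal a hh)
  have hKΛ : ∀ (π : Equiv.Perm (Fin t)) (g : Fin t → GL (Fin k) F), (∀ j, g j ∈ G₁) → ∀ b, Λ b ∈ K →
      Λ ((g * b * g⁻¹) ∘ π.symm) ∈ K := fun π g hg b hb => by
    have hmem := wreath_mem_normalizer hc hn (π := π) hg rfl
    have h1 := hKn _ hmem _ hb
    rw [show Λ b = hc.lift (piKronHom t k b) from rfl, ← map_inv, ← map_mul, ← map_mul] at h1
    show hc.lift (piKronHom t k _) ∈ K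
    rw [← permGL_conj, map_mul (piKronHom t k), map_mul (piKronHom t k), map_inv]
    simpa [mul_assoc] using h1
  have hsingle : ∀ j, ∀ g ∈ G₁, ∀ l, (Pi.mulSingle j g : Fin t → GL (Fin k) F) l ∈ G₁ := fun j g hg l => by
    by_cases h : l = j
    · subst h; rwa [Pi.mulSingle_eq_same]
    · rw [Pi.mulSingle_eq_of_ne h]; exact one_mem _
  obtain ⟨g, hg, hgx⟩ := hmove _ (ha i) hi
  have hy : Λ (Pi.mulSingle i (g * a i * g⁻¹ * (a i)⁻¹)) ∈ K := by
    have h1 : Λ ((Pi.mulSingle i g * a * (Pi.mulSingle i g)⁻¹) ∘ (1 : Equiv.Perm (Fin t)).symm) * (Λ a)⁻¹ ∈ K :=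
      mul_mem (hKΛ 1 _ (hsingle i g hg) a hxK) (inv_mem hxK)
    rw [← map_inv, ← map_mul] at h1
    convert h1 using 2
    funext l
    by_cases h : l = i
    · subst h; simp [Equiv.Perm.one_symm]
    · simp [Pi.mulSingle_eq_of_ne h, Equiv.Perm.one_symm]
  let K₁ : Fin t → Subgroup (GL (Fin k) F) := fun j =>
    (K.comap (Λ.comp (MonoidHom.mulSingle (fun _ => GL (Fin k) F) j))) ⊓ R₁
  have hK₁ : K₁ i = R₁ := hmin _ inf_le_right (fun h hh b hb => ⟨by
      show Λ (Pi.mulSingle i (h * b * h⁻¹)) ∈ K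
      have h1 := hKΛ 1 _ (hsingle i h hh) _ hb.1
      convert h1 using 2
      funext l
      by_cases hl : l = i
      · subst hl; simp [Equiv.Perm.one_symm, MonoidHom.mulSingle_apply]
      · simp [Pi.mulSingle_eq_of_ne hl, Equiv.Perm.one_symm, MonoidHom.mulSingle_apply], hn h hh b hb.2⟩)
    (fun hle => hgx (hle ⟨hy, (R₁.mul_mem (hn g hg _ (ha i)) (R₁.inv_mem (ha i)) :
      g * a i * g⁻¹ * (a i)⁻¹ ∈ R₁)⟩))
  refine le_antisymm hKR fun z hz => ?_
  obtain ⟨b, hb, rfl⟩ := (mem_tensorPower hc).mp hz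
  have hall : ∀ j, ∀ c ∈ R₁, Λ (Pi.mulSingle j c) ∈ K := fun j c hc' => by
    have h1 := hKΛ (Equiv.swap i j) 1 (fun _ => one_mem _) _ ((hK₁.ge hc').1)
    convert h1 using 2
    funext l
    by_cases hl : l = j
    · subst hl; simp
    · rw [Pi.mulSingle_eq_of_ne hl]
      show (1 : GL (Fin k) F) = _
      simp only [Function.comp_apply, one_mul, inv_one, mul_one, MonoidHom.mulSingle_apply]
      rw [Pi.mulSingle_eq_of_ne]
      intro h
      exact hl (by
        have := congrArg (Equiv.swap i j) h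
        simpa using this)
  show Λ b ∈ K
  have key : ∀ s : Finset (Fin t), Λ (fun l => if l ∈ s then b l else 1) ∈ K := fun s => by
    induction s using Finset.induction_on with
    | empty =>
      rw [show (fun l : Fin t => if l ∈ (∅ : Finset (Fin t)) then b l else 1) = 1 from funext fun l => if_neg (Finset.notMem_empty l), map_one]
      exact one_mem _
    | insert j s hj ih =>
      rw [show (fun l => if l ∈ insert j s then b l else 1) = Pi.mulSingle j (b j) * fun l => if l ∈ s then b l else 1 from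
        funext fun l => by
          by_cases hl : l = j
          · subst hl; simp [hj]
          · simp [hl, Pi.mulSingle_eq_of_ne hl], map_mul]
      exact mul_mem (hall j _ (hb j)) ih
  simpa using key Finset.univ

end

section Quaternion

theorem zmod_three_key : ∀ a b c d e f : ZMod 3, a * a + b * c = -1 → d * d + e * f = -1 →
    (a * d + b * f + (c * e + a * d) = 0 ∨ (b * d = a * e ∧ c * d = a * f ∧
      (a * d + b * f = 1 ∨ a * d + b * f = -1) ∧ a * d + b * f = c * e + a * d)) := by decide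

theorem sq_of_trace {x : Matrix (Fin 2) (Fin 2) F} (ht : x.trace = 0) : x * x = (-x.det) • 1 := by
  have hd : x 1 1 = -x 0 0 := by
    rw [Matrix.trace_fin_two] at ht; exact eq_neg_of_add_eq_zero_right ht
  ext i j
  fin_cases i <;> fin_cases j <;> simp [Matrix.mul_apply, Fin.sum_univ_two, Matrix.det_fin_two, hd] <;> ring

theorem anti_of_trace {x y : Matrix (Fin 2) (Fin 2) F} (hx : x.trace = 0) (hy : y.trace = 0) :
    x * y + y * x = (x * y).trace • 1 := by
  have hd : x 1 1 = -x 0 0 := by rw [Matrix.trace_fin_two] at hx; exact eq_neg_of_add_eq_zero_right hx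
  have he : y 1 1 = -y 0 0 := by rw [Matrix.trace_fin_two] at hy; exact eq_neg_of_add_eq_zero_right hy
  ext i j
  fin_cases i <;> fin_cases j <;> simp [Matrix.mul_apply, Fin.sum_univ_two, Matrix.trace_fin_two, hd, he] <;> ring

variable [Fintype F]

/-- In a field with three elements, products of trace-free elements of determinant one. -/
theorem trace_or_scalar (hF : Fintype.card F = 3) {x y : Matrix (Fin 2) (Fin 2) F} (hx : x.trace = 0) (hxd : x.det = 1)
    (hy : y.trace = 0) (hyd : y.det = 1) : (x * y).trace = 0 ∨ x * y = 1 ∨ x * y = -1 := by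
  let φ : F ≃+* ZMod 3 := FiniteField.ringEquivOfCardEq (K := F) (K' := ZMod 3) (by rw [hF, ZMod.card])
  have hd : x 1 1 = -x 0 0 := by rw [Matrix.trace_fin_two] at hx; exact eq_neg_of_add_eq_zero_right hx
  have he : y 1 1 = -y 0 0 := by rw [Matrix.trace_fin_two] at hy; exact eq_neg_of_add_eq_zero_right hy
  rw [Matrix.det_fin_two, hd] at hxd
  rw [Matrix.det_fin_two, he] at hyd
  have h1 : φ (x 0 0) * φ (x 0 0) + φ (x 0 1) * φ (x 1 0) = -1 := by
    rw [← map_mul, ← map_mul, ← map_add, ← map_one φ, ← map_neg]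
    exact congrArg φ (by linear_combination -hxd)
  have h2 : φ (y 0 0) * φ (y 0 0) + φ (y 0 1) * φ (y 1 0) = -1 := by
    rw [← map_mul, ← map_mul, ← map_add, ← map_one φ, ← map_neg]
    exact congrArg φ (by linear_combination -hyd)
  rcases zmod_three_key _ _ _ _ _ _ h1 h2 with h | ⟨ha, hb, hc, hd'⟩
  · left
    rw [← map_mul, ← map_mul, ← map_mul, ← map_add, ← map_add, ← map_add, ← map_zero φ] at h
    rw [Matrix.trace_fin_two, Matrix.mul_apply, Matrix.mul_apply, Fin.sum_univ_two, Fin.sum_univ_two, hd, he]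
    linear_combination φ.injective h
  · right
    simp only [← map_mul, ← map_add] at ha hb hd'
    have ha' := φ.injective ha
    have hb' := φ.injective hb
    have hd'' := φ.injective hd'
    rcases hc with hc | hc
    · left
      rw [← map_mul, ← map_mul, ← map_add, ← map_one φ] at hc
      have hc' := φ.injective hc
      ext i j
      fin_cases i <;> fin_cases j <;> simp [Matrix.mul_apply, Fin.sum_univ_two, hd, he] <;>
        first
          | linear_combination hc'
          | linear_combination hc' - hd''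
          | linear_combination -ha'
          | linear_combination hb'
    · right
      rw [← map_mul, ← map_mul, ← map_add, ← map_one φ, ← map_neg] at hc
      have hc' := φ.injective hc
      ext i j
      fin_cases i <;> fin_cases j <;> simp [Matrix.mul_apply, Fin.sum_univ_two, hd, he] <;>
        first
          | linear_combination hc'
          | linear_combination hc' - hd''
          | linear_combination -ha'
          | linear_combination hb'

/-- The quaternion group in the special linear group over three elements. -/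
def quatGroup (hF : Fintype.card F = 3) : Subgroup (GL (Fin 2) F) where
  carrier := {g | (g : Matrix (Fin 2) (Fin 2) F).det = 1 ∧ ((g : Matrix (Fin 2) (Fin 2) F).trace = 0 ∨
    (g : Matrix (Fin 2) (Fin 2) F) = 1 ∨ (g : Matrix (Fin 2) (Fin 2) F) = -1)}
  one_mem' := ⟨by simp, Or.inr (Or.inl rfl)⟩
  mul_mem' {a b} ha hb := ⟨by rw [Units.val_mul, Matrix.det_mul, ha.1, hb.1, one_mul], by
    rw [Units.val_mul]
    rcases ha.2 with h | h | h
    · rcases hb.2 with h' | h' | h'
      · exact trace_or_scalar hF h ha.1 h' hb.1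
      · rw [h', Matrix.mul_one]; exact Or.inl h
      · rw [h', Matrix.mul_neg, Matrix.mul_one]; exact Or.inl (by rw [Matrix.trace_neg, h, neg_zero])
    · rw [h, Matrix.one_mul]; exact hb.2
    · rw [h, Matrix.neg_mul, Matrix.one_mul]
      rcases hb.2 with h' | h' | h'
      · exact Or.inl (by rw [Matrix.trace_neg, h', neg_zero])
      · exact Or.inr (Or.inr (by rw [h']))
      · exact Or.inr (Or.inl (by rw [h', neg_neg]))⟩
  inv_mem' {a} ha := by
    have hd : ((a⁻¹ : GL (Fin 2) F) : Matrix (Fin 2) (Fin 2) F).det = 1 := by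
      have := congrArg Matrix.det (Cfsg.Lib.Classical.PrimeDim.val_mul_inv a)
      rwa [Matrix.det_mul, ha.1, one_mul, Matrix.det_one] at this
    refine ⟨hd, ?_⟩
    rcases ha.2 with h | h | h
    · left
      have h1 : ((a⁻¹ : GL (Fin 2) F) : Matrix (Fin 2) (Fin 2) F) = -(a : Matrix (Fin 2) (Fin 2) F) := by
        refine Units.inv_eq_of_mul_eq_one_right ?_
        rw [Matrix.mul_neg, sq_of_trace h, ha.1]; simp
      rw [h1, Matrix.trace_neg, h, neg_zero]
    · exact Or.inr (Or.inl (Units.inv_eq_of_mul_eq_one_right (by rw [h, one_mul])))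
    · exact Or.inr (Or.inr (Units.inv_eq_of_mul_eq_one_right (by rw [h]; simp)))

theorem not_isSquare_neg_one (hF : Fintype.card F = 3) : ¬ IsSquare (-1 : F) := fun h => by
  have := (FiniteField.isSquare_neg_one_iff (F := F)).mp h
  omega

/-- Trace-free elements of determinant one are conjugate. -/
theorem exists_conj_quat (hF : Fintype.card F = 3) {x y : GL (Fin 2) F} (hx : (x : Matrix (Fin 2) (Fin 2) F).trace = 0)
    (hxd : (x : Matrix (Fin 2) (Fin 2) F).det = 1) (hy : (y : Matrix (Fin 2) (Fin 2) F).trace = 0)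
    (hyd : (y : Matrix (Fin 2) (Fin 2) F).det = 1) : ∃ g : GL (Fin 2) F, g * x * g⁻¹ = y := by
  suffices key : ∀ z : GL (Fin 2) F, (z : Matrix (Fin 2) (Fin 2) F).trace = 0 →
      (z : Matrix (Fin 2) (Fin 2) F).det = 1 → ∃ P : GL (Fin 2) F,
        (z : Matrix (Fin 2) (Fin 2) F) * (P : Matrix (Fin 2) (Fin 2) F) =
          (P : Matrix (Fin 2) (Fin 2) F) * !![0, -1; 1, 0] by
    obtain ⟨P, hP⟩ := key x hx hxd
    obtain ⟨P', hP'⟩ := key y hy hyd
    refine ⟨P' * P⁻¹, ?_⟩
    rw [mul_inv_eq_iff_eq_mul]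
    refine Units.ext ?_
    calc ((P' * P⁻¹ * x : GL (Fin 2) F) : Matrix (Fin 2) (Fin 2) F)
        = (P' : Matrix (Fin 2) (Fin 2) F) * (((P⁻¹ : GL (Fin 2) F) : Matrix (Fin 2) (Fin 2) F) *
            ((x : Matrix (Fin 2) (Fin 2) F) * (P : Matrix (Fin 2) (Fin 2) F))) *
            ((P⁻¹ : GL (Fin 2) F) : Matrix (Fin 2) (Fin 2) F) := by
          simp only [Units.val_mul, mul_assoc, Cfsg.Lib.Classical.PrimeDim.val_mul_inv, mul_one]
      _ = ((P' : Matrix (Fin 2) (Fin 2) F) * !![0, -1; 1, 0]) * ((P⁻¹ : GL (Fin 2) F) : Matrix (Fin 2) (Fin 2) F) := by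
          rw [hP, ← mul_assoc _ (P : Matrix (Fin 2) (Fin 2) F), Cfsg.Lib.Classical.PrimeDim.val_inv_mul, one_mul]
      _ = _ := by rw [← hP']; simp only [Units.val_mul, mul_assoc]
  intro z hz hzd
  have hd : (z : Matrix (Fin 2) (Fin 2) F) 1 1 = -(z : Matrix (Fin 2) (Fin 2) F) 0 0 := by
    rw [Matrix.trace_fin_two] at hz; exact eq_neg_of_add_eq_zero_right hz
  rw [Matrix.det_fin_two, hd] at hzd
  have h10 : (z : Matrix (Fin 2) (Fin 2) F) 1 0 ≠ 0 := fun h0 => not_isSquare_neg_one hF
    ⟨(z : Matrix (Fin 2) (Fin 2) F) 0 0, by rw [h0, mul_zero, sub_zero] at hzd; linear_combination hzd⟩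
  refine ⟨Matrix.GeneralLinearGroup.mkOfDetNeZero
    !![1, (z : Matrix (Fin 2) (Fin 2) F) 0 0; 0, (z : Matrix (Fin 2) (Fin 2) F) 1 0]
    (by simpa [Matrix.det_fin_two] using h10), ?_⟩
  show (z : Matrix (Fin 2) (Fin 2) F) * !![1, (z : Matrix (Fin 2) (Fin 2) F) 0 0; 0, (z : Matrix (Fin 2) (Fin 2) F) 1 0] = _
  ext i j
  fin_cases i <;> fin_cases j <;> simp [Matrix.mul_apply, Fin.sum_univ_two, hd] <;>
    first
      | linear_combination -hzd
      | ring

/-- The tensor power of the quaternion group. -/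
theorem tensorPower_quaternion [Nonempty ι] (hF : Fintype.card F = 3) {t : ℕ} (ht : 0 < t)
    {Φ : Matrix ι (Fin t → Fin 2) F} {Ψ : Matrix (Fin t → Fin 2) ι F} (hc : Coords Φ Ψ) :
    ∃ R₁ : Subgroup (GL (Fin 2) F), (∀ a ∈ R₁, (a : Matrix (Fin 2) (Fin 2) F).det = 1) ∧
      SympN 2 (tensorPowerGroup hc R₁) ∧
      Normalises (subgroupNormalizer (tensorPowerGroup hc R₁)) (tensorPowerGroup hc R₁) ∧
      SympN.Minimal (subgroupNormalizer (tensorPowerGroup hc R₁)) (tensorPowerGroup hc R₁) ∧
      ∀ (g : GL ι F) (π : Equiv.Perm (Fin t)) (a : Fin t → GL (Fin 2) F),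
        g = hc.lift (permGL F π * piKronHom t 2 a) → g ∈ subgroupNormalizer (tensorPowerGroup hc R₁) := by
  classical
  set R₁ := quatGroup (F := F) hF
  have hmem : ∀ g : GL (Fin 2) F, g ∈ R₁ ↔ (g : Matrix (Fin 2) (Fin 2) F).det = 1 ∧
      ((g : Matrix (Fin 2) (Fin 2) F).trace = 0 ∨ (g : Matrix (Fin 2) (Fin 2) F) = 1 ∨
        (g : Matrix (Fin 2) (Fin 2) F) = -1) := fun g => Iff.rfl
  have h2 : (2 : F) ≠ 0 := fun e => by
    have := Cfsg.Lib.Classical.Aschbacher.odd_card_of_two_ne_zero (F := F)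
    haveI : CharP F 3 := by
      obtain ⟨p, f, hp, hchar, hf0, hf⟩ := Cfsg.Lib.Classical.PrimeDim.exists_char_card F
      rw [Nat.card_eq_fintype_card, hF] at hf
      have : p = 3 := ((Nat.prime_dvd_prime_iff_eq hp Nat.prime_three).mp (hf ▸ dvd_pow_self p (by omega)))
      exact this ▸ hchar
    have h3 : ((2 : ℕ) : F) = 0 := by exact_mod_cast e
    rw [CharP.cast_eq_zero_iff F 3 2] at h3
    omega
  have hn : Normalises (⊤ : Subgroup (GL (Fin 2) F)) R₁ := fun g _ x hx => by
    have hd : ((g * x * g⁻¹ : GL (Fin 2) F) : Matrix (Fin 2) (Fin 2) F) =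
        (g : Matrix (Fin 2) (Fin 2) F) * (x : Matrix (Fin 2) (Fin 2) F) *
          ((g⁻¹ : GL (Fin 2) F) : Matrix (Fin 2) (Fin 2) F) := by rw [Units.val_mul, Units.val_mul]
    refine (hmem _).mpr ⟨by rw [hd, Matrix.det_units_conj, ((hmem x).mp hx).1], ?_⟩
    rcases ((hmem x).mp hx).2 with h | h | h
    · exact Or.inl (by rw [hd, Matrix.trace_units_conj, h])
    · exact Or.inr (Or.inl (by rw [hd, h, Matrix.mul_one, Cfsg.Lib.Classical.PrimeDim.val_mul_inv]))
    · exact Or.inr (Or.inr (by
        rw [hd, h, Matrix.mul_neg, Matrix.mul_one, Matrix.neg_mul, Cfsg.Lib.Classical.PrimeDim.val_mul_inv]))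
  have hsc : ∀ x ∈ R₁, x ∉ scalars (Fin 2) F → (x : Matrix (Fin 2) (Fin 2) F).trace = 0 := fun x hx hxs => by
    rcases ((hmem x).mp hx).2 with h | h | h
    · exact h
    · exact absurd (mem_scalars_of_val_eq (c := 1) (by rw [h, one_smul])) hxs
    · exact absurd (mem_scalars_of_val_eq (c := -1) (by rw [h, neg_one_smul])) hxs
  -- two elements
  let I : GL (Fin 2) F := Matrix.GeneralLinearGroup.mkOfDetNeZero !![0, 1; -1, 0] (by simp [Matrix.det_fin_two])
  let J : GL (Fin 2) F := Matrix.GeneralLinearGroup.mkOfDetNeZero !![1, 1; 1, -1] (by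
    simp [Matrix.det_fin_two]; intro e; exact h2 (by linear_combination -e))
  have hIv : (I : Matrix (Fin 2) (Fin 2) F) = !![0, 1; -1, 0] := rfl
  have hJv : (J : Matrix (Fin 2) (Fin 2) F) = !![1, 1; 1, -1] := rfl
  have h3 : (3 : F) = 0 := by
    have := FiniteField.pow_card (-1 : F)
    have h4 : ((Fintype.card F : ℕ) : F) = 0 := FiniteField.cast_card_eq_zero F
    rw [hF] at h4
    exact_mod_cast h4
  have hI : I ∈ R₁ := (hmem _).mpr ⟨by simp [hIv, Matrix.det_fin_two], Or.inl (by simp [hIv, Matrix.trace_fin_two])⟩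
  have hJ : J ∈ R₁ := (hmem _).mpr ⟨by
    simp [hJv, Matrix.det_fin_two]; linear_combination -h3, Or.inl (by simp [hJv, Matrix.trace_fin_two])⟩
  have hIs : I ∉ scalars (Fin 2) F := fun h => by
    obtain ⟨c, hc'⟩ := (mem_scalars_iff _).mp h
    have := congrFun (congrFun hc' 0) 1
    simp [hIv] at this
  have hsq : ∀ x ∈ R₁, x ∉ scalars (Fin 2) F → (x : Matrix (Fin 2) (Fin 2) F) * x = -1 := fun x hx hxs => by
    rw [sq_of_trace (hsc x hx hxs), ((hmem x).mp hx).1, neg_one_smul]
  refine ⟨R₁, fun a ha => ((hmem a).mp ha).1, ?_⟩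
  suffices h : _ ∧ _ ∧ _ from
    ⟨h.1, h.2.1, h.2.2, fun g π a hg => wreath_mem_normalizer hc hn (fun _ => Subgroup.mem_top _) hg⟩
  refine tensorPower_sympN hc ht le_rfl Nat.prime_two hn (fun a ha b hb => ?_) (fun a ha => ?_) ?_
    (fun K hK hKn hKs => ?_) (fun x hx hxs => ?_)
  · by_cases has : a ∈ scalars (Fin 2) F
    · rw [commutatorElement_eq_one_iff_mul_comm.mpr (scalar_commute has b)]; exact one_mem _
    by_cases hbs : b ∈ scalars (Fin 2) F
    · rw [commutatorElement_eq_one_iff_mul_comm.mpr (scalar_commute hbs a).symm]; exact one_mem _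
    have h := anti_of_trace (hsc a ha has) (hsc b hb hbs)
    have hv : ((⁅a, b⁆ * b * a : GL (Fin 2) F) : Matrix (Fin 2) (Fin 2) F) =
        (a : Matrix (Fin 2) (Fin 2) F) * (b : Matrix (Fin 2) (Fin 2) F) := by
      rw [← Units.val_mul]; congr 1; simp [commutatorElement_def, mul_assoc]
    rw [Units.val_mul, Units.val_mul] at hv
    have hc' : ∃ c : F, ((⁅a, b⁆ : GL (Fin 2) F) : Matrix (Fin 2) (Fin 2) F) = c • 1 := by
      have hunit : IsUnit ((b : Matrix (Fin 2) (Fin 2) F) * (a : Matrix (Fin 2) (Fin 2) F)) := (b * a).isUnit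
      rcases trace_or_scalar hF (hsc a ha has) ((hmem a).mp ha).1 (hsc b hb hbs) ((hmem b).mp hb).1 with h' | h'
      · rw [h', zero_smul] at h
        refine ⟨-1, hunit.mul_right_cancel ?_⟩
        rw [← mul_assoc, hv, neg_one_smul, neg_one_mul]
        exact eq_neg_of_add_eq_zero_left h
      · refine ⟨1, hunit.mul_right_cancel ?_⟩
        rw [← mul_assoc, hv, one_smul, one_mul]
        rcases h' with h' | h'
        · rw [h', mul_eq_one_comm.mp h']
        · rw [h', ← neg_neg ((b : Matrix (Fin 2) (Fin 2) F) * _), ← Matrix.mul_neg,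
            mul_eq_one_comm.mp (show -(a : Matrix (Fin 2) (Fin 2) F) * (b : Matrix (Fin 2) (Fin 2) F) = 1 by
              rw [Matrix.neg_mul, h', neg_neg])]
    obtain ⟨c, hc'⟩ := hc'
    exact mem_scalars_of_val_eq hc'
  · by_cases has : a ∈ scalars (Fin 2) F
    · exact _root_.pow_mem has 2
    exact mem_scalars_of_val_eq (c := -1) (by rw [sq, Units.val_mul, hsq a ha has, neg_one_smul])
  · refine Submodule.eq_top_iff'.mpr fun M => ?_
    have hI' := Submodule.subset_span (R := F) (mem_matrixSet hI)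
    have hJ' := Submodule.subset_span (R := F) (mem_matrixSet hJ)
    have hK' := Submodule.subset_span (R := F) (mem_matrixSet (R₁.mul_mem hI hJ))
    have h1' := Submodule.subset_span (R := F) (mem_matrixSet R₁.one_mem)
    rw [Units.val_mul, hIv, hJv] at hK'
    rw [hIv] at hI'
    rw [hJv] at hJ'
    rw [Units.val_one] at h1'
    have hM : M = (-(M 0 0 + M 1 1)) • (1 : Matrix (Fin 2) (Fin 2) F) + (-(M 0 1 - M 1 0)) • !![0, 1; -1, 0] +
        ((M 0 0 - M 1 1) + (M 0 1 + M 1 0)) • !![1, 1; 1, -1] +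
        ((M 0 0 - M 1 1) - (M 0 1 + M 1 0)) • (!![0, 1; -1, 0] * !![1, 1; 1, -1]) := by
      ext i j
      fin_cases i <;> fin_cases j <;> simp [Matrix.mul_apply, Fin.sum_univ_two] <;>
        first
          | linear_combination (M 0 0) * h3
          | linear_combination (M 0 1) * h3
          | linear_combination (M 1 0) * h3
          | linear_combination (M 1 1) * h3
          | linear_combination -(M 0 0) * h3
          | linear_combination -(M 0 1) * h3
          | linear_combination -(M 1 0) * h3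
          | linear_combination -(M 1 1) * h3
    rw [hM]
    exact add_mem (add_mem (add_mem (Submodule.smul_mem _ _ h1') (Submodule.smul_mem _ _ hI'))
      (Submodule.smul_mem _ _ hJ')) (Submodule.smul_mem _ _ hK')
  · obtain ⟨x, hxK, hxs⟩ := SetLike.not_le_iff_exists.mp hKs
    have hall : ∀ y ∈ R₁, y ∉ scalars (Fin 2) F → y ∈ K := fun y hy hys => by
      obtain ⟨g, hg⟩ := exists_conj_quat hF (hsc x (hK hxK) hxs) ((hmem x).mp (hK hxK)).1 (hsc y hy hys)
        ((hmem y).mp hy).1
      exact hg ▸ hKn g trivial x hxK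
    refine le_antisymm hK fun y hy => ?_
    by_cases hys : y ∈ scalars (Fin 2) F
    · rw [show y = y * I * I⁻¹ by group]
      exact K.mul_mem (hall _ (R₁.mul_mem hy hI) fun h => hIs (by
        rw [show I = y⁻¹ * (y * I) by group]; exact mul_mem (inv_mem hys) h)) (K.inv_mem (hall I hI hIs))
    · exact hall y hy hys
  · by_cases hxI : x⁻¹ * I ∈ scalars (Fin 2) F
    · have hJI : I⁻¹ * J ∉ scalars (Fin 2) F := fun h => by
        obtain ⟨c, hc'⟩ := (mem_scalars_iff _).mp h
        have h' : (J : Matrix (Fin 2) (Fin 2) F) = (c : F) • (I : Matrix (Fin 2) (Fin 2) F) := by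
          rw [show J = I * (I⁻¹ * J) by group, Units.val_mul, hc', Matrix.mul_smul, Matrix.mul_one]
        have := congrFun (congrFun h' 0) 0
        simp [hIv, hJv] at this
      have hJs : J ∉ scalars (Fin 2) F := fun h => by
        obtain ⟨c, hc'⟩ := (mem_scalars_iff _).mp h
        have := congrFun (congrFun hc' 0) 1
        simp [hJv] at this
      obtain ⟨g, hg⟩ := exists_conj_quat hF (hsc x hx hxs) ((hmem x).mp hx).1 (hsc J hJ hJs) ((hmem J).mp hJ).1
      refine ⟨g, trivial, fun h => hJI ?_⟩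
      rw [hg] at h
      have e : I⁻¹ * J = (x⁻¹ * I)⁻¹ * (x⁻¹ * J) := by group
      rw [e]
      refine mul_mem (inv_mem hxI) ?_
      have h' := scalars_normal.conj_mem _ h x⁻¹
      simpa [mul_assoc] using h'
    · obtain ⟨g, hg⟩ := exists_conj_quat hF (hsc x hx hxs) ((hmem x).mp hx).1 (hsc I hI hIs) ((hmem I).mp hI).1
      refine ⟨g, trivial, fun h => hxI ?_⟩
      rw [hg] at h
      have h' := scalars_normal.conj_mem _ h x⁻¹
      simpa [mul_assoc] using h'

end Quaternion

end Cfsg.Lib.Classical.Aschbacher
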