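import Cfsg.Agent.Classical.Aschbacher.SympExclusions

/-! The types of maximal subgroups of the symplectic groups, with parameters. -/

set_option autoImplicit false
set_option linter.unusedSimpArgs false
set_option linter.unusedSectionVars false
set_option linter.style.haveILetI false

namespace Cfsg.Lib.Classical.Aschbacher

open Matrix Cfsg.Geo
open scoped MatrixGroups
open Cfsg.Lib.Classical.PrimeDim (eq_inf_of_maximal two_ne_zero_of_odd)

universe u

variable {m : ℕ} {F : Type u} [Field F] [Fintype F]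

/-- The types, with the restrictions on the parameters. -/
inductive SpType (m : ℕ) (F : Type u) [Field F] [Fintype F] (H : Subgroup (GL (Fin m ⊕ Fin m) F)) : Prop
  | singular (W : Submodule F (Fin m ⊕ Fin m → F)) (h0 : W ≠ ⊥)
      (hs : IsTotallySingularFor (Cfsg.sympForm m F) W) (hH : H = subspaceStabilizer W ⊓ Cfsg.spGL m F)
  | nondeg (W : Submodule F (Fin m ⊕ Fin m → F)) (h0 : W ≠ ⊥) (hn : IsNondegenerateOn (Cfsg.sympForm m F) W)
      (hd : Module.finrank F W < m) (hev : Even (Module.finrank F W)) (hH : H = subspaceStabilizer W ⊓ Cfsg.spGL m F)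
  | decomp (t k : ℕ) (D : Fin t → Submodule F (Fin m ⊕ Fin m → F)) (ht : 2 ≤ t) (hmul : t * k = 2 * m) (hke : Even k)
      (hk2 : 2 ≤ k) (hq : k = 2 → 3 ≤ Fintype.card F)
      (hD : IsNondegenerateMDecomposition (Cfsg.sympForm m F) k D)
      (hH : H = decompositionStabilizer D ⊓ Cfsg.spGL m F)
  | pair (D : Fin 2 → Submodule F (Fin m ⊕ Fin m → F)) (ho : Odd (Fintype.card F)) (hD : IsMDecomposition m D)
      (hs : ∀ i, IsTotallySingularFor (Cfsg.sympForm m F) (D i)) (hH : H = decompositionStabilizer D ⊓ Cfsg.spGL m F)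
  | field (r : ℕ) (K : Subalgebra F (Matrix (Fin m ⊕ Fin m) (Fin m ⊕ Fin m) F)) (hr : r.Prime) (hrm : r ∣ m)
      (hK : IsFieldSubalgebra r K) (hs : IsSelfAdjointFor (Cfsg.sympForm m F) K)
      (ha : ∀ k ∈ K, ∀ v, Cfsg.sympForm m F (k *ᵥ v) v = 0) (hH : H = subalgebraNormalizer K ⊓ Cfsg.spGL m F)
  | unitField (K : Subalgebra F (Matrix (Fin m ⊕ Fin m) (Fin m ⊕ Fin m) F)) (ho : Odd (Fintype.card F))
      (hK : IsFieldSubalgebra 2 K) (hs : IsAdjointClosedFor (Cfsg.sympForm m F) K)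
      (hns : ¬ IsSelfAdjointFor (Cfsg.sympForm m F) K) (hH : H = subalgebraNormalizer K ⊓ Cfsg.spGL m F)
  | tensor (n₁ n₂ : ℕ) (e : (Fin m ⊕ Fin m) ≃ Fin n₁ × Fin n₂) (P : GL (Fin m ⊕ Fin m) F)
      (f₁ : (Fin n₁ → F) → (Fin n₁ → F) → F) (f₂ : (Fin n₂ → F) → (Fin n₂ → F) → F)
      (ho : Odd (Fintype.card F)) (h1e : Even n₁) (h12 : 2 ≤ n₁) (h3 : 3 ≤ n₂) (hmul : n₁ * n₂ = 2 * m)
      (hq : n₂ = 3 → 5 ≤ Fintype.card F) (h1 : IsSymplecticForm f₁) (h2 : IsSymmetricForm f₂)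
      (hs : IsTensorFormStructure id (Cfsg.sympForm m F) f₁ f₂ e P)
      (hH : H = tensorProductSubgroup n₁ n₂ e P ⊓ Cfsg.spGL m F)
  | subfield (F₀ : Subfield F) (r : ℕ) (P : GL (Fin m ⊕ Fin m) F) (ζ : F) (hr : r.Prime)
      (hc : Fintype.card F = Nat.card F₀ ^ r) (hζ : ζ ≠ 0)
      (hs : IsFormRationalStructure (Cfsg.sympForm m F) F₀ ζ P) (hH : H = subfieldSubgroup F₀ P ⊓ Cfsg.spGL m F)
  | sympType (R : Subgroup (GL (Fin m ⊕ Fin m) F)) (p k : ℕ) (hR : IsSymplecticTypeGroup 2 R)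
      (ha : ActsAbsolutelyIrreducibly (matrixSet R)) (hs : R ≤ similarityGroup (Cfsg.sympForm m F)) (hp : p.Prime)
      (ho : Odd p) (hc : Fintype.card F = p) (hcard : Nat.card R = 2 ^ (1 + 2 * k))
      (hz : Nat.card (Subgroup.center R) = 2) (hm : IsOfMinusType k R) (hk : 2 * m = 2 ^ k)
      (hH : H = subgroupNormalizer R ⊓ Cfsg.spGL m F)
  | wreath (k t : ℕ) (e : (Fin m ⊕ Fin m) ≃ (Fin t → Fin k)) (P : GL (Fin m ⊕ Fin m) F)
      (f₁ : (Fin k → F) → (Fin k → F) → F) (ho : Odd (Fintype.card F)) (hto : Odd t) (h3 : 3 ≤ t) (hk2 : 2 ≤ k)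
      (hke : Even k) (hpow : k ^ t = 2 * m) (hq : k = 2 → 5 ≤ Fintype.card F) (h1 : IsSymplecticForm f₁)
      (hs : IsTensorPowerFormStructure id (Cfsg.sympForm m F) f₁ e P)
      (hH : H = tensorWreathSubgroup k t e P ⊓ Cfsg.spGL m F)
  | quadratic (Q : (Fin m ⊕ Fin m → F) → F) (he : ¬ Odd (Fintype.card F)) (hQ : IsNondegenerateQuadraticForm Q)
      (hp : ∀ u v, QuadraticMap.polar Q u v = Cfsg.sympForm m F u v)
      (hH : H = quadSimilarityGroup Q ⊓ Cfsg.spGL m F)
  | residual (h : InSymplecticResidualClass H)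

theorem sp_types (hm : 2 ≤ m) {H : Subgroup (GL (Fin m ⊕ Fin m) F)} (hH : IsMaximalIn (Cfsg.spGL m F) H) :
    SpType m F H := by
  classical
  have h5 : ∀ ho : Odd (Fintype.card F), Fintype.card F ≠ 3 → 5 ≤ Fintype.card F := fun ho hne => by
    have := (Fintype.one_lt_card : 1 < Fintype.card F)
    obtain ⟨j, hj⟩ := ho
    omega
  haveI : Nonempty (Fin m ⊕ Fin m) := ⟨Sum.inl ⟨0, by omega⟩⟩
  obtain ⟨i₀⟩ := (inferInstance : Nonempty (Fin m ⊕ Fin m))
  rcases sp_maximal_type hm hH with ⟨M, hM, hHM⟩ | hres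
  swap
  · exact .residual hres
  have hle : H ≤ M := hHM.le.trans inf_le_left
  cases hM with
  | singular W h0 hs => exact .singular W h0 hs hHM
  | nondeg W h0 hn hd => exact .nondeg W h0 hn hd (even_finrank_nondeg hn) hHM
  | decomp t k D hD =>
    have ht := hD.decomp.two_le
    have hke : Even k := hD.decomp.finrank_eq ⟨0, by omega⟩ ▸ even_finrank_nondeg (hD.nondegenerate _)
    have hk2 : 2 ≤ k := by have := hD.decomp.pos; obtain ⟨j, rfl⟩ := hke; omega
    by_cases hex : k = 2 ∧ Fintype.card F = 2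
    · obtain ⟨rfl, hF⟩ := hex
      obtain ⟨_, hM', hle', Q, rfl, hQ, hp⟩ := quadratic_of_planes hF hD hH.1.le hle
      refine .quadratic Q (by rw [hF]; decide) hQ hp (eq_inf_of_maximal hH hle' (hM'.not_le hm))
    refine .decomp t k D ht ((IsMDecomposition.mul_eq hD.decomp).trans (card_sum_fin m)) hke hk2 (fun hk => ?_) hD hHM
    by_contra h
    exact hex ⟨hk, by have := (Fintype.one_lt_card : 1 < Fintype.card F); omega⟩
  | pair D ho hD hs => exact .pair D ho hD hs hHM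
  | field r K hr hrm hK hs ha => exact .field r K hr hrm hK hs ha hHM
  | unitField K ho hK hs hns => exact .unitField K ho hK hs hns hHM
  | tensor n₁ n₂ e P f₁ f₂ ho h3 he h1 h2 hs =>
    have h12 : 2 ≤ n₁ := by
      have : 0 < n₁ := Fin.pos (e i₀).1
      obtain ⟨j, rfl⟩ := he; omega
    by_cases hex : n₂ = 3 ∧ Fintype.card F = 3
    · obtain ⟨rfl, hF⟩ := hex
      obtain ⟨D, hD, hle'⟩ := decomposition_of_tensor_three hF (by omega) h1 h2 hs
      refine .decomp 3 n₁ D (by norm_num) ((IsMDecomposition.mul_eq hD.decomp).trans (card_sum_fin m)) he h12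
        (fun _ => by omega) hD (eq_inf_of_maximal hH ((le_inf hle hH.1.le).trans hle') ((SpMember.decomp 3 n₁ D hD).not_le hm))
    refine .tensor n₁ n₂ e P f₁ f₂ ho he h12 h3 ?_ (fun hn => h5 ho fun hF => hex ⟨hn, hF⟩) h1 h2 hs hHM
    have := Fintype.card_congr e
    rw [card_sum_fin, Fintype.card_prod, Fintype.card_fin, Fintype.card_fin] at this
    exact this.symm
  | subfield F₀ r P ζ hr hc hζ hs => exact .subfield F₀ r P ζ hr hc hζ hs hHM
  | sympType R p k hR ha hs hp ho hc hcard hz hm' hk hx =>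
    exact .sympType R p k hR ha hs hp ho hc hcard hz hm' hk hHM
  | wreath k t e P f₁ ho hto h3 hex hke h1 hs =>
    have hk2 : 2 ≤ k := by
      have : 0 < k := Fin.pos (e i₀ ⟨0, by omega⟩)
      obtain ⟨j, rfl⟩ := hke; omega
    refine .wreath k t e P f₁ ho hto h3 hk2 hke ?_ (fun hk => h5 ho fun hF => hex ⟨hF, hk⟩) h1 hs hHM
    have := Fintype.card_congr e
    rw [card_sum_fin, Fintype.card_fun, Fintype.card_fin, Fintype.card_fin] at this
    exact this.symm
  | quadratic Q he hQ hp => exact .quadratic Q he hQ hp hHM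

end Cfsg.Lib.Classical.Aschbacher
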