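import Cfsg.Agent.Classical.Aschbacher.Types
import Cfsg.Agent.Classical.PrimeDim.Descent

/-! A normalised subgroup: extension field, imprimitivity, or an absolutely irreducible constituent. -/

set_option autoImplicit false
set_option linter.unusedSimpArgs false
set_option linter.unusedSectionVars false
set_option linter.style.haveILetI false

namespace Cfsg.Lib.Classical.Aschbacher

open Matrix Cfsg.Geo
open scoped MatrixGroups Kronecker
open Cfsg.Lib.Classical.PrimeDim (Normalises mem_comm mem_comm_matrixSet comm comm_inv comm_comm val_inv_mul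
  val_mul_inv exists_char_card powField mem_powField card_powField mem_scalars_of_val_eq)

universe u

variable {ι : Type} [Fintype ι] [DecidableEq ι] {F : Type u} [Field F] [Finite F]

theorem Irr.acts {α : Type*} {κ : Type} [Fintype κ] [DecidableEq κ] {ρ : α → Matrix κ κ F} (h : Irr ρ) :
    ActsIrreducibly (Set.range ρ) := fun W hW => h.irr W fun s v hv =>
  hW _ ⟨s, rfl⟩ ⟨v, hv, Matrix.toLin'_apply _ _⟩

/-- A normalised field contains a normalised subfield of prime degree. -/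
theorem exists_prime_subalgebra [Nonempty ι] {K : Subalgebra F (Matrix ι ι F)} {e : ℕ} (hK : IsFieldSubalgebra e K)
    (he : 1 < e) {H : Subgroup (GL ι F)} (hH : H ≤ subalgebraNormalizer K) :
    ∃ (r : ℕ) (K₀ : Subalgebra F (Matrix ι ι F)), r.Prime ∧ r ∣ e ∧ IsFieldSubalgebra r K₀ ∧ K₀ ≤ K ∧
      H ≤ subalgebraNormalizer K₀ := by
  classical
  obtain ⟨r, hr, hre⟩ := Nat.exists_prime_and_dvd (show e ≠ 1 by omega)
  obtain ⟨p, f, hp, hchar, hf0, hf⟩ := exists_char_card F
  haveI := Fact.mk hp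
  haveI : CharP (Matrix ι ι F) p :=
    charP_of_injective_algebraMap (algebraMap F (Matrix ι ι F)).injective p
  set m := f * r
  let K₀ : Subalgebra F (Matrix ι ι F) :=
    { carrier := {x | x ∈ K ∧ x ^ p ^ m = x}
      mul_mem' := fun {a b} ha hb => ⟨mul_mem ha.1 hb.1, by
        rw [(show Commute a b from hK.comm a ha.1 b hb.1).mul_pow, ha.2, hb.2]⟩
      add_mem' := fun {a b} ha hb => ⟨add_mem ha.1 hb.1, by
        rw [add_pow_char_pow_of_commute p m (h := (hK.comm a ha.1 b hb.1 : Commute a b)), ha.2, hb.2]⟩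
      algebraMap_mem' := fun c => ⟨Subalgebra.algebraMap_mem K c, by
        rw [← map_pow]
        congr 1
        have hc : ∀ n : ℕ, c ^ p ^ (f * n) = c := fun n => by
          induction n with
          | zero => simp
          | succ n ih =>
            rw [Nat.mul_succ, pow_add, pow_mul, ih]
            letI := Fintype.ofFinite F
            rw [← hf, Nat.card_eq_fintype_card, FiniteField.pow_card]
        exact hc r⟩ }
  have hmem : ∀ x, x ∈ K₀ ↔ x ∈ K ∧ x ^ p ^ m = x := fun x => Iff.rfl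
  have hcomm : ∀ a b : K, a * b = b * a := fun a b => Subtype.ext (hK.comm a a.2 b b.2)
  haveI : Nontrivial K := ⟨⟨0, 1, fun h => zero_ne_one (congrArg Subtype.val h)⟩⟩
  have hfield : IsField K := ⟨exists_pair_ne _, hcomm, fun {a} ha => by
    obtain ⟨y, hy, h⟩ := hK.inv a a.2 fun h => ha (Subtype.ext h)
    exact ⟨⟨y, hy⟩, Subtype.ext h⟩⟩
  letI : Field K := hfield.toField
  haveI : Finite K := Finite.of_injective _ Subtype.val_injective
  haveI : CharP K p := charP_of_injective_algebraMap (FaithfulSMul.algebraMap_injective F K) p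
  have hcardK : Nat.card K = p ^ (f * e) := by
    rw [Module.natCard_eq_pow_finrank (K := F) (V := K), hf, ← pow_mul, hK.finrank_eq]
  have hcard0 : Nat.card K₀ = p ^ m := by
    rw [← card_powField (F := K) (p := p) (m := m) (f := f * e) (Nat.mul_pos hf0 hr.pos) hcardK
      (Nat.mul_dvd_mul_left f hre)]
    exact Nat.card_congr
      { toFun := fun x => ⟨⟨(x : Matrix ι ι F), x.2.1⟩, mem_powField.mpr (Subtype.ext x.2.2)⟩
        invFun := fun x => ⟨((x : K) : Matrix ι ι F), (hmem _).mpr ⟨(x : K).2,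
          congrArg Subtype.val (mem_powField.mp x.2)⟩⟩
        left_inv := fun x => rfl
        right_inv := fun x => rfl }
  refine ⟨r, K₀, hr, hre, ⟨fun x hx y hy => hK.comm x hx.1 y hy.1, fun x hx h0 => ?_, ?_⟩, fun x hx => hx.1,
    fun h hh x => ?_⟩
  · obtain ⟨y, hy, hxy⟩ := hK.inv x hx.1 h0
    refine ⟨y, ⟨hy, ?_⟩, hxy⟩
    have h1 : x * y ^ p ^ m = 1 := by
      conv_lhs => rw [← hx.2]
      rw [← (show Commute x y from hK.comm x hx.1 y hy).mul_pow, hxy, one_pow]
    calc y ^ p ^ m = (y * x) * y ^ p ^ m := by rw [← hK.comm x hx.1 y hy, hxy, one_mul]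
      _ = y := by rw [mul_assoc, h1, mul_one]
  · haveI : Finite K₀ := Finite.of_injective _ Subtype.val_injective
    have h := Module.natCard_eq_pow_finrank (K := F) (V := K₀)
    rw [hcard0, hf, ← pow_mul] at h
    exact (Nat.eq_of_mul_eq_mul_left hf0 (Nat.pow_right_injective hp.two_le h)).symm
  · rw [hmem, hmem, hH hh x]
    refine and_congr_right fun _ => ?_
    have hconj : ((h : Matrix ι ι F) * x * ((h⁻¹ : GL ι F) : Matrix ι ι F)) ^ p ^ m =
        (h : Matrix ι ι F) * x ^ p ^ m * ((h⁻¹ : GL ι F) : Matrix ι ι F) := by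
      induction p ^ m with
      | zero => simp [← Units.val_mul]
      | succ n ih =>
        rw [pow_succ, pow_succ, ih]
        simp only [mul_assoc]
        congr 2
        rw [← mul_assoc ((h⁻¹ : GL ι F) : Matrix ι ι F), val_inv_mul, one_mul]
    rw [hconj]
    refine ⟨fun e => by rw [e], fun e => ?_⟩
    have := congrArg (fun z => ((h⁻¹ : GL ι F) : Matrix ι ι F) * z * (h : Matrix ι ι F)) e
    simp only [← mul_assoc, val_inv_mul, one_mul] at this
    simpa [mul_assoc, val_inv_mul] using this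

namespace Homog

variable {N : Subgroup (GL ι F)} {d k : ℕ} {Φ : Matrix ι (Fin d × Fin k) F} {Ψ : Matrix (Fin d × Fin k) ι F}
  {ρ : N → Matrix (Fin d) (Fin d) F}

theorem transfer (hh : Homog N Φ Ψ ρ) {M : Matrix ι ι F} (hM : M ∈ comm (matrixSet N)) (g : N) :
    (Ψ * M * Φ) * (ρ g ⊗ₖ (1 : Matrix (Fin k) (Fin k) F)) = (ρ g ⊗ₖ (1 : Matrix (Fin k) (Fin k) F)) * (Ψ * M * Φ) := by
  have e := mem_comm_matrixSet.mp hM g g.2
  have e1 : (ρ g ⊗ₖ (1 : Matrix (Fin k) (Fin k) F)) * Ψ = Ψ * ((g : GL ι F) : Matrix ι ι F) := by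
    have := congrArg (fun X => Ψ * X * Ψ) (hh.acts g)
    simp only [Matrix.mul_assoc, hh.coords.left, Matrix.mul_one] at this
    rw [← Matrix.mul_assoc Ψ Φ, hh.coords.right, Matrix.one_mul] at this
    exact this.symm
  calc (Ψ * M * Φ) * (ρ g ⊗ₖ (1 : Matrix (Fin k) (Fin k) F))
      = Ψ * (M * ((g : GL ι F) : Matrix ι ι F)) * Φ := by simp only [Matrix.mul_assoc, hh.acts]
    _ = (ρ g ⊗ₖ (1 : Matrix (Fin k) (Fin k) F)) * (Ψ * M * Φ) := by
        rw [e, ← Matrix.mul_assoc Ψ, ← e1]; simp only [Matrix.mul_assoc]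

theorem mul_ι (hh : Homog N Φ Ψ ρ) (M : Matrix ι ι F) : Φ * (Ψ * M * Φ) * Ψ = M := by
  simp only [Matrix.mul_assoc, hh.coords.left, Matrix.mul_one]
  rw [← Matrix.mul_assoc, hh.coords.left, Matrix.one_mul]

theorem kron_mem_comm (hh : Homog N Φ Ψ ρ) {X : Matrix (Fin d) (Fin d) F} (hX : ∀ g, X * ρ g = ρ g * X)
    (B : Matrix (Fin k) (Fin k) F) : Φ * (X ⊗ₖ B) * Ψ ∈ comm (matrixSet N) := by
  refine mem_comm_matrixSet.mpr fun g hg => ?_
  have e1 : (ρ ⟨g, hg⟩ ⊗ₖ (1 : Matrix (Fin k) (Fin k) F)) * Ψ = Ψ * (g : Matrix ι ι F) := by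
    have := congrArg (fun X => Ψ * X * Ψ) (hh.acts ⟨g, hg⟩)
    simp only [Matrix.mul_assoc, hh.coords.left, Matrix.mul_one] at this
    rw [← Matrix.mul_assoc Ψ Φ, hh.coords.right, Matrix.one_mul] at this
    exact this.symm
  calc Φ * (X ⊗ₖ B) * Ψ * (g : Matrix ι ι F)
      = Φ * ((X * ρ ⟨g, hg⟩) ⊗ₖ (B * 1)) * Ψ := by
        rw [Matrix.mul_assoc (Φ * (X ⊗ₖ B)), ← e1, ← Matrix.mul_assoc, Matrix.mul_assoc Φ, ← Matrix.mul_kronecker_mul]
    _ = (g : Matrix ι ι F) * Φ * (X ⊗ₖ B) * Ψ := by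
        conv_lhs => rw [hX, Matrix.mul_one, ← Matrix.one_mul B, Matrix.mul_kronecker_mul]
        simp only [Matrix.mul_assoc, hh.acts ⟨g, hg⟩]
    _ = (g : Matrix ι ι F) * (Φ * (X ⊗ₖ B) * Ψ) := by simp only [Matrix.mul_assoc]

/-- A constituent which is not absolutely irreducible gives a normalised field of prime degree. -/
theorem field_or_absIrr [Nonempty ι] (hh : Homog N Φ Ψ ρ) {H : Subgroup (GL ι F)} (hn : Normalises H N) :
    AbsIrr ρ ∨ ∃ (r : ℕ) (K : Subalgebra F (Matrix ι ι F)), r.Prime ∧ IsFieldSubalgebra r K ∧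
      K ≤ comm (matrixSet N) ∧ H ≤ subalgebraNormalizer K := by
  classical
  haveI := hh.irr.nonempty
  haveI : Nonempty (Fin k) := ⟨⟨0, hh.pos⟩⟩
  set E := comm (Set.range ρ)
  have hE : ∀ {X}, X ∈ E ↔ ∀ g, X * ρ g = ρ g * X := fun {X} => by
    rw [mem_comm]; exact Set.forall_mem_range
  by_cases h1 : Module.finrank F E ≤ 1
  · refine Or.inl ⟨hh.irr, fun M hM => ?_⟩
    haveI : Nontrivial E := ⟨⟨0, 1, fun h => zero_ne_one (congrArg Subtype.val h)⟩⟩
    have he : Module.finrank F E = 1 := le_antisymm h1 Module.finrank_pos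
    obtain ⟨c, hc⟩ := (finrank_eq_one_iff_of_nonzero' (1 : E) one_ne_zero).mp he ⟨M, hE.mpr hM⟩
    exact ⟨c, (congrArg Subtype.val hc).symm⟩
  right
  let φ : Matrix (Fin d) (Fin d) F →ₐ[F] Matrix ι ι F := AlgHom.ofLinearMap
    { toFun := fun X => Φ * (X ⊗ₖ (1 : Matrix (Fin k) (Fin k) F)) * Ψ
      map_add' := fun X Y => by rw [Matrix.add_kronecker, Matrix.mul_add, Matrix.add_mul]
      map_smul' := fun c X => by rw [Matrix.smul_kronecker, Matrix.mul_smul, Matrix.smul_mul]; rfl }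
    (by show Φ * ((1 : Matrix (Fin d) (Fin d) F) ⊗ₖ (1 : Matrix (Fin k) (Fin k) F)) * Ψ = 1; rw [Matrix.one_kronecker_one, Matrix.mul_one, hh.coords.left])
    (fun X Y => by
      show Φ * ((X * Y) ⊗ₖ (1 : Matrix (Fin k) (Fin k) F)) * Ψ = _
      conv_lhs => rw [← Matrix.one_mul (1 : Matrix (Fin k) (Fin k) F), Matrix.mul_kronecker_mul]
      show _ = (Φ * (X ⊗ₖ (1 : Matrix (Fin k) (Fin k) F)) * Ψ) * (Φ * (Y ⊗ₖ (1 : Matrix (Fin k) (Fin k) F)) * Ψ)
      simp only [Matrix.mul_assoc]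
      rw [← Matrix.mul_assoc Ψ Φ, hh.coords.right, Matrix.one_mul])
  have hφ : ∀ X, φ X = Φ * (X ⊗ₖ (1 : Matrix (Fin k) (Fin k) F)) * Ψ := fun X => rfl
  have hinj : Function.Injective φ := fun X Y h => kron_one_injective (μ := Fin k) (by
    have := congrArg (fun Z => Ψ * Z * Φ) h
    simp only [hφ, ← Matrix.mul_assoc, hh.coords.right, Matrix.one_mul] at this
    simpa [Matrix.mul_assoc, hh.coords.right] using this)
  set K := E.map φ
  have hKc : K ≤ comm (matrixSet N) := by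
    rintro _ ⟨X, hX, rfl⟩
    exact hh.kron_mem_comm (hE.mp hX) 1
  have hK : IsFieldSubalgebra (Module.finrank F E) K := by
    refine ⟨?_, ?_, ?_⟩
    · rintro _ ⟨X, hX, rfl⟩ _ ⟨Y, hY, rfl⟩
      rw [AlgHom.coe_toRingHom, ← map_mul, ← map_mul, comm_comm hh.irr.acts hX hY]
    · rintro _ ⟨X, hX, rfl⟩ h0
      obtain ⟨Y, hY, hXY⟩ := comm_inv hh.irr.acts hX (fun e => h0 (by rw [e]; exact map_zero φ))
      exact ⟨φ Y, ⟨Y, hY, rfl⟩, by rw [AlgHom.coe_toRingHom, ← map_mul, hXY, map_one]⟩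
    · exact (LinearEquiv.finrank_eq (Subalgebra.equivMapOfInjective E φ hinj).toLinearEquiv).symm
  have hN : H ≤ subalgebraNormalizer K := by
    have key : ∀ h ∈ H, ∀ Z ∈ K, (h : Matrix ι ι F) * Z * ((h⁻¹ : GL ι F) : Matrix ι ι F) ∈ K := by
      rintro h hh' Z hZ
      set M := (h : Matrix ι ι F) * Z * ((h⁻¹ : GL ι F) : Matrix ι ι F)
      have hMc : M ∈ comm (matrixSet N) := Cfsg.Lib.Classical.PrimeDim.conj_mem_comm hn hh' (hKc hZ)
      set T := Ψ * M * Φ
      have hT : ∀ B : Matrix (Fin k) (Fin k) F,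
          T * ((1 : Matrix (Fin d) (Fin d) F) ⊗ₖ B) = ((1 : Matrix (Fin d) (Fin d) F) ⊗ₖ B) * T := by
        intro B
        set C := Φ * ((1 : Matrix (Fin d) (Fin d) F) ⊗ₖ B) * Ψ
        have hC : C ∈ comm (matrixSet N) := hh.kron_mem_comm (fun g => by rw [one_mul, mul_one]) B
        obtain ⟨X, hX, rfl⟩ := hZ
        have hC' := Cfsg.Lib.Classical.PrimeDim.conj_mem_comm hn (H.inv_mem hh') hC
        rw [inv_inv] at hC'
        set C' := ((h⁻¹ : GL ι F) : Matrix ι ι F) * C * (h : Matrix ι ι F)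
        have hXC : φ X * C' = C' * φ X := by
          have hCT := hh.transfer hC'
          have hb : ∀ a b, block (Ψ * C' * Φ) a b ∈ E := fun a b => hE.mpr fun g => block_intertwines (hCT g) a b
          rw [← hh.mul_ι C', hφ]
          set D := Ψ * C' * Φ with hD
          simp only [Matrix.mul_assoc]
          rw [← Matrix.mul_assoc Ψ Φ, hh.coords.right, Matrix.one_mul, ← Matrix.mul_assoc Ψ Φ, hh.coords.right,
            Matrix.one_mul]
          congr 1
          simp only [← Matrix.mul_assoc]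
          congr 1
          show (X ⊗ₖ 1) * D = D * (X ⊗ₖ 1)
          ext ⟨i, a⟩ ⟨j, b⟩
          have hcomm' := congrFun (congrFun (comm_comm hh.irr.acts hX (hb a b)) i) j
          simp only [Matrix.mul_apply, block, Matrix.of_apply] at hcomm'
          simp only [Matrix.mul_apply, Matrix.kronecker_apply, Fintype.sum_prod_type, Matrix.one_apply, mul_ite,
            ite_mul, mul_one, mul_zero, zero_mul, Finset.sum_ite_eq, Finset.sum_ite_eq', Finset.mem_univ, if_true]
          exact hcomm'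
        have hMC : M * C = C * M := by
          have hCe : C = (h : Matrix ι ι F) * C' * ((h⁻¹ : GL ι F) : Matrix ι ι F) := by
            simp only [C', ← mul_assoc, val_mul_inv, one_mul]
            rw [mul_assoc, val_mul_inv, mul_one]
          have e : ∀ A B : Matrix ι ι F, ((h : Matrix ι ι F) * A * ((h⁻¹ : GL ι F) : Matrix ι ι F)) *
              ((h : Matrix ι ι F) * B * ((h⁻¹ : GL ι F) : Matrix ι ι F)) =
              (h : Matrix ι ι F) * (A * B) * ((h⁻¹ : GL ι F) : Matrix ι ι F) := fun A B => by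
            simp only [mul_assoc]
            rw [← mul_assoc ((h⁻¹ : GL ι F) : Matrix ι ι F) (h : Matrix ι ι F), val_inv_mul, one_mul]
          rw [hCe]
          simp only [M, AlgHom.coe_toRingHom, e, hXC]
        have h2 := congrArg (fun Z => Ψ * Z * Φ) hMC
        simp only [C, Matrix.mul_assoc] at h2
        simp only [← Matrix.mul_assoc, hh.coords.right, Matrix.one_mul] at h2
        simpa [T, Matrix.mul_assoc, hh.coords.right] using h2
      -- so `T` is `Y ⊗ 1` with `Y` in the commutant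
      haveI : Nonempty (Fin k) := ⟨⟨0, hh.pos⟩⟩
      let a₀ : Fin k := Classical.arbitrary _
      have hTkron : T = block T a₀ a₀ ⊗ₖ (1 : Matrix (Fin k) (Fin k) F) := by
        ext ⟨i, a⟩ ⟨j, b⟩
        have h' := congrFun (congrFun (hT (Matrix.single a₀ a 1)) (i, a₀)) (j, b)
        simp only [Matrix.mul_apply, Matrix.kronecker_apply, Fintype.sum_prod_type, Matrix.one_apply,
          Matrix.single_apply, mul_ite, ite_mul, mul_one, one_mul, mul_zero, zero_mul, Finset.sum_ite_eq,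
          Finset.sum_ite_eq', Finset.mem_univ, if_true, ite_and] at h'
        simp only [block, Matrix.of_apply, Matrix.kronecker_apply, Matrix.one_apply]
        rw [← h']
        split_ifs <;> simp_all
      refine ⟨block T a₀ a₀, hE.mpr fun g => block_intertwines (hh.transfer hMc g) a₀ a₀, ?_⟩
      rw [AlgHom.coe_toRingHom, hφ, ← hTkron]
      exact hh.mul_ι M
    intro h hh' Z
    refine ⟨key h hh' Z, fun hZ => ?_⟩
    have := key h⁻¹ (H.inv_mem hh') _ hZ
    rw [inv_inv] at this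
    simp only [← mul_assoc, val_inv_mul, one_mul] at this
    rwa [mul_assoc, val_inv_mul, mul_one] at this
  obtain ⟨r, K₀, hr, -, hK₀, hle, hN₀⟩ := exists_prime_subalgebra hK (by omega) hN
  exact ⟨r, K₀, hr, hK₀, hle.trans hKc, hN₀⟩

/-- A normalising element is a tensor product. -/
theorem conj_tensor (hh : Homog N Φ Ψ ρ) (habs : AbsIrr ρ) {h : GL ι F}
    (hN : ∀ g ∈ N, h * g * h⁻¹ ∈ N) (hN' : ∀ g ∈ N, h⁻¹ * g * h ∈ N) :
    ∃ (a : GL (Fin d) F) (b : GL (Fin k) F), Ψ * (h : Matrix ι ι F) * Φ =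
      (a : Matrix (Fin d) (Fin d) F) ⊗ₖ (b : Matrix (Fin k) (Fin k) F) := by
  classical
  haveI := habs.nonempty
  set σ : N → Matrix (Fin d) (Fin d) F := fun g => ρ ⟨h * g * h⁻¹, hN g g.2⟩
  have hσ : Irr σ := ⟨habs.nonempty, fun W hW => habs.irr W fun g v hv => by
    have := hW ⟨h⁻¹ * g * h, hN' g g.2⟩ v hv
    simpa [σ, mul_assoc] using this⟩
  set T := Ψ * (h : Matrix ι ι F) * Φ with hT_def
  have hT : ∀ g : N, T * (ρ g ⊗ₖ (1 : Matrix (Fin k) (Fin k) F)) = (σ g ⊗ₖ (1 : Matrix (Fin k) (Fin k) F)) * T := by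
    intro g
    have e1 : (σ g ⊗ₖ (1 : Matrix (Fin k) (Fin k) F)) * Ψ = Ψ * ((h * g * h⁻¹ : GL ι F) : Matrix ι ι F) := by
      have := congrArg (fun X => Ψ * X * Ψ) (hh.acts ⟨h * g * h⁻¹, hN g g.2⟩)
      simp only [Matrix.mul_assoc, hh.coords.left, Matrix.mul_one] at this
      rw [← Matrix.mul_assoc Ψ Φ, hh.coords.right, Matrix.one_mul] at this
      exact this.symm
    calc T * (ρ g ⊗ₖ (1 : Matrix (Fin k) (Fin k) F)) = Ψ * (((h : Matrix ι ι F)) * ((g : GL ι F) : Matrix ι ι F)) * Φ := by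
          simp only [hT_def, Matrix.mul_assoc, hh.acts]
      _ = Ψ * (((h * g * h⁻¹ : GL ι F) : Matrix ι ι F) * (h : Matrix ι ι F)) * Φ := by
          rw [← Units.val_mul, ← Units.val_mul, inv_mul_cancel_right]
      _ = _ := by rw [← Matrix.mul_assoc Ψ, ← e1]; simp only [hT_def, Matrix.mul_assoc]
  set Ti := Ψ * ((h⁻¹ : GL ι F) : Matrix ι ι F) * Φ with hTi_def
  have hTT : Ti * T = 1 ∧ T * Ti = 1 := by
    constructor <;> simp only [hT_def, hTi_def, Matrix.mul_assoc] <;>
      rw [← Matrix.mul_assoc Φ Ψ, hh.coords.left, Matrix.one_mul, ← Matrix.mul_assoc _ _ Φ, ← Units.val_mul] <;>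
      simp [hh.coords.right]
  have hT0 : T ≠ 0 := fun e => by
    haveI : Nonempty (Fin k) := ⟨⟨0, hh.pos⟩⟩
    have h1 := hTT.2
    rw [e, Matrix.zero_mul] at h1
    exact zero_ne_one h1
  obtain ⟨-, a, ai, hai1, hai2, ha⟩ := exists_equiv_of_intertwiner habs.toIrr hσ hT hT0
  set A : Matrix (Fin d × Fin k) (Fin d × Fin k) F := ai ⊗ₖ (1 : Matrix (Fin k) (Fin k) F)
  obtain ⟨B, hB⟩ := comm_kron habs (M := A * T) fun g => by
    have e : A * (σ g ⊗ₖ (1 : Matrix (Fin k) (Fin k) F)) = (ρ g ⊗ₖ (1 : Matrix (Fin k) (Fin k) F)) * A := by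
      rw [← Matrix.mul_kronecker_mul, ← Matrix.mul_kronecker_mul]
      congr 1
      calc ai * σ g = ai * (σ g * a) * ai := by rw [Matrix.mul_assoc, Matrix.mul_assoc, hai2, Matrix.mul_one]
        _ = ρ g * ai := by rw [← ha, ← Matrix.mul_assoc, hai1, Matrix.one_mul]
    rw [Matrix.mul_assoc, hT, ← Matrix.mul_assoc, e, Matrix.mul_assoc]
  have hTeq : T = a ⊗ₖ B := by
    have := congrArg (fun Z => (a ⊗ₖ (1 : Matrix (Fin k) (Fin k) F)) * Z) hB
    simp only [A, ← Matrix.mul_assoc, ← Matrix.mul_kronecker_mul, hai2, Matrix.one_mul, Matrix.mul_one,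
      Matrix.one_kronecker_one] at this
    exact this
  have hBdet : B.det ≠ 0 := fun h0 => by
    haveI : Nonempty (Fin d × Fin k) := ⟨(Classical.arbitrary _, ⟨0, hh.pos⟩)⟩
    have h1 := congrArg Matrix.det hTT.2
    rw [hTeq, Matrix.det_mul, Matrix.det_kronecker, h0, zero_pow Fintype.card_ne_zero, mul_zero, zero_mul,
      Matrix.det_one] at h1
    exact zero_ne_one h1
  exact ⟨⟨a, ai, hai2, hai1⟩, Matrix.GeneralLinearGroup.mkOfDetNeZero B hBdet, hTeq⟩

/-- A constituent of degree one makes `N` scalar. -/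
theorem scalar_of_one [Nonempty ι] (hh : Homog N Φ Ψ ρ) (hd : d = 1) : N ≤ scalars ι F := by
  intro g hg
  refine mem_scalars_of_val_eq (c := ρ ⟨g, hg⟩ ⟨0, by omega⟩ ⟨0, by omega⟩) ?_
  subst hd
  have e : ρ ⟨g, hg⟩ = ρ ⟨g, hg⟩ 0 0 • (1 : Matrix (Fin 1) (Fin 1) F) := by
    ext i j; fin_cases i; fin_cases j; simp
  have h := hh.acts ⟨g, hg⟩
  rw [e, Matrix.smul_kronecker, Matrix.one_kronecker_one, Matrix.mul_smul, Matrix.mul_one] at h
  have h2 := congrArg (fun Z => Z * Ψ) h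
  simpa [Matrix.mul_assoc, Matrix.smul_mul, hh.coords.left] using h2

/-- Multiplicity one makes `N` absolutely irreducible. -/
theorem absIrred_of_one (hh : Homog N Φ Ψ ρ) (habs : AbsIrr ρ) (hk : k = 1) :
    ActsAbsolutelyIrreducibly (matrixSet N) := by
  subst hk
  haveI := habs.nonempty
  refine ⟨(Cfsg.Lib.Classical.PrimeDim.irreducible_iff N).mpr fun W hW => ?_, fun M hM => ?_⟩
  · let W' : Submodule F (Fin d → F) := (W.comap (Matrix.toLin' Φ)).comap
      (LinearMap.funLeft F F (fun p : Fin d × Fin 1 => p.1))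
    have hW' : ∀ g v, v ∈ W' → ρ g *ᵥ v ∈ W' := by
      intro g v hv
      simp only [W', Submodule.mem_comap, Matrix.toLin'_apply] at hv ⊢
      have := hW g g.2 _ hv
      rw [Matrix.mulVec_mulVec, hh.acts, ← Matrix.mulVec_mulVec] at this
      have e : (ρ g ⊗ₖ (1 : Matrix (Fin 1) (Fin 1) F)) *ᵥ (LinearMap.funLeft F F (fun p : Fin d × Fin 1 => p.1)) v =
          (LinearMap.funLeft F F (fun p : Fin d × Fin 1 => p.1)) (ρ g *ᵥ v) := by
        funext p
        simp [Matrix.mulVec, dotProduct, Fintype.sum_prod_type, LinearMap.funLeft_apply, Matrix.one_apply,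
          Subsingleton.elim p.2 0]
      rwa [e] at this
    have hsurj : ∀ x : ι → F, ∃ v : Fin d → F, x = Φ *ᵥ fun p : Fin d × Fin 1 => v p.1 := fun x =>
      ⟨fun i => (Ψ *ᵥ x) (i, 0), by
        conv_lhs => rw [show x = Φ *ᵥ (Ψ *ᵥ x) by rw [Matrix.mulVec_mulVec, hh.coords.left, Matrix.one_mulVec]]
        congr 1
        funext p
        rw [show p = (p.1, 0) from Prod.ext rfl (Subsingleton.elim _ _)]⟩
    rcases habs.irr W' hW' with e | e
    · refine Or.inl ((Submodule.eq_bot_iff W).mpr fun x hx => ?_)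
      obtain ⟨v, rfl⟩ := hsurj x
      have hv : v ∈ W' := by
        simp only [W', Submodule.mem_comap, Matrix.toLin'_apply]; exact hx
      rw [e, Submodule.mem_bot] at hv
      subst hv
      exact Matrix.mulVec_zero _
    · refine Or.inr (Submodule.eq_top_iff'.mpr fun x => ?_)
      obtain ⟨v, rfl⟩ := hsurj x
      have hv : v ∈ W' := e ▸ Submodule.mem_top
      simp only [W', Submodule.mem_comap, Matrix.toLin'_apply] at hv
      exact hv
  · have hM' : M ∈ comm (matrixSet N) := mem_comm.mpr hM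
    obtain ⟨B, hB⟩ := comm_kron habs fun g => hh.transfer hM' g
    refine ⟨B 0 0, ?_⟩
    rw [← hh.mul_ι M, hB, show B = B 0 0 • (1 : Matrix (Fin 1) (Fin 1) F) by
      ext i j; fin_cases i; fin_cases j; simp]
    simp [Matrix.kronecker_smul, Matrix.mul_smul, Matrix.smul_mul, hh.coords.left]

end Homog

end Cfsg.Lib.Classical.Aschbacher
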