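import Cfsg.Agent.Classical.Aschbacher.Decomp
import Cfsg.Agent.Classical.PrimeDim.Clifford

/-! Homogeneous components of the blocks. -/

set_option autoImplicit false
set_option linter.unusedSimpArgs false
set_option linter.unusedSectionVars false
set_option linter.style.haveILetI false

namespace Cfsg.Lib.Classical.Aschbacher

open Matrix Cfsg.Geo
open scoped MatrixGroups Kronecker
open Cfsg.Lib.Classical.PrimeDim (Normalises Invariant irreducible_iff finrank_pi_card inv_mulVec_mulVec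
  mulVec_inv_mulVec)

universe u

variable {ι : Type} [Fintype ι] [DecidableEq ι] {F : Type u} [Field F]

/-- Equivalence of two families. -/
def Equivalent {α : Type*} {κ : Type} [Fintype κ] [DecidableEq κ] (ρ σ : α → Matrix κ κ F) : Prop :=
  ∃ a : GL κ F, ∀ s, (a : Matrix κ κ F) * ρ s = σ s * (a : Matrix κ κ F)

theorem Equivalent.refl {α : Type*} {κ : Type} [Fintype κ] [DecidableEq κ] (ρ : α → Matrix κ κ F) :
    Equivalent ρ ρ := ⟨1, fun s => by simp⟩

theorem Equivalent.symm {α : Type*} {κ : Type} [Fintype κ] [DecidableEq κ] {ρ σ : α → Matrix κ κ F}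
    (h : Equivalent ρ σ) : Equivalent σ ρ := by
  obtain ⟨a, ha⟩ := h
  refine ⟨a⁻¹, fun s => ?_⟩
  calc ((a⁻¹ : GL κ F) : Matrix κ κ F) * σ s
      = ((a⁻¹ : GL κ F) : Matrix κ κ F) * (σ s * (a : Matrix κ κ F)) * ((a⁻¹ : GL κ F) : Matrix κ κ F) := by
        rw [mul_assoc, mul_assoc, ← Units.val_mul, mul_inv_cancel, Units.val_one, mul_one]
    _ = _ := by rw [← ha, ← mul_assoc, ← Units.val_mul, inv_mul_cancel, Units.val_one, one_mul]

theorem Equivalent.trans {α : Type*} {κ : Type} [Fintype κ] [DecidableEq κ] {ρ σ τ : α → Matrix κ κ F}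
    (h : Equivalent ρ σ) (h' : Equivalent σ τ) : Equivalent ρ τ := by
  obtain ⟨a, ha⟩ := h
  obtain ⟨b, hb⟩ := h'
  exact ⟨b * a, fun s => by rw [Units.val_mul, mul_assoc, ha, ← mul_assoc, hb, mul_assoc]⟩

/-- Homogeneity: a single irreducible constituent with multiplicity. -/
structure Homog (N : Subgroup (GL ι F)) {d k : ℕ} (Φ : Matrix ι (Fin d × Fin k) F)
    (Ψ : Matrix (Fin d × Fin k) ι F) (ρ : N → Matrix (Fin d) (Fin d) F) : Prop where
  coords : Coords Φ Ψ
  acts : ∀ g : N, ((g : GL ι F) : Matrix ι ι F) * Φ = Φ * (ρ g ⊗ₖ (1 : Matrix (Fin k) (Fin k) F))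
  irr : Irr ρ
  pos : 0 < k

/-- The components of pairwise inequivalent blocks. -/
structure Components (N H : Subgroup (GL ι F)) {d k t : ℕ} (Φ : Matrix ι (Fin d × Fin k) F)
    (Ψ : Matrix (Fin d × Fin k) ι F) (ρ : Fin k → N → Matrix (Fin d) (Fin d) F) (cls : Fin k → Fin t)
    (D : Fin t → Submodule F (ι → F)) : Prop where
  blocks : Blocks N H d k Φ Ψ ρ
  cls_iff : ∀ a b, cls a = cls b ↔ Equivalent (ρ a) (ρ b)
  mem_iff : ∀ c x, x ∈ D c ↔ ∀ p : Fin d × Fin k, cls p.2 ≠ c → (Ψ *ᵥ x) p = 0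
  decomp : ∃ m, IsMDecomposition m D
  le_stab : H ≤ decompositionStabilizer D

theorem Blocks.invariant_component {N H : Subgroup (GL ι F)} {d k : ℕ} {Φ : Matrix ι (Fin d × Fin k) F}
    {Ψ : Matrix (Fin d × Fin k) ι F} {ρ : Fin k → N → Matrix (Fin d) (Fin d) F} (hB : Blocks N H d k Φ Ψ ρ)
    (g : N) (v : Fin d × Fin k → F) (p : Fin d × Fin k) :
    (Ψ *ᵥ (((g : GL ι F) : Matrix ι ι F) *ᵥ (Φ *ᵥ v))) p = ((ρ p.2 g) *ᵥ fun i => v (i, p.2)) p.1 := by
  rw [Matrix.mulVec_mulVec, Matrix.mulVec_mulVec, Matrix.mul_assoc, hB.acts, ← Matrix.mul_assoc, hB.coords.right, Matrix.one_mul]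
  simp [Matrix.mulVec, dotProduct, Fintype.sum_prod_type, Matrix.blockDiagonal_apply, ite_mul]

theorem blockDiagonal_const {d k : ℕ} (A : Matrix (Fin d) (Fin d) F) :
    Matrix.blockDiagonal (fun _ : Fin k => A) = A ⊗ₖ (1 : Matrix (Fin k) (Fin k) F) := by
  ext ⟨i, a⟩ ⟨j, b⟩
  simp [Matrix.blockDiagonal_apply, Matrix.one_apply]

/-- Homogeneous, or the components form a system of imprimitivity. -/
theorem homog_or_components {H N : Subgroup (GL ι F)} [Finite F] [Nonempty ι] (hH : ActsIrreducibly (matrixSet H))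
    (hn : Normalises H N) :
    (∃ (d k : ℕ) (Φ : Matrix ι (Fin d × Fin k) F) (Ψ : Matrix (Fin d × Fin k) ι F)
        (ρ : N → Matrix (Fin d) (Fin d) F), Homog N Φ Ψ ρ) ∨
      ∃ (d k t : ℕ) (Φ : Matrix ι (Fin d × Fin k) F) (Ψ : Matrix (Fin d × Fin k) ι F)
        (ρ : Fin k → N → Matrix (Fin d) (Fin d) F) (cls : Fin k → Fin t) (D : Fin t → Submodule F (ι → F)),
        Components N H Φ Ψ ρ cls D := by
  classical
  obtain ⟨d, k, Φ, Ψ, ρ, hB⟩ := exists_blocks hH hn
  obtain ⟨hc, hact, hirr, hk⟩ := id hB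
  let a₀ : Fin k := ⟨0, hk⟩
  by_cases hhom : ∀ a, Equivalent (ρ a₀) (ρ a)
  · left
    choose A hA using hhom
    refine ⟨d, k, Φ * Matrix.blockDiagonal (fun a => (A a : Matrix (Fin d) (Fin d) F)),
      Matrix.blockDiagonal (fun a => (((A a)⁻¹ : GL (Fin d) F) : Matrix (Fin d) (Fin d) F)) * Ψ, ρ a₀,
      ⟨hc.comp ⟨?_, ?_⟩, fun g => ?_, hirr a₀, hk⟩⟩
    · rw [← Matrix.blockDiagonal_mul]; simp [← Units.val_mul]; exact Matrix.blockDiagonal_one
    · rw [← Matrix.blockDiagonal_mul]; simp [← Units.val_mul]; exact Matrix.blockDiagonal_one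
    · rw [← Matrix.mul_assoc, hact, Matrix.mul_assoc, Matrix.mul_assoc, ← Matrix.blockDiagonal_mul,
        ← blockDiagonal_const, ← Matrix.blockDiagonal_mul]
      simp only [hA]
  right
  letI st : Setoid (Fin k) :=
    ⟨fun a b => Equivalent (ρ a) (ρ b), fun a => Equivalent.refl _, Equivalent.symm, Equivalent.trans⟩
  let q : Fin k → Quotient st := fun a => ⟦a⟧
  letI : Fintype (Quotient st) := Fintype.ofFinite _
  let e : Quotient st ≃ Fin (Fintype.card (Quotient st)) := Fintype.equivFin _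
  set t := Fintype.card (Quotient st)
  let cls : Fin k → Fin t := fun a => e (q a)
  have hcls : ∀ a b, cls a = cls b ↔ Equivalent (ρ a) (ρ b) := fun a b =>
    e.injective.eq_iff.trans Quotient.eq
  have hsurj : Function.Surjective cls := fun c => by
    obtain ⟨a, ha⟩ := Quotient.mk_surjective (e.symm c)
    exact ⟨a, by simp [cls, q, ha]⟩
  let D : Fin t → Submodule F (ι → F) := fun c =>
    { carrier := {x | ∀ p : Fin d × Fin k, cls p.2 ≠ c → (Ψ *ᵥ x) p = 0}
      add_mem' := fun hx hy p hp => by rw [Matrix.mulVec_add, Pi.add_apply, hx p hp, hy p hp, add_zero]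
      zero_mem' := fun p _ => by rw [Matrix.mulVec_zero, Pi.zero_apply]
      smul_mem' := fun r x hx p hp => by rw [Matrix.mulVec_smul, Pi.smul_apply, hx p hp, smul_zero] }
  have hDmem : ∀ c x, x ∈ D c ↔ ∀ p : Fin d × Fin k, cls p.2 ≠ c → (Ψ *ᵥ x) p = 0 := fun c x => Iff.rfl
  have hΦΨ : ∀ x, Φ *ᵥ (Ψ *ᵥ x) = x := fun x => by rw [Matrix.mulVec_mulVec, hc.left, Matrix.one_mulVec]
  have hΨΦ : ∀ v, Ψ *ᵥ (Φ *ᵥ v) = v := fun v => by rw [Matrix.mulVec_mulVec, hc.right, Matrix.one_mulVec]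
  -- projections onto the components
  let part : Fin t → (Fin d × Fin k → F) → (Fin d × Fin k → F) := fun c v p => if cls p.2 = c then v p else 0
  have hpart : ∀ c v, Φ *ᵥ part c v ∈ D c := fun c v p hp => by rw [hΨΦ]; exact if_neg hp
  have hsum : ∀ x, ∑ c, Φ *ᵥ part c (Ψ *ᵥ x) = x := fun x => by
    rw [← Matrix.mulVec_sum]
    conv_rhs => rw [← hΦΨ x]
    congr 1
    funext p
    simp [part, Finset.sum_apply]
  have hinj0 : ∀ {c c' x}, x ∈ D c → x ∈ D c' → c ≠ c' → x = 0 := by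
    intro c c' x hx hx' hne
    rw [← hΦΨ x, show Ψ *ᵥ x = 0 from funext fun p => by
      by_cases hp : cls p.2 = c
      · exact hx' p (hp ▸ hne)
      · exact hx p hp, Matrix.mulVec_zero]
  -- translates of blocks lie in single components
  have hmove : ∀ h ∈ H, ∀ c, ∃ c', ∀ x ∈ D c, (h : Matrix ι ι F) *ᵥ x ∈ D c' := by
    intro h hh c
    obtain ⟨a, rfl⟩ := hsurj c
    let σ : Fin k → N → Matrix (Fin d) (Fin d) F := fun b g =>
      ρ b ⟨h⁻¹ * (g : GL ι F) * h, hn.inv hh g.2⟩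
    have hσirr : ∀ b, Irr (σ b) := fun b => ⟨(hirr b).nonempty, fun W hW => (hirr b).irr W fun g v hv => by
      have := hW ⟨h * (g : GL ι F) * h⁻¹, hn h hh g g.2⟩ v hv
      simpa [σ, mul_assoc] using this⟩
    set M := Ψ * (h : Matrix ι ι F) * Φ with hM_def
    have hM : ∀ g : N, M * Matrix.blockDiagonal (fun b => σ b g) = Matrix.blockDiagonal (fun b => ρ b g) * M := by
      intro g
      rw [hM_def]
      simp only [Matrix.mul_assoc, σ]
      rw [← hact ⟨h⁻¹ * (g : GL ι F) * h, hn.inv hh g.2⟩, ← Matrix.mul_assoc (h : Matrix ι ι F), ← Units.val_mul,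
        ← mul_assoc, ← mul_assoc, mul_inv_cancel, one_mul, Units.val_mul, Matrix.mul_assoc]
      conv_rhs => rw [← Matrix.mul_assoc (Matrix.blockDiagonal fun b => ρ b g) Ψ]
      have e : Matrix.blockDiagonal (fun b => ρ b g) * Ψ = Ψ * ((g : GL ι F) : Matrix ι ι F) := by
        have := congrArg (fun X => Ψ * X * Ψ) (hact g)
        simp only [Matrix.mul_assoc, hc.left, Matrix.mul_one] at this
        rw [← Matrix.mul_assoc Ψ Φ, hc.right, Matrix.one_mul] at this
        exact this.symm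
      rw [e, Matrix.mul_assoc]
    let blk : Fin k → Fin k → Matrix (Fin d) (Fin d) F := fun b b' => Matrix.of fun i j => M (i, b) (j, b')
    have hblk : ∀ b b' (g : N), blk b b' * σ b' g = ρ b g * blk b b' := by
      intro b b' g
      ext i j
      have h1 := congrFun (congrFun (hM g) (i, b)) (j, b')
      simp only [Matrix.mul_apply, Fintype.sum_prod_type, Matrix.blockDiagonal_apply, mul_ite, ite_mul, mul_zero,
        zero_mul, Finset.sum_ite_eq, Finset.sum_ite_eq', Finset.mem_univ, if_true] at h1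
      simpa [blk, Matrix.mul_apply] using h1
    have hequiv : ∀ b b', blk b b' ≠ 0 → Equivalent (σ b') (ρ b) := fun b b' h0 => by
      obtain ⟨u, hu⟩ := schur_gl (hσirr b') (hirr b) (hblk b b') h0
      exact ⟨u, fun g => by rw [hu]; exact hblk b b' g⟩
    by_cases hne : ∃ b, blk b a ≠ 0
    swap
    · exfalso
      push Not at hne
      haveI := (hirr a).nonempty
      let j₀ : Fin d := Classical.arbitrary _
      have h1 : M *ᵥ Pi.single (j₀, a) 1 = 0 := funext fun p => by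
        rw [Matrix.mulVec_single_one]
        exact congrFun (congrFun (hne p.2) p.1) j₀
      have h2 := congrArg (fun v => Φ *ᵥ v) h1
      simp only [hM_def, ← Matrix.mulVec_mulVec, hΦΨ, Matrix.mulVec_zero] at h2
      have h3 := congrArg (fun v => Ψ *ᵥ (((h⁻¹ : GL ι F) : Matrix ι ι F) *ᵥ v)) h2
      simp only [inv_mulVec_mulVec, hΨΦ, Matrix.mulVec_zero] at h3
      simpa using congrFun h3 (j₀, a)
    obtain ⟨b₀, hb₀⟩ := hne
    refine ⟨cls b₀, fun x hx p hp => ?_⟩
    have e : Ψ *ᵥ ((h : Matrix ι ι F) *ᵥ x) = M *ᵥ (Ψ *ᵥ x) := by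
      rw [hM_def, ← Matrix.mulVec_mulVec, ← Matrix.mulVec_mulVec, hΦΨ]
    rw [e]
    refine Finset.sum_eq_zero fun p' _ => ?_
    by_cases h' : cls p'.2 = cls a
    · by_cases h0 : blk p.2 p'.2 = 0
      · show M p p' * _ = 0
        rw [show M p p' = 0 from congrFun (congrFun h0 p.1) p'.1, zero_mul]
      · exfalso
        refine hp ((hcls _ _).mpr ?_)
        obtain ⟨u, hu⟩ := (hcls _ _).mp h'
        have hσσ : Equivalent (σ p'.2) (σ a) := ⟨u, fun g => hu _⟩
        exact ((hequiv _ _ h0).symm.trans hσσ).trans (hequiv _ _ hb₀)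
    · rw [show (Ψ *ᵥ x) p' = 0 from hx p' h', mul_zero]
  choose σc hσc using fun (h : H) c => hmove h h.2 c
  have hne0 : ∀ c, ∃ x ∈ D c, x ≠ 0 := fun c => by
    obtain ⟨a, rfl⟩ := hsurj c
    haveI := (hirr a).nonempty
    refine ⟨Φ *ᵥ Pi.single (Classical.arbitrary _, a) 1, fun p hp => ?_, fun h => ?_⟩
    · rw [hΨΦ]; exact Pi.single_eq_of_ne (M := fun _ => F) (fun e => hp (by rw [e])) 1
    · have := congrArg (fun v => Ψ *ᵥ v) h
      simp only [hΨΦ, Matrix.mulVec_zero] at this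
      exact one_ne_zero (α := F) (by simpa using congrFun this (Classical.arbitrary _, a))
  have hinv : ∀ h : H, ∀ c, σc h⁻¹ (σc h c) = c := fun h c => by
    by_contra hne
    obtain ⟨x, hx, hx0⟩ := hne0 c
    refine hx0 (hinj0 ?_ hx hne)
    have := hσc h⁻¹ _ _ (hσc h c x hx)
    rwa [Subgroup.coe_inv, inv_mulVec_mulVec] at this
  have hmap : ∀ (h : H) c, (D c).map (Matrix.toLin' ((h : GL ι F) : Matrix ι ι F)) = D (σc h c) := by
    intro h c
    refine le_antisymm (fun y hy => ?_) fun y hy => ?_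
    · obtain ⟨x, hx, rfl⟩ := hy
      rw [Matrix.toLin'_apply]; exact hσc h c x hx
    · refine ⟨((((h⁻¹ : H) : GL ι F)) : Matrix ι ι F) *ᵥ y, ?_, ?_⟩
      · have := hσc h⁻¹ _ y hy
        rwa [hinv] at this
      · rw [Matrix.toLin'_apply, Subgroup.coe_inv, mulVec_inv_mulVec]
  have ht : 2 ≤ t := by
    obtain ⟨a, ha⟩ := not_forall.mp hhom
    by_contra hlt
    exact ha ((hcls _ _).mp (Fin.ext (by have := (cls a₀).2; have := (cls a).2; omega)))
  let c₀ : Fin t := cls a₀
  have hspan : ∀ c, ∃ h : H, σc h c₀ = c := by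
    intro c
    let S : Submodule F (ι → F) := ⨆ h : H, D (σc h c₀)
    have hS : S = ⊤ := by
      refine ((irreducible_iff H).mp hH S fun g hg v hv => ?_).resolve_left fun e => ?_
      · induction hv using Submodule.iSup_induction' with
        | mem h x hx =>
          obtain ⟨y, hy, rfl⟩ := (hmap h c₀).ge hx
          refine Submodule.mem_iSup_of_mem (⟨g, hg⟩ * h) ((hmap _ c₀).le ⟨y, hy, ?_⟩)
          simp [Matrix.toLin'_apply, Matrix.mulVec_mulVec]
        | zero => rw [Matrix.mulVec_zero]; exact zero_mem _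
        | add x y _ _ hx hy => rw [Matrix.mulVec_add]; exact add_mem hx hy
      · obtain ⟨x, hx, hx0⟩ := hne0 (σc 1 c₀)
        exact hx0 ((Submodule.eq_bot_iff S).mp e x (Submodule.mem_iSup_of_mem 1 hx))
    by_contra hc'
    push Not at hc'
    obtain ⟨x, hx, hx0⟩ := hne0 c
    apply hx0
    rw [← hΦΨ x]
    suffices Ψ *ᵥ x = 0 by rw [this, Matrix.mulVec_zero]
    funext p
    by_cases hp : cls p.2 = c
    · -- coordinates of this component vanish on every translate
      have : ∀ y ∈ S, (Ψ *ᵥ y) p = 0 := fun y hy => by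
        induction hy using Submodule.iSup_induction' with
        | mem h z hz => exact hz p (fun e => hc' h (e.symm.trans hp))
        | zero => simp
        | add a b _ _ ha hb => rw [Matrix.mulVec_add, Pi.add_apply, ha, hb, add_zero]
      exact this x (hS ▸ Submodule.mem_top)
    · exact hx p hp
  have hdim : ∀ c, Module.finrank F (D c) = Module.finrank F (D c₀) := fun c => by
    obtain ⟨h, rfl⟩ := hspan c
    rw [← hmap]
    exact Cfsg.Lib.Classical.PrimeDim.finrank_map_mulVec _ _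
  refine ⟨d, k, t, Φ, Ψ, ρ, cls, D, hB, hcls, hDmem, ⟨Module.finrank F (D c₀), ht, ?_, hdim, ?_, ?_⟩, fun h hh => ?_⟩
  · obtain ⟨x, hx, hx0⟩ := hne0 c₀
    exact Nat.pos_of_ne_zero fun e => hx0 ((Submodule.eq_bot_iff _).mp (Submodule.finrank_eq_zero.mp e) x hx)
  · rw [iSupIndep_def]
    intro c
    rw [disjoint_iff, Submodule.eq_bot_iff]
    rintro x ⟨hx, hx'⟩
    rw [← hΦΨ x]
    suffices Ψ *ᵥ x = 0 by rw [this, Matrix.mulVec_zero]
    funext p
    by_cases hp : cls p.2 = c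
    · have hle : (⨆ (j : Fin t) (_ : j ≠ c), D j) ≤
          LinearMap.ker ((LinearMap.proj p).comp (Matrix.toLin' Ψ)) := iSup₂_le fun j hj z hz => by
        rw [LinearMap.mem_ker, LinearMap.comp_apply, Matrix.toLin'_apply, LinearMap.proj_apply]
        exact hz p (fun e => hj (e.symm.trans hp))
      exact hle hx'
    · exact hx p hp
  · exact Submodule.eq_top_iff'.mpr fun x => (hsum x) ▸ Submodule.sum_mem _ fun c _ =>
      Submodule.mem_iSup_of_mem c (hpart c _)
  · exact ⟨⟨σc ⟨h, hh⟩, σc (⟨h, hh⟩ : H)⁻¹, hinv ⟨h, hh⟩, fun c => by simpa using hinv (⟨h, hh⟩ : H)⁻¹ c⟩,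
      fun c => hmap ⟨h, hh⟩ c⟩

end Cfsg.Lib.Classical.Aschbacher
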