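import Cfsg.Agent.Classical.Aschbacher.SympPower
import Cfsg.Agent.Classical.Aschbacher.Forms

/-! The extraspecial group of order 27 in the unitary group of degree three over the field of order four. -/

set_option autoImplicit false
set_option linter.unusedSimpArgs false
set_option linter.unusedSectionVars false
set_option linter.style.haveILetI false

namespace Cfsg.Lib.Classical.Aschbacher

open Matrix Cfsg.Geo
open scoped MatrixGroups commutatorElement
open Cfsg.Lib.Classical.PrimeDim (Normalises mem_matrixSet mem_scalars_of_val_eq scalar_commute val_inv_mul val_mul_inv)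

universe u

namespace Cube

variable {F : Type u} [Field F]

/-- A primitive cube root of unity in the field of order four, with the conjugation. -/
structure Ctx (σ : F ≃+* F) (w : F) : Prop where
  ne_one : w ≠ 1
  cube : w * w * w = 1
  conj : σ w = w * w
  card : ∀ x : F, x = 0 ∨ x = 1 ∨ x = w ∨ x = w * w

/-- The additive character. -/
def chi (w : F) (k : Fin 3) : F := w ^ (k : ℕ)

variable {σ : F ≃+* F} {w : F}

theorem Ctx.ne_zero (h : Ctx σ w) : w ≠ 0 := fun e => by have := h.cube; rw [e] at this; simp at this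

theorem Ctx.sum_zero (h : Ctx σ w) : 1 + w + w * w = 0 := by
  have h1 : (w - 1) * (1 + w + w * w) = 0 := by linear_combination h.cube
  exact (mul_eq_zero.mp h1).resolve_left (sub_ne_zero.mpr h.ne_one)

theorem Ctx.two (h : Ctx σ w) : (2 : F) = 0 := by
  have h0 : w * w ≠ w := fun e => h.ne_one (mul_left_cancel₀ h.ne_zero (by rw [e, mul_one]))
  have hs := h.sum_zero
  rcases h.card (-1) with e | e | e | e
  · exact absurd e (neg_ne_zero.mpr one_ne_zero)
  · linear_combination -e
  · exfalso; have h1 : w * w = 0 := by linear_combination hs + e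
    exact h.ne_zero (mul_self_eq_zero.mp h1)
  · exfalso; exact h.ne_zero (by linear_combination hs + e)

theorem Ctx.three (h : Ctx σ w) : (3 : F) = 1 := by linear_combination h.two

theorem Ctx.chi_add (h : Ctx σ w) (a b : Fin 3) : chi w (a + b) = chi w a * chi w b := by
  have hc := h.cube
  fin_cases a <;> fin_cases b <;> simp [chi, pow_succ, Fin.val_add] <;>
    first
      | linear_combination hc
      | linear_combination -hc
      | linear_combination w * hc
      | linear_combination -w * hc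

theorem Ctx.chi_conj (h : Ctx σ w) (a : Fin 3) : σ (chi w a) = chi w (-a) := by
  have hc := h.cube
  fin_cases a <;> simp [chi, pow_succ, h.conj, show (-1 : Fin 3) = 2 from rfl, show (-2 : Fin 3) = 1 from rfl]
  linear_combination w * hc

theorem Ctx.chi_inj (h : Ctx σ w) : Function.Injective (chi w) := fun a b e => by
  have h1 := h.ne_one
  have h2 : w * w ≠ w := fun e => h.ne_one (mul_left_cancel₀ h.ne_zero (by rw [e, mul_one]))
  have h3 : w * w ≠ 1 := fun e => h.ne_one (by linear_combination h.cube - w * e)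
  fin_cases a <;> fin_cases b <;> simp_all [chi, pow_succ, eq_comm]

theorem Ctx.exists_chi (h : Ctx σ w) {x : F} (hx : x ≠ 0) : ∃ a, x = chi w a := by
  rcases h.card x with e | e | e | e
  · exact absurd e hx
  · exact ⟨0, by simp [chi, e]⟩
  · exact ⟨1, by simp [chi, e]⟩
  · exact ⟨2, by simp [chi, e, pow_succ]⟩

theorem Ctx.sum_chi (h : Ctx σ w) (d : Fin 3) : ∑ k : Fin 3, chi w (d * k) = if d = 0 then 1 else 0 := by
  have hs := h.sum_zero
  have h3 := h.three
  fin_cases d <;> simp [Fin.sum_univ_three, chi, pow_succ, show (2 : Fin 3) * 2 = 1 from rfl]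
  all_goals first
    | linear_combination h3
    | linear_combination hs

theorem Ctx.chi_ne_zero (h : Ctx σ w) (a : Fin 3) : chi w a ≠ 0 := pow_ne_zero _ h.ne_zero

/-- A monomial matrix. -/
def mono (w : F) (π : Fin 3 → Fin 3) (c : Fin 3 → Fin 3) : Matrix (Fin 3) (Fin 3) F :=
  Matrix.of fun i l => if l = π i then chi w (c i) else 0

theorem mono_apply (π c : Fin 3 → Fin 3) (i l : Fin 3) :
    mono w π c i l = if l = π i then chi w (c i) else 0 := rfl

theorem Ctx.mono_mul (h : Ctx σ w) (π c π' c' : Fin 3 → Fin 3) :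
    mono w π c * mono w π' c' = mono w (π' ∘ π) (fun i => c i + c' (π i)) := by
  ext i l
  rw [Matrix.mul_apply, Finset.sum_eq_single (π i) (fun j _ hj => by rw [mono_apply, if_neg hj, zero_mul]) (by simp),
    mono_apply, if_pos rfl, mono_apply, mono_apply]
  simp only [Function.comp_apply]
  split_ifs
  · exact (h.chi_add _ _).symm
  · exact mul_zero _

theorem Ctx.mono_inj (h : Ctx σ w) {π c π' c' : Fin 3 → Fin 3} (e : mono w π c = mono w π' c') : π = π' ∧ c = c' := by
  have hp : π = π' := funext fun i => by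
    by_contra hne
    have := congrFun (congrFun e i) (π i)
    rw [mono_apply, mono_apply, if_pos rfl, if_neg hne] at this
    exact h.chi_ne_zero _ this
  subst hp
  refine ⟨rfl, funext fun i => h.chi_inj ?_⟩
  have := congrFun (congrFun e i) (π i)
  simpa [mono_apply] using this

/-- The elements of the extraspecial group. -/
def heis (w : F) (a b j : Fin 3) : Matrix (Fin 3) (Fin 3) F := mono w (· + j) fun i => a + b * i

theorem Ctx.heis_mul (h : Ctx σ w) (a b j a' b' j' : Fin 3) :
    heis w a b j * heis w a' b' j' = heis w (a + a' + b' * j) (b + b') (j + j') := by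
  rw [heis, heis, heis, h.mono_mul]
  congr 1
  · funext i; exact add_assoc i j j'
  · funext i
    have : ∀ a b j a' b' i : Fin 3, a + b * i + (a' + b' * (i + j)) = a + a' + b' * j + (b + b') * i := by decide
    exact this a b j a' b' i

theorem heis_zero : heis w 0 0 0 = 1 := by
  ext i l
  simp [heis, mono_apply, Matrix.one_apply, chi, eq_comm]

theorem Ctx.heis_scalar (h : Ctx σ w) (a : Fin 3) : heis w a 0 0 = chi w a • (1 : Matrix (Fin 3) (Fin 3) F) := by
  ext i l
  simp [heis, mono_apply, Matrix.one_apply, eq_comm]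

theorem Ctx.heis_inj (h : Ctx σ w) {a b j a' b' j' : Fin 3} (e : heis w a b j = heis w a' b' j') :
    a = a' ∧ b = b' ∧ j = j' := by
  obtain ⟨e1, e2⟩ := h.mono_inj e
  have e0 := congrFun e2 0
  have e3 := congrFun e2 1
  have ej := congrFun e1 0
  simp only [mul_zero, add_zero, mul_one] at e0 e3
  simp only [zero_add] at ej
  exact ⟨e0, by rw [e0] at e3; exact add_left_cancel e3, ej⟩

/-- The transform interchanging the two generators. -/
def four (w : F) : Matrix (Fin 3) (Fin 3) F := Matrix.of fun i l => chi w (i * l)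

theorem Ctx.four_heis (h : Ctx σ w) (a b j : Fin 3) : four w * heis w a b j = heis w (a - b * j) (-j) b * four w := by
  ext i l
  rw [Matrix.mul_apply, Matrix.mul_apply,
    Finset.sum_eq_single (l - j) (fun k _ hk => by
      rw [heis, mono_apply, if_neg (fun e => hk (by rw [e, add_sub_cancel_right])), mul_zero]) (by simp),
    Finset.sum_eq_single (i + b) (fun k _ hk => by rw [heis, mono_apply, if_neg hk, zero_mul]) (by simp)]
  simp only [heis, mono_apply, four, Matrix.of_apply, sub_add_cancel, if_pos]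
  rw [← h.chi_add, ← h.chi_add]
  congr 1
  have : ∀ a b j i l : Fin 3, i * (l - j) + (a + b * (l - j)) = a - b * j + -j * i + (i + b) * l := by decide
  exact this a b j i l

theorem Ctx.four_unitary (h : Ctx σ w) : (four w)ᵀ * (four w).map σ = 1 := by
  ext i l
  rw [Matrix.mul_apply, Matrix.one_apply]
  simp only [Matrix.transpose_apply, Matrix.map_apply, four, Matrix.of_apply, h.chi_conj, ← h.chi_add]
  have e : ∀ i l k : Fin 3, k * i + -(k * l) = (i - l) * k := by decide
  simp only [e, h.sum_chi, sub_eq_zero]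

theorem Ctx.mono_unitary (h : Ctx σ w) {π : Fin 3 → Fin 3} (hπ : Function.Bijective π) (c : Fin 3 → Fin 3) :
    (mono w π c)ᵀ * (mono w π c).map σ = 1 := by
  ext i l
  obtain ⟨k, rfl⟩ := hπ.2 i
  rw [Matrix.mul_apply, Finset.sum_eq_single k (fun m _ hm => by
    rw [Matrix.transpose_apply, mono_apply, if_neg (fun e => hm (hπ.1 e.symm)), zero_mul]) (by simp)]
  simp only [Matrix.transpose_apply, Matrix.map_apply, mono_apply, if_pos, Matrix.one_apply]
  by_cases hl : l = π k
  · rw [if_pos hl, if_pos hl.symm, h.chi_conj, ← h.chi_add, show c k + -c k = 0 from add_neg_cancel _]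
    simp [chi]
  · rw [if_neg hl, if_neg (Ne.symm hl), map_zero, mul_zero]

theorem unitary_group_aux {ι : Type} [Fintype ι] [DecidableEq ι] (σ : F ≃+* F) (g : GL ι F)
    (hg : (g : Matrix ι ι F)ᵀ * (g : Matrix ι ι F).map σ = 1) :
    ((g⁻¹ : GL ι F) : Matrix ι ι F)ᵀ * ((g⁻¹ : GL ι F) : Matrix ι ι F).map σ = 1 := by
  conv_lhs => rw [← Matrix.mul_one ((g⁻¹ : GL ι F) : Matrix ι ι F)ᵀ, ← hg]
  rw [← Matrix.mul_assoc, ← Matrix.transpose_mul, val_mul_inv, Matrix.transpose_one, Matrix.one_mul, ← Matrix.map_mul,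
    val_mul_inv, Matrix.map_one σ (map_zero σ) (map_one σ)]

/-- The unitary group of the identity matrix. -/
def uGroup (σ : F ≃+* F) : Subgroup (GL (Fin 3) F) where
  carrier := {g | (g : Matrix (Fin 3) (Fin 3) F)ᵀ * (g : Matrix (Fin 3) (Fin 3) F).map σ = 1}
  one_mem' := by
    show ((1 : GL (Fin 3) F) : Matrix (Fin 3) (Fin 3) F)ᵀ * _ = 1
    rw [Units.val_one, Matrix.transpose_one, Matrix.map_one σ (map_zero σ) (map_one σ), Matrix.one_mul]
  mul_mem' {a b} ha hb := by
    show ((a * b : GL (Fin 3) F) : Matrix (Fin 3) (Fin 3) F)ᵀ * _ = 1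
    rw [Units.val_mul, Matrix.transpose_mul, Matrix.map_mul, Matrix.mul_assoc, ← Matrix.mul_assoc _ _ (Matrix.map _ _),
      show (a : Matrix (Fin 3) (Fin 3) F)ᵀ * (a : Matrix (Fin 3) (Fin 3) F).map σ = 1 from ha, Matrix.one_mul]
    exact hb
  inv_mem' {a} ha := unitary_group_aux σ a ha

theorem mem_uGroup {g : GL (Fin 3) F} :
    g ∈ uGroup σ ↔ (g : Matrix (Fin 3) (Fin 3) F)ᵀ * (g : Matrix (Fin 3) (Fin 3) F).map σ = 1 := Iff.rfl

/-- The extraspecial group of order 27. -/
def cubeGroup (h : Ctx σ w) : Subgroup (GL (Fin 3) F) where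
  carrier := {g | ∃ a b j, (g : Matrix (Fin 3) (Fin 3) F) = heis w a b j}
  one_mem' := ⟨0, 0, 0, by rw [heis_zero, Units.val_one]⟩
  mul_mem' {x y} := by
    rintro ⟨a, b, j, hx⟩ ⟨a', b', j', hy⟩
    exact ⟨_, _, _, by rw [Units.val_mul, hx, hy, h.heis_mul]⟩
  inv_mem' {x} := by
    rintro ⟨a, b, j, hx⟩
    refine ⟨-a + b * j, -b, -j, ?_⟩
    have e : (x : Matrix (Fin 3) (Fin 3) F) * heis w (-a + b * j) (-b) (-j) = 1 := by
      rw [hx, h.heis_mul, ← heis_zero (w := w)]
      congr 1
      · have : ∀ a b j : Fin 3, a + (-a + b * j) + -b * j = 0 := by decide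
        exact this a b j
      · exact add_neg_cancel b
      · exact add_neg_cancel j
    rw [← Matrix.one_mul (heis w _ _ _), ← val_inv_mul x, Matrix.mul_assoc, e, Matrix.mul_one]

theorem mem_cubeGroup (h : Ctx σ w) {g : GL (Fin 3) F} :
    g ∈ cubeGroup h ↔ ∃ a b j, (g : Matrix (Fin 3) (Fin 3) F) = heis w a b j := Iff.rfl

theorem Ctx.heis_bij (_h : Ctx σ w) (j : Fin 3) : Function.Bijective fun i : Fin 3 => i + j :=
  (Equiv.addRight j).bijective

theorem Ctx.cube_le (h : Ctx σ w) : cubeGroup h ≤ uGroup σ := fun g hg => by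
  obtain ⟨a, b, j, hg⟩ := (mem_cubeGroup h).mp hg
  rw [mem_uGroup, hg]
  exact h.mono_unitary (h.heis_bij j) _

/-- An element of the group from its parameters. -/
def Ctx.el (h : Ctx σ w) (a b j : Fin 3) : GL (Fin 3) F :=
  ⟨heis w a b j, heis w (-a + b * j) (-b) (-j), by
    rw [h.heis_mul, ← heis_zero (w := w)]
    congr 1
    · have : ∀ a b j : Fin 3, a + (-a + b * j) + -b * j = 0 := by decide
      exact this a b j
    · exact add_neg_cancel b
    · exact add_neg_cancel j, by
    rw [h.heis_mul, ← heis_zero (w := w)]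
    congr 1
    · have : ∀ a b j : Fin 3, -a + b * j + a + b * -j = 0 := by decide
      exact this a b j
    · exact neg_add_cancel b
    · exact neg_add_cancel j⟩

theorem Ctx.el_val (h : Ctx σ w) (a b j : Fin 3) : (h.el a b j : Matrix (Fin 3) (Fin 3) F) = heis w a b j := rfl

theorem Ctx.el_mem (h : Ctx σ w) (a b j : Fin 3) : h.el a b j ∈ cubeGroup h := ⟨a, b, j, rfl⟩

theorem Ctx.el_scalar_iff (h : Ctx σ w) (a b j : Fin 3) : h.el a b j ∈ scalars (Fin 3) F ↔ b = 0 ∧ j = 0 := by
  constructor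
  · intro hs
    obtain ⟨c, hc⟩ := (mem_scalars_iff _).mp hs
    rw [h.el_val] at hc
    obtain ⟨t, ht⟩ := h.exists_chi c.ne_zero
    rw [ht, ← h.heis_scalar] at hc
    exact ⟨(h.heis_inj hc).2.1, (h.heis_inj hc).2.2⟩
  · rintro ⟨rfl, rfl⟩
    exact mem_scalars_of_val_eq (c := chi w a) (by rw [h.el_val, h.heis_scalar])

/-- Conjugation moves the parameters. -/
theorem Ctx.conj_el (h : Ctx σ w) {g : GL (Fin 3) F} {a b j a' b' j' : Fin 3}
    (e : (g : Matrix (Fin 3) (Fin 3) F) * heis w a b j = heis w a' b' j' * (g : Matrix (Fin 3) (Fin 3) F)) :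
    g * h.el a b j * g⁻¹ = h.el a' b' j' := by
  rw [mul_inv_eq_iff_eq_mul]
  exact Units.ext (by rw [Units.val_mul, Units.val_mul, h.el_val, h.el_val, e])

theorem affine_of_sum : ∀ f : Fin 3 → Fin 3, f 0 + f 1 + f 2 = 0 → ∀ i, f i = f 0 + (f 1 - f 0) * i := by decide

theorem perm_affine : ∀ π : Fin 3 → Fin 3, Function.Injective π →
    ∃ u v : Fin 3, u * u = 1 ∧ ∀ i, π i = u * i + v := by decide

/-- A monomial matrix normalises the group. -/
theorem Ctx.mono_heis (h : Ctx σ w) {π : Fin 3 → Fin 3} (hπ : Function.Injective π) (c : Fin 3 → Fin 3)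
    (a b j : Fin 3) : ∃ a' b' j', mono w π c * heis w a b j = heis w a' b' j' * mono w π c := by
  obtain ⟨u, v, huu, hπv⟩ := perm_affine π hπ
  obtain ⟨f, hf⟩ : ∃ f : Fin 3 → Fin 3, f = fun i => c i + (a + b * π i) - c (i + u * j) := ⟨_, rfl⟩
  have hsum : f 0 + f 1 + f 2 = 0 := by
    have hshift : ∀ (c : Fin 3 → Fin 3) (t : Fin 3), c (0 + t) + c (1 + t) + c (2 + t) = c 0 + c 1 + c 2 := by decide
    have hp : ∀ a b u v : Fin 3,
        (a + b * (u * 0 + v)) + (a + b * (u * 1 + v)) + (a + b * (u * 2 + v)) = 0 ∨ u * u ≠ 1 := by decide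
    have e : ∀ x0 x1 x2 y0 y1 y2 z0 z1 z2 : Fin 3, x0 + y0 - z0 + (x1 + y1 - z1) + (x2 + y2 - z2) =
        (x0 + x1 + x2) + (y0 + y1 + y2) - (z0 + z1 + z2) := fun x0 x1 x2 y0 y1 y2 z0 z1 z2 => by abel
    simp only [hf]
    rw [e, hshift, hπv 0, hπv 1, hπv 2, (hp a b u v).resolve_right (not_not_intro huu), add_zero, sub_self]
  refine ⟨f 0, f 1 - f 0, u * j, ?_⟩
  rw [heis, heis, h.mono_mul, h.mono_mul]
  congr 1
  · funext i
    show π i + j = π (i + u * j)
    have key : ∀ u v i j : Fin 3, u * u ≠ 1 ∨ u * i + v + j = u * (i + u * j) + v := by decide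
    rw [hπv, hπv]
    exact (key u v i j).resolve_left (not_not_intro huu)
  · funext i
    rw [← affine_of_sum f hsum i, hf]
    exact (sub_add_cancel _ _).symm

theorem odd_support : ∀ z : Fin 3 → Bool, ∀ (_ : (((z 0).toNat + (z 1).toNat + (z 2).toNat) % 2 = 1)),
    (∀ i, z i = true) ∨ ∃ i, ∀ k, z k = true ↔ k = i := by decide

/-- The columns of a unitary matrix have one or three non-zero entries. -/
theorem Ctx.column (h : Ctx σ w) {M : Matrix (Fin 3) (Fin 3) F} (hM : Mᵀ * M.map σ = 1) (l : Fin 3) :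
    (∀ i, M i l ≠ 0) ∨ ∃ i, M i l ≠ 0 ∧ ∀ k, k ≠ i → M k l = 0 := by
  classical
  have h2 := h.two
  have hn : ∀ x : F, x ≠ 0 → x * σ x = 1 := fun x hx => by
    obtain ⟨a, rfl⟩ := h.exists_chi hx
    rw [h.chi_conj, ← h.chi_add, add_neg_cancel]; simp [chi]
  have e := congrFun (congrFun hM l) l
  simp only [Matrix.mul_apply, Matrix.transpose_apply, Matrix.map_apply, Matrix.one_apply_eq, Fin.sum_univ_three] at e
  have hb : ∀ i, M i l * σ (M i l) = ((decide (M i l ≠ 0)).toNat : F) := fun i => by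
    by_cases hi : M i l = 0
    · simp [hi]
    · simp [hi, hn _ hi]
  rw [hb, hb, hb, ← Nat.cast_add, ← Nat.cast_add] at e
  rcases odd_support (fun i => decide (M i l ≠ 0)) (by
    by_contra hne
    obtain ⟨j, hj⟩ : 2 ∣ (decide (M 0 l ≠ 0)).toNat + (decide (M 1 l ≠ 0)).toNat + (decide (M 2 l ≠ 0)).toNat := by omega
    rw [hj, Nat.cast_mul, Nat.cast_ofNat, h2, zero_mul] at e
    exact zero_ne_one e) with hall | ⟨i, hi⟩
  · exact Or.inl fun i => by simpa using hall i
  · refine Or.inr ⟨i, by simpa using (hi i).mpr rfl, fun k hk => by_contra fun hne => hk ((hi k).mp ?_)⟩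
    simpa using hne

/-- A unitary matrix with a column of weight one is monomial. -/
theorem Ctx.monomial (h : Ctx σ w) {M : Matrix (Fin 3) (Fin 3) F} (hM : Mᵀ * M.map σ = 1) {i₀ l₀ : Fin 3}
    (h1 : M i₀ l₀ ≠ 0) (h0 : ∀ k, k ≠ i₀ → M k l₀ = 0) :
    ∃ π c : Fin 3 → Fin 3, Function.Injective π ∧ M = mono w π c := by
  classical
  have hrow : ∀ l, l ≠ l₀ → M i₀ l = 0 := fun l hl => by
    have e := congrFun (congrFun hM l₀) l
    rw [Matrix.mul_apply, Finset.sum_eq_single i₀ (fun k _ hk => by rw [Matrix.transpose_apply, h0 k hk, zero_mul])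
      (by simp), Matrix.one_apply_ne (Ne.symm hl)] at e
    exact (map_eq_zero σ).mp ((mul_eq_zero.mp e).resolve_left h1)
  have hcol : ∀ l, ∃ i, M i l ≠ 0 ∧ ∀ k, k ≠ i → M k l = 0 := fun l => by
    by_cases hl : l = l₀
    · exact ⟨i₀, hl ▸ h1, fun k hk => hl ▸ h0 k hk⟩
    · exact (h.column hM l).resolve_left fun hall => hall i₀ (hrow l hl)
  choose τ hτ hτ0 using hcol
  have hinj : Function.Injective τ := fun l l' e => by
    by_contra hne
    have e1 := congrFun (congrFun hM l) l'
    rw [Matrix.mul_apply, Finset.sum_eq_single (τ l) (fun k _ hk => by rw [Matrix.transpose_apply, hτ0 l k hk, zero_mul])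
      (by simp), Matrix.one_apply_ne hne] at e1
    rcases mul_eq_zero.mp e1 with e2 | e2
    · exact hτ l e2
    · exact hτ l' (e ▸ (map_eq_zero σ).mp e2)
  let π := (Equiv.ofBijective τ (Finite.injective_iff_bijective.mp hinj)).symm
  have hπ : ∀ i, τ (π i) = i := fun i => Equiv.ofBijective_apply_symm_apply τ _ i
  have hπ' : ∀ i, M i (π i) ≠ 0 := fun i => by
    have := hτ (π i); rwa [hπ] at this
  choose c hc using fun i => h.exists_chi (hπ' i)
  refine ⟨π, c, π.injective, Matrix.ext fun i l => ?_⟩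
  rw [mono_apply]
  split_ifs with hl
  · rw [hl, hc]
  · exact hτ0 l i fun e => hl (π.symm.injective (by rw [π.symm_apply_apply]; exact e ▸ rfl))

/-- The unitary group normalises the extraspecial group. -/
theorem Ctx.normalises (h : Ctx σ w) : Normalises (uGroup σ) (cubeGroup h) := by
  intro g hg x hx
  obtain ⟨a, b, j, hx⟩ := (mem_cubeGroup h).mp hx
  rw [show x = h.el a b j from Units.ext hx]
  suffices key : ∀ a b j, ∃ a' b' j',
      (g : Matrix (Fin 3) (Fin 3) F) * heis w a b j = heis w a' b' j' * (g : Matrix (Fin 3) (Fin 3) F) by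
    obtain ⟨a', b', j', e⟩ := key a b j
    rw [h.conj_el e]; exact h.el_mem _ _ _
  set M : Matrix (Fin 3) (Fin 3) F := (g : Matrix (Fin 3) (Fin 3) F)
  rcases h.column (M := M) hg 0 with hall | ⟨i, h1, h0⟩
  swap
  · obtain ⟨π, c, hπ, e⟩ := h.monomial (M := M) hg h1 h0
    intro a b j
    rw [e]; exact h.mono_heis hπ c a b j
  choose c hc using fun i => h.exists_chi (hall i)
  -- the first column is the first column of a diagonal times the transform
  let D := mono w id c
  have hD : Dᵀ * D.map σ = 1 := h.mono_unitary Function.bijective_id c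
  have hU := h.four_unitary
  obtain ⟨Y, hY⟩ : ∃ Y : Matrix (Fin 3) (Fin 3) F, Y = ((D * four w).map σ)ᵀ * M := ⟨_, rfl⟩
  have hDU : (D * four w)ᵀ * (D * four w).map σ = 1 := by
    rw [Matrix.transpose_mul, Matrix.map_mul, Matrix.mul_assoc, ← Matrix.mul_assoc Dᵀ, hD, Matrix.one_mul, hU]
  have hσσ : ∀ A : Matrix (Fin 3) (Fin 3) F, (A.map σ).map σ = A := fun A => Matrix.ext fun i l => by
    show σ (σ (A i l)) = A i l
    rcases h.card (A i l) with e | e | e | e <;> rw [e]
    · simp
    · simp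
    · rw [h.conj, map_mul, h.conj]; linear_combination w * h.cube
    · simp only [map_mul, h.conj]; linear_combination (w * w * (w * w * w + 1)) * h.cube
  have hinv : ((D * four w).map σ)ᵀ * (D * four w) = 1 := by
    have := congrArg Matrix.transpose hDU
    rwa [Matrix.transpose_mul, Matrix.transpose_transpose, Matrix.transpose_one] at this
  have hMY : M = (D * four w) * Y := by
    rw [hY, ← Matrix.mul_assoc, mul_eq_one_comm.mp hinv, Matrix.one_mul]
  have hYu : Yᵀ * Y.map σ = 1 := by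
    have hg' : Mᵀ * M.map σ = 1 := hg
    rw [hMY] at hg'
    generalize D * four w = W at hDU hg'
    rw [Matrix.transpose_mul, Matrix.map_mul, Matrix.mul_assoc, ← Matrix.mul_assoc Wᵀ, hDU, Matrix.one_mul] at hg'
    exact hg'
  have hY0 : ∀ k, Y k 0 = if k = 0 then 1 else 0 := fun k => by
    have e : ∀ i, M i 0 = (D * four w) i 0 := fun i => by
      show M i 0 = (mono w id c * four w) i 0
      rw [Matrix.mul_apply, Finset.sum_eq_single i (fun m _ hm => by rw [mono_apply, id_eq, if_neg hm, zero_mul]) (by simp),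
        mono_apply, id_eq, if_pos rfl, four, Matrix.of_apply, mul_zero, hc]
      simp [chi]
    rw [hY, Matrix.mul_apply, Finset.sum_congr rfl (fun i _ => by rw [e i]), ← Matrix.mul_apply, hinv, Matrix.one_apply]
  obtain ⟨π, d, hπ, eY⟩ := h.monomial hYu (i₀ := 0) (l₀ := 0) (by rw [hY0]; simp)
    (fun k hk => by rw [hY0, if_neg hk])
  intro a b j
  obtain ⟨a₁, b₁, j₁, e1⟩ := h.mono_heis hπ d a b j
  obtain ⟨a₂, b₂, j₂, e2⟩ := h.mono_heis Function.injective_id c (a₁ - b₁ * j₁) (-j₁) b₁
  refine ⟨a₂, b₂, j₂, ?_⟩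
  rw [hMY, eY, Matrix.mul_assoc, e1, Matrix.mul_assoc D, ← Matrix.mul_assoc (four w), h.four_heis,
    Matrix.mul_assoc (heis w _ _ _) (four w), ← Matrix.mul_assoc D, e2, Matrix.mul_assoc (heis w _ _ _) D,
    Matrix.mul_assoc D (four w)]

theorem Ctx.el_mul (h : Ctx σ w) (a b j a' b' j' : Fin 3) :
    h.el a b j * h.el a' b' j' = h.el (a + a' + b' * j) (b + b') (j + j') :=
  Units.ext (h.heis_mul a b j a' b' j')

theorem Ctx.el_ext (h : Ctx σ w) {x : GL (Fin 3) F} (hx : x ∈ cubeGroup h) : ∃ a b j, x = h.el a b j := by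
  obtain ⟨a, b, j, e⟩ := (mem_cubeGroup h).mp hx
  exact ⟨a, b, j, Units.ext e⟩

/-- The transform as an element. -/
noncomputable def Ctx.fourGL (h : Ctx σ w) : GL (Fin 3) F :=
  Matrix.GeneralLinearGroup.mkOfDetNeZero (four w) fun e => by
    have := congrArg Matrix.det h.four_unitary
    rw [Matrix.det_mul, Matrix.det_transpose, e, zero_mul, Matrix.det_one] at this
    exact zero_ne_one this

/-- A quadratic diagonal element. -/
noncomputable def Ctx.quadGL (h : Ctx σ w) : GL (Fin 3) F :=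
  Matrix.GeneralLinearGroup.mkOfDetNeZero (mono w id fun i => i * i) fun e => by
    have := congrArg Matrix.det (h.mono_unitary Function.bijective_id fun i => i * i)
    rw [Matrix.det_mul, Matrix.det_transpose, e, zero_mul, Matrix.det_one] at this
    exact zero_ne_one this

theorem Ctx.four_conj (h : Ctx σ w) (a b j : Fin 3) : h.fourGL * h.el a b j * h.fourGL⁻¹ = h.el (a - b * j) (-j) b :=
  h.conj_el (h.four_heis a b j)

theorem Ctx.quad_conj (h : Ctx σ w) (a b j : Fin 3) : h.quadGL * h.el a b j * h.quadGL⁻¹ = h.el (a - j * j) (b + j) j :=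
  h.conj_el (by
    show mono w id _ * heis w a b j = heis w _ _ j * mono w id _
    rw [heis, heis, h.mono_mul, h.mono_mul]
    congr 1
    funext i
    have : ∀ a b j i : Fin 3, i * i + (a + b * i) = a - j * j + (b + j) * i + (i + j) * (i + j) := by decide
    exact this a b j i)

/-- The group is generated in every non-scalar normalised subgroup. -/
theorem Ctx.minimal (h : Ctx σ w) : SympN.Minimal (uGroup σ) (cubeGroup h) := by
  intro K hK hn hns
  obtain ⟨x, hxK, hxs⟩ := SetLike.not_le_iff_exists.mp hns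
  obtain ⟨a, b, j, rfl⟩ := h.el_ext (hK hxK)
  have hU : h.fourGL ∈ uGroup σ := h.four_unitary
  have hQ : h.quadGL ∈ uGroup σ := h.mono_unitary Function.bijective_id _
  -- a non-trivial diagonal element
  obtain ⟨a₁, s, hs, hmem⟩ : ∃ a₁ s, s ≠ 0 ∧ h.el a₁ s 0 ∈ K := by
    by_cases hj : j = 0
    · subst hj
      exact ⟨a, b, fun e => hxs ((h.el_scalar_iff a b 0).mpr ⟨e, rfl⟩), hxK⟩
    · refine ⟨-(j * j), j, hj, ?_⟩
      have h1 := K.mul_mem (hn _ hQ _ hxK) (K.inv_mem hxK)
      rw [h.quad_conj] at h1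
      convert h1 using 1
      rw [eq_mul_inv_iff_mul_eq, h.el_mul, zero_add]
      congr 1
      · have : ∀ a b j : Fin 3, -(j * j) + a + b * 0 = a - j * j := by decide
        exact this a b j
      · exact add_comm j b
  have hD : ∃ a₂, h.el a₂ 1 0 ∈ K := by
    have hcase : s = 1 ∨ s = 2 := (by decide : ∀ d : Fin 3, d ≠ 0 → d = 1 ∨ d = 2) s hs
    rcases hcase with rfl | rfl
    · exact ⟨a₁, hmem⟩
    · refine ⟨a₁ + a₁ + 2 * 0, ?_⟩
      have := K.mul_mem hmem hmem
      rwa [h.el_mul] at this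
  obtain ⟨a₂, hD⟩ := hD
  have hT : h.el a₂ 0 1 ∈ K := by
    have := hn _ hU _ hD
    rwa [h.four_conj, mul_zero, sub_zero, neg_zero] at this
  have hZ : h.el 1 0 0 ∈ K := by
    have h1 := K.mul_mem (K.mul_mem hT hD) (K.inv_mem (K.mul_mem hD hT))
    convert h1 using 1
    rw [eq_mul_inv_iff_mul_eq, h.el_mul, h.el_mul, h.el_mul]
    congr 1
    have : ∀ a : Fin 3, 1 + (a + a + 0 * 0) + (1 + 0) * 0 = a + a + 1 * 1 := by decide
    exact this a₂
  have hpow : ∀ (y : GL (Fin 3) F), y ∈ K → ∀ t : Fin 3, y ^ (t : ℕ) ∈ K := fun y hy t => K.pow_mem hy _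
  have hgen : ∀ a' b' j', h.el a' b' j' ∈ K := by
    have hz : ∀ a', h.el a' 0 0 ∈ K := fun a' => by
      have hh : a' = 0 ∨ a' = 1 ∨ a' = 2 := by revert a'; decide
      rcases hh with rfl | rfl | rfl
      · rw [show h.el 0 0 0 = 1 from Units.ext heis_zero]; exact one_mem K
      · exact hZ
      · have := K.mul_mem hZ hZ; rw [h.el_mul] at this; exact this
    have hd : ∀ b', ∃ a', h.el a' b' 0 ∈ K := fun b' => by
      have hh : b' = 0 ∨ b' = 1 ∨ b' = 2 := by revert b'; decide
      rcases hh with rfl | rfl | rfl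
      · exact ⟨0, hz 0⟩
      · exact ⟨a₂, hD⟩
      · have := K.mul_mem hD hD; rw [h.el_mul] at this; exact ⟨_, this⟩
    have ht : ∀ j', ∃ a', h.el a' 0 j' ∈ K := fun j' => by
      have hh : j' = 0 ∨ j' = 1 ∨ j' = 2 := by revert j'; decide
      rcases hh with rfl | rfl | rfl
      · exact ⟨0, hz 0⟩
      · exact ⟨a₂, hT⟩
      · have := K.mul_mem hT hT; rw [h.el_mul] at this; exact ⟨_, this⟩
    intro a' b' j'
    obtain ⟨p, hp⟩ := hd b'
    obtain ⟨r, hr⟩ := ht j'
    have := K.mul_mem (K.mul_mem (hz (a' - p - r)) hp) hr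
    rw [h.el_mul, h.el_mul] at this
    convert this using 2
    · have : ∀ a' b' p r : Fin 3, a' = a' - p - r + p + b' * 0 + r + 0 * (0 + 0) := by decide
      exact this a' b' p r
    · simp
    · simp
  refine le_antisymm hK fun y hy => ?_
  obtain ⟨a', b', j', rfl⟩ := h.el_ext hy
  exact hgen a' b' j'

theorem Ctx.comm (h : Ctx σ w) : ∀ x ∈ cubeGroup h, ∀ y ∈ cubeGroup h, ⁅x, y⁆ ∈ scalars (Fin 3) F := by
  intro x hx y hy
  obtain ⟨a, b, j, rfl⟩ := h.el_ext hx
  obtain ⟨a', b', j', rfl⟩ := h.el_ext hy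
  have e : ⁅h.el a b j, h.el a' b' j'⁆ = h.el (b' * j - b * j') 0 0 := by
    rw [commutatorElement_def, mul_inv_eq_iff_eq_mul, mul_inv_eq_iff_eq_mul, h.el_mul, h.el_mul, h.el_mul]
    congr 1
    · have : ∀ a b j a' b' j' : Fin 3,
          a + a' + b' * j = b' * j - b * j' + a' + b' * 0 + a + b * (0 + j') := by decide
      exact this a b j a' b' j'
    · rw [zero_add, add_comm]
    · rw [zero_add, add_comm]
  rw [e, h.el_scalar_iff]
  exact ⟨rfl, rfl⟩

theorem Ctx.pow_three (h : Ctx σ w) : ∀ x ∈ cubeGroup h, x ^ 3 ∈ scalars (Fin 3) F := by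
  intro x hx
  obtain ⟨a, b, j, rfl⟩ := h.el_ext hx
  rw [pow_succ, pow_two, h.el_mul, h.el_mul, h.el_scalar_iff]
  have : ∀ b : Fin 3, b + b + b = 0 := by decide
  exact ⟨this b, this j⟩

theorem Ctx.span (h : Ctx σ w) : Submodule.span F (matrixSet (cubeGroup h)) = ⊤ := by
  refine Submodule.eq_top_iff'.mpr fun M => ?_
  rw [Matrix.matrix_eq_sum_single M]
  refine Submodule.sum_mem _ fun i _ => Submodule.sum_mem _ fun l _ => ?_
  have e : Matrix.single i l (M i l) = M i l • ∑ b : Fin 3, chi w (-(b * i)) • heis w 0 b (l - i) := by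
    ext p r
    simp only [Matrix.smul_apply, Matrix.sum_apply, heis, mono_apply, zero_add, Matrix.single_apply, smul_eq_mul,
      mul_ite, mul_zero, ← h.chi_add]
    by_cases hpr : r = p + (l - i)
    · simp only [if_pos hpr]
      by_cases hp : p = i
      · subst hp
        rw [if_pos ⟨rfl, by rw [hpr]; exact (add_sub_cancel p l).symm⟩]
        simp only [neg_add_cancel, show chi w 0 = 1 from pow_zero w, Finset.sum_const, Finset.card_univ,
          Fintype.card_fin, nsmul_eq_mul, mul_one]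
        rw [Nat.cast_ofNat, h.three, mul_one]
      · rw [if_neg (fun e => hp e.1.symm)]
        have hd : ∀ b p i : Fin 3, -(b * i) + b * p = (p - i) * b := by decide
        simp only [hd, h.sum_chi, if_neg (sub_ne_zero.mpr hp), mul_zero]
    · rw [if_neg (fun e => hpr (by rw [← e.1, ← e.2, add_sub_cancel]))]
      simp only [if_neg hpr, Finset.sum_const_zero, mul_zero]
  rw [e]
  exact Submodule.smul_mem _ _ (Submodule.sum_mem _ fun b _ => Submodule.smul_mem _ _
    (Submodule.subset_span (mem_matrixSet (h.el_mem 0 b (l - i)))))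

theorem Ctx.move (h : Ctx σ w) : ∀ x ∈ cubeGroup h, x ∉ scalars (Fin 3) F →
    ∃ g ∈ uGroup σ, g * x * g⁻¹ * x⁻¹ ∉ scalars (Fin 3) F := by
  intro x hx hxs
  obtain ⟨a, b, j, rfl⟩ := h.el_ext hx
  have key : ∀ a' b' j', h.el a' b' j' * (h.el a b j)⁻¹ ∈ scalars (Fin 3) F → b' = b ∧ j' = j := by
    intro a' b' j' hs
    obtain ⟨c, hc⟩ := (mem_scalars_iff _).mp hs
    obtain ⟨t, ht⟩ := h.exists_chi c.ne_zero
    have e : h.el a' b' j' = h.el t 0 0 * h.el a b j := by
      rw [← mul_inv_eq_iff_eq_mul]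
      refine Units.ext ?_
      rw [hc, h.el_val, h.heis_scalar, ht]
    rw [h.el_mul] at e
    have := h.heis_inj (congrArg Units.val e)
    exact ⟨this.2.1.trans (zero_add b), this.2.2.trans (zero_add j)⟩
  by_cases hj : j = 0
  · refine ⟨h.fourGL, h.four_unitary, fun hs => ?_⟩
    rw [h.four_conj] at hs
    obtain ⟨-, e⟩ := key _ _ _ hs
    exact hxs ((h.el_scalar_iff a b j).mpr ⟨e.trans hj, hj⟩)
  · refine ⟨h.quadGL, h.mono_unitary Function.bijective_id _, fun hs => ?_⟩
    rw [h.quad_conj] at hs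
    obtain ⟨e, -⟩ := key _ _ _ hs
    exact hj (add_eq_left.mp e)

end Cube

variable {F : Type u} [Field F] {ι : Type} [Fintype ι] [DecidableEq ι]

/-- The tensor power of the extraspecial group. -/
theorem tensorPower_cube [Fintype F] [Nonempty ι] (hF : Fintype.card F = 4) {σ : F ≃+* F} (hne : σ ≠ RingEquiv.refl F)
    (hσ : ∀ a, σ a = a ^ 2) {t : ℕ} (ht : 0 < t) {Φ : Matrix ι (Fin t → Fin 3) F} {Ψ : Matrix (Fin t → Fin 3) ι F}
    (hc : Coords Φ Ψ) :
    ∃ R₁ : Subgroup (GL (Fin 3) F),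
      (∀ g ∈ R₁, (g : Matrix (Fin 3) (Fin 3) F)ᵀ * (g : Matrix (Fin 3) (Fin 3) F).map σ = 1) ∧
      SympN 3 (tensorPowerGroup hc R₁) ∧
      Normalises (subgroupNormalizer (tensorPowerGroup hc R₁)) (tensorPowerGroup hc R₁) ∧
      SympN.Minimal (subgroupNormalizer (tensorPowerGroup hc R₁)) (tensorPowerGroup hc R₁) ∧
      ∀ (g : GL ι F) (π : Equiv.Perm (Fin t)) (a : Fin t → GL (Fin 3) F),
        (∀ i, (a i : Matrix (Fin 3) (Fin 3) F)ᵀ * (a i : Matrix (Fin 3) (Fin 3) F).map σ = 1) →
        g = hc.lift (permGL F π * piKronHom t 3 a) → g ∈ subgroupNormalizer (tensorPowerGroup hc R₁) := by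
  classical
  obtain ⟨x, hx⟩ : ∃ x : F, σ x ≠ x := by
    by_contra hc'; push Not at hc'; exact hne (RingEquiv.ext hc')
  have hx0 : x ≠ 0 := fun e => hx (by rw [e, map_zero])
  have hx1 : x ≠ 1 := fun e => hx (by rw [e, map_one])
  have hx3 : x * x * x = 1 := by
    have h4 := FiniteField.pow_card x
    rw [hF] at h4
    exact mul_left_cancel₀ hx0 (by linear_combination h4)
  have hxx : x * x ≠ x := fun e => hx1 (mul_left_cancel₀ hx0 (by rw [e, mul_one]))
  have hxx1 : x * x ≠ 1 := fun e => hx1 (by linear_combination hx3 - x * e)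
  have hctx : Cube.Ctx σ x := by
    refine ⟨hx1, hx3, by rw [hσ, sq], fun y => ?_⟩
    by_contra hy
    push Not at hy
    have hcard : ({0, 1, x, x * x, y} : Finset F).card = 5 := by
      rw [Finset.card_insert_of_notMem (by simp [hx0, hy.1, eq_comm, mul_self_eq_zero]),
        Finset.card_insert_of_notMem (by simp [Ne.symm hx1, Ne.symm hxx1, Ne.symm hy.2.1]),
        Finset.card_insert_of_notMem (by simp [Ne.symm hxx, Ne.symm hy.2.2.1]),
        Finset.card_insert_of_notMem (by simp [Ne.symm hy.2.2.2]), Finset.card_singleton]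
    have := Finset.card_le_univ ({0, 1, x, x * x, y} : Finset F)
    rw [hcard, hF] at this
    omega
  refine ⟨Cube.cubeGroup hctx, fun g hg => hctx.cube_le hg, ?_⟩
  suffices h : _ ∧ _ ∧ _ from
    ⟨h.1, h.2.1, h.2.2, fun g π a ha hg => wreath_mem_normalizer hc hctx.normalises ha hg⟩
  exact tensorPower_sympN hc ht (by norm_num) Nat.prime_three hctx.normalises hctx.comm hctx.pow_three hctx.span
    hctx.minimal hctx.move

end Cfsg.Lib.Classical.Aschbacher
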