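import Cfsg.Agent.Classical.Aschbacher.UnitTypes

/-! Over nine elements the frame stabiliser of `SU₄` normalises a group of symplectic type. -/

set_option autoImplicit false
set_option linter.unusedSimpArgs false
set_option linter.unusedSectionVars false
set_option linter.style.haveILetI false

namespace Cfsg.Lib.Classical.Aschbacher

open Matrix Cfsg.Geo
open scoped MatrixGroups
open Cfsg.Lib.Classical.PrimeDim (Normalises char_normalises frob frob_apply two_le_q exists_char_card exists_norm_eq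
  forall_matrixSet mem_scalars_of_val_eq val_inv_mul val_mul_inv eq_inf_of_maximal gl_det_ne_zero irreducible_iff
  finrank_pi_card)

namespace FourFrame

/-- Addition of two bit vectors of length two. -/
def xr : Fin 4 → Fin 4 → Fin 4 := ![![0, 1, 2, 3], ![1, 0, 3, 2], ![2, 3, 0, 1], ![3, 2, 1, 0]]

/-- The characters of the Klein group. -/
def chi : Fin 4 → Fin 4 → ZMod 3 := ![![1, 1, 1, 1], ![1, -1, 1, -1], ![1, 1, -1, -1], ![1, -1, -1, 1]]

/-- The sixteen monomial matrices. -/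
def E (p : Fin 4 × Fin 4) : Matrix (Fin 4) (Fin 4) (ZMod 3) :=
  Matrix.of fun x y => if y = xr x p.2 then chi p.1 x else 0

def gH : Matrix (Fin 4) (Fin 4) (ZMod 3) := Matrix.of chi

def gT : Matrix (Fin 4) (Fin 4) (ZMod 3) := Matrix.diagonal ![1, 1, 1, -1]

def gP : Matrix (Fin 4) (Fin 4) (ZMod 3) := Matrix.of fun x y => if x = ![0, 2, 3, 1] y then 1 else 0

def iH (p : Fin 4 × Fin 4) : Fin 4 × Fin 4 := (p.2, p.1)
def iT (p : Fin 4 × Fin 4) : Fin 4 × Fin 4 := (xr p.1 (![0, 2, 1, 3] p.2), p.2)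
def iP (p : Fin 4 × Fin 4) : Fin 4 × Fin 4 := (![0, 3, 1, 2] p.1, ![0, 2, 3, 1] p.2)

/-- Two of the matrices anticommute. -/
def anti (p r : Fin 4 × Fin 4) : Prop := chi r.1 p.2 ≠ chi p.1 r.2

instance (p r : Fin 4 × Fin 4) : Decidable (anti p r) := by unfold anti; infer_instance

theorem E_zero : E (0, 0) = 1 := by decide +kernel
theorem E_mul : ∀ p r, E p * E r = chi r.1 p.2 • E (xr p.1 r.1, xr p.2 r.2) := by decide +kernel
theorem E_orth : ∀ p, (E p)ᵀ * E p = 1 := by decide +kernel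
theorem E_trace : ∀ p r, ((E p)ᵀ * E r).trace = if p = r then 1 else 0 := by decide +kernel
theorem chi_pm : ∀ a v, chi a v = 1 ∨ chi a v = -1 := by decide +kernel
theorem xr_self : ∀ v, xr v v = 0 := by decide +kernel
theorem xr_comm : ∀ a b, xr a b = xr b a := by decide +kernel
theorem xr_xr : ∀ x b, xr (xr x b) b = x := by decide +kernel
theorem gH_sq : gH * gH = 1 := by decide +kernel
theorem gT_sq : gT * gT = 1 := by decide +kernel
theorem gP_orth : gPᵀ * gP = 1 := by decide +kernel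
theorem gH_move : ∀ p, gH * E p = E (iH p) * gH ∨ gH * E p = -(E (iH p) * gH) := by decide +kernel
theorem gT_move : ∀ p, gT * E p = E (iT p) * gT ∨ gT * E p = -(E (iT p) * gT) := by decide +kernel
theorem gP_move : ∀ p, gP * E p = E (iP p) * gP ∨ gP * E p = -(E (iP p) * gP) := by decide +kernel
theorem witness : ∀ p, p ≠ (0, 0) → anti p (iH p) ∨ anti p (iT p) ∨ anti p (iP p) ∨ anti p (iH (iH p)) ∨
    anti p (iH (iT p)) ∨ anti p (iH (iP p)) ∨ anti p (iT (iH p)) ∨ anti p (iT (iT p)) ∨ anti p (iT (iP p)) ∨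
    anti p (iP (iH p)) ∨ anti p (iP (iT p)) ∨ anti p (iP (iP p)) := by decide +kernel
theorem translations : ∀ π : Fin 4 → Fin 4, (∀ i j, π i = π j → i = j) → ∀ b, ∃ b', ∀ v, π (xr v b) = xr (π v) b' := by
  decide +kernel

end FourFrame

open FourFrame

variable {F : Type*} [Field F] [Fintype F] [CharP F 3]

noncomputable def FourFrame.EF (F : Type*) [Field F] [CharP F 3] (p : Fin 4 × Fin 4) : Matrix (Fin 4) (Fin 4) F :=
  (E p).map (ZMod.castHom (dvd_refl 3) F)

namespace FourFrame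

local notation "φ" => ZMod.castHom (dvd_refl 3) F

theorem map_smul' (s : ZMod 3) (M : Matrix (Fin 4) (Fin 4) (ZMod 3)) : (s • M).map φ = φ s • M.map φ := by
  ext i j; simp

theorem φ_pm {s : ZMod 3} (h : s = 1 ∨ s = -1) : (φ s) ^ 4 = 1 ∧ (φ s) * (φ s) = 1 := by
  rcases h with rfl | rfl <;> constructor <;> simp [map_neg] <;> norm_num

theorem EF_zero : EF F (0, 0) = 1 := by
  rw [EF, E_zero, Matrix.map_one _ (map_zero φ) (map_one φ)]

theorem EF_mul (p r : Fin 4 × Fin 4) :
    EF F p * EF F r = φ (chi r.1 p.2) • EF F (xr p.1 r.1, xr p.2 r.2) := by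
  rw [EF, EF, EF, ← map_smul', ← E_mul, Matrix.map_mul]

theorem EF_sq (p : Fin 4 × Fin 4) : EF F p * EF F p = φ (chi p.1 p.2) • 1 := by
  rw [EF_mul, xr_self, xr_self, EF_zero]

theorem EF_det (p : Fin 4 × Fin 4) : (EF F p).det ≠ 0 := fun h => by
  have := congrArg Matrix.det (EF_sq (F := F) p)
  rw [Matrix.det_mul, h, mul_zero, Matrix.det_smul, Matrix.det_one, mul_one, Fintype.card_fin,
    (φ_pm (chi_pm _ _)).1] at this
  exact zero_ne_one this

theorem trace_map (M : Matrix (Fin 4) (Fin 4) (ZMod 3)) : (M.map φ).trace = φ M.trace := by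
  simp only [Matrix.trace, Matrix.diag_apply, Matrix.map_apply, map_sum]

theorem EF_li : LinearIndependent F (EF F) := by
  rw [Fintype.linearIndependent_iff]
  intro g hg p
  have h := congrArg (fun M => ((EF F p)ᵀ * M).trace) hg
  simp only [Matrix.mul_sum, Matrix.mul_smul, Matrix.trace_sum, Matrix.trace_smul, smul_eq_mul, Matrix.mul_zero,
    Matrix.trace_zero] at h
  rw [Finset.sum_eq_single p] at h
  · have e : ((EF F p)ᵀ * EF F p).trace = 1 := by
      rw [EF, ← Matrix.transpose_map, ← Matrix.map_mul, trace_map, E_trace, if_pos rfl, map_one]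
    rwa [e, mul_one] at h
  · intro r _ hr
    rw [show ((EF F p)ᵀ * EF F r).trace = 0 by
      rw [EF, EF, ← Matrix.transpose_map, ← Matrix.map_mul, trace_map, E_trace, if_neg (Ne.symm hr), map_zero],
      mul_zero]
  · simp

theorem EF_span : Submodule.span F (Set.range (EF F)) = ⊤ :=
  EF_li.span_eq_top_of_card_eq_finrank (by
    rw [Module.finrank_matrix, Fintype.card_prod, Module.finrank_self, Fintype.card_fin, mul_one])

theorem EF_mulVec (p : Fin 4 × Fin 4) (u : Fin 4 → F) (x : Fin 4) :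
    (EF F p *ᵥ u) x = φ (chi p.1 x) * u (xr x p.2) := by
  simp [EF, E, Matrix.mulVec, dotProduct, apply_ite φ, ite_mul]

/-- A function with equal squares and product one is a multiple of a character. -/
theorem char_of_sq {g : Fin 4 → F} (h0 : g 0 ^ 4 = 1) (hsq : ∀ z, g z * g z = g 0 * g 0)
    (hprod : ∏ z, g z = 1) : ∃ (c : F) (a : Fin 4), c ^ 4 = 1 ∧ ∀ z, g z = c * φ (chi a z) := by
  have h2 : (2 : F) ≠ 0 := fun e => by
    have h3 : ((3 : ℕ) : F) = 0 := CharP.cast_eq_zero F 3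
    push_cast at h3
    exact one_ne_zero (α := F) (by linear_combination h3 - e)
  have hp := fun z => mul_self_eq_mul_self_iff.mp (hsq z)
  rw [Fin.prod_univ_four] at hprod
  rcases hp 1 with e1 | e1 <;> rcases hp 2 with e2 | e2 <;> rcases hp 3 with e3 | e3
  all_goals first
    | (refine ⟨g 0, 0, h0, fun z => ?_⟩; fin_cases z <;> simp [chi, e1, e2, e3]; done)
    | (refine ⟨g 0, 1, h0, fun z => ?_⟩; fin_cases z <;> simp [chi, e1, e2, e3]; done)
    | (refine ⟨g 0, 2, h0, fun z => ?_⟩; fin_cases z <;> simp [chi, e1, e2, e3]; done)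
    | (refine ⟨g 0, 3, h0, fun z => ?_⟩; fin_cases z <;> simp [chi, e1, e2, e3]; done)
    | (exfalso; rw [e1, e2, e3] at hprod; exact h2 (by linear_combination -hprod - h0))

/-- The group of symplectic type in the coordinates `B`. -/
noncomputable def grp (B : GL (Fin 4) F) : Subgroup (GL (Fin 4) F) :=
  Subgroup.closure {g | ∃ (c : F) (p : Fin 4 × Fin 4), c ^ 4 = 1 ∧
    ((B⁻¹ * g * B : GL (Fin 4) F) : Matrix (Fin 4) (Fin 4) F) = c • EF F p}

theorem mem_grp {B g : GL (Fin 4) F} : g ∈ grp B ↔ ∃ (c : F) (p : Fin 4 × Fin 4), c ^ 4 = 1 ∧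
    ((B⁻¹ * g * B : GL (Fin 4) F) : Matrix (Fin 4) (Fin 4) F) = c • EF F p := by
  refine ⟨fun hg => ?_, fun h => Subgroup.subset_closure h⟩
  induction hg using Subgroup.closure_induction with
  | mem x hx => exact hx
  | one => exact ⟨1, (0, 0), one_pow _, by rw [EF_zero, one_smul, mul_one, inv_mul_cancel, Units.val_one]⟩
  | mul x y _ _ hx hy =>
    obtain ⟨c, p, hc, hxe⟩ := hx
    obtain ⟨d, r, hd, hye⟩ := hy
    refine ⟨c * d * φ (chi r.1 p.2), (xr p.1 r.1, xr p.2 r.2), by
      rw [mul_pow, mul_pow, hc, hd, (φ_pm (chi_pm _ _)).1, one_mul, one_mul], ?_⟩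
    rw [show B⁻¹ * (x * y) * B = (B⁻¹ * x * B) * (B⁻¹ * y * B) by group, Units.val_mul, hxe, hye, Matrix.smul_mul,
      Matrix.mul_smul, EF_mul, smul_smul, smul_smul]
  | inv x _ hx =>
    obtain ⟨c, p, hc, hxe⟩ := hx
    refine ⟨c ^ 3 * φ (chi p.1 p.2), p, by
      rw [mul_pow, ← pow_mul, (φ_pm (chi_pm _ _)).1, mul_one, show 3 * 4 = 4 * 3 from rfl, pow_mul, hc, one_pow], ?_⟩
    rw [show B⁻¹ * x⁻¹ * B = (B⁻¹ * x * B)⁻¹ by group, Matrix.coe_units_inv, hxe]
    refine Matrix.inv_eq_right_inv ?_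
    rw [Matrix.smul_mul, Matrix.mul_smul, EF_sq, smul_smul, smul_smul,
      show c * (c ^ 3 * φ (chi p.1 p.2)) * φ (chi p.1 p.2) = c ^ 4 * (φ (chi p.1 p.2) * φ (chi p.1 p.2)) by ring,
      hc, (φ_pm (chi_pm _ _)).2, one_mul, one_smul]

theorem smul_EF_inj {c d : F} {p r : Fin 4 × Fin 4} (hc : c ≠ 0) (h : c • EF F p = d • EF F r) : p = r ∧ c = d := by
  have hpr : p = r := by
    by_contra hne
    have h1 := Fintype.linearIndependent_iff.mp (EF_li (F := F))
      (fun s => (if s = p then c else 0) - if s = r then d else 0) (by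
        simp [sub_smul, Finset.sum_sub_distrib, ite_smul, h]) p
    simp [hne] at h1
    exact hc h1
  subst hpr
  exact ⟨rfl, smul_left_injective F (fun e => EF_det (F := F) p (by simp [e])) h⟩

theorem normalises_of_move {B g : GL (Fin 4) F} {N : Matrix (Fin 4) (Fin 4) F}
    (hN : ((B⁻¹ * g * B : GL (Fin 4) F) : Matrix (Fin 4) (Fin 4) F) = N)
    (h : ∀ p, ∃ (s : F) (r : Fin 4 × Fin 4), s ^ 4 = 1 ∧ N * EF F p = s • (EF F r * N)) :
    ∀ x ∈ grp B, g * x * g⁻¹ ∈ grp B := by
  intro x hx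
  obtain ⟨c, p, hc, hxe⟩ := mem_grp.mp hx
  obtain ⟨s, r, hs, hsr⟩ := h p
  refine mem_grp.mpr ⟨c * s, r, by rw [mul_pow, hc, hs, one_mul], ?_⟩
  rw [show B⁻¹ * (g * x * g⁻¹) * B = (B⁻¹ * g * B) * (B⁻¹ * x * B) * (B⁻¹ * g * B)⁻¹ by group, Units.val_mul,
    Units.val_mul, hxe, hN, Matrix.mul_smul, hsr, smul_smul, Matrix.smul_mul, Matrix.mul_assoc, ← hN, val_mul_inv,
    Matrix.mul_one]

end FourFrame

set_option maxHeartbeats 2000000 in
open FourFrame in
/-- Over nine elements a group in a frame stabiliser of `SU₄` normalises a group of symplectic type. -/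
theorem sympType_of_frame_four {q : ℕ} (hF : Fintype.card F = q ^ 2) (hq : q = 3) {H : Subgroup (GL (Fin 4) F)}
    (hH : H ≤ Cfsg.GU 4 F q ⊓ specialLinear (Fin 4) F) {D : Fin 4 → Submodule F (Fin 4 → F)}
    (hD : IsNondegenerateMDecomposition (Cfsg.hermForm 4 F q) 1 D) (hle : H ≤ decompositionStabilizer D) :
    ∃ R : Subgroup (GL (Fin 4) F), IsSymplecticTypeGroup 2 R ∧ ActsAbsolutelyIrreducibly (matrixSet R) ∧
      R ≤ similarityGroup (Cfsg.hermForm 4 F q) ∧ Nat.card R = 64 ∧ Nat.card (Subgroup.center R) = 4 ∧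
      H ≤ subgroupNormalizer R := by
  classical
  have hf := herm_refl (n := 4) hF
  let φ : ZMod 3 →+* F := ZMod.castHom (dvd_refl 3) F
  have h3 : ((3 : ℕ) : F) = 0 := CharP.cast_eq_zero F 3
  have h2 : (2 : F) ≠ 0 := fun e => by
    push_cast at h3
    exact one_ne_zero (α := F) (by linear_combination h3 - e)
  -- an orthonormal basis on the lines
  have hbase : ∀ i, ∃ b ∈ D i, Cfsg.hermForm 4 F q b b = 1 ∧ ∀ w ∈ D i, ∃ c : F, w = c • b := by
    intro i
    obtain ⟨⟨v, hv⟩, hv0, hline⟩ := finrank_eq_one_iff'.mp (hD.decomp.finrank_eq i)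
    have hline' : ∀ w ∈ D i, ∃ c : F, w = c • v := fun w hw => by
      obtain ⟨c, hc⟩ := hline ⟨w, hw⟩
      exact ⟨c, (congrArg Subtype.val hc).symm⟩
    set a := Cfsg.hermForm 4 F q v v with ha
    have ha0 : a ≠ 0 := fun e => by
      obtain ⟨-, x, hx, hne⟩ := hD.nondegenerate i v hv fun e0 => hv0 (Subtype.ext e0)
      obtain ⟨c, rfl⟩ := hline' x hx
      rw [hf.smul_right, ← ha, e, mul_zero] at hne
      exact hne rfl
    obtain ⟨x, hx⟩ := Cfsg.Lib.Classical.PrimeDim.exists_norm_eq hF (a := a⁻¹) (by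
      have := hf.herm v v; rw [one_mul] at this
      rw [map_inv₀, ha, ← this])
    have hx0 : x ≠ 0 := fun e => by rw [e, zero_mul] at hx; exact inv_ne_zero ha0 hx.symm
    refine ⟨x • v, (D i).smul_mem _ hv, by
      rw [hf.smul_left, hf.smul_right, ← ha, ← mul_assoc, hx, inv_mul_cancel₀ ha0], fun w hw => ?_⟩
    obtain ⟨c, rfl⟩ := hline' w hw
    exact ⟨c / x, by rw [smul_smul, div_mul_cancel₀ c hx0]⟩
  choose b hbD hb1 hbl using hbase
  have hgr : ∀ i j, Cfsg.hermForm 4 F q (b i) (b j) = if i = j then 1 else 0 := fun i j => by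
    split_ifs with e
    · subst e; exact hb1 i
    · exact hD.orthogonal i j e _ (hbD i) _ (hbD j)
  let Bm : Matrix (Fin 4) (Fin 4) F := Matrix.of fun x i => b i x
  have hcol : ∀ i, Bm *ᵥ Pi.single i 1 = b i := fun i => by rw [Matrix.mulVec_single_one]; rfl
  have hBf : ∀ u v, Cfsg.hermForm 4 F q (Bm *ᵥ u) (Bm *ᵥ v) = Cfsg.hermForm 4 F q u v := by
    intro u v
    have e : ∀ w, Bm *ᵥ w = ∑ i, w i • b i := fun w => by
      funext x; simp [Bm, Matrix.mulVec, dotProduct, mul_comm]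
    rw [e, e, hf.sum_left]
    simp only [hf.smul_left, hf.sum_right, hf.smul_right, hgr, mul_ite, mul_one, mul_zero, Finset.sum_ite_eq,
      Finset.mem_univ, if_true]
    rw [Cfsg.hermForm]
    exact Finset.sum_congr rfl fun i _ => by rw [frob_apply]
  have hdetB : Bm.det ≠ 0 := fun h => by
    obtain ⟨u, hu0, hu⟩ := Matrix.exists_mulVec_eq_zero_iff.mpr h
    obtain ⟨v, hv⟩ := (hf.nondegenerate u hu0).2
    exact hv (by rw [← hBf, hu, hf.zero_left])
  let B : GL (Fin 4) F := Matrix.GeneralLinearGroup.mkOfDetNeZero Bm hdetB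
  have hBGU : B ∈ Cfsg.GU 4 F q := hBf
  -- the roots of unity
  have hmu : Fintype.card {c : F // c ^ 4 = 1} = 4 := by
    obtain ⟨γ, hγ⟩ := IsCyclic.exists_generator (α := Fˣ)
    have hord : orderOf γ = 8 := by
      rw [orderOf_eq_card_of_forall_mem_zpowers hγ, Nat.card_units, Nat.card_eq_fintype_card, hF, hq]; norm_num
    have hI : IsPrimitiveRoot ((γ : F) ^ 2) 4 := by
      have h8 : IsPrimitiveRoot (γ : F) 8 := IsPrimitiveRoot.coe_units_iff.mpr (hord ▸ IsPrimitiveRoot.orderOf γ)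
      exact h8.pow (by norm_num) (by norm_num)
    refine (Fintype.card_subtype _).trans (Eq.trans ?_ hI.card_nthRootsFinset)
    congr 1
    ext c
    simp [Polynomial.mem_nthRootsFinset]
  set R := grp B with hRdef
  have hRval : ∀ (c : {c : F // c ^ 4 = 1}) p, ∃ g : GL (Fin 4) F, g ∈ R ∧
      ((B⁻¹ * g * B : GL (Fin 4) F) : Matrix (Fin 4) (Fin 4) F) = (c : F) • EF F p := fun c p => by
    have hc0 : (c : F) ≠ 0 := fun e => by have := c.2; rw [e] at this; simp at this
    refine ⟨B * Matrix.GeneralLinearGroup.mkOfDetNeZero ((c : F) • EF F p)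
      (by rw [Matrix.det_smul]; exact mul_ne_zero (pow_ne_zero _ hc0) (EF_det p)) * B⁻¹, mem_grp.mpr ⟨c, p, c.2, ?_⟩, ?_⟩ <;>
      simp [mul_assoc, Matrix.GeneralLinearGroup.mkOfDetNeZero]
  choose rep hrepR hrep using hRval
  have hcard : Nat.card R = 64 := by
    have hbij : Function.Bijective (fun x : {c : F // c ^ 4 = 1} × (Fin 4 × Fin 4) => (⟨rep x.1 x.2, hrepR _ _⟩ : R)) := by
      refine ⟨fun x y e => ?_, fun g => ?_⟩
      · have e' := congrArg (fun g : R => ((B⁻¹ * (g : GL (Fin 4) F) * B : GL (Fin 4) F) : Matrix (Fin 4) (Fin 4) F)) e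
        simp only [hrep] at e'
        have hc0 : (x.1 : F) ≠ 0 := fun e0 => by have := x.1.2; rw [e0] at this; simp at this
        obtain ⟨h1, h2'⟩ := smul_EF_inj hc0 e'
        exact Prod.ext (Subtype.ext h2') h1
      · obtain ⟨c, p, hc, he⟩ := mem_grp.mp g.2
        refine ⟨(⟨c, hc⟩, p), Subtype.ext ?_⟩
        have := Units.ext ((hrep ⟨c, hc⟩ p).trans he.symm)
        exact mul_left_cancel (mul_right_cancel this)
    rw [← Nat.card_congr (Equiv.ofBijective _ hbij), Nat.card_eq_fintype_card, Fintype.card_prod, hmu]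
    rfl
  have hsim : R ≤ similarityGroup (Cfsg.hermForm 4 F q) := by
    intro g hg
    obtain ⟨c, p, hc, he⟩ := mem_grp.mp hg
    refine ⟨1, fun u v => ?_⟩
    rw [Units.val_one, one_mul]
    have hM : ∀ u v, Cfsg.hermForm 4 F q ((c • EF F p) *ᵥ u) ((c • EF F p) *ᵥ v) = Cfsg.hermForm 4 F q u v := by
      intro u v
      simp only [Cfsg.hermForm, Matrix.smul_mulVec, Pi.smul_apply, smul_eq_mul, EF_mulVec, mul_pow]
      rw [← Equiv.sum_comp (Function.Involutive.toPerm (fun x => xr x p.2) fun x => xr_xr x p.2)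
        (fun x => u x * v x ^ q)]
      refine Finset.sum_congr rfl fun x _ => ?_
      show _ = u (xr x p.2) * v (xr x p.2) ^ q
      have e1 : φ (chi p.1 x) ^ q = φ (chi p.1 x) := by
        rw [hq, ← map_pow, ZMod.pow_card]
      have e2 : φ (chi p.1 x) * φ (chi p.1 x) = 1 := (φ_pm (chi_pm _ _)).2
      have e3 : c * c ^ q = 1 := by rw [hq, ← pow_succ', hc]
      show c * (φ (chi p.1 x) * u (xr x p.2)) * (c ^ q * (φ (chi p.1 x) ^ q * v (xr x p.2) ^ q)) = _
      rw [e1]
      linear_combination (u (xr x p.2) * v (xr x p.2) ^ q * (φ (chi p.1 x) * φ (chi p.1 x))) * e3 +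
        (u (xr x p.2) * v (xr x p.2) ^ q) * e2
    have hg' : g = B * (B⁻¹ * g * B) * B⁻¹ := by group
    rw [hg', Units.val_mul, Units.val_mul, he, ← Matrix.mulVec_mulVec, ← Matrix.mulVec_mulVec, ← Matrix.mulVec_mulVec,
      ← Matrix.mulVec_mulVec, Cfsg.Lib.Classical.PrimeDim.mem_GU_iff.mp hBGU, hM]
    exact Cfsg.Lib.Classical.PrimeDim.mem_GU_iff.mp ((Cfsg.GU 4 F q).inv_mem hBGU) u v
  -- commutation
  have hval : ∀ g : GL (Fin 4) F, (g : Matrix (Fin 4) (Fin 4) F) =
      Bm * ((B⁻¹ * g * B : GL (Fin 4) F) : Matrix (Fin 4) (Fin 4) F) * ((B⁻¹ : GL (Fin 4) F) : Matrix (Fin 4) (Fin 4) F) :=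
    fun g => by
      show _ = (B : Matrix (Fin 4) (Fin 4) F) * _ * _
      rw [← Units.val_mul, ← Units.val_mul]; congr 1; group
  have hantic : ∀ {x y : GL (Fin 4) F} {c d : F} {p r : Fin 4 × Fin 4}, c ≠ 0 → d ≠ 0 →
      ((B⁻¹ * x * B : GL (Fin 4) F) : Matrix (Fin 4) (Fin 4) F) = c • EF F p →
      ((B⁻¹ * y * B : GL (Fin 4) F) : Matrix (Fin 4) (Fin 4) F) = d • EF F r → anti p r → x * y ≠ y * x := by
    intro x y c d p r hc hd hx hy ha e
    have e' := congrArg (fun g => ((B⁻¹ * g * B : GL (Fin 4) F) : Matrix (Fin 4) (Fin 4) F)) e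
    simp only [show ∀ g h : GL (Fin 4) F, B⁻¹ * (g * h) * B = (B⁻¹ * g * B) * (B⁻¹ * h * B) from fun g h => by group,
      Units.val_mul, hx, hy, Matrix.smul_mul, Matrix.mul_smul, EF_mul, smul_smul] at e'
    rw [xr_comm r.1 p.1, xr_comm r.2 p.2] at e'
    have hne : ∀ a v, φ (chi a v) ≠ 0 := fun a v h0 => by
      have := (φ_pm (F := F) (chi_pm a v)).2; rw [h0, zero_mul] at this; exact zero_ne_one this
    have h1 := (smul_EF_inj (by first | exact mul_ne_zero hd (mul_ne_zero hc (hne _ _)) | exact mul_ne_zero hc (mul_ne_zero hd (hne _ _))) e').2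
    refine ha (RingHom.injective φ ?_)
    have hcd : c * d ≠ 0 := mul_ne_zero hc hd
    exact mul_left_cancel₀ hcd (by linear_combination h1)
  have hne0 : ∀ {c : F}, c ^ 4 = 1 → c ≠ 0 := fun {c} hc e => by rw [e] at hc; simp at hc
  have hcenter : Nat.card (Subgroup.center R) = 4 := by
    let e : {c : F // c ^ 4 = 1} → Subgroup.center R := fun c => ⟨⟨rep c (0, 0), hrepR _ _⟩, by
      rw [Subgroup.mem_center_iff]
      intro y
      refine Subtype.ext (Units.ext ?_)
      show ((y : GL (Fin 4) F) : Matrix (Fin 4) (Fin 4) F) * (rep c (0, 0) : Matrix (Fin 4) (Fin 4) F) =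
        (rep c (0, 0) : Matrix (Fin 4) (Fin 4) F) * ((y : GL (Fin 4) F) : Matrix (Fin 4) (Fin 4) F)
      rw [hval (rep c (0, 0)), hrep, EF_zero, Matrix.mul_smul, Matrix.mul_one, Matrix.smul_mul,
        show Bm = (B : Matrix (Fin 4) (Fin 4) F) from rfl, val_mul_inv, Matrix.mul_smul, Matrix.smul_mul, Matrix.mul_one,
        Matrix.one_mul]⟩
    have hbij : Function.Bijective e := by
      refine ⟨fun x y h => ?_, fun z => ?_⟩
      · have e' := congrArg (fun g : Subgroup.center R =>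
          ((B⁻¹ * ((g : R) : GL (Fin 4) F) * B : GL (Fin 4) F) : Matrix (Fin 4) (Fin 4) F)) h
        simp only [e, hrep] at e'
        exact Subtype.ext (smul_EF_inj (hne0 x.2) e').2
      · obtain ⟨c, p, hc, he⟩ := mem_grp.mp (z : R).2
        have hp : p = (0, 0) := by
          by_contra hp
          have hw : ∃ r, anti p r := by
            rcases witness p hp with h | h | h | h | h | h | h | h | h | h | h | h <;> exact ⟨_, h⟩
          obtain ⟨r, hr⟩ := hw
          exact hantic (hne0 hc) one_ne_zero he (hrep ⟨1, one_pow 4⟩ r) hr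
            (congrArg Subtype.val (Subgroup.mem_center_iff.mp z.2 ⟨_, hrepR _ _⟩)).symm
        subst hp
        refine ⟨⟨c, hc⟩, Subtype.ext (Subtype.ext ?_)⟩
        exact mul_left_cancel (mul_right_cancel (Units.ext ((hrep ⟨c, hc⟩ (0, 0)).trans he.symm)))
    rw [← Nat.card_congr (Equiv.ofBijective e hbij), Nat.card_eq_fintype_card, hmu]
  -- a normalising group moving every non-central element
  have hdetg : ∀ {M N : Matrix (Fin 4) (Fin 4) (ZMod 3)}, N * M = 1 → ∃ g : GL (Fin 4) F,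
      ((B⁻¹ * g * B : GL (Fin 4) F) : Matrix (Fin 4) (Fin 4) F) = M.map φ := fun {M N} h => by
    have hd : (M.map φ).det ≠ 0 := right_ne_zero_of_mul (a := (N.map φ).det) (by
      rw [← Matrix.det_mul, ← Matrix.map_mul, h, Matrix.map_one _ (map_zero φ) (map_one φ), Matrix.det_one]
      exact one_ne_zero)
    exact ⟨B * Matrix.GeneralLinearGroup.mkOfDetNeZero _ hd * B⁻¹, by
      simp [mul_assoc, Matrix.GeneralLinearGroup.mkOfDetNeZero]⟩
  have hconj : ∀ {g : GL (Fin 4) F} {M : Matrix (Fin 4) (Fin 4) (ZMod 3)} {i : Fin 4 × Fin 4 → Fin 4 × Fin 4},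
      ((B⁻¹ * g * B : GL (Fin 4) F) : Matrix (Fin 4) (Fin 4) F) = M.map φ →
      (∀ p, M * E p = E (i p) * M ∨ M * E p = -(E (i p) * M)) →
      (∀ x ∈ R, g * x * g⁻¹ ∈ R) ∧ ∀ {x : GL (Fin 4) F} {c : F} {p : Fin 4 × Fin 4}, c ^ 4 = 1 →
        ((B⁻¹ * x * B : GL (Fin 4) F) : Matrix (Fin 4) (Fin 4) F) = c • EF F p →
        ∃ d : F, d ^ 4 = 1 ∧ ((B⁻¹ * (g * x * g⁻¹) * B : GL (Fin 4) F) : Matrix (Fin 4) (Fin 4) F) = d • EF F (i p) := by
    intro g M i hg hM
    have hs : ∀ p, ∃ s : F, s ^ 4 = 1 ∧ M.map φ * EF F p = s • (EF F (i p) * M.map φ) := fun p => by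
      rcases hM p with e | e
      · exact ⟨1, one_pow 4, by rw [one_smul, EF, EF, ← Matrix.map_mul, ← Matrix.map_mul, e]⟩
      · exact ⟨-1, by norm_num, by
          rw [EF, EF, ← Matrix.map_mul, ← Matrix.map_mul, e, neg_one_smul]; ext x y
          simp only [Matrix.map_apply, Matrix.neg_apply, map_neg]; rfl⟩
    refine ⟨normalises_of_move hg fun p => (hs p).elim fun s h => ⟨s, i p, h⟩, fun {x c p} hc hx => ?_⟩
    obtain ⟨s, hs4, hsp⟩ := hs p
    refine ⟨c * s, by rw [mul_pow, hc, hs4, one_mul], ?_⟩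
    rw [show B⁻¹ * (g * x * g⁻¹) * B = (B⁻¹ * g * B) * (B⁻¹ * x * B) * (B⁻¹ * g * B)⁻¹ by group, Units.val_mul,
      Units.val_mul, hx, hg, Matrix.mul_smul, hsp, smul_smul, Matrix.smul_mul, Matrix.mul_assoc, ← hg, val_mul_inv,
      Matrix.mul_one]
  obtain ⟨g₁, hg₁⟩ := hdetg gH_sq
  obtain ⟨g₂, hg₂⟩ := hdetg gT_sq
  obtain ⟨g₃, hg₃⟩ := hdetg gP_orth
  obtain ⟨hn₁, hi₁⟩ := hconj hg₁ gH_move
  obtain ⟨hn₂, hi₂⟩ := hconj hg₂ gT_move
  obtain ⟨hn₃, hi₃⟩ := hconj hg₃ gP_move
  let G : Subgroup (GL (Fin 4) F) := Subgroup.closure {g₁, g₂, g₃}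
  have hG : Normalises G R := by
    intro g hg
    rw [← Subgroup.mem_toSubmonoid, Subgroup.closure_toSubmonoid_of_finite] at hg
    induction hg using Submonoid.closure_induction with
    | mem y hy =>
      rcases hy with rfl | rfl | rfl
      exacts [hn₁, hn₂, hn₃]
    | one => simp
    | mul a b _ _ iha ihb =>
      intro x hx
      rw [show a * b * x * (a * b)⁻¹ = a * (b * x * b⁻¹) * a⁻¹ by group]
      exact iha _ (ihb x hx)
  have hcyc : ∀ A : Subgroup R, A.Characteristic → IsMulCommutative A → IsCyclic A := by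
    intro A hA hAc
    have hAG := char_normalises hG A hA
    have hcommA : ∀ x ∈ A.map R.subtype, ∀ y ∈ A.map R.subtype, x * y = y * x := by
      rintro _ ⟨x, hx, rfl⟩ _ ⟨y, hy, rfl⟩
      exact congrArg (fun w : A => ((w : R) : GL (Fin 4) F)) (hAc.is_comm.comm ⟨x, hx⟩ ⟨y, hy⟩)
    have hsc : ∀ x ∈ A.map R.subtype, ∃ c : F, c ^ 4 = 1 ∧
        ((B⁻¹ * x * B : GL (Fin 4) F) : Matrix (Fin 4) (Fin 4) F) = c • EF F (0, 0) := by
      intro x hx
      obtain ⟨c, p, hc, he⟩ := mem_grp.mp (show x ∈ R by obtain ⟨a, -, rfl⟩ := hx; exact a.2)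
      refine ⟨c, hc, ?_⟩
      suffices hp : p = (0, 0) by rw [← hp]; exact he
      by_contra hp
      have m₁ : g₁ ∈ G := Subgroup.subset_closure (by simp)
      have m₂ : g₂ ∈ G := Subgroup.subset_closure (by simp)
      have m₃ : g₃ ∈ G := Subgroup.subset_closure (by simp)
      have step : ∀ {g : GL (Fin 4) F} {i : Fin 4 × Fin 4 → Fin 4 × Fin 4}, g ∈ G →
          (∀ {x : GL (Fin 4) F} {c : F} {p : Fin 4 × Fin 4}, c ^ 4 = 1 →
            ((B⁻¹ * x * B : GL (Fin 4) F) : Matrix (Fin 4) (Fin 4) F) = c • EF F p →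
            ∃ d : F, d ^ 4 = 1 ∧
              ((B⁻¹ * (g * x * g⁻¹) * B : GL (Fin 4) F) : Matrix (Fin 4) (Fin 4) F) = d • EF F (i p)) →
          ∀ {r : Fin 4 × Fin 4},
            (∃ y ∈ A.map R.subtype, ∃ d : F, d ^ 4 = 1 ∧
              ((B⁻¹ * y * B : GL (Fin 4) F) : Matrix (Fin 4) (Fin 4) F) = d • EF F r) →
            ∃ y ∈ A.map R.subtype, ∃ d : F, d ^ 4 = 1 ∧
              ((B⁻¹ * y * B : GL (Fin 4) F) : Matrix (Fin 4) (Fin 4) F) = d • EF F (i r) := by
        intro g i hg hi r hr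
        obtain ⟨y, hy, d, hd, hye⟩ := hr
        exact ⟨_, hAG g hg y hy, hi hd hye⟩
      have base : ∃ y ∈ A.map R.subtype, ∃ d : F, d ^ 4 = 1 ∧
          ((B⁻¹ * y * B : GL (Fin 4) F) : Matrix (Fin 4) (Fin 4) F) = d • EF F p := ⟨x, hx, c, hc, he⟩
      have kill : ∀ {r : Fin 4 × Fin 4}, anti p r → ¬ ∃ y ∈ A.map R.subtype, ∃ d : F, d ^ 4 = 1 ∧
          ((B⁻¹ * y * B : GL (Fin 4) F) : Matrix (Fin 4) (Fin 4) F) = d • EF F r := by
        rintro r ha ⟨y, hy, d, hd, hye⟩
        exact hantic (hne0 hc) (hne0 hd) he hye ha (hcommA x hx y hy)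
      rcases witness p hp with h | h | h | h | h | h | h | h | h | h | h | h
      · exact kill h (step m₁ hi₁ base)
      · exact kill h (step m₂ hi₂ base)
      · exact kill h (step m₃ hi₃ base)
      · exact kill h (step m₁ hi₁ (step m₁ hi₁ base))
      · exact kill h (step m₁ hi₁ (step m₂ hi₂ base))
      · exact kill h (step m₁ hi₁ (step m₃ hi₃ base))
      · exact kill h (step m₂ hi₂ (step m₁ hi₁ base))
      · exact kill h (step m₂ hi₂ (step m₂ hi₂ base))
      · exact kill h (step m₂ hi₂ (step m₃ hi₃ base))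
      · exact kill h (step m₃ hi₃ (step m₁ hi₁ base))
      · exact kill h (step m₃ hi₃ (step m₂ hi₂ base))
      · exact kill h (step m₃ hi₃ (step m₃ hi₃ base))
    choose s hs4 hs using hsc
    let ψ : A →* F :=
      { toFun := fun x => s _ ⟨x, x.2, rfl⟩
        map_one' := by
          have h := hs _ ⟨(1 : A), (1 : A).2, rfl⟩
          simp only [OneMemClass.coe_one, map_one, mul_one, inv_mul_cancel, Units.val_one] at h
          rw [EF_zero] at h
          exact (smul_left_injective F (one_ne_zero (α := Matrix (Fin 4) (Fin 4) F)) (by simpa using h.symm))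
        map_mul' := fun x y => by
          have h := hs _ ⟨(x * y : A), (x * y : A).2, rfl⟩
          have hx' := hs _ ⟨x, x.2, rfl⟩
          have hy' := hs _ ⟨y, y.2, rfl⟩
          simp only [Subgroup.coe_mul, map_mul] at h
          rw [show B⁻¹ * (R.subtype x * R.subtype y) * B = (B⁻¹ * R.subtype x * B) * (B⁻¹ * R.subtype y * B) by group,
            Units.val_mul, hx', hy', EF_zero, Matrix.smul_mul, Matrix.one_mul, smul_smul] at h
          exact (smul_left_injective F (one_ne_zero (α := Matrix (Fin 4) (Fin 4) F)) h).symm }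
    refine isCyclic_of_subgroup_isDomain ψ fun x y hxy => ?_
    have hx' := hs _ ⟨x, x.2, rfl⟩
    have hy' := hs _ ⟨y, y.2, rfl⟩
    rw [show s _ ⟨x, x.2, rfl⟩ = s _ ⟨y, y.2, rfl⟩ from hxy, ← hy'] at hx'
    exact Subtype.ext (Subtype.ext (mul_left_cancel (mul_right_cancel (Units.ext hx'))))
  have hexp : Monoid.exponent R = 2 * Nat.gcd 2 2 := by
    show Monoid.exponent R = 4
    refine Nat.dvd_antisymm (Monoid.exponent_dvd_of_forall_pow_eq_one fun x => ?_) ?_
    · obtain ⟨c, p, hc, he⟩ := mem_grp.mp x.2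
      refine Subtype.ext ?_
      have : (B⁻¹ * (x : GL (Fin 4) F) * B) ^ 4 = 1 := Units.ext (by
        rw [Units.val_pow_eq_pow_val, he, _root_.smul_pow, hc, one_smul,
          show EF F p ^ 4 = (EF F p * EF F p) * (EF F p * EF F p) by noncomm_ring,
          EF_sq, Matrix.smul_mul, Matrix.one_mul, smul_smul, (φ_pm (chi_pm _ _)).2, one_smul, Units.val_one])
      rw [show B⁻¹ * (x : GL (Fin 4) F) * B = B⁻¹ * (x : GL (Fin 4) F) * B⁻¹⁻¹ by rw [inv_inv], conj_pow,
        mul_inv_eq_one, mul_eq_left] at this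
      simpa using this
    · obtain ⟨γ, hγ⟩ := IsCyclic.exists_generator (α := Fˣ)
      have hord : orderOf γ = 8 := by
        rw [orderOf_eq_card_of_forall_mem_zpowers hγ, Nat.card_units, Nat.card_eq_fintype_card, hF, hq]; norm_num
      have h8 : IsPrimitiveRoot (γ : F) 8 := IsPrimitiveRoot.coe_units_iff.mpr (hord ▸ IsPrimitiveRoot.orderOf γ)
      have hI : IsPrimitiveRoot ((γ : F) ^ 2) 4 := h8.pow (by norm_num) (by norm_num)
      set x : R := ⟨rep ⟨_, hI.pow_eq_one⟩ (0, 0), hrepR _ _⟩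
      have hx2 : x ^ 2 ≠ 1 := fun e => by
        have e' : (B⁻¹ * (x : GL (Fin 4) F) * B) ^ 2 = 1 := by
          rw [show B⁻¹ * (x : GL (Fin 4) F) * B = B⁻¹ * (x : GL (Fin 4) F) * B⁻¹⁻¹ by rw [inv_inv], conj_pow,
            ← Subgroup.coe_pow, e]
          simp
        have e'' := congrArg Units.val e'
        rw [Units.val_pow_eq_pow_val, hrep, EF_zero, _root_.smul_pow, one_pow, Units.val_one] at e''
        exact hI.pow_ne_one_of_pos_of_lt (l := 2) (by norm_num) (by norm_num)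
          (smul_left_injective F (one_ne_zero (α := Matrix (Fin 4) (Fin 4) F)) (by simpa using e''))
      have hx4 : orderOf x ∣ Monoid.exponent R := Monoid.order_dvd_exponent x
      have hd4 : orderOf x ∣ 2 ^ 2 := by
        refine orderOf_dvd_of_pow_eq_one (Subtype.ext ?_)
        have : (B⁻¹ * (x : GL (Fin 4) F) * B) ^ 4 = 1 := Units.ext (by
          rw [Units.val_pow_eq_pow_val, hrep, EF_zero, _root_.smul_pow, one_pow, hI.pow_eq_one, one_smul, Units.val_one])
        rw [show B⁻¹ * (x : GL (Fin 4) F) * B = B⁻¹ * (x : GL (Fin 4) F) * B⁻¹⁻¹ by rw [inv_inv], conj_pow,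
          mul_inv_eq_one, mul_eq_left] at this
        simpa using this
      obtain ⟨j, hj, hj'⟩ := (Nat.dvd_prime_pow Nat.prime_two).mp hd4
      have : j = 2 := by
        by_contra hne
        refine hx2 (orderOf_dvd_iff_pow_eq_one.mp ?_)
        rw [hj']
        exact (Nat.pow_dvd_pow 2 (show j ≤ 1 by omega)).trans (by norm_num)
      rw [hj', this] at hx4
      exact hx4
  have hai : ActsAbsolutelyIrreducibly (matrixSet R) := by
    have hmem : ∀ p, ∃ g ∈ R, (g : Matrix (Fin 4) (Fin 4) F) =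
        Bm * EF F p * ((B⁻¹ : GL (Fin 4) F) : Matrix (Fin 4) (Fin 4) F) := fun p =>
      ⟨_, hrepR ⟨1, one_pow 4⟩ p, by rw [hval (rep _ p), hrep, one_smul]⟩
    refine ⟨(irreducible_iff R).mpr fun W hW => ?_, fun M hM => ?_⟩
    · refine or_iff_not_imp_left.mpr fun h0 => eq_top_iff.mpr fun v _ => ?_
      obtain ⟨w, hw, hw0⟩ := (Submodule.ne_bot_iff W).mp h0
      let Bi : Matrix (Fin 4) (Fin 4) F := ((B⁻¹ : GL (Fin 4) F) : Matrix (Fin 4) (Fin 4) F)
      let T : Submodule F (Matrix (Fin 4) (Fin 4) F) :=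
        { carrier := {N | (Bm * N * Bi) *ᵥ w ∈ W}
          zero_mem' := by simp
          add_mem' := fun {a c} ha hc => by
            simp only [Set.mem_setOf_eq, Matrix.mul_add, Matrix.add_mul, Matrix.add_mulVec]; exact add_mem ha hc
          smul_mem' := fun r N hN => by
            simp only [Set.mem_setOf_eq, Matrix.mul_smul, Matrix.smul_mul, Matrix.smul_mulVec]; exact W.smul_mem r hN }
      have hT : ⊤ ≤ T := by
        rw [← EF_span (F := F), Submodule.span_le]
        rintro _ ⟨p, rfl⟩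
        obtain ⟨g, hg, hge⟩ := hmem p
        show (Bm * EF F p * Bi) *ᵥ w ∈ W
        rw [← hge]
        exact hW g hg w hw
      obtain ⟨j, hj⟩ := Function.ne_iff.mp (show Bi *ᵥ w ≠ 0 from Cfsg.Lib.Classical.PrimeDim.gl_mulVec_ne_zero _ hw0)
      have h1 : (Bm * (Matrix.vecMulVec (Bi *ᵥ v) (Pi.single j ((Bi *ᵥ w) j)⁻¹)) * Bi) *ᵥ w ∈ W :=
        hT (Submodule.mem_top (R := F))
      rw [← Matrix.mulVec_mulVec, ← Matrix.mulVec_mulVec, Matrix.vecMulVec_mulVec, single_dotProduct,
        inv_mul_cancel₀ hj] at h1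
      rw [MulOpposite.op_one, one_smul, Matrix.mulVec_mulVec,
        show Bm * Bi = 1 from val_mul_inv B, Matrix.one_mulVec] at h1
      exact h1
    · let Bi : Matrix (Fin 4) (Fin 4) F := ((B⁻¹ : GL (Fin 4) F) : Matrix (Fin 4) (Fin 4) F)
      let T : Submodule F (Matrix (Fin 4) (Fin 4) F) :=
        { carrier := {N | (Bi * M * Bm) * N = N * (Bi * M * Bm)}
          zero_mem' := by simp
          add_mem' := fun {a c} ha hc => by
            simp only [Set.mem_setOf_eq] at *; rw [Matrix.mul_add, Matrix.add_mul, ha, hc]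
          smul_mem' := fun r N hN => by
            simp only [Set.mem_setOf_eq] at *; rw [Matrix.mul_smul, Matrix.smul_mul, hN] }
      have hBB : Bi * Bm = 1 := val_inv_mul B
      have hBB' : Bm * Bi = 1 := val_mul_inv B
      have hT : ⊤ ≤ T := by
        rw [← EF_span (F := F), Submodule.span_le]
        rintro _ ⟨p, rfl⟩
        obtain ⟨g, hg, hge⟩ := hmem p
        have hc := (forall_matrixSet.mp hM) g hg
        rw [hge] at hc
        show Bi * M * Bm * EF F p = EF F p * (Bi * M * Bm)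
        have hc' : M * (Bm * EF F p * Bi) = (Bm * EF F p * Bi) * M := by first | exact hc | exact hc.symm
        calc Bi * M * Bm * EF F p = Bi * (M * (Bm * EF F p * Bi)) * Bm := by
              simp only [Matrix.mul_assoc, hBB, Matrix.mul_one]
          _ = (Bi * Bm) * EF F p * (Bi * M * Bm) := by rw [hc']; simp only [Matrix.mul_assoc]
          _ = EF F p * (Bi * M * Bm) := by rw [hBB, Matrix.one_mul]
      obtain ⟨r, hr⟩ := Matrix.mem_range_scalar_of_commute_single (M := Bi * M * Bm) fun i j _ =>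
        (hT (Submodule.mem_top (x := Matrix.single i j 1))).symm
      refine ⟨r, ?_⟩
      have h1 := congrArg (fun X => Bm * X * Bi) hr
      simp only [← Matrix.mul_assoc, hBB', Matrix.one_mul] at h1
      simp only [Matrix.mul_assoc, hBB', Matrix.mul_one] at h1
      rw [← h1, Matrix.scalar_apply, ← Matrix.smul_one_eq_diagonal, Matrix.smul_mul, Matrix.one_mul, Matrix.mul_smul, hBB']
  refine ⟨R, ⟨Nat.prime_two, IsPGroup.of_card (n := 6) hcard, hcyc, hexp⟩, hai, hsim, hcard, hcenter, fun h hh => ?_⟩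
  have key : ∀ h ∈ H, ∀ x ∈ R, h * x * h⁻¹ ∈ R := by
    intro h hh
    obtain ⟨π, hπ⟩ := hle hh
    have hd : ∀ i, ∃ d : F, (h : Matrix (Fin 4) (Fin 4) F) *ᵥ b i = d • b (π i) := fun i =>
      hbl (π i) _ (by rw [← hπ i]; exact ⟨b i, hbD i, Matrix.toLin'_apply _ _⟩)
    choose d hd using hd
    have hd4 : ∀ i, d i ^ 4 = 1 := fun i => by
      have h1 := (hH hh).1 (b i) (b i)
      change Cfsg.hermForm 4 F q ((h : Matrix (Fin 4) (Fin 4) F) *ᵥ b i) ((h : Matrix (Fin 4) (Fin 4) F) *ᵥ b i) =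
        Cfsg.hermForm 4 F q (b i) (b i) at h1
      rw [hd, hf.smul_left, hf.smul_right, hb1, hb1, mul_one, frob_apply, hq, ← pow_succ'] at h1
      exact h1
    set N : Matrix (Fin 4) (Fin 4) F := (Matrix.diagonal d).submatrix π.symm id
    have hN : ((B⁻¹ * h * B : GL (Fin 4) F) : Matrix (Fin 4) (Fin 4) F) = N := by
      refine Matrix.toLin'.injective ((Pi.basisFun F (Fin 4)).ext fun i => ?_)
      rw [Pi.basisFun_apply, Matrix.toLin'_apply, Matrix.toLin'_apply, Units.val_mul, Units.val_mul,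
        ← Matrix.mulVec_mulVec, ← Matrix.mulVec_mulVec, show (B : Matrix (Fin 4) (Fin 4) F) = Bm from rfl, hcol, hd,
        Matrix.mulVec_smul, ← hcol, Matrix.mulVec_mulVec, show Bm = (B : Matrix (Fin 4) (Fin 4) F) from rfl,
        val_inv_mul, Matrix.one_mulVec, Matrix.mulVec_single_one]
      funext x
      simp only [N, Pi.smul_apply, smul_eq_mul, Matrix.col_apply, Matrix.submatrix_apply, id_eq, Matrix.diagonal_apply,
        Pi.single_apply, Equiv.symm_apply_eq]
      by_cases e : x = π i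
      · simp [e]
      · simp [e]
    have hprod : (∏ i, d i) * (∏ i, d i) = 1 := by
      have h1 : N.det = 1 := by
        rw [← hN, Units.val_mul, Units.val_mul, Matrix.det_mul, Matrix.det_mul]
        have hdet : (h : Matrix (Fin 4) (Fin 4) F).det = 1 := congrArg Units.val (hH hh).2
        rw [hdet, mul_one, ← Matrix.det_mul, val_inv_mul, Matrix.det_one]
      rw [Matrix.det_permute, Matrix.det_diagonal] at h1
      rcases Int.units_eq_one_or (Equiv.Perm.sign π.symm) with e | e <;> rw [e] at h1 <;> simp at h1 <;>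
        linear_combination (((Equiv.Perm.sign π.symm : ℤ) : F) * 0) * h1 +
          (by first | rw [h1, one_mul] | rw [show ∏ i, d i = -1 by linear_combination -h1, neg_one_mul, neg_neg] :
            (∏ i, d i) * (∏ i, d i) = 1)
    refine normalises_of_move hN fun p => ?_
    obtain ⟨b', hb'⟩ := translations π (fun i j e => π.injective e) p.2
    -- squares of the ratios
    have hsq : ∀ x, d x * d x * (d (xr x p.2) * d (xr x p.2)) = d 0 * d 0 * (d (xr 0 p.2) * d (xr 0 p.2)) := by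
      rw [Fin.prod_univ_four] at hprod
      have e : ∀ i, (d i * d i) * (d i * d i) = 1 := fun i => by linear_combination hd4 i
      have h01 : d 0 * d 0 * (d 1 * d 1) = d 2 * d 2 * (d 3 * d 3) := by
        linear_combination (d 2 * d 2 * (d 3 * d 3)) * hprod -
          (d 0 * d 0 * (d 1 * d 1)) * (d 3 * d 3 * (d 3 * d 3)) * e 2 - (d 0 * d 0 * (d 1 * d 1)) * e 3
      have h02 : d 0 * d 0 * (d 2 * d 2) = d 1 * d 1 * (d 3 * d 3) := by
        linear_combination (d 1 * d 1 * (d 3 * d 3)) * hprod -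
          (d 0 * d 0 * (d 2 * d 2)) * (d 3 * d 3 * (d 3 * d 3)) * e 1 - (d 0 * d 0 * (d 2 * d 2)) * e 3
      have h03 : d 0 * d 0 * (d 3 * d 3) = d 1 * d 1 * (d 2 * d 2) := by
        linear_combination (d 1 * d 1 * (d 2 * d 2)) * hprod -
          (d 0 * d 0 * (d 3 * d 3)) * (d 2 * d 2 * (d 2 * d 2)) * e 1 - (d 0 * d 0 * (d 3 * d 3)) * e 2
      generalize p.2 = b
      intro x
      fin_cases b <;> fin_cases x <;> simp [xr] <;>
        first
          | linear_combination e 0 - e 1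
          | linear_combination e 1 - e 0
          | linear_combination e 2 - e 0
          | linear_combination e 3 - e 0
          | linear_combination h01
          | linear_combination -h01
          | linear_combination h02
          | linear_combination -h02
          | linear_combination h03
          | linear_combination -h03
          | ring
    let g : Fin 4 → F := fun z => φ (chi p.1 (π.symm z)) * d (π.symm z) * d (xr (π.symm z) p.2) ^ 3
    have hg2 : ∀ z, g z * g z = d (π.symm z) * d (π.symm z) * (d (xr (π.symm z) p.2) * d (xr (π.symm z) p.2)) := fun z => by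
      have e1 : φ (chi p.1 (π.symm z)) * φ (chi p.1 (π.symm z)) = 1 := (φ_pm (chi_pm _ _)).2
      simp only [g]
      linear_combination (d (π.symm z) * d (π.symm z) * d (xr (π.symm z) p.2) ^ 6) * e1 +
        (d (π.symm z) * d (π.symm z) * d (xr (π.symm z) p.2) ^ 2) * hd4 (xr (π.symm z) p.2)
    obtain ⟨c, a', hc, hga⟩ := char_of_sq (F := F) (g := g)
      (by
        simp only [g]
        rw [mul_pow, mul_pow, (φ_pm (chi_pm _ _)).1, hd4, ← pow_mul, show 3 * 4 = 4 * 3 from rfl, pow_mul, hd4,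
          one_pow, one_mul, one_mul])
      (fun z => by rw [hg2, hg2, hsq, hsq (π.symm 0)])
      (by
        simp only [g]
        rw [Finset.prod_mul_distrib, Finset.prod_mul_distrib, Equiv.prod_comp π.symm (fun z => φ (chi p.1 z)),
          Equiv.prod_comp π.symm d, Equiv.prod_comp π.symm (fun z => d (xr z p.2) ^ 3),
          show (∏ i, d (xr i p.2) ^ 3) = ∏ i, d i ^ 3 from
            Equiv.prod_comp (Function.Involutive.toPerm (fun x => xr x p.2) fun x => xr_xr x p.2) fun i => d i ^ 3,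
          Finset.prod_pow, ← map_prod]
        rw [show ∏ z, chi p.1 z = 1 from (show ∀ a, ∏ z, chi a z = 1 by decide +kernel) _, map_one]
        linear_combination ((∏ i, d i) * (∏ i, d i) + 1) * hprod)
    refine ⟨c, (a', b'), hc, ?_⟩
    refine Matrix.toLin'.injective (LinearMap.ext fun u => funext fun z => ?_)
    rw [Matrix.toLin'_apply, Matrix.toLin'_apply, Matrix.smul_mulVec, ← Matrix.mulVec_mulVec, ← Matrix.mulVec_mulVec,
      Pi.smul_apply, smul_eq_mul, EF_mulVec]
    have hNa : ∀ (w : Fin 4 → F) z, (N *ᵥ w) z = d (π.symm z) * w (π.symm z) := fun w z => by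
      simp [N, Matrix.mulVec, dotProduct, Matrix.diagonal_apply, ite_mul]
    rw [hNa, hNa, EF_mulVec]
    have hx : π.symm (xr z b') = xr (π.symm z) p.2 := by
      rw [Equiv.symm_apply_eq, hb', Equiv.apply_symm_apply]
    rw [hx, show c * (φ (chi a' z) * (d (xr (π.symm z) p.2) * u (xr (π.symm z) p.2))) =
      (c * φ (chi a' z)) * (d (xr (π.symm z) p.2) * u (xr (π.symm z) p.2)) from mul_assoc _ _ _ |>.symm, ← hga]
    simp only [g]
    linear_combination -(φ (chi p.1 (π.symm z)) * d (π.symm z) * u (xr (π.symm z) p.2)) * hd4 (xr (π.symm z) p.2)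
  rw [subgroupNormalizer, Subgroup.mem_normalizer_iff]
  exact fun x => ⟨key h hh x, fun hx => by simpa [mul_assoc] using key h⁻¹ (H.inv_mem hh) _ hx⟩

end Cfsg.Lib.Classical.Aschbacher
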