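import Cfsg.Agent.Classical.Aschbacher.UnitTypes
import Cfsg.Agent.Classical.Unitary.SympSubMatrix

/-! Over at most nine elements the stabiliser in `SU₄` of a pair of totally isotropic planes is a subfield group. -/

set_option autoImplicit false
set_option linter.unusedSimpArgs false
set_option linter.unusedSectionVars false
set_option linter.style.haveILetI false

namespace Cfsg.Lib.Classical.Aschbacher

open Matrix Cfsg.Geo
open scoped MatrixGroups
open Cfsg.Lib.Classical.PrimeDim (frob frob_apply frob_frob two_le_q exists_char_card exists_skew finrank_pi_card powField mem_powField card_powField)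

universe u

variable {F : Type u} [Field F] [Fintype F] {q : ℕ}

set_option maxHeartbeats 2000000 in
theorem subfield_of_pair_four (hF : Fintype.card F = q ^ 2) (hq : q ≤ 3) {H : Subgroup (GL (Fin 4) F)}
    (hH : H ≤ Cfsg.GU 4 F q ⊓ specialLinear (Fin 4) F) {D : Fin 2 → Submodule F (Fin 4 → F)}
    (hD : IsMDecomposition 2 D) (hs : ∀ i, IsTotallySingularFor (Cfsg.hermForm 4 F q) (D i))
    (hle : H ≤ decompositionStabilizer D) :
    ∃ (F₀ : Subfield F) (P : GL (Fin 4) F) (ζ : F), Fintype.card F = Nat.card F₀ ^ 2 ∧ ζ ≠ 0 ∧ ζ + ζ ^ q = 0 ∧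
      IsFormRationalStructure (Cfsg.hermForm 4 F q) F₀ ζ P ∧
      (∀ u : Fin 4 → F, (∀ i, u i ∈ F₀) → Cfsg.hermForm 4 F q
        ((P : Matrix (Fin 4) (Fin 4) F) *ᵥ u) ((P : Matrix (Fin 4) (Fin 4) F) *ᵥ u) = 0) ∧
      H ≤ subfieldSubgroup F₀ P := by
  classical
  have hf := herm_refl (n := 4) hF
  have h2q := two_le_q hF
  set σ := frob hF with hσ
  have hσσ : ∀ x, σ (σ x) = x := fun x => frob_frob hF x
  -- the fixed field
  let F₀ : Subfield F := (σ : F →+* F).eqLocusField (RingHom.id F)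
  have hmem : ∀ x, x ∈ F₀ ↔ σ x = x := fun x => Iff.rfl
  have hcard : Fintype.card F = Nat.card F₀ ^ 2 := by
    obtain ⟨p, f, hp, hchar, hf0, hc⟩ := exists_char_card F
    haveI := Fact.mk hp
    obtain ⟨a, -, ha⟩ := (Nat.dvd_prime_pow hp).mp (show q ∣ p ^ f from ⟨q, by
      rw [← hc, Nat.card_eq_fintype_card, hF]; ring⟩)
    have hfa : f = a * 2 := by
      rw [Nat.card_eq_fintype_card, hF, ha, ← pow_mul] at hc
      exact (Nat.pow_right_injective hp.two_le hc).symm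
    have e : F₀ = powField F p a := SetLike.ext fun x => by
      rw [hmem, mem_powField, hσ, frob_apply, ha]
    have ha0 : 0 < a := by omega
    rw [e, card_powField ha0 hc ⟨2, hfa⟩, ← ha, hF]
  -- coordinates
  let e : Fin 2 → (Fin 4 → F) := fun i => (Module.finBasisOfFinrankEq F (D 0) (hD.finrank_eq 0) i : D 0)
  have he : ∀ i, e i ∈ D 0 := fun i => SetLike.coe_mem _
  have hesp : ∀ x ∈ D 0, ∃ c : Fin 2 → F, x = c 0 • e 0 + c 1 • e 1 := fun x hx => by
    let b := Module.finBasisOfFinrankEq F (D 0) (hD.finrank_eq 0)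
    refine ⟨fun i => b.repr ⟨x, hx⟩ i, ?_⟩
    have := congrArg Subtype.val (b.sum_repr ⟨x, hx⟩)
    rw [Fin.sum_univ_two] at this
    exact this.symm
  have heli : ∀ a b : F, a • e 0 + b • e 1 = 0 → a = 0 ∧ b = 0 := fun a b h => by
    let bb := Module.finBasisOfFinrankEq F (D 0) (hD.finrank_eq 0)
    have h1 := Fintype.linearIndependent_iff.mp bb.linearIndependent ![a, b] (Subtype.ext (by
      rw [Fin.sum_univ_two]; exact h))
    exact ⟨h1 0, h1 1⟩
  have hsplit : ∀ x, ∃ u ∈ D 0, ∃ v ∈ D 1, x = u + v := fun x => by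
    have hx : x ∈ ⨆ i, D i := by rw [show (⨆ i, D i) = ⊤ from hD.iSup_eq_top]; exact Submodule.mem_top
    rw [show (⨆ i, D i) = D 0 ⊔ D 1 from le_antisymm (iSup_le fun i => by
      fin_cases i <;> [exact le_sup_left; exact le_sup_right]) (sup_le (le_iSup D 0) (le_iSup D 1))] at hx
    obtain ⟨u, hu, v, hv, h⟩ := Submodule.mem_sup.mp hx
    exact ⟨u, hu, v, hv, h.symm⟩
  let L : D 1 →ₗ[F] (Fin 2 → F) :=
    { toFun := fun x i => Cfsg.hermForm 4 F q (x : Fin 4 → F) (e i)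
      map_add' := fun x y => funext fun i => by rw [Submodule.coe_add, hf.add_left]; rfl
      map_smul' := fun c x => funext fun i => by rw [Submodule.coe_smul, hf.smul_left]; rfl }
  have hLi : Function.Injective L := (injective_iff_map_eq_zero L).mpr fun x hx => by
    by_contra hx0
    obtain ⟨y, hy⟩ := (hf.nondegenerate (x : Fin 4 → F) fun h => hx0 (Subtype.ext h)).2
    refine hy ?_
    obtain ⟨u, hu, v, hv, rfl⟩ := hsplit y
    obtain ⟨c, rfl⟩ := hesp u hu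
    rw [hf.add_right, hf.add_right, hf.smul_right, hf.smul_right, hs 1 x x.2 v hv,
      show Cfsg.hermForm 4 F q (x : Fin 4 → F) (e 0) = 0 from congrFun hx 0,
      show Cfsg.hermForm 4 F q (x : Fin 4 → F) (e 1) = 0 from congrFun hx 1]
    simp
  have hLs : Function.Surjective L :=
    (LinearMap.injective_iff_surjective_of_finrank_eq_finrank (by rw [hD.finrank_eq, finrank_pi_card, Fintype.card_fin])).mp hLi
  obtain ⟨⟨g0, hg0m⟩, hg0⟩ := hLs ![0, -1]
  obtain ⟨⟨g1, hg1m⟩, hg1⟩ := hLs ![1, 0]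
  have a00 : Cfsg.hermForm 4 F q g0 (e 0) = 0 := congrFun hg0 0
  have a01 : Cfsg.hermForm 4 F q g0 (e 1) = -1 := congrFun hg0 1
  have a10 : Cfsg.hermForm 4 F q g1 (e 0) = 1 := congrFun hg1 0
  have a11 : Cfsg.hermForm 4 F q g1 (e 1) = 0 := congrFun hg1 1
  have hherm : ∀ u v, Cfsg.hermForm 4 F q u v = σ (Cfsg.hermForm 4 F q v u) := fun u v => by
    have := hf.herm v u; rwa [one_mul] at this
  have b00 : Cfsg.hermForm 4 F q (e 0) g0 = 0 := by rw [hherm, a00, map_zero]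
  have b10 : Cfsg.hermForm 4 F q (e 1) g0 = -1 := by rw [hherm, a01, map_neg, map_one]
  have b01 : Cfsg.hermForm 4 F q (e 0) g1 = 1 := by rw [hherm, a10, map_one]
  have b11 : Cfsg.hermForm 4 F q (e 1) g1 = 0 := by rw [hherm, a11, map_zero]
  let lin : F → F → F → F → (Fin 4 → F) := fun a b c d => a • e 0 + b • e 1 + (c • g0 + d • g1)
  have hlin : ∀ a b c d a' b' c' d', Cfsg.hermForm 4 F q (lin a b c d) (lin a' b' c' d') =
      a * σ d' - b * σ c' + (d * σ a' - c * σ b') := by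
    intro a b c d a' b' c' d'
    simp only [lin, hf.add_left, hf.add_right, hf.smul_left, hf.smul_right, hs 0 _ (he 0) _ (he 0), hs 0 _ (he 0) _ (he 1),
      hs 0 _ (he 1) _ (he 0), hs 0 _ (he 1) _ (he 1), hs 1 _ hg0m _ hg0m, hs 1 _ hg0m _ hg1m, hs 1 _ hg1m _ hg0m,
      hs 1 _ hg1m _ hg1m, a00, a01, a10, a11, b00, b10, b01, b11, ← hσ]
    ring
  have hlin0 : ∀ a b c d, lin a b c d = 0 → a = 0 ∧ b = 0 ∧ c = 0 ∧ d = 0 := by
    intro a b c d h
    have t1 := hlin a b c d 1 0 0 0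
    have t2 := hlin a b c d 0 1 0 0
    have t3 := hlin a b c d 0 0 1 0
    have t4 := hlin a b c d 0 0 0 1
    rw [h, hf.zero_left] at t1 t2 t3 t4
    simp only [map_zero, map_one, mul_zero, mul_one, sub_zero, add_zero, zero_sub, zero_add] at t1 t2 t3 t4
    exact ⟨t4.symm, by linear_combination t3, by linear_combination t2, t1.symm⟩
  have hg1sp : ∀ x ∈ D 1, ∃ c : Fin 2 → F, x = c 0 • g0 + c 1 • g1 := fun x hx => by
    refine ⟨![-(L ⟨x, hx⟩ 1), L ⟨x, hx⟩ 0], ?_⟩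
    have h1 : (⟨x, hx⟩ : D 1) = (-(L ⟨x, hx⟩ 1)) • ⟨g0, hg0m⟩ + L ⟨x, hx⟩ 0 • ⟨g1, hg1m⟩ := hLi (by
      rw [map_add, map_smul, map_smul, hg0, hg1]
      funext i; fin_cases i <;> simp)
    exact congrArg Subtype.val h1
  obtain ⟨lam, hlam⟩ : ∃ x, σ x ≠ x := by
    by_contra hc
    push Not at hc
    have : F₀ = ⊤ := eq_top_iff.mpr fun x _ => (hmem x).mpr (hc x)
    rw [this, Nat.card_congr Subfield.topEquiv.toEquiv, Nat.card_eq_fintype_card] at hcard
    have h1 : 1 < Fintype.card F := Fintype.one_lt_card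
    nlinarith
  let Pm : Matrix (Fin 4) (Fin 4) F := Matrix.of fun x k =>
    ![lin 1 0 1 0, lin lam 0 (σ lam) 0, lin 0 1 0 1, lin 0 lam 0 (σ lam)] k x
  have hPu : ∀ u : Fin 4 → F, Pm *ᵥ u = lin (u 0 + lam * u 1) (u 2 + lam * u 3) (u 0 + σ lam * u 1) (u 2 + σ lam * u 3) := by
    intro u
    funext x
    simp [Pm, lin, Matrix.mulVec, dotProduct, Fin.sum_univ_four]
    ring
  have hdet : Pm.det ≠ 0 := fun h => by
    obtain ⟨u, hu0, hu⟩ := Matrix.exists_mulVec_eq_zero_iff.mpr h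
    rw [hPu] at hu
    obtain ⟨h1, h2, h3, h4⟩ := hlin0 _ _ _ _ hu
    have hne : lam - σ lam ≠ 0 := sub_ne_zero.mpr (Ne.symm hlam)
    have u1 : u 1 = 0 := (mul_eq_zero.mp (show (lam - σ lam) * u 1 = 0 by linear_combination h1 - h3)).resolve_left hne
    have u3 : u 3 = 0 := (mul_eq_zero.mp (show (lam - σ lam) * u 3 = 0 by linear_combination h2 - h4)).resolve_left hne
    rw [u1, mul_zero, add_zero] at h1
    rw [u3, mul_zero, add_zero] at h2
    exact hu0 (funext fun i => by fin_cases i <;> assumption)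
  let P : GL (Fin 4) F := Matrix.GeneralLinearGroup.mkOfDetNeZero Pm hdet
  have hPu₀ : ∀ u : Fin 4 → F, (∀ i, u i ∈ F₀) → ∃ a b, Pm *ᵥ u = lin a b (σ a) (σ b) := fun u hu =>
    ⟨u 0 + lam * u 1, u 2 + lam * u 3, by rw [hPu, map_add, map_add, map_mul, map_mul, (hmem _).mp (hu 0), (hmem _).mp (hu 1), (hmem _).mp (hu 2),
      (hmem _).mp (hu 3)]⟩
  have hfrom : ∀ a b : F, ∃ r : Fin 4 → F, (∀ i, r i ∈ F₀) ∧ Pm *ᵥ r = lin a b (σ a) (σ b) := by
    intro a b
    have hne : lam - σ lam ≠ 0 := sub_ne_zero.mpr (Ne.symm hlam)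
    have hne' : σ lam - lam ≠ 0 := sub_ne_zero.mpr hlam
    let r1 := (a - σ a) / (lam - σ lam)
    let r3 := (b - σ b) / (lam - σ lam)
    refine ⟨![a - lam * r1, r1, b - lam * r3, r3], fun i => (hmem _).mpr ?_, ?_⟩
    · fin_cases i <;> simp [r1, r3, map_sub, map_mul, map_div₀, hσσ] <;> field_simp <;> ring
    · rw [hPu]
      have e0 : a - lam * r1 + σ lam * r1 = σ a := by simp only [r1]; field_simp; ring
      have e2 : b - lam * r3 + σ lam * r3 = σ b := by simp only [r3]; field_simp; ring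
      simp [e0, e2]
  obtain ⟨ζ, hζ0, hζ⟩ := exists_skew hF
  have hζσ : σ ζ = -ζ := by rw [← hσ] at hζ; linear_combination hζ
  have hform : ∀ u v : Fin 4 → F, (∀ i, u i ∈ F₀) → (∀ i, v i ∈ F₀) → ∃ a b a' b',
      Cfsg.hermForm 4 F q (Pm *ᵥ u) (Pm *ᵥ v) = a * b' - b * a' + (σ b * σ a' - σ a * σ b') ∧
      (u = v → a = a' ∧ b = b') := by
    intro u v hu hv
    obtain ⟨a, b, hab⟩ := hPu₀ u hu
    obtain ⟨a', b', hab'⟩ := hPu₀ v hv
    refine ⟨a, b, a', b', by rw [hab, hab', hlin, hσσ, hσσ], fun e => ?_⟩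
    subst e
    have h0 : lin (a - a') (b - b') (σ a - σ a') (σ b - σ b') = 0 := by
      funext x
      have hx := congrFun (hab.symm.trans hab') x
      simp only [lin, Pi.add_apply, Pi.smul_apply, smul_eq_mul, Pi.zero_apply] at hx ⊢
      linear_combination hx
    obtain ⟨h1, h2, -, -⟩ := hlin0 _ _ _ _ h0
    exact ⟨sub_eq_zero.mp h1, sub_eq_zero.mp h2⟩
  refine ⟨F₀, P, ζ, hcard, hζ0, by rw [← hσ] at hζ; rwa [hσ, frob_apply] at hζ, fun u v hu hv => ?_, fun u hu => ?_,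
    fun h hh => ?_⟩
  · obtain ⟨a, b, a', b', e, -⟩ := hform u v hu hv
    show ζ * Cfsg.hermForm 4 F q (Pm *ᵥ u) (Pm *ᵥ v) ∈ F₀
    rw [e, hmem]
    simp only [map_mul, map_add, map_sub, hσσ, hζσ]
    ring
  · obtain ⟨a, b, a', b', e, hh⟩ := hform u u hu hu
    obtain ⟨rfl, rfl⟩ := hh rfl
    show Cfsg.hermForm 4 F q (Pm *ᵥ u) (Pm *ᵥ u) = 0
    rw [e]; ring
  rw [Cfsg.Lib.Classical.mem_subfieldSubgroup_iff]
  -- the action on the coordinates
  suffices hact : ∃ (A : F → F → F) (B : F → F → F) (ε : F), ε * ε = 1 ∧ σ ε = ε ∧ ∀ a b,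
      (h : Matrix (Fin 4) (Fin 4) F) *ᵥ lin a b (σ a) (σ b) = lin (A a b) (B a b) (ε * σ (A a b)) (ε * σ (B a b)) by
    obtain ⟨A, B, ε, hε, hεσ, hact⟩ := hact
    obtain ⟨s, hs0, hsσ⟩ : ∃ s : F, s ≠ 0 ∧ σ s = ε * s := by
      rcases mul_self_eq_one_iff.mp hε with e | e
      · exact ⟨1, one_ne_zero, by rw [e, map_one, mul_one]⟩
      · exact ⟨ζ, hζ0, by rw [e, hζσ, neg_one_mul]⟩
    refine ⟨s⁻¹, inv_ne_zero hs0, fun u hu => ?_⟩
    obtain ⟨a, b, hab⟩ := hPu₀ u hu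
    obtain ⟨r, hr, hre⟩ := hfrom (s * A a b) (s * B a b)
    refine ⟨r, hr, ?_⟩
    show (h : Matrix (Fin 4) (Fin 4) F) *ᵥ (Pm *ᵥ u) = s⁻¹ • (Pm *ᵥ r)
    rw [hab, hre, hact, map_mul, map_mul, hsσ]
    funext x
    simp only [lin, Pi.add_apply, Pi.smul_apply, smul_eq_mul]
    field_simp
  have hdeth : (h : Matrix (Fin 4) (Fin 4) F).det = 1 := congrArg Units.val (hH hh).2
  have hisoh := Cfsg.Lib.Classical.PrimeDim.mem_GU_iff.mp (hH hh).1
  let φ : Fin 4 ≃ Fin 2 ⊕ Fin 2 := (finSumFinEquiv (m := 2) (n := 2)).symm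
  let Φ : Matrix (Fin 4) (Fin 2 ⊕ Fin 2) F := Matrix.of fun x k => Sum.elim (fun i => e i) (fun i => ![g0, g1] i) k x
  have hΦu : ∀ w : Fin 2 ⊕ Fin 2 → F, Φ *ᵥ w = lin (w (.inl 0)) (w (.inl 1)) (w (.inr 0)) (w (.inr 1)) := by
    intro w
    funext x
    simp [Φ, lin, Matrix.mulVec, dotProduct, Fintype.sum_sum_type, Fin.sum_univ_two]
    ring
  have hΦd : (Φ.submatrix id φ).det ≠ 0 := fun h0 => by
    obtain ⟨u, hu0, hu⟩ := Matrix.exists_mulVec_eq_zero_iff.mpr h0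
    have hu' : Φ *ᵥ (u ∘ φ.symm) = 0 := by
      rw [← hu, Matrix.submatrix_mulVec_equiv]; rfl
    rw [hΦu] at hu'
    obtain ⟨h1, h2, h3, h4⟩ := hlin0 _ _ _ _ hu'
    refine hu0 (funext fun i => ?_)
    rcases hi : φ i with j | j <;> fin_cases j <;>
      · have := congrArg φ.symm hi
        rw [Equiv.symm_apply_apply] at this
        rw [this]
        first | exact h1 | exact h2 | exact h3 | exact h4
  have hdetM : ∀ M : Matrix (Fin 2 ⊕ Fin 2) (Fin 2 ⊕ Fin 2) F,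
      (∀ k, (h : Matrix (Fin 4) (Fin 4) F) *ᵥ (Φ *ᵥ Pi.single k 1) = Φ *ᵥ (M *ᵥ Pi.single k 1)) → M.det = 1 := by
    intro M hM
    have e1 : (h : Matrix (Fin 4) (Fin 4) F) * Φ.submatrix id φ = Φ.submatrix id φ * M.submatrix φ φ := by
      have : (h : Matrix (Fin 4) (Fin 4) F) * Φ = Φ * M := Matrix.toLin'.injective
        ((Pi.basisFun F _).ext fun k => by
          simp only [Pi.basisFun_apply, Matrix.toLin'_apply, ← Matrix.mulVec_mulVec]
          exact hM k)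
      rw [Matrix.submatrix_mul_equiv, ← this]
      rfl
    have e2 := congrArg Matrix.det e1
    rw [Matrix.det_mul, Matrix.det_mul, hdeth, one_mul, Matrix.det_submatrix_equiv_self] at e2
    exact (mul_eq_left₀ hΦd).mp e2.symm
  obtain ⟨π, hπ⟩ := hle hh
  have him : ∀ i, ∀ x ∈ D i, (h : Matrix (Fin 4) (Fin 4) F) *ᵥ x ∈ D (π i) := fun i x hx => by
    rw [← hπ i]; exact ⟨x, hx, Matrix.toLin'_apply _ _⟩
  have hπ01 : π 0 = 0 ∧ π 1 = 1 ∨ π 0 = 1 ∧ π 1 = 0 := by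
    have hne : π 0 ≠ π 1 := fun e => absurd (π.injective e) (by decide)
    omega
  have hfix : ∀ x : F, x ^ q = x → x = 0 ∨ x * x = 1 := fun x hx => by
    rcases eq_or_ne x 0 with e | e
    · exact Or.inl e
    right
    rcases (show q = 2 ∨ q = 3 by omega) with hq' | hq' <;> rw [hq'] at hx
    · have : x = 1 := mul_left_cancel₀ e (by rw [mul_one, ← pow_two]; exact hx)
      rw [this, one_mul]
    · exact mul_left_cancel₀ e (by rw [mul_one]; linear_combination hx)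
  rcases hπ01 with ⟨p0, p1⟩ | ⟨p0, p1⟩
  · obtain ⟨cA, hA⟩ : ∃ A : Fin 2 → Fin 2 → F, ∀ i, (h : Matrix (Fin 4) (Fin 4) F) *ᵥ e i = A i 0 • e 0 + A i 1 • e 1 := by
      choose A hA using fun i => hesp _ (p0 ▸ him 0 (e i) (he i))
      exact ⟨A, hA⟩
    obtain ⟨c₀, hC0⟩ := hg1sp _ (p1 ▸ him 1 g0 hg0m)
    obtain ⟨c₁, hC1⟩ := hg1sp _ (p1 ▸ him 1 g1 hg1m)
    have e00 := hisoh (e 0) g0
    have e10 := hisoh (e 1) g0
    have e01 := hisoh (e 0) g1
    have e11 := hisoh (e 1) g1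
    have hk : ∀ a b c d, Cfsg.hermForm 4 F q (a • e 0 + b • e 1) (c • g0 + d • g1) = a * σ d - b * σ c :=
      fun a b c d => by
        have := hlin a b 0 0 0 0 c d
        simpa [lin] using this
    rw [hA, hC0, hk, b00] at e00
    rw [hA, hC0, hk, b10] at e10
    rw [hA, hC1, hk, b01] at e01
    rw [hA, hC1, hk, b11] at e11
    obtain ⟨δ, hδ⟩ : ∃ δ, δ = cA 0 0 * cA 1 1 - cA 1 0 * cA 0 1 := ⟨_, rfl⟩
    have r00 : δ * σ (c₀ 0) = cA 0 0 := by rw [hδ]; linear_combination -cA 0 0 * e10 + cA 1 0 * e00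
    have r10 : δ * σ (c₀ 1) = cA 0 1 := by rw [hδ]; linear_combination -cA 0 1 * e10 + cA 1 1 * e00
    have r01 : δ * σ (c₁ 0) = cA 1 0 := by rw [hδ]; linear_combination -cA 0 0 * e11 + cA 1 0 * e01
    have r11 : δ * σ (c₁ 1) = cA 1 1 := by rw [hδ]; linear_combination -cA 0 1 * e11 + cA 1 1 * e01
    have hdetC := hdetM (Matrix.fromBlocks !![cA 0 0, cA 1 0; cA 0 1, cA 1 1] 0 0 !![c₀ 0, c₁ 0; c₀ 1, c₁ 1])
      (fun k => by
        rw [Matrix.mulVec_single_one, Matrix.mulVec_single_one, hΦu]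
        rcases k with k | k <;> fin_cases k <;>
          simp [lin, Φ, Matrix.col, Matrix.transpose, hA, hC0, hC1] <;> first | exact hA _ | exact hC0 | exact hC1)
    rw [Matrix.det_fromBlocks_zero₂₁, Matrix.det_fin_two_of, Matrix.det_fin_two_of] at hdetC
    have hδ0 : δ ≠ 0 := fun e0 => by
      rw [show cA 0 0 * cA 1 1 - cA 1 0 * cA 0 1 = δ from hδ.symm, e0, zero_mul] at hdetC
      exact zero_ne_one hdetC
    have hδC : δ * (σ (c₀ 0) * σ (c₁ 1) - σ (c₁ 0) * σ (c₀ 1)) = 1 := by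
      refine mul_left_cancel₀ hδ0 ?_
      rw [mul_one]
      linear_combination (δ * σ (c₁ 1)) * r00 + cA 0 0 * r11 - (δ * σ (c₀ 1)) * r01 - cA 1 0 * r10 - hδ
    have hδσ : σ δ = δ := by
      have h1 := congrArg σ hδC
      rw [map_mul, map_sub, map_mul, map_mul, hσσ, hσσ, hσσ, hσσ, map_one] at h1
      have h2 : δ * (c₀ 0 * c₁ 1 - c₁ 0 * c₀ 1) = 1 := by rw [hδ]; exact hdetC
      exact mul_right_cancel₀ (fun e0 => by rw [e0, mul_zero] at h2; exact zero_ne_one h2) (h1.trans h2.symm)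
    have hδδ : δ * δ = 1 := (hfix δ (by rw [← frob_apply hF]; exact hδσ)).resolve_left hδ0
    refine ⟨fun a b => a * cA 0 0 + b * cA 1 0, fun a b => a * cA 0 1 + b * cA 1 1, δ, hδδ, hδσ, fun a b => ?_⟩
    have s00 : c₀ 0 = δ * σ (cA 0 0) := by rw [← r00, map_mul, hσσ, hδσ, ← mul_assoc, hδδ, one_mul]
    have s10 : c₀ 1 = δ * σ (cA 0 1) := by rw [← r10, map_mul, hσσ, hδσ, ← mul_assoc, hδδ, one_mul]
    have s01 : c₁ 0 = δ * σ (cA 1 0) := by rw [← r01, map_mul, hσσ, hδσ, ← mul_assoc, hδδ, one_mul]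
    have s11 : c₁ 1 = δ * σ (cA 1 1) := by rw [← r11, map_mul, hσσ, hδσ, ← mul_assoc, hδδ, one_mul]
    simp only [lin, Matrix.mulVec_add, Matrix.mulVec_smul, hA, hC0, hC1, map_add, map_mul, s00, s10, s01, s11]
    module
  · obtain ⟨cA, hA⟩ : ∃ A : Fin 2 → Fin 2 → F, ∀ i, (h : Matrix (Fin 4) (Fin 4) F) *ᵥ e i = A i 0 • g0 + A i 1 • g1 := by
      choose A hA using fun i => hg1sp _ (p0 ▸ him 0 (e i) (he i))
      exact ⟨A, hA⟩
    obtain ⟨c₀, hC0⟩ := hesp _ (p1 ▸ him 1 g0 hg0m)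
    obtain ⟨c₁, hC1⟩ := hesp _ (p1 ▸ him 1 g1 hg1m)
    have e00 := hisoh (e 0) g0
    have e10 := hisoh (e 1) g0
    have e01 := hisoh (e 0) g1
    have e11 := hisoh (e 1) g1
    have hk : ∀ c d a' b', Cfsg.hermForm 4 F q (c • g0 + d • g1) (a' • e 0 + b' • e 1) = d * σ a' - c * σ b' :=
      fun c d a' b' => by
        have := hlin 0 0 c d a' b' 0 0
        simpa [lin] using this
    rw [hA, hC0, hk, b00] at e00
    rw [hA, hC0, hk, b10] at e10
    rw [hA, hC1, hk, b01] at e01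
    rw [hA, hC1, hk, b11] at e11
    obtain ⟨δ, hδ⟩ : ∃ δ, δ = cA 0 0 * cA 1 1 - cA 1 0 * cA 0 1 := ⟨_, rfl⟩
    have r00 : δ * σ (c₀ 0) = -cA 0 0 := by rw [hδ]; linear_combination cA 0 0 * e10 - cA 1 0 * e00
    have r10 : δ * σ (c₀ 1) = -cA 0 1 := by rw [hδ]; linear_combination cA 0 1 * e10 - cA 1 1 * e00
    have r01 : δ * σ (c₁ 0) = -cA 1 0 := by rw [hδ]; linear_combination cA 0 0 * e11 - cA 1 0 * e01
    have r11 : δ * σ (c₁ 1) = -cA 1 1 := by rw [hδ]; linear_combination cA 0 1 * e11 - cA 1 1 * e01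
    let Cm : Matrix (Fin 2) (Fin 2) F := !![c₀ 0, c₁ 0; c₀ 1, c₁ 1]
    let Am : Matrix (Fin 2) (Fin 2) F := !![cA 0 0, cA 1 0; cA 0 1, cA 1 1]
    have hdetC := hdetM (Matrix.fromBlocks 0 Cm Am 0)
      (fun k => by
        rw [Matrix.mulVec_single_one, Matrix.mulVec_single_one, hΦu]
        rcases k with k | k <;> fin_cases k <;>
          simp [lin, Φ, Am, Cm, Matrix.col, Matrix.transpose, hA, hC0, hC1] <;> first | exact hA _ | exact hC0 | exact hC1)
    have hswap : (Matrix.fromBlocks 0 Cm Am 0).det = Cm.det * Am.det := by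
      have e1 : Matrix.fromBlocks 0 Cm Am 0 = Matrix.fromBlocks Cm 0 0 Am *
          (Matrix.fromBlocks 1 1 0 1 * Matrix.fromBlocks 1 0 (-1) 1 * Matrix.fromBlocks 1 1 0 1 *
            Matrix.fromBlocks (-1) 0 0 1) := by
        simp [Matrix.fromBlocks_multiply]
      rw [e1]
      simp [Matrix.det_mul, Matrix.det_fromBlocks_zero₂₁, Matrix.det_fromBlocks_zero₁₂, Matrix.det_neg]
    rw [hswap, Matrix.det_fin_two_of, Matrix.det_fin_two_of] at hdetC
    have hδ0 : δ ≠ 0 := fun e0 => by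
      rw [show cA 0 0 * cA 1 1 - cA 1 0 * cA 0 1 = δ from hδ.symm, e0, mul_zero] at hdetC
      exact zero_ne_one hdetC
    have hδC : δ * (σ (c₀ 0) * σ (c₁ 1) - σ (c₁ 0) * σ (c₀ 1)) = 1 := by
      refine mul_left_cancel₀ hδ0 ?_
      rw [mul_one]
      linear_combination (δ * σ (c₁ 1)) * r00 - cA 0 0 * r11 - (δ * σ (c₀ 1)) * r01 + cA 1 0 * r10 - hδ
    have hδσ : σ δ = δ := by
      have h1 := congrArg σ hδC
      rw [map_mul, map_sub, map_mul, map_mul, hσσ, hσσ, hσσ, hσσ, map_one] at h1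
      have h2 : δ * (c₀ 0 * c₁ 1 - c₁ 0 * c₀ 1) = 1 := by rw [hδ, mul_comm]; exact hdetC
      exact mul_right_cancel₀ (fun e0 => by rw [e0, mul_zero] at h2; exact zero_ne_one h2) (h1.trans h2.symm)
    have hδδ : δ * δ = 1 := (hfix δ (by rw [← frob_apply hF]; exact hδσ)).resolve_left hδ0
    refine ⟨fun a b => σ a * c₀ 0 + σ b * c₁ 0, fun a b => σ a * c₀ 1 + σ b * c₁ 1, -δ, by rw [neg_mul_neg, hδδ],
      by rw [map_neg, hδσ], fun a b => ?_⟩
    have s00 : cA 0 0 = -(δ * σ (c₀ 0)) := by rw [r00, neg_neg]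
    have s10 : cA 0 1 = -(δ * σ (c₀ 1)) := by rw [r10, neg_neg]
    have s01 : cA 1 0 = -(δ * σ (c₁ 0)) := by rw [r01, neg_neg]
    have s11 : cA 1 1 = -(δ * σ (c₁ 1)) := by rw [r11, neg_neg]
    simp only [lin, Matrix.mulVec_add, Matrix.mulVec_smul, hA, hC0, hC1, map_add, map_mul, hσσ, s00, s10, s01, s11]
    module

end Cfsg.Lib.Classical.Aschbacher
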