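import Cfsg.Agent.Classical.Aschbacher.UnitSympType
import Cfsg.Agent.Classical.Aschbacher.UnitCube
import Cfsg.Agent.Classical.Aschbacher.FormWreath
import Cfsg.Agent.Classical.Unitary.Matrix
import Cfsg.Agent.Classical.Unitary.SympSubMatrix

/-! Tensor decompositions stabilised by subgroups of the unitary groups. -/

set_option autoImplicit false
set_option linter.unusedSimpArgs false
set_option linter.unusedSectionVars false
set_option linter.style.haveILetI false

namespace Cfsg.Lib.Classical.Aschbacher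

open Matrix Cfsg.Geo
open scoped MatrixGroups Kronecker
open Cfsg.Lib.Classical.PrimeDim (frob frob_apply frob_frob frob_ne_refl exists_skew gl_det_ne_zero val_inv_mul
  val_mul_inv powField mem_powField card_powField exists_char_card two_le_q)

universe u

variable {F : Type u} [Field F] [Fintype F] {q : ℕ}

/-- Hermitian matrices are congruent to the identity. -/
theorem exists_congr_one (hF : Fintype.card F = q ^ 2) {k : ℕ} {X : Matrix (Fin k) (Fin k) F} (hd : X.det ≠ 0)
    (hh : Xᵀ = X.map (frob hF)) : ∃ A : GL (Fin k) F,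
      (A : Matrix (Fin k) (Fin k) F)ᵀ * X * (A : Matrix (Fin k) (Fin k) F).map (frob hF) = 1 := by
  classical
  have hu := unitaryFormPow_matForm hF hd hh
  let S : Cfsg.Lib.Classical.HermSpace F (Fin k → F) :=
    { σ := Cfsg.Lib.Classical.powConj hF
      h := matForm (frob hF) X
      conj := Cfsg.Lib.Classical.powConj_isConj hF
      add_left := hu.add_left
      smul_left := hu.smul_left
      symm := fun x y => by rw [Cfsg.Lib.Classical.powConj_apply]; exact hu.herm x y
      nondeg := fun v hv => by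
        by_contra hv0
        obtain ⟨x, hx⟩ := (hu.nondegenerate v hv0).1
        exact hx (hv x) }
  obtain ⟨b, hb⟩ := Cfsg.Lib.Classical.HermSpace.orthonormal_aux k S
    (by rw [Module.finrank_pi, Fintype.card_fin])
  let A : Matrix (Fin k) (Fin k) F := Matrix.of fun i j => b j i
  have hA : Aᵀ * X * A.map (frob hF) = 1 := by
    ext i j
    have h1 : matForm (frob hF) X (b i) (b j) = if i = j then 1 else 0 := hb i j
    rw [Matrix.one_apply, ← h1, matForm, Matrix.mul_assoc, Matrix.mul_apply, dotProduct]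
    refine Finset.sum_congr rfl fun l _ => ?_
    rw [Matrix.mul_apply]
    rfl
  have hAd : A.det ≠ 0 := fun e => by
    have := congrArg Matrix.det hA
    rw [Matrix.det_mul, Matrix.det_mul, Matrix.det_transpose, e, zero_mul, zero_mul, Matrix.det_one] at this
    exact zero_ne_one this
  exact ⟨Matrix.GeneralLinearGroup.mkOfDetNeZero A hAd, hA⟩

/-- Hermitian matrices of the same degree are congruent. -/
theorem exists_congr (hF : Fintype.card F = q ^ 2) {k : ℕ} {X Y : Matrix (Fin k) (Fin k) F} (hX : X.det ≠ 0)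
    (hXh : Xᵀ = X.map (frob hF)) (hY : Y.det ≠ 0) (hYh : Yᵀ = Y.map (frob hF)) : ∃ A : GL (Fin k) F,
      (A : Matrix (Fin k) (Fin k) F)ᵀ * X * (A : Matrix (Fin k) (Fin k) F).map (frob hF) = Y := by
  obtain ⟨A, hA⟩ := exists_congr_one hF hX hXh
  obtain ⟨B, hB⟩ := exists_congr_one hF hY hYh
  refine ⟨A * B⁻¹, ?_⟩
  rw [Units.val_mul, Matrix.transpose_mul, Matrix.map_mul]
  calc _ = ((B⁻¹ : GL (Fin k) F) : Matrix (Fin k) (Fin k) F)ᵀ *
        ((A : Matrix (Fin k) (Fin k) F)ᵀ * X * (A : Matrix (Fin k) (Fin k) F).map (frob hF)) *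
        ((B⁻¹ : GL (Fin k) F) : Matrix (Fin k) (Fin k) F).map (frob hF) := by simp only [Matrix.mul_assoc]
    _ = ((B : Matrix (Fin k) (Fin k) F) * ((B⁻¹ : GL (Fin k) F) : Matrix (Fin k) (Fin k) F))ᵀ * Y *
        ((B : Matrix (Fin k) (Fin k) F) * ((B⁻¹ : GL (Fin k) F) : Matrix (Fin k) (Fin k) F)).map (frob hF) := by
        rw [hA, ← hB, Matrix.transpose_mul, Matrix.map_mul]; simp only [Matrix.mul_assoc]
    _ = Y := by
        rw [val_mul_inv, Matrix.transpose_one, Matrix.map_one _ (map_zero _) (map_one _), Matrix.one_mul, Matrix.mul_one]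

theorem congr_det_ne_zero {k : ℕ} {σ : F ≃+* F} {X : Matrix (Fin k) (Fin k) F} (hX : X.det ≠ 0) (A : GL (Fin k) F) :
    ((A : Matrix (Fin k) (Fin k) F)ᵀ * X * (A : Matrix (Fin k) (Fin k) F).map σ).det ≠ 0 := by
  rw [Matrix.det_mul, Matrix.det_mul, Matrix.det_transpose]
  refine mul_ne_zero (mul_ne_zero (gl_det_ne_zero A) hX) ?_
  rw [show ((A : Matrix (Fin k) (Fin k) F).map σ).det = σ (A : Matrix (Fin k) (Fin k) F).det from
    ((σ : F →+* F).map_det _).symm]
  exact (map_ne_zero σ).mpr (gl_det_ne_zero A)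

variable {ι : Type} [Fintype ι] [DecidableEq ι]

/-- Change of the factor basis in a tensor power. -/
theorem WreathForm.congr {σ : F ≃+* F} {f : (ι → F) → (ι → F) → F} {H : Subgroup (GL ι F)} {t k : ℕ}
    {Φ : Matrix ι (Fin t → Fin k) F} {Ψ : Matrix (Fin t → Fin k) ι F} {X : Matrix (Fin k) (Fin k) F} {c : F}
    (hW : WreathForm σ f H Φ Ψ X c) (A : GL (Fin k) F) :
    WreathForm σ f H
      (Φ * (piKron (d := fun _ => k) fun _ => (A : Matrix (Fin k) (Fin k) F) : Matrix (Fin t → Fin k) (Fin t → Fin k) F))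
      ((piKron (d := fun _ => k) fun _ => ((A⁻¹ : GL (Fin k) F) : Matrix (Fin k) (Fin k) F) :
        Matrix (Fin t → Fin k) (Fin t → Fin k) F) * Ψ)
      ((A : Matrix (Fin k) (Fin k) F)ᵀ * X * (A : Matrix (Fin k) (Fin k) F).map σ) c where
  coords := hW.coords.comp ⟨(piKronGL (d := fun _ => k) fun _ : Fin t => A).val_inv,
    (piKronGL (d := fun _ => k) fun _ : Fin t => A).inv_val⟩
  two_le_t := hW.two_le_t
  two_le_k := hW.two_le_k
  ne_zero := hW.ne_zero
  gram := by
    set PA := piKron (d := fun _ : Fin t => k) fun _ => (A : Matrix (Fin k) (Fin k) F) with hPA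
    calc _ = PAᵀ * (Φᵀ * gramMatrix f * Φ.map σ) * PA.map σ := by
          rw [Matrix.transpose_mul, Matrix.map_mul]; simp only [Matrix.mul_assoc]
      _ = _ := by
          rw [hW.gram, Matrix.mul_smul, Matrix.smul_mul, hPA, piKron_transpose, piKron_map, piKron_mul, piKron_mul]
          rfl
  det_ne_zero := congr_det_ne_zero hW.det_ne_zero A
  stab h hh := by
    obtain ⟨π, a, ha⟩ := hW.stab h hh
    refine ⟨π, fun i => A⁻¹ * a i * A, ?_⟩
    calc _ = (piKron (d := fun _ => k) fun _ => ((A⁻¹ : GL (Fin k) F) : Matrix (Fin k) (Fin k) F)) *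
          (Ψ * (h : Matrix ι ι F) * Φ) * piKron (d := fun _ => k) fun _ => (A : Matrix (Fin k) (Fin k) F) := by
          simp only [Matrix.mul_assoc]
      _ = _ := by
        have hcm : (piKron (d := fun _ => k) fun _ : Fin t => ((A⁻¹ : GL (Fin k) F) : Matrix (Fin k) (Fin k) F)) *
            permMat F π = permMat F π *
            piKron (d := fun _ => k) (fun _ : Fin t => ((A⁻¹ : GL (Fin k) F) : Matrix (Fin k) (Fin k) F)) := by
          rw [permMat_piKron]
        rw [ha, ← Matrix.mul_assoc _ (permMat F π) _, hcm, Matrix.mul_assoc, Matrix.mul_assoc, piKron_mul, piKron_mul]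
        congr 2
        funext i
        simp only [Pi.mul_apply, Units.val_mul, Matrix.mul_assoc]

theorem piKron_two {k : ℕ} (A : Fin 2 → Matrix (Fin k) (Fin k) F) :
    piKron (d := fun _ => k) A = (A 0 ⊗ₖ A 1).submatrix (fun x => (x 0, x 1)) (fun x => (x 0, x 1)) := by
  ext x y
  rw [piKron_apply, Fin.prod_univ_two]
  rfl

/-- A tensor decomposition with congruent factors is a tensor square. -/
theorem TensorForm.square {σ : F ≃+* F} {f : (ι → F) → (ι → F) → F} {H : Subgroup (GL ι F)} {k : ℕ}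
    {Φ : Matrix ι (Fin k × Fin k) F} {Ψ : Matrix (Fin k × Fin k) ι F} {X₁ X₂ : Matrix (Fin k) (Fin k) F}
    (hT : TensorForm σ f H Φ Ψ X₁ X₂) (A : GL (Fin k) F)
    (hA : (A : Matrix (Fin k) (Fin k) F)ᵀ * X₂ * (A : Matrix (Fin k) (Fin k) F).map σ = X₁) :
    ∃ (Φ' : Matrix ι (Fin 2 → Fin k) F) (Ψ' : Matrix (Fin 2 → Fin k) ι F), WreathForm σ f H Φ' Ψ' X₁ 1 := by
  classical
  let φ : (Fin 2 → Fin k) ≃ Fin k × Fin k := finTwoArrowEquiv (Fin k)
  have hφ : ⇑φ = fun x => (x 0, x 1) := rfl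
  let U : Matrix (Fin k × Fin k) (Fin k × Fin k) F := (1 : Matrix (Fin k) (Fin k) F) ⊗ₖ (A : Matrix (Fin k) (Fin k) F)
  let V : Matrix (Fin k × Fin k) (Fin k × Fin k) F :=
    (1 : Matrix (Fin k) (Fin k) F) ⊗ₖ ((A⁻¹ : GL (Fin k) F) : Matrix (Fin k) (Fin k) F)
  have hUV : Coords U V := ⟨by
      simp only [U, V, ← Matrix.mul_kronecker_mul, Matrix.one_mul, val_mul_inv, Matrix.one_kronecker_one], by
      simp only [U, V, ← Matrix.mul_kronecker_mul, Matrix.one_mul, val_inv_mul, Matrix.one_kronecker_one]⟩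
  have hc := hT.coords.comp hUV
  refine ⟨(Φ * U).submatrix id φ, (V * Ψ).submatrix φ id, ⟨?_, ?_⟩, le_rfl, hT.two_left, one_ne_zero, ?_, hT.det_left,
    fun h hh => ?_⟩
  · rw [Matrix.submatrix_mul_equiv, hc.left, Matrix.submatrix_id_id]
  · rw [← Matrix.submatrix_mul _ _ φ id φ Function.bijective_id, hc.right, Matrix.submatrix_one_equiv]
  · rw [one_smul, piKron_two, ← hφ, Matrix.transpose_submatrix, ← Matrix.submatrix_map]
    rw [show ((Φ * U)ᵀ.submatrix φ id * gramMatrix f * ((Φ * U).map σ).submatrix id φ) =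
      ((Φ * U)ᵀ * gramMatrix f * (Φ * U).map σ).submatrix φ φ from rfl]
    congr 1
    calc (Φ * U)ᵀ * gramMatrix f * (Φ * U).map σ = Uᵀ * (Φᵀ * gramMatrix f * Φ.map σ) * U.map σ := by
          rw [Matrix.transpose_mul, Matrix.map_mul]; simp only [Matrix.mul_assoc]
      _ = _ := by
          rw [hT.gram]
          simp only [U]
          rw [kron_transpose, kron_map, ← Matrix.mul_kronecker_mul, ← Matrix.mul_kronecker_mul, hA, Matrix.transpose_one,
            Matrix.map_one σ (map_zero σ) (map_one σ), Matrix.one_mul, Matrix.mul_one]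
  · obtain ⟨a, b, c, -, hab, -, -⟩ := hT.split h hh
    have hdet := hT.coords.det_conj_ne_zero h
    rw [hab, Matrix.det_kronecker, Fintype.card_fin] at hdet
    have ha : a.det ≠ 0 := fun e => left_ne_zero_of_mul hdet (by rw [e, zero_pow]; have := hT.two_left; omega)
    have hb : b.det ≠ 0 := fun e => right_ne_zero_of_mul hdet (by rw [e, zero_pow]; have := hT.two_left; omega)
    refine ⟨1, ![Matrix.GeneralLinearGroup.mkOfDetNeZero a ha, A⁻¹ * Matrix.GeneralLinearGroup.mkOfDetNeZero b hb * A], ?_⟩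
    rw [show permMat (m := k) F (1 : Equiv.Perm (Fin 2)) = 1 by ext x y; simp [permMat, Matrix.one_apply, eq_comm],
      Matrix.one_mul, piKron_two, ← hφ,
      show (V * Ψ).submatrix φ id * (h : Matrix ι ι F) * (Φ * U).submatrix id φ =
        (V * Ψ * (h : Matrix ι ι F) * (Φ * U)).submatrix φ φ from rfl]
    congr 1
    calc V * Ψ * (h : Matrix ι ι F) * (Φ * U) = V * (Ψ * (h : Matrix ι ι F) * Φ) * U := by simp only [Matrix.mul_assoc]
      _ = _ := by
        rw [hab]
        simp only [U, V, ← Matrix.mul_kronecker_mul, Matrix.one_mul, Matrix.mul_one, Matrix.cons_val_zero,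
          Matrix.cons_val_one, Units.val_mul]
        rfl

/-- Scaling the factors of a tensor decomposition. -/
theorem TensorForm.scale {σ : F ≃+* F} {f : (ι → F) → (ι → F) → F} {H : Subgroup (GL ι F)} {d k : ℕ}
    {Φ : Matrix ι (Fin d × Fin k) F} {Ψ : Matrix (Fin d × Fin k) ι F} {X₁ : Matrix (Fin d) (Fin d) F}
    {X₂ : Matrix (Fin k) (Fin k) F} (hT : TensorForm σ f H Φ Ψ X₁ X₂) {ν : F} (hν : ν ≠ 0) :
    TensorForm σ f H Φ Ψ (ν • X₁) (ν⁻¹ • X₂) where
  coords := hT.coords
  two_left := hT.two_left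
  two_right := hT.two_right
  gram := by rw [hT.gram, Matrix.smul_kronecker, Matrix.kronecker_smul, smul_smul, mul_inv_cancel₀ hν, one_smul]
  det_left := by rw [Matrix.det_smul]; exact mul_ne_zero (pow_ne_zero _ hν) hT.det_left
  det_right := by rw [Matrix.det_smul]; exact mul_ne_zero (pow_ne_zero _ (inv_ne_zero hν)) hT.det_right
  split h hh := by
    obtain ⟨a, b, c, hc, hab, h1, h2⟩ := hT.split h hh
    exact ⟨a, b, c, hc, hab, by rw [Matrix.mul_smul, Matrix.smul_mul, h1, smul_comm],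
      by rw [Matrix.mul_smul, Matrix.smul_mul, h2, smul_comm]⟩

variable {n : ℕ} {H : Subgroup (GL (Fin n) F)}

theorem jTwo_det : (jTwo F).det = 1 := by simp [jTwo, Matrix.det_fin_two]

theorem jTwo_map (σ : F ≃+* F) : (jTwo F).map σ = jTwo F := by
  ext i j; fin_cases i <;> fin_cases j <;> simp [jTwo]

theorem jTwo_transpose : (jTwo F)ᵀ = -jTwo F := by
  ext i j; fin_cases i <;> fin_cases j <;> simp [jTwo]

/-- A stabilised tensor power of planes gives a subfield group of index two. -/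
theorem inULE_of_planes (hF : Fintype.card F = q ^ 2) (hH : H ≤ Cfsg.GU n F q) (hn : 0 < n) {t : ℕ}
    {Φ : Matrix (Fin n) (Fin t → Fin 2) F} {Ψ : Matrix (Fin t → Fin 2) (Fin n) F} {X : Matrix (Fin 2) (Fin 2) F} {c : F}
    (hW : WreathForm (frob hF) (Cfsg.hermForm n F q) H Φ Ψ X c) (hXh : Xᵀ = X.map (frob hF))
    (hcσ : frob hF c = c) : InULE q H := by
  classical
  haveI : Nonempty (Fin n) := ⟨⟨0, hn⟩⟩
  have hf := herm_refl (n := n) hF
  set σ := frob hF with hσdef
  obtain ⟨z, hz0, hz⟩ := exists_skew hF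
  have hσz : σ z = -z := eq_neg_of_add_eq_zero_right hz
  have hYh : (z • jTwo F)ᵀ = (z • jTwo F).map σ := by
    rw [Matrix.transpose_smul, jTwo_transpose, Matrix.map_smulₛₗ σ σ z (fun a => map_mul σ z a), hσz, jTwo_map,
      smul_neg, neg_smul]
  have hYd : (z • jTwo F).det ≠ 0 := by
    rw [Matrix.det_smul, jTwo_det, mul_one]; exact pow_ne_zero _ hz0
  obtain ⟨A, hA⟩ := exists_congr hF hW.det_ne_zero hXh hYd hYh
  have hW' := hW.congr A
  rw [hA] at hW'
  clear hW hA hXh
  obtain ⟨Φ', Ψ', hW⟩ : ∃ Φ' Ψ', WreathForm σ (Cfsg.hermForm n F q) H Φ' Ψ' (z • jTwo F) c := ⟨_, _, hW'⟩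
  clear hW'
  have hc := hW.coords
  -- the fixed field
  obtain ⟨p, f, hp, hchar, hf0, hcF⟩ := exists_char_card F
  haveI := Fact.mk hp
  have hF' : Fintype.card F = p ^ f := by rw [← Nat.card_eq_fintype_card, hcF]
  obtain ⟨m, -, hm⟩ := (Nat.dvd_prime_pow hp).mp
    (by rw [← hF', hF]; exact dvd_pow_self q two_ne_zero : q ∣ p ^ f)
  have hf2 : f = 2 * m := (Nat.pow_right_injective hp.two_le (by
    show p ^ (2 * m) = p ^ f
    rw [← hF', hF, hm, ← pow_mul, mul_comm])).symm
  set F₀ := powField F p m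
  have hfix : ∀ x, x ∈ F₀ ↔ σ x = x := fun x => by rw [hσdef, frob_apply, hm]; exact mem_powField
  have hcard : Fintype.card F = Nat.card F₀ ^ 2 := by
    rw [card_powField (F := F) (by omega) hcF ⟨2, by omega⟩, hF, hm]
  let e : Fin n ≃ (Fin t → Fin 2) := (Fintype.equivFinOfCardEq (hc.card_eq.trans (Fintype.card_fin n))).symm
  let B := hc.toGL e
  -- the group lies in the subfield group
  have hle : H ≤ subfieldSubgroup F₀ B := by
    intro h hh
    obtain ⟨π, a, ha⟩ := hW.stab h hh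
    have h1 := hf.gramIn_fix (gu_fixes hH) hh (hc.act_of_conj ha)
    rw [ReflForm.gramIn, hW.gram, Matrix.mul_smul, Matrix.smul_mul, wreath_congr] at h1
    have hscal : ∀ i, ∃ (s : F) (a₀ : Matrix (Fin 2) (Fin 2) F),
        (∀ x y, a₀ x y ∈ F₀) ∧ (a i : Matrix (Fin 2) (Fin 2) F) = s • a₀ := by
      intro i
      obtain ⟨d, hd, h2⟩ := piKron_eq_piKron (smul_right_injective _ hW.ne_zero h1)
        (fun _ e0 => hYd (by rw [e0, Matrix.det_zero])) i
      set M : Matrix (Fin 2) (Fin 2) F := (a i : Matrix (Fin 2) (Fin 2) F)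
      rw [Matrix.mul_smul, Matrix.smul_mul, smul_comm d] at h2
      have h3 : Mᵀ * jTwo F * M.map σ = Mᵀ * jTwo F * ((d / M.det) • M) := by
        rw [Matrix.mul_smul, jTwo_conj, smul_smul, div_mul_cancel₀ _ (gl_det_ne_zero (a i)),
          smul_right_injective _ hz0 h2]
      have h4 : M.map σ = (d / M.det) • M :=
        ((Matrix.isUnit_iff_isUnit_det _).mpr (isUnit_iff_ne_zero.mpr (by
          rw [Matrix.det_mul, Matrix.det_transpose, jTwo_det, mul_one]; exact gl_det_ne_zero (a i)))).mul_left_cancel h3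
      obtain ⟨x, y, hxy⟩ : ∃ x y, M x y ≠ 0 := by
        by_contra hcn
        push Not at hcn
        exact gl_det_ne_zero (a i) ((congrArg Matrix.det (show M = 0 from Matrix.ext hcn)).trans Matrix.det_zero)
      have h5 : ∀ u v, σ (M u v) = (d / M.det) * M u v := fun u v => congrFun (congrFun h4 u) v
      refine ⟨M x y, (M x y)⁻¹ • M, fun u v => ?_, by rw [smul_smul, mul_inv_cancel₀ hxy, one_smul]⟩
      rw [hfix, Matrix.smul_apply, smul_eq_mul, map_mul, map_inv₀, h5, h5, _root_.mul_inv_rev, mul_assoc,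
        ← mul_assoc _ (d / M.det) (M u v), inv_mul_cancel₀ (div_ne_zero hd (gl_det_ne_zero (a i))), one_mul]
    choose s a₀ ha₀ hsa using hscal
    have hT : Ψ' * (h : Matrix (Fin n) (Fin n) F) * Φ' = (∏ i, s i) • (permMat F π * piKron (d := fun _ => 2) a₀) := by
      rw [ha, funext hsa, piKron_smul (d := fun _ => 2), Matrix.mul_smul]
    have hs0 : (∏ i, s i) ≠ 0 := by
      refine Finset.prod_ne_zero_iff.mpr fun i _ e0 => gl_det_ne_zero (a i) ?_
      rw [hsa, e0, zero_smul, Matrix.det_zero]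
    refine (Cfsg.Lib.Classical.mem_subfieldSubgroup_iff F₀ B h).mpr ⟨_, hs0, fun u hu => ?_⟩
    refine ⟨(fun x => ((permMat F π * piKron (d := fun _ => 2) a₀) *ᵥ (u ∘ e.symm)) x) ∘ e, fun i => ?_, ?_⟩
    · refine sum_mem fun y _ => mul_mem ?_ (hu _)
      show (∑ w, permMat F π (e i) w * piKron (d := fun _ => 2) a₀ w y) ∈ F₀
      refine sum_mem fun w _ => mul_mem ?_ ?_
      · simp only [permMat, Matrix.of_apply]; split_ifs; exacts [one_mem _, zero_mem _]
      · rw [piKron_apply]; exact prod_mem fun j _ => ha₀ j _ _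
    · conv_lhs => rw [show u = (u ∘ e.symm) ∘ e by funext i; simp]
      rw [hc.toGL_mulVec, hc.toGL_mulVec, Matrix.mulVec_mulVec, hc.act_of_conj hT, Matrix.mul_smul, Matrix.smul_mulVec,
        ← Matrix.mulVec_mulVec]
  -- the form
  set J : Matrix (Fin t → Fin 2) (Fin t → Fin 2) F := piKron (d := fun _ => 2) fun _ => jTwo F with hJdef
  obtain ⟨c', hc'⟩ : ∃ c', c' = c * z ^ t := ⟨_, rfl⟩
  have hc'0 : c' ≠ 0 := hc' ▸ mul_ne_zero hW.ne_zero (pow_ne_zero _ hz0)
  have hJ₀ : ∀ x y, J x y ∈ F₀ := fun x y => by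
    show (∏ i, jTwo F (x i) (y i)) ∈ F₀
    refine prod_mem fun i _ => ?_
    rw [hfix, ← Matrix.map_apply (f := σ), jTwo_map]
  have hgram : hf.gramIn (B : Matrix (Fin n) (Fin n) F) = c' • J.submatrix e e := by
    have hG : hf.gramIn Φ' = c' • J := by
      rw [ReflForm.gramIn, hW.gram, piKron_smul (d := fun _ => 2) (fun _ : Fin t => z), Finset.prod_const,
        Finset.card_univ, Fintype.card_fin, smul_smul, hc']
    show _ = (c' • J).submatrix e e
    rw [← hG]
    rfl
  have hrat : IsFormRationalStructure (Cfsg.hermForm n F q) F₀ c'⁻¹ B := fun u v hu hv => by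
    rw [hf.apply_coords, hgram, Matrix.smul_mulVec, dotProduct_smul, smul_eq_mul, ← mul_assoc, inv_mul_cancel₀ hc'0,
      one_mul, dotProduct]
    refine sum_mem fun i _ => mul_mem (hu i) ?_
    show (∑ j, J (e i) (e j) * σ (v j)) ∈ F₀
    refine sum_mem fun j _ => mul_mem (hJ₀ _ _) ?_
    rw [(hfix _).mp (hv j)]
    exact hv j
  have hσc' : σ c' = (-1) ^ t * c' := by rw [hc', map_mul, map_pow, hσz, hcσ, neg_pow]; ring
  have hJT : Jᵀ = (-1 : F) ^ t • J := by
    rw [piKron_transpose, jTwo_transpose,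
      show (fun _ : Fin t => -jTwo F) = fun _ => (-1 : F) • jTwo F from funext fun _ => (neg_one_smul F _).symm,
      piKron_smul (d := fun _ => 2) (fun _ : Fin t => (-1 : F)), Finset.prod_const, Finset.card_univ, Fintype.card_fin]
  have ht : 0 < t := by have := hW.two_le_t; omega
  by_cases hev : Odd q ∧ Even t
  · exact inULE_orth hF hev.1 hcard (inv_ne_zero hc'0) (by
      rw [map_inv₀, ← hσdef, hσc', hev.2.neg_one_pow, one_mul]) hle hrat
  have hsign : (-1 : F) ^ t = -1 := by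
    rw [not_and_or, Nat.not_odd_iff_even, Nat.not_even_iff_odd] at hev
    rcases hev with he | ho
    · have h2 : (2 : F) = 0 := by
        have h2p : 2 ∣ p := Nat.prime_two.dvd_of_dvd_pow (hm ▸ even_iff_two_dvd.mp he)
        obtain rfl := ((Nat.prime_dvd_prime_iff_eq Nat.prime_two hp).mp h2p).symm
        exact CharP.cast_eq_zero F 2
      have h11 : (-1 : F) = 1 := by rw [neg_eq_iff_add_eq_zero, one_add_one_eq_two, h2]
      rw [h11, one_pow]
    · exact ho.neg_one_pow
  refine inULE_symp hF hcard (inv_ne_zero hc'0) ?_ hle hrat ?_ (fun i => ?_) fun x hx => (hfix x).mp hx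
  · rw [map_inv₀, ← hσdef, hσc', hsign, neg_one_mul, inv_neg, add_neg_cancel]
  · rw [hgram, Matrix.transpose_smul, Matrix.transpose_submatrix, hJT, hsign, neg_one_smul, Matrix.submatrix_neg]
    exact smul_neg _ _
  · rw [hgram]
    show c' * (∏ l, jTwo F (e i l) (e i l)) = 0
    rw [Finset.prod_eq_zero (Finset.mem_univ ⟨0, ht⟩), mul_zero]
    generalize e i ⟨0, ht⟩ = x
    fin_cases x <;> simp [jTwo]

/-- A stabilised tensor power of the form gives one of the classes. -/
theorem inULE_of_wreath (hF : Fintype.card F = q ^ 2) (hH : H ≤ Cfsg.GU n F q) (hn : 0 < n) {t k : ℕ}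
    {Φ : Matrix (Fin n) (Fin t → Fin k) F} {Ψ : Matrix (Fin t → Fin k) (Fin n) F} {X : Matrix (Fin k) (Fin k) F} {c : F}
    (hW : WreathForm (frob hF) (Cfsg.hermForm n F q) H Φ Ψ X c) (hXh : Xᵀ = X.map (frob hF))
    (hcσ : frob hF c = c) : InULE q H := by
  classical
  haveI : Nonempty (Fin n) := ⟨⟨0, hn⟩⟩
  rcases eq_or_lt_of_le hW.two_le_k with rfl | h3
  · exact inULE_of_planes hF hH hn hW hXh hcσ
  have hf := herm_refl (n := n) hF
  have hmul : k ^ t = n := by
    have := hW.coords.card_eq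
    rwa [Fintype.card_fun, Fintype.card_fin, Fintype.card_fin, Fintype.card_fin] at this
  by_cases hex : q = 2 ∧ k = 3
  swap
  · let e : Fin n ≃ (Fin t → Fin k) := Fintype.equivOfCardEq (by
      rw [Fintype.card_fun, Fintype.card_fin, Fintype.card_fin, Fintype.card_fin, hmul])
    have hs := hW.structure' hf e
    rw [frob_eq hF] at hs
    exact ⟨_, .wreath k t e _ _ h3 hW.two_le_t hex hmul (unitaryFormPow_matForm hF hW.det_ne_zero hXh) hs,
      hW.le_stabilizer e⟩
  obtain ⟨rfl, rfl⟩ := hex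
  obtain ⟨A, hA⟩ := exists_congr_one hF hW.det_ne_zero hXh
  have hW' := hW.congr A
  rw [hA] at hW'
  clear hW
  obtain ⟨Φ', Ψ', hW⟩ : ∃ Φ' Ψ', WreathForm (frob hF) (Cfsg.hermForm n F 2) H Φ' Ψ' 1 c := ⟨_, _, hW'⟩
  clear hW'
  have hc := hW.coords
  obtain ⟨R₁, hR₁, hN, hnorm, hmin, hmem⟩ := tensorPower_cube (t := t) (by rw [hF]; norm_num) (frob_ne_refl hF)
    (frob_apply hF) (by have := hW.two_le_t; omega) hc
  have hG : hf.gramIn Φ' = c • piKron (d := fun _ : Fin t => 3) fun _ => (1 : Matrix (Fin 3) (Fin 3) F) := hW.gram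
  refine inULE_of_sympN hF (by have := hW.two_le_t; have := Nat.le_self_pow (show t ≠ 0 by omega) 3; omega) hN
    (fun g hg => ?_) hnorm hmin (fun h hh => ?_)
  · obtain ⟨a, ha, rfl⟩ := (mem_tensorPower hc).mp hg
    rw [Cfsg.Lib.Classical.PrimeDim.mem_GU_iff]
    intro u v
    obtain ⟨u', rfl⟩ : ∃ u', u = Φ' *ᵥ u' := ⟨Ψ' *ᵥ u, by rw [Matrix.mulVec_mulVec, hc.left, Matrix.one_mulVec]⟩
    obtain ⟨v', rfl⟩ : ∃ v', v = Φ' *ᵥ v' := ⟨Ψ' *ᵥ v, by rw [Matrix.mulVec_mulVec, hc.left, Matrix.one_mulVec]⟩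
    rw [Matrix.mulVec_mulVec, Matrix.mulVec_mulVec, hc.act_of_conj (hc.conj_lift _), ← Matrix.mulVec_mulVec,
      ← Matrix.mulVec_mulVec, hf.apply_coords, hf.apply_coords, hG, piKronHom_val]
    set P := piKron (d := fun _ => 3) fun i => (a i : Matrix (Fin 3) (Fin 3) F)
    set G := c • piKron (d := fun _ : Fin t => 3) fun _ => (1 : Matrix (Fin 3) (Fin 3) F)
    have hP : Pᵀ * G * P.map (frob hF) = G := by
      rw [Matrix.mul_smul, Matrix.smul_mul, piKron_transpose, piKron_map, piKron_mul, piKron_mul]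
      congr 1
      congr 1
      funext i
      show (a i : Matrix (Fin 3) (Fin 3) F)ᵀ * 1 * (a i : Matrix (Fin 3) (Fin 3) F).map (frob hF) = 1
      rw [Matrix.mul_one, hR₁ _ (ha i)]
    conv_rhs => rw [← hP]
    rw [show ⇑(frob hF) ∘ (P *ᵥ v') = P.map (frob hF) *ᵥ (⇑(frob hF) ∘ v') from
      funext fun i => RingHom.map_mulVec (frob hF : F →+* F) P v' i, Matrix.mul_assoc, ← Matrix.mulVec_mulVec,
      ← Matrix.mulVec_mulVec, Matrix.dotProduct_mulVec u' Pᵀ, Matrix.vecMul_transpose]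
  · obtain ⟨π, a, ha⟩ := hW.stab h hh
    refine hmem h π a (fun i => ?_) (Units.ext ?_)
    · have h1 := hf.gramIn_fix (gu_fixes hH) hh (hc.act_of_conj ha)
      rw [hG, Matrix.mul_smul, Matrix.smul_mul, wreath_congr] at h1
      obtain ⟨d, hd, h2⟩ := piKron_eq_piKron (smul_right_injective _ hW.ne_zero h1) (fun _ => one_ne_zero) i
      rw [Matrix.mul_one] at h2
      -- the multiplier is one
      have hσd : frob hF d = d := by
        have h3 := congrArg (fun M : Matrix (Fin 3) (Fin 3) F => (Mᵀ.map (frob hF)) 0 0) h2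
        simp only [Matrix.transpose_mul, Matrix.transpose_transpose, Matrix.map_mul, Matrix.map_map,
          show (⇑(frob hF) ∘ ⇑(frob hF)) = id from funext (frob_frob hF), Matrix.map_id, ← Matrix.transpose_map] at h3
        rw [h2] at h3
        simpa using h3.symm
      have hd1 : d = 1 := by
        rw [frob_apply, sq] at hσd
        exact (mul_eq_left₀ hd).mp hσd
      rw [h2, hd1, one_smul]
    · rw [hc.lift_val, Units.val_mul, piKronHom_val]
      show _ = Φ' * (permMat F π * _) * Ψ'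
      rw [← ha, hc.unconj_conj]

/-- A stabilised tensor decomposition gives one of the classes. -/
theorem inULE_of_tensor (hF : Fintype.card F = q ^ 2) (hH : H ≤ Cfsg.GU n F q) (hn : 0 < n) {d k : ℕ}
    {Φ : Matrix (Fin n) (Fin d × Fin k) F} {Ψ : Matrix (Fin d × Fin k) (Fin n) F} {X₁ : Matrix (Fin d) (Fin d) F}
    {X₂ : Matrix (Fin k) (Fin k) F} (hT : TensorForm (frob hF) (Cfsg.hermForm n F q) H Φ Ψ X₁ X₂) {l : F}
    (hl : l * frob hF l = 1) (h1 : X₁ᵀ = l • X₁.map (frob hF)) (h2 : X₂ᵀ = (1 / l) • X₂.map (frob hF)) : InULE q H := by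
  classical
  haveI : Nonempty (Fin n) := ⟨⟨0, hn⟩⟩
  set σ := frob hF with hσdef
  obtain ⟨ν, hν, hνσ⟩ : ∃ ν : F, ν ≠ 0 ∧ ν * l = σ ν := by
    obtain ⟨x, hx⟩ : ∃ x : F, x + σ l * σ x ≠ 0 := by
      by_contra hc
      push Not at hc
      refine frob_ne_refl hF (RingEquiv.ext fun x => ?_)
      have e1 := hc 1
      have e2 := hc x
      rw [map_one, mul_one] at e1
      show σ x = x
      linear_combination (-1 : F) * e2 + σ x * e1
    exact ⟨_, hx, by rw [map_add, map_mul, hσdef, frob_frob, frob_frob]; linear_combination (σ x) * hl⟩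
  have hl0 : l ≠ 0 := left_ne_zero_of_mul_eq_one hl
  have hT' := hT.scale hν
  have g1 : (ν • X₁)ᵀ = (ν • X₁).map σ := by
    rw [Matrix.transpose_smul, h1, smul_smul, hνσ]
    exact Matrix.ext fun i j => (map_mul σ _ _).symm
  have g2 : (ν⁻¹ • X₂)ᵀ = (ν⁻¹ • X₂).map σ := by
    rw [Matrix.transpose_smul, h2, smul_smul, show ν⁻¹ * (1 / l) = σ ν⁻¹ by rw [map_inv₀, ← hνσ, _root_.mul_inv_rev]; ring]
    exact Matrix.ext fun i j => (map_mul σ _ _).symm
  rcases eq_or_ne d k with rfl | hne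
  · obtain ⟨A, hA⟩ := exists_congr hF hT'.det_right g2 hT'.det_left g1
    obtain ⟨Φ', Ψ', hW⟩ := hT'.square A hA
    exact inULE_of_wreath hF hH hn hW g1 (map_one _)
  have main : ∀ {d' k' : ℕ} {Φ' : Matrix (Fin n) (Fin d' × Fin k') F} {Ψ' : Matrix (Fin d' × Fin k') (Fin n) F}
      {Y₁ : Matrix (Fin d') (Fin d') F} {Y₂ : Matrix (Fin k') (Fin k') F},
      TensorForm σ (Cfsg.hermForm n F q) H Φ' Ψ' Y₁ Y₂ → Y₁ᵀ = Y₁.map σ → Y₂ᵀ = Y₂.map σ → d' < k' → InULE q H := by
    intro d' k' Φ' Ψ' Y₁ Y₂ hY e1 e2 hlt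
    have hmul : d' * k' = n := by
      have := hY.coords.card_eq
      rwa [Fintype.card_prod, Fintype.card_fin, Fintype.card_fin, Fintype.card_fin] at this
    let e : Fin n ≃ Fin d' × Fin k' := Fintype.equivOfCardEq (by
      rw [Fintype.card_prod, Fintype.card_fin, Fintype.card_fin, Fintype.card_fin, hmul])
    have hs := hY.structure' (herm_refl hF) e
    have hs' := hs
    obtain ⟨B, hB⟩ : ∃ B, B = hY.coords.toGL e := ⟨_, rfl⟩
    rw [← hB] at hs'
    rw [show (⇑σ : F → F) = fun x => x ^ q from frob_eq hF, hB] at hs'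
    clear hs
    have hs := hs'
    exact ⟨_, .tensor d' k' e _ _ _ hY.two_left hlt hmul (unitaryFormPow_matForm hF hY.det_left e1)
      (unitaryFormPow_matForm hF hY.det_right e2) hs, hY.le_stabilizer e⟩
  rcases hne.lt_or_gt with hlt | hgt
  · exact main hT' g1 g2 hlt
  · exact main hT'.swap g2 g1 hgt

end Cfsg.Lib.Classical.Aschbacher
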