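import Cfsg.Agent.Classical.Aschbacher.FormCases
import Cfsg.Agent.Classical.Aschbacher.UnitWreath

/-! Subgroup structure of the unitary groups: geometric classes or almost simple. -/

set_option autoImplicit false
set_option linter.unusedSimpArgs false
set_option linter.unusedSectionVars false
set_option linter.style.haveILetI false

namespace Cfsg.Lib.Classical.Aschbacher

open Matrix Cfsg.Geo
open scoped MatrixGroups Kronecker
open Cfsg.Lib.Classical.PrimeDim (Normalises IsPreCore forall_matrixSet mem_matrixSet irreducible_iff Invariant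
  IsSesq gl_det_ne_zero frob frob_apply frob_frob frob_ne_refl)

universe u

variable {n q : ℕ} {F : Type u} [Field F] [Fintype F] {H : Subgroup (GL (Fin n) F)}

/-- A solution of the semilinear equation of a norm-one scalar. -/
theorem exists_nu (hF : Fintype.card F = q ^ 2) {l : F} (hl : l * frob hF l = 1) :
    ∃ ν : F, ν ≠ 0 ∧ ν * l = frob hF ν := by
  obtain ⟨x, hx⟩ : ∃ x : F, x + frob hF l * frob hF x ≠ 0 := by
    by_contra hc
    push Not at hc
    refine frob_ne_refl hF (RingEquiv.ext fun x => ?_)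
    have e1 := hc 1
    have e2 := hc x
    rw [map_one, mul_one] at e1
    show frob hF x = x
    linear_combination (-1 : F) * e2 + frob hF x * e1
  exact ⟨_, hx, by rw [map_add, map_mul, frob_frob, frob_frob]; linear_combination (frob hF x) * hl⟩

/-- A non-scalar normalised subgroup is absolutely irreducible, or a class occurs. -/
theorem absIrred_or_inULE (hF : Fintype.card F = q ^ 2) (hn : 2 ≤ n) (hH : H ≤ Cfsg.GU n F q)
    (hirr : ActsIrreducibly (matrixSet H)) {K : Subgroup (GL (Fin n) F)} (hKH : K ≤ H) (hK : Normalises H K)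
    (hns : ¬ K ≤ scalars (Fin n) F) : ActsAbsolutelyIrreducibly (matrixSet K) ∨ InULE q H := by
  classical
  haveI : Nonempty (Fin n) := ⟨⟨0, by omega⟩⟩
  have hf := herm_refl (n := n) hF
  have hKf := gu_fixes (hKH.trans hH)
  rcases homog_or_components hirr hK with ⟨d, k, Φ, Ψ, ρ, hh⟩ | ⟨d, k, t, Φ, Ψ, ρ, cls, D, hC⟩
  · by_cases habs : AbsIrr ρ
    · rcases Nat.lt_or_ge k 2 with hk | hk
      · exact Or.inl (hh.absIrred_of_one habs (by have := hh.pos; omega))
      · rcases Nat.lt_or_ge d 2 with hd | hd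
        · refine absurd (hh.scalar_of_one ?_) hns
          have : 0 < d := Fin.pos_iff_nonempty.mpr habs.nonempty
          omega
        · obtain ⟨X₁, X₂, l, hl, h1, h2, hT⟩ := hh.tensorForm habs hK hf hKf (gu_fixes hH) hd hk
          exact Or.inr (inULE_of_tensor hF hH (by omega) hT hl h1 h2)
    · obtain ⟨r, L, hr, hL, hadj, -, hle⟩ := hh.form_field hK hf hKf habs
      exact Or.inr (inULE_of_field hF hr hL hadj hle)
  · exact Or.inr (inULE_of_formDecomp (hC.formDecomp hf (gu_fixes hH) hKf hirr))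

/-- The residual conditions, or one of the classes. -/
theorem inULE_or_residual_of_preCore (hF : Fintype.card F = q ^ 2) (hn : 2 ≤ n) (hH : H ≤ Cfsg.GU n F q)
    {P : Subgroup (GL (Fin n) F)} (hP : IsPreCore H P) : InULE q H ∨ InUnitaryResidualClass H := by
  classical
  haveI : Nonempty (Fin n) := ⟨⟨0, by omega⟩⟩
  have hf := herm_refl (n := n) hF
  have hPU := hP.le.trans hH
  have hPf := gu_fixes hPU
  by_cases hreal : ∃ F₀ : Subfield F, F₀ ≠ ⊤ ∧ RealisableOver F₀ (matrixSet P)
  · obtain ⟨F₀, hne, hreal⟩ := hreal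
    exact Or.inl (inULE_of_realisable hF hn hP.normal hPU hP.absIrred hne hreal)
  have key : ∀ b : (Fin n → F) → (Fin n → F) → F, IsSesq (RingEquiv.refl F) b → FixesForm (matrixSet P) b → False :=
    fun b hb hfix => hreal (realisable_of_two_forms hP.absIrred (frob_ne_refl hF) (frob_frob hF) hb hfix
      hf.toIsSesq hPf.fixesForm)
  push Not at hreal
  refine Or.inr ⟨P, hP.residualCore hreal, ?_, ?_⟩
  · rintro ⟨Q, hQ, hfix⟩
    exact key _ (IsSesq.of_quadratic hQ) fun s hs u v => by
      simp only [QuadraticMap.polar, ← Matrix.mulVec_add, hfix _ hs]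
  · rintro ⟨f, hs, hfix⟩
    exact key f ⟨hs.bilinear.add_left, hs.bilinear.smul_left, hs.bilinear.add_right, hs.bilinear.smul_right,
      hs.nondegenerate⟩ hfix

/-- Subgroup structure of the unitary groups. -/
theorem unitary_structure (hF : Fintype.card F = q ^ 2) (hn : 2 ≤ n) (hH : H ≤ Cfsg.GU n F q) :
    InULE q H ∨ InUnitaryResidualClass H := by
  classical
  haveI : Nonempty (Fin n) := ⟨⟨0, by omega⟩⟩
  by_cases hcls : InULE q H
  · exact Or.inl hcls
  have hirr : ActsIrreducibly (matrixSet H) := (irreducible_iff H).mpr fun W hinv => by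
    by_contra hc
    push Not at hc
    exact hcls (inULE_of_invariant hF hH hc.1 hc.2 hinv)
  rcases aschbacher_cases (by rw [Fintype.card_fin]; omega) hirr
    (fun K hKH hK hns => (absIrred_or_inULE hF hn hH hirr hKH hK hns).resolve_right hcls) with
    ⟨N, r, hNH, hN, hnorm, hmin⟩ | ⟨t, k, M, Φ, Ψ, ρ, ht, hFac, hMH, hai, hperm, htrans⟩ | ⟨P, hP⟩
  · exact absurd (inULE_of_sympN hF hn hN (hNH.trans hH) hnorm hmin le_rfl) hcls
  · obtain ⟨Φ', Ψ', X, c, l, hll, hX, hlt, hW⟩ :=
      hFac.wreathForm ht hai (herm_refl hF) (gu_fixes (hMH.trans hH)) (gu_fixes hH) hperm htrans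
    rw [one_mul] at hlt
    obtain ⟨ν, hν, hνσ⟩ := exists_nu hF hll
    have hW' : WreathForm (frob hF) (Cfsg.hermForm n F q) H Φ' Ψ' (ν • X) (c / ν ^ t) :=
      ⟨hW.coords, hW.two_le_t, hW.two_le_k, div_ne_zero hW.ne_zero (pow_ne_zero _ hν), by
        rw [hW.gram, piKron_smul (d := fun _ => k) (fun _ : Fin t => ν), Finset.prod_const, Finset.card_univ,
          Fintype.card_fin, smul_smul, div_mul_cancel₀ _ (pow_ne_zero _ hν)], by
        rw [Matrix.det_smul]; exact mul_ne_zero (pow_ne_zero _ hν) hW.det_ne_zero, hW.stab⟩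
    refine absurd (inULE_of_wreath hF hH (by omega) hW' ?_ ?_) hcls
    · rw [Matrix.transpose_smul, hX, smul_smul, hνσ]
      exact Matrix.ext fun i j => (map_mul (frob hF) _ _).symm
    · rw [map_div₀, map_pow, ← hνσ, ← hlt, mul_pow, mul_div_mul_right _ _
        (pow_ne_zero _ (left_ne_zero_of_mul_eq_one hll))]
  · exact inULE_or_residual_of_preCore hF hn hH hP

end Cfsg.Lib.Classical.Aschbacher
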