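import Cfsg.Agent.Classical.Aschbacher.UnitMain
import Cfsg.Agent.Classical.Aschbacher.SympMax
import Cfsg.Agent.Classical.PrimeDim.UnitaryMembersTwo

/-! The members of the unitary classes do not contain the special unitary group. -/

set_option autoImplicit false
set_option linter.unusedSimpArgs false
set_option linter.unusedSectionVars false
set_option linter.style.haveILetI false

namespace Cfsg.Lib.Classical.Aschbacher

open Matrix Cfsg.Geo
open scoped MatrixGroups Kronecker commutatorElement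
open Cfsg.Lib.Classical.PrimeDim (forall_matrixSet mem_matrixSet irreducible_iff Invariant finrank_pi_card
  gl_det_ne_zero frob frob_apply frob_frob suGL suGL_not_le_subspace suGL_not_le_decomposition
  suGL_not_le_subfieldSubgroup utv utv_mulVec utv_inv utv_mem tvE tvE_mulVec iso_spread exists_skew
  exists_two_norm_neg_one pairVec herm_pairVec_self pairVec_ne_zero mem_scalars_of_val_eq scalar_commute
  eq_inf_of_maximal val_inv_mul val_mul_inv gl_mulVec_ne_zero inv_mulVec_mulVec)

universe u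

variable {n q : ℕ} {F : Type u} [Field F] [Fintype F]

theorem exists_iso_vector (hF : Fintype.card F = q ^ 2) (hn : 2 ≤ n) :
    ∃ v : Fin n → F, v ≠ 0 ∧ Cfsg.hermForm n F q v v = 0 := by
  obtain ⟨a, -, ha, -, -⟩ := exists_two_norm_neg_one hF
  have hij : (⟨0, by omega⟩ : Fin n) ≠ ⟨1, by omega⟩ := by simp
  exact ⟨_, pairVec_ne_zero hij a, herm_pairVec_self hF hij ha⟩

/-- A matrix commuting with all unitary transvections is scalar. -/
theorem scalar_of_commute_utv (hF : Fintype.card F = q ^ 2) (hn : 2 ≤ n) {M : Matrix (Fin n) (Fin n) F}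
    (h : ∀ v : Fin n → F, v ≠ 0 → ∀ (hv : Cfsg.hermForm n F q v v = 0) (c : F), c + frob hF c = 0 →
      (utv q hv c : Matrix (Fin n) (Fin n) F) * M = M * (utv q hv c : Matrix (Fin n) (Fin n) F)) :
    ∃ a : F, M = a • 1 := by
  haveI : Nonempty (Fin n) := ⟨⟨0, by omega⟩⟩
  have hf := herm_refl (n := n) hF
  obtain ⟨c, hc0, hc⟩ := exists_skew hF
  have key : ∀ v : Fin n → F, v ≠ 0 → Cfsg.hermForm n F q v v = 0 → ∀ w,
      Cfsg.hermForm n F q w v • (M *ᵥ v) = Cfsg.hermForm n F q (M *ᵥ w) v • v := fun v hv0 hv w => by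
    have h1 := congrArg (fun A => A *ᵥ w) (h v hv0 hv c hc)
    simp only [← Matrix.mulVec_mulVec, utv_mulVec, Matrix.mulVec_add, Matrix.mulVec_smul, add_right_inj,
      ← smul_smul] at h1
    exact smul_right_injective _ hc0 h1.symm
  obtain ⟨v₀, hv₀, hiso⟩ := exists_iso_vector (q := q) hF hn
  obtain ⟨w₀, hw₀⟩ := (hf.nondegenerate v₀ hv₀).1
  obtain ⟨μ, hμ⟩ : ∃ μ : F, M *ᵥ v₀ = μ • v₀ :=
    ⟨(Cfsg.hermForm n F q w₀ v₀)⁻¹ * Cfsg.hermForm n F q (M *ᵥ w₀) v₀, by
      rw [mul_smul, ← key v₀ hv₀ hiso w₀, smul_smul, inv_mul_cancel₀ hw₀, one_smul]⟩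
  let W : Submodule F (Fin n → F) := LinearMap.ker (Matrix.toLin' M - μ • LinearMap.id)
  have hmem : ∀ x, x ∈ W ↔ M *ᵥ x = μ • x := fun x => by
    simp only [W, LinearMap.mem_ker, LinearMap.sub_apply, LinearMap.smul_apply, LinearMap.id_apply, Matrix.toLin'_apply,
      sub_eq_zero]
  have hW : W = ⊤ := iso_spread hF hn W (fun v hv ⟨w, hw, hwv⟩ => (hmem v).mpr (by
    rcases eq_or_ne v 0 with rfl | hv0
    · simp
    have h1 := key v hv0 hv w
    rw [(hmem w).mp hw, hf.smul_left, mul_comm, mul_smul] at h1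
    exact smul_right_injective _ hwv h1)) fun e => hv₀ ((Submodule.eq_bot_iff _).mp e v₀ ((hmem v₀).mpr hμ))
  exact ⟨μ, Matrix.toLin'.injective (LinearMap.ext fun x => by
    rw [Matrix.toLin'_apply, Matrix.toLin'_apply, Matrix.smul_mulVec, Matrix.one_mulVec]
    exact (hmem x).mp (hW ▸ Submodule.mem_top))⟩

theorem suGL_not_le_blocks (hF : Fintype.card F = q ^ 2) (hn : 2 ≤ n) {t k : ℕ} {D : Fin t → Submodule F (Fin n → F)}
    (hk : 2 ≤ k) (hD : IsMDecomposition k D) : ¬ suGL n F q ≤ decompositionStabilizer D := fun hle => by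
  classical
  have hf := herm_refl (n := n) hF
  have hne : ∀ i, D i ≠ ⊥ := fun i e => by
    have := hD.finrank_eq i
    rw [e, finrank_bot] at this
    omega
  have h2 := hD.two_le
  let i₀ : Fin t := ⟨0, by omega⟩
  let i₁ : Fin t := ⟨1, by omega⟩
  obtain ⟨c, hc0, hc⟩ := exists_skew hF
  have htop : D i₀ = ⊤ := iso_spread hF hn (D i₀) (fun v hv ⟨w, hw, hwv⟩ => by
    obtain ⟨π, hπ⟩ := hle (utv_mem hF hv hc)
    let φ : (D i₀) →ₗ[F] F :=
      { toFun := fun x => Cfsg.hermForm n F q (x : Fin n → F) v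
        map_add' := fun x y => by rw [Submodule.coe_add, hf.add_left]
        map_smul' := fun a x => by rw [Submodule.coe_smul, hf.smul_left]; rfl }
    obtain ⟨x, hx, hx0⟩ := (Submodule.ne_bot_iff _).mp (LinearMap.ker_ne_bot_of_finrank_lt (f := φ) (by
      rw [Module.finrank_self, hD.finrank_eq]; omega))
    have hxπ : (x : Fin n → F) ∈ D (π i₀) := by
      rw [← hπ i₀]
      refine ⟨(x : Fin n → F), x.2, ?_⟩
      rw [Matrix.toLin'_apply, utv_mulVec, show Cfsg.hermForm n F q (x : Fin n → F) v = 0 from hx, mul_zero, zero_smul,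
        add_zero]
    have h0 : π i₀ = i₀ := by
      by_contra hne'
      exact hx0 (Subtype.ext (Submodule.disjoint_def.mp (hD.indep.pairwiseDisjoint hne') _ hxπ x.2))
    have hmem : (utv q hv c : Matrix (Fin n) (Fin n) F) *ᵥ w ∈ D i₀ := by
      have h3 := hπ i₀
      rw [h0] at h3
      rw [← h3]
      exact ⟨w, hw, Matrix.toLin'_apply _ _⟩
    rw [utv_mulVec] at hmem
    have h' := (D i₀).smul_mem (c * Cfsg.hermForm n F q w v)⁻¹ (sub_mem hmem hw)
    rwa [add_sub_cancel_left, smul_smul, inv_mul_cancel₀ (mul_ne_zero hc0 hwv), one_smul] at h') (hne i₀)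
  have := hD.indep.pairwiseDisjoint (show i₀ ≠ i₁ by simp [i₀, i₁])
  rw [Function.onFun, htop, top_disjoint] at this
  exact hne i₁ this

theorem suGL_not_le_field' (hF : Fintype.card F = q ^ 2) (hn : 3 ≤ n) {r : ℕ} (hr : 1 < r)
    {K : Subalgebra F (Matrix (Fin n) (Fin n) F)} (hK : IsFieldSubalgebra r K) :
    ¬ suGL n F q ≤ subalgebraNormalizer K := fun hle => by
  classical
  haveI : Nonempty (Fin n) := ⟨⟨0, by omega⟩⟩
  have hf := herm_refl (n := n) hF
  have hsc : ∀ k ∈ K, ∃ a : F, k = a • 1 := fun k hk => scalar_of_commute_utv hF (by omega) fun v hv0 hv c hc => by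
    set T := utv q hv c
    set D : Matrix (Fin n) (Fin n) F :=
      (T : Matrix (Fin n) (Fin n) F) * k * ((T⁻¹ : GL (Fin n) F) : Matrix (Fin n) (Fin n) F) - k
    have hD : D ∈ K := sub_mem ((hle (utv_mem hF hv hc) k).mp hk) hk
    let φ : (Fin n → F) →ₗ[F] F × F :=
      { toFun := fun x => (Cfsg.hermForm n F q x v, Cfsg.hermForm n F q (k *ᵥ x) v)
        map_add' := fun x y => by rw [Matrix.mulVec_add, hf.add_left, hf.add_left]; rfl
        map_smul' := fun a x => by rw [Matrix.mulVec_smul, hf.smul_left, hf.smul_left]; rfl }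
    obtain ⟨x, hx, hx0⟩ := (Submodule.ne_bot_iff _).mp (LinearMap.ker_ne_bot_of_finrank_lt (f := φ) (by
      rw [Module.finrank_prod, Module.finrank_self, finrank_pi_card, Fintype.card_fin]; omega))
    have hx1 : Cfsg.hermForm n F q x v = 0 := congrArg Prod.fst hx
    have hx2 : Cfsg.hermForm n F q (k *ᵥ x) v = 0 := congrArg Prod.snd hx
    have hTx : ((T⁻¹ : GL (Fin n) F) : Matrix (Fin n) (Fin n) F) *ᵥ x = x := by
      rw [utv_inv, Matrix.add_mulVec, Matrix.one_mulVec, Matrix.smul_mulVec, tvE_mulVec, hx1, zero_smul, smul_zero,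
        add_zero]
    have hDx : D *ᵥ x = 0 := by
      simp only [D]
      rw [Matrix.sub_mulVec, ← Matrix.mulVec_mulVec, hTx, ← Matrix.mulVec_mulVec, utv_mulVec, hx2, mul_zero, zero_smul,
        add_zero, sub_self]
    have hD0 : D = 0 := by
      by_contra h0
      obtain ⟨E, -, hE⟩ := hK.inv D hD h0
      rw [mul_eq_one_comm] at hE
      exact hx0 (by rw [← Matrix.one_mulVec x, ← hE, ← Matrix.mulVec_mulVec, hDx, Matrix.mulVec_zero])
    have h1 := congrArg (fun A => A * (T : Matrix (Fin n) (Fin n) F)) (sub_eq_zero.mp hD0)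
    simp only [mul_assoc, val_inv_mul, mul_one] at h1
    exact h1
  have h1 : K ≤ ⊥ := fun k hk => by
    obtain ⟨a, rfl⟩ := hsc k hk
    exact Algebra.mem_bot.mpr ⟨a, (Algebra.algebraMap_eq_smul_one a)⟩
  have h2 : Module.finrank F K ≤ 1 := by
    rw [← Subalgebra.finrank_bot (F := F) (E := Matrix (Fin n) (Fin n) F)]
    exact Submodule.finrank_mono (s := Subalgebra.toSubmodule K) (t := Subalgebra.toSubmodule ⊥) h1
  rw [hK.finrank_eq] at h2
  omega

theorem inCoords_utv_fix {κ : Type} [Fintype κ] [DecidableEq κ] (hF : Fintype.card F = q ^ 2) (e : Fin n ≃ κ)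
    (P : GL (Fin n) F) {v : Fin n → F} (hv : Cfsg.hermForm n F q v v = 0) (c : F) :
    ∃ φ : (κ → F) →ₗ[F] F, ∀ x, φ x = 0 → inCoords e P (utv q hv c) *ᵥ x = x := by
  have hf := herm_refl (n := n) hF
  refine ⟨{ toFun := fun x => Cfsg.hermForm n F q ((P : Matrix (Fin n) (Fin n) F) *ᵥ (x ∘ e)) v
            map_add' := fun x y => by
              rw [show (x + y) ∘ e = x ∘ e + y ∘ e from rfl, Matrix.mulVec_add, hf.add_left]
            map_smul' := fun a x => by
              rw [show (a • x) ∘ e = a • (x ∘ e) from rfl, Matrix.mulVec_smul, hf.smul_left]; rfl },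
    fun x hx => ?_⟩
  change Cfsg.hermForm n F q _ v = 0 at hx
  rw [inCoords, Matrix.submatrix_mulVec_equiv, Units.val_mul, Units.val_mul, ← Matrix.mulVec_mulVec,
    ← Matrix.mulVec_mulVec, Equiv.symm_symm, utv_mulVec, hx, mul_zero, zero_smul, add_zero, Matrix.mulVec_mulVec,
    val_inv_mul, Matrix.one_mulVec]
  funext a
  simp

theorem inCoords_utv_ne {κ : Type} [Fintype κ] [DecidableEq κ] (hF : Fintype.card F = q ^ 2) (e : Fin n ≃ κ)
    (P : GL (Fin n) F) {v : Fin n → F} (hv : Cfsg.hermForm n F q v v = 0) (hv0 : v ≠ 0) {c : F} (hc : c ≠ 0) :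
    inCoords e P (utv q hv c) ≠ 1 := by
  intro h
  obtain ⟨w, hw⟩ := ((herm_refl (n := n) hF).nondegenerate v hv0).1
  have h1 : P⁻¹ * utv q hv c * P = (1 : GL (Fin n) F) := Units.ext (by
    have := congrArg (fun M : Matrix κ κ F => M.submatrix e e) h
    simp only [inCoords, Matrix.submatrix_submatrix, Matrix.submatrix_one_equiv] at this
    simpa using this)
  have h2 : utv q hv c = 1 := by
    rw [mul_assoc, inv_mul_eq_one] at h1
    exact mul_right_cancel (h1.symm.trans (one_mul P).symm)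
  have h3 := utv_mulVec hv c w
  rw [h2, Units.val_one, Matrix.one_mulVec, left_eq_add, smul_eq_zero] at h3
  rcases h3 with h3 | h3
  · exact mul_ne_zero hc hw h3
  · exact hv0 h3

/-- A map with a fixed hyperplane which is a wreath matrix with two factors is trivial. -/
theorem wreath_two_fix_hyperplane {k : ℕ} (hk : 3 ≤ k) {π : Equiv.Perm (Fin 2)} {a : Fin 2 → GL (Fin k) F}
    (φ : ((Fin 2 → Fin k) → F) →ₗ[F] F)
    (hfix : ∀ x, φ x = 0 →
      (permMat F π * piKron (d := fun _ => k) fun i => (a i : Matrix (Fin k) (Fin k) F)) *ᵥ x = x) :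
    (permMat F π * piKron (d := fun _ => k) fun i => (a i : Matrix (Fin k) (Fin k) F)) = 1 := by
  classical
  by_cases hπ : π = 1
  · subst hπ
    have hone : permMat (m := k) F (1 : Equiv.Perm (Fin 2)) = 1 := by
      ext x y; simp [permMat, Matrix.one_apply, eq_comm]
    rw [hone, Matrix.one_mul] at hfix ⊢
    let ε : (Fin 2 → Fin k) ≃ Fin k × Fin k := piFinTwoEquiv fun _ => Fin k
    have hK : (piKron (d := fun _ => k) fun i => (a i : Matrix (Fin k) (Fin k) F) :
        Matrix (Fin 2 → Fin k) (Fin 2 → Fin k) F) =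
        ((a 0 : Matrix (Fin k) (Fin k) F) ⊗ₖ (a 1 : Matrix (Fin k) (Fin k) F)).submatrix ε ε := piKron_two _
    have h1 := kron_fix_hyperplane (n₁ := k) (n₂ := k) (by omega) (by omega) (gl_det_ne_zero (a 0))
      (gl_det_ne_zero (a 1))
      ({ toFun := fun x => φ (x ∘ ε)
         map_add' := fun x y => map_add φ _ _
         map_smul' := fun b x => map_smul φ b _ } : (Fin k × Fin k → F) →ₗ[F] F) fun x hx => by
      have h2 := hfix (x ∘ ε) hx
      rw [hK, Matrix.submatrix_mulVec_equiv] at h2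
      funext p
      have h3 := congrFun h2 (ε.symm p)
      simpa [Function.comp_def] using h3
    rw [hK, h1, Matrix.submatrix_one_equiv]
  exfalso
  have hswap : π.symm 0 = 1 ∧ π.symm 1 = 0 := by
    have hne : π.symm ≠ 1 := fun e => hπ (by rw [← Equiv.symm_symm π, e]; rfl)
    have h01 : ∀ i : Fin 2, i = 0 ∨ i = 1 := fun i => by fin_cases i <;> simp
    rcases h01 (π.symm 0) with h | h
    · refine absurd (Equiv.ext fun i => ?_) hne
      rcases h01 i with rfl | rfl
      · exact h
      · exact (h01 _).resolve_left fun e => absurd (π.symm.injective (e.trans h.symm)) (by decide)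
    · exact ⟨h, (h01 _).resolve_right fun e => absurd (π.symm.injective (e.trans h.symm)) (by decide)⟩
  let e₀ : Fin k → F := Pi.single ⟨0, by omega⟩ 1
  have he₀ : e₀ ≠ 0 := fun e => by simpa [e₀] using congrFun e ⟨0, by omega⟩
  let L : (Fin k → F) →ₗ[F] (Fin 2 → Fin k) → F :=
    { toFun := fun y => piVec ![y, e₀]
      map_add' := fun y y' => funext fun x => by
        simp only [piVec, Fin.prod_univ_two, Pi.add_apply, Matrix.cons_val_zero, Matrix.cons_val_one]
        ring
      map_smul' := fun c y => funext fun x => by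
        simp only [piVec, Pi.smul_apply, Fin.prod_univ_two, Matrix.cons_val_zero, Matrix.cons_val_one, RingHom.id_apply,
          smul_eq_mul]
        ring }
  have hsub : LinearMap.ker (φ.comp L) ≤ Submodule.span F {(a 1 : Matrix (Fin k) (Fin k) F) *ᵥ e₀} := fun y hy => by
    have h := hfix _ (show φ (piVec ![y, e₀]) = 0 from hy)
    rw [← Matrix.mulVec_mulVec, piKron_mulVec, permMat_mulVec_piVec] at h
    obtain ⟨j, hj⟩ := Function.ne_iff.mp he₀
    refine Submodule.mem_span_singleton.mpr ⟨((a 0 : Matrix (Fin k) (Fin k) F) *ᵥ y) j / e₀ j, funext fun i => ?_⟩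
    have h1 := congrFun h ![i, j]
    simp only [piVec, Fin.prod_univ_two, Matrix.cons_val_zero, Matrix.cons_val_one, hswap.1, hswap.2] at h1
    rw [Pi.smul_apply, smul_eq_mul, div_mul_eq_mul_div, div_eq_iff hj, ← h1, mul_comm]
  have h1 := Submodule.finrank_mono hsub
  rw [finrank_span_singleton (gl_mulVec_ne_zero _ he₀)] at h1
  have h2 := LinearMap.finrank_range_add_finrank_ker (φ.comp L)
  have h3 := Submodule.finrank_le (LinearMap.range (φ.comp L))
  rw [Module.finrank_self] at h3
  rw [finrank_pi_card, Fintype.card_fin] at h2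
  omega

theorem suGL_not_le_sympType (hF : Fintype.card F = q ^ 2) (hn : 4 ≤ n) {r : ℕ} [Fact r.Prime]
    {R : Subgroup (GL (Fin n) F)} (hR : IsPGroup r R) (hrF : (r : F) ≠ 0)
    (ha : ActsAbsolutelyIrreducibly (matrixSet R)) : ¬ suGL n F q ≤ subgroupNormalizer R := fun hle => by
  classical
  haveI : Nonempty (Fin n) := ⟨⟨0, by omega⟩⟩
  have hf := herm_refl (n := n) hF
  set Z := scalars (Fin n) F with hZ
  let π := QuotientGroup.mk' Z
  have hπ : ∀ x, π x = 1 ↔ x ∈ Z := fun x => QuotientGroup.eq_one_iff x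
  -- the preimage of the centre modulo scalars
  let S : GL (Fin n) F → Prop := fun x => x ∈ R ∧ ∀ z ∈ R, π z * π x = π x * π z
  have hnorm : ∀ g ∈ suGL n F q, ∀ x, x ∈ R ↔ g * x * g⁻¹ ∈ R := fun g hg x =>
    Subgroup.mem_normalizer_iff.mp (hle hg) x
  have hSconj : ∀ g ∈ suGL n F q, ∀ x, S x → S (g * x * g⁻¹) := fun g hg x hx => by
    refine ⟨(hnorm g hg x).mp hx.1, fun z hz => ?_⟩
    have hz' : g⁻¹ * z * g ∈ R := (hnorm g hg _).mpr (by simpa [mul_assoc] using hz)
    have h1 := congrArg (fun y => π g * y * (π g)⁻¹) (hx.2 _ hz')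
    simpa [map_mul, map_inv, mul_assoc] using h1
  obtain ⟨x, hxS, hxZ⟩ : ∃ x, S x ∧ x ∉ Z := by
    by_contra hcon
    push Not at hcon
    have hQ : IsPGroup r (R.map π) := hR.map π
    haveI : Finite (R.map π) := by
      haveI : Finite (GL (Fin n) F ⧸ Z) := Quotient.finite _
      infer_instance
    have hbot : Subsingleton (R.map π) := by
      by_contra hnt
      haveI : Nontrivial (R.map π) := not_subsingleton_iff_nontrivial.mp hnt
      haveI := hQ.center_nontrivial
      obtain ⟨⟨⟨_, x, hxR, rfl⟩, hz⟩, hne⟩ := exists_ne (1 : Subgroup.center (R.map π))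
      apply hne
      have hxS : S x := ⟨hxR, fun z hz' => congrArg Subtype.val (Subgroup.mem_center_iff.mp hz ⟨π z, z, hz', rfl⟩)⟩
      exact Subtype.ext (Subtype.ext ((hπ x).mpr (hcon x hxS)))
    have hRZ : R ≤ Z := fun x hx => (hπ x).mp
      (congrArg Subtype.val (Subsingleton.elim (⟨π x, x, hx, rfl⟩ : R.map π) 1))
    let e₀ : Fin n → F := Pi.single ⟨0, by omega⟩ 1
    have he₀ : e₀ ≠ 0 := fun e => by simpa [e₀] using congrFun e ⟨0, by omega⟩
    rcases (irreducible_iff R).mp ha.1 (Submodule.span F {e₀}) (fun g hg v hv => by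
      obtain ⟨a, ha⟩ := (mem_scalars_iff g).mp (hRZ hg)
      rw [ha, Matrix.smul_mulVec, Matrix.one_mulVec]
      exact Submodule.smul_mem _ _ hv) with e | e
    · exact he₀ (Submodule.span_singleton_eq_bot.mp e)
    · have := finrank_span_singleton (K := F) he₀
      rw [e, finrank_top, finrank_pi_card, Fintype.card_fin] at this
      omega
  refine hxZ ?_
  obtain ⟨a, ha'⟩ := scalar_of_commute_utv hF (by omega) (M := (x : Matrix (Fin n) (Fin n) F)) fun v hv0 hv c hc => by
    set t := utv q hv c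
    have ht := utv_mem hF hv hc
    set y := t * x * t⁻¹ * x⁻¹ with hy
    suffices hy1 : y = 1 by
      rw [← Units.val_mul, ← Units.val_mul]
      refine congrArg Units.val ?_
      rw [hy, mul_inv_eq_one, mul_inv_eq_iff_eq_mul] at hy1
      exact hy1
    have hyR : y ∈ R := R.mul_mem ((hnorm t ht x).mp hxS.1) (R.inv_mem hxS.1)
    set u : Fin n → F := (x : Matrix (Fin n) (Fin n) F) *ᵥ v
    -- the second factor
    set T : Matrix (Fin n) (Fin n) F := ((x * t⁻¹ * x⁻¹ : GL (Fin n) F) : Matrix (Fin n) (Fin n) F)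
    let α : (Fin n → F) →ₗ[F] F :=
      { toFun := fun w => -c * Cfsg.hermForm n F q (((x⁻¹ : GL (Fin n) F) : Matrix (Fin n) (Fin n) F) *ᵥ w) v
        map_add' := fun w w' => by rw [Matrix.mulVec_add, hf.add_left, mul_add]
        map_smul' := fun b w => by rw [Matrix.mulVec_smul, hf.smul_left, RingHom.id_apply, smul_eq_mul]; ring }
    have hT : ∀ w, T *ᵥ w = w + α w • u := fun w => by
      simp only [T, Units.val_mul, ← Matrix.mulVec_mulVec]
      rw [utv_inv, Matrix.add_mulVec, Matrix.one_mulVec, Matrix.smul_mulVec, tvE_mulVec, Matrix.mulVec_add,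
        Matrix.mulVec_smul, Matrix.mulVec_smul, Matrix.mulVec_mulVec, val_mul_inv, Matrix.one_mulVec, smul_smul]
      rfl
    have hαu : α u = 0 := by
      show -c * Cfsg.hermForm n F q _ v = 0
      rw [inv_mulVec_mulVec, hv, mul_zero]
    have hyw : ∀ w, (y : Matrix (Fin n) (Fin n) F) *ᵥ w = (t : Matrix (Fin n) (Fin n) F) *ᵥ (T *ᵥ w) := fun w => by
      rw [Matrix.mulVec_mulVec, ← Units.val_mul, hy]
      simp only [mul_assoc]
    have hS : ∀ w, (y : Matrix (Fin n) (Fin n) F) *ᵥ w - w ∈ Submodule.span F {v, u} := fun w => by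
      rw [hyw, hT, utv_mulVec, Submodule.mem_span_pair]
      exact ⟨c * Cfsg.hermForm n F q (w + α w • u) v, α w, by abel⟩
    obtain ⟨ψ, hψ⟩ : ∃ ψ : (Fin n → F) →ₗ[F] F × F, ∀ w, ψ w = 0 → (y : Matrix (Fin n) (Fin n) F) *ᵥ w = w := by
      refine ⟨α.prod { toFun := fun w => Cfsg.hermForm n F q w v
                       map_add' := fun w w' => hf.add_left w w' v
                       map_smul' := fun b w => by rw [hf.smul_left]; rfl }, fun w hw => ?_⟩
      have h1 : α w = 0 := congrArg Prod.fst hw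
      have h2 : Cfsg.hermForm n F q w v = 0 := congrArg Prod.snd hw
      rw [hyw, hT, h1, zero_smul, add_zero, utv_mulVec, h2, mul_zero, zero_smul, add_zero]
    set U := LinearMap.ker ψ
    have hU : n ≤ Module.finrank F U + 2 := by
      have h2 := LinearMap.finrank_range_add_finrank_ker ψ
      have h3 := Submodule.finrank_le (LinearMap.range ψ)
      rw [Module.finrank_prod, Module.finrank_self] at h3
      rw [finrank_pi_card, Fintype.card_fin] at h2
      show n ≤ Module.finrank F (LinearMap.ker ψ) + 2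
      omega
    obtain ⟨s, hs⟩ := hR ⟨y, hyR⟩
    have hys : y ^ (r ^ s) = 1 := congrArg Subtype.val hs
    by_cases hyZ : y ∈ Z
    · -- a scalar commutator
      obtain ⟨b, hb⟩ := (mem_scalars_iff y).mp hyZ
      obtain ⟨w, hw, hw0⟩ := (Submodule.ne_bot_iff U).mp fun e => by rw [e, finrank_bot] at hU; omega
      have h1 := hψ w (LinearMap.mem_ker.mp hw)
      rw [hb, Matrix.smul_mulVec, Matrix.one_mulVec] at h1
      refine Units.ext ?_
      rw [hb, smul_left_injective F hw0 (show (b : F) • w = (1 : F) • w by rw [h1, one_smul]), one_smul, Units.val_one]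
    exfalso
    have hyS : ∀ z ∈ R, π z * π y = π y * π z := fun z hz => by
      rw [hy, map_mul, map_inv]
      exact ((show Commute (π z) (π (t * x * t⁻¹)) from (hSconj t ht x hxS).2 z hz).mul_right
        (show Commute (π z) (π x) from hxS.2 z hz).inv_right)
    obtain ⟨z, hz, hzy⟩ : ∃ z ∈ R, z * y ≠ y * z := by
      by_contra hcon
      push Not at hcon
      obtain ⟨b, hb⟩ := ha.2 (y : Matrix (Fin n) (Fin n) F) (forall_matrixSet.mpr fun z hz => by
        rw [← Units.val_mul, ← Units.val_mul, hcon z hz])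
      exact hyZ (mem_scalars_of_val_eq hb)
    have hzeta : z * y * z⁻¹ * y⁻¹ ∈ Z := by
      rw [← hπ, map_mul, map_mul, map_mul, map_inv, map_inv, hyS z hz, mul_inv_cancel_right, mul_inv_cancel]
    obtain ⟨ζ, hζ⟩ := (mem_scalars_iff _).mp hzeta
    have hzy' : (z : Matrix (Fin n) (Fin n) F) * (y : Matrix (Fin n) (Fin n) F) =
        (ζ : F) • ((y : Matrix (Fin n) (Fin n) F) * (z : Matrix (Fin n) (Fin n) F)) := by
      have h1 := congrArg (fun A => A * ((y * z : GL (Fin n) F) : Matrix (Fin n) (Fin n) F)) hζ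
      rw [← Units.val_mul, show z * y * z⁻¹ * y⁻¹ * (y * z) = z * y by group, Matrix.smul_mul, Matrix.one_mul,
        Units.val_mul, Units.val_mul] at h1
      exact h1
    have hω : ((ζ⁻¹ : Fˣ) : F) ≠ 1 := fun e => hzy (Units.ext (by
      rw [Units.val_mul z y, Units.val_mul y z, hzy', show (ζ : F) = 1 by
        have h1 : (ζ : F) * ((ζ⁻¹ : Fˣ) : F) = 1 := ζ.mul_inv
        rwa [e, mul_one] at h1, one_smul]))
    let E : Submodule F (Fin n → F) :=
      LinearMap.ker (Matrix.toLin' (y : Matrix (Fin n) (Fin n) F) - ((ζ⁻¹ : Fˣ) : F) • LinearMap.id)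
    have hE : ∀ w, w ∈ E ↔ (y : Matrix (Fin n) (Fin n) F) *ᵥ w = ((ζ⁻¹ : Fˣ) : F) • w := fun w => by
      simp only [E, LinearMap.mem_ker, LinearMap.sub_apply, LinearMap.smul_apply, LinearMap.id_apply,
        Matrix.toLin'_apply, sub_eq_zero]
    have hzU : U.map (Matrix.toLin' (z : Matrix (Fin n) (Fin n) F)) ≤ E := by
      rintro _ ⟨w, hw, rfl⟩
      rw [hE, Matrix.toLin'_apply]
      have h1 := congrArg (fun A => A *ᵥ w) hzy'
      simp only [Matrix.smul_mulVec, ← Matrix.mulVec_mulVec, hψ w (LinearMap.mem_ker.mp hw)] at h1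
      conv_rhs => rw [h1, smul_smul, Units.inv_mul, one_smul]
    have hES : E ≤ Submodule.span F {v, u} := fun w hw => by
      have h1 := hS w
      rw [(hE w).mp hw] at h1
      have h2 := (Submodule.span F {v, u}).smul_mem (((ζ⁻¹ : Fˣ) : F) - 1)⁻¹ h1
      rwa [show ((ζ⁻¹ : Fˣ) : F) • w - w = (((ζ⁻¹ : Fˣ) : F) - 1) • w by rw [sub_smul, one_smul], smul_smul,
        inv_mul_cancel₀ (sub_ne_zero.mpr hω), one_smul] at h2
    have hd : Module.finrank F (Submodule.span F ({v, u} : Set (Fin n → F))) ≤ 2 :=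
      (finrank_span_le_card _).trans (by simp [Finset.card_le_two])
    have hzinj := (Submodule.equivMapOfInjective (Matrix.toLin' (z : Matrix (Fin n) (Fin n) F))
      (Function.LeftInverse.injective (g := Matrix.toLin' ((z⁻¹ : GL (Fin n) F) : Matrix (Fin n) (Fin n) F)) fun w => by
        rw [Matrix.toLin'_apply, Matrix.toLin'_apply, inv_mulVec_mulVec]) U).finrank_eq
    have hEeq : E = Submodule.span F {v, u} := Submodule.eq_of_le_of_finrank_le hES (by
      have := Submodule.finrank_mono hzU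
      omega)
    have hyv : (y : Matrix (Fin n) (Fin n) F) *ᵥ v = ((ζ⁻¹ : Fˣ) : F) • v :=
      (hE v).mp (hEeq ▸ Submodule.subset_span (Set.mem_insert _ _))
    -- the second factor fixes `v` up to a scalar different from one
    have hTv : T *ᵥ v = ((ζ⁻¹ : Fˣ) : F) • v := by
      have h1 := congrArg (fun w => ((t⁻¹ : GL (Fin n) F) : Matrix (Fin n) (Fin n) F) *ᵥ w) (hyw v)
      simp only [inv_mulVec_mulVec] at h1
      rw [← h1, hyv, Matrix.mulVec_smul, utv_inv, Matrix.add_mulVec, Matrix.one_mulVec, Matrix.smul_mulVec, tvE_mulVec,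
        hv, zero_smul, smul_zero, add_zero]
    rw [hT] at hTv
    have h1 : α v • u = (((ζ⁻¹ : Fˣ) : F) - 1) • v := by rw [sub_smul, one_smul, ← hTv, add_sub_cancel_left]
    have h2 := congrArg α h1
    rw [map_smul, map_smul, hαu, smul_zero, smul_eq_mul, eq_comm, mul_eq_zero] at h2
    have hαv : α v = 0 := h2.resolve_left (sub_ne_zero.mpr hω)
    rw [hαv, zero_smul, eq_comm, smul_eq_zero] at h1
    exact hv0 (h1.resolve_left (sub_ne_zero.mpr hω))
  exact mem_scalars_of_val_eq ha'

theorem UMember.not_le (hF : Fintype.card F = q ^ 2) (hn : 4 ≤ n) {M : Subgroup (GL (Fin n) F)}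
    (h : UMember n F q M) : ¬ suGL n F q ≤ M := by
  classical
  haveI : Nonempty (Fin n) := ⟨⟨0, by omega⟩⟩
  have hf := herm_refl (n := n) hF
  obtain ⟨v, hv0, hv⟩ := exists_iso_vector (q := q) hF (show 2 ≤ n by omega)
  obtain ⟨c, hc0, hc⟩ := exists_skew hF
  have hne : ∀ {F₀ : Subfield F} {r : ℕ}, r.Prime → Fintype.card F = Nat.card F₀ ^ r → F₀ ≠ ⊤ := fun {F₀ r} hr hc h => by
    rw [h, Nat.card_congr Subfield.topEquiv.toEquiv, Nat.card_eq_fintype_card] at hc
    have : Fintype.card F < Fintype.card F ^ r := lt_self_pow₀ Fintype.one_lt_card hr.one_lt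
    omega
  cases h with
  | singular W h0 hs =>
    refine suGL_not_le_subspace hF (by omega) h0 fun e => ?_
    subst e
    obtain ⟨u, hu⟩ := exists_ne (α := Fin n → F) 0
    obtain ⟨w, hw⟩ := (hf.nondegenerate u hu).2
    exact hw (hs u trivial w trivial)
  | nondeg W h0 _ hd =>
    refine suGL_not_le_subspace hF (by omega) h0 fun e => ?_
    subst e
    rw [finrank_top, finrank_pi_card, Fintype.card_fin] at hd
    omega
  | decomp t k D hmul hD =>
    rcases Nat.lt_or_ge k 2 with hk | hk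
    · obtain rfl : k = 1 := by have := hD.decomp.pos; omega
      obtain rfl : t = n := by omega
      exact suGL_not_le_decomposition hF (by omega) (Or.inr hn) hD.decomp
    · exact suGL_not_le_blocks hF (by omega) hk hD.decomp
  | pair k D hk hD hs => exact suGL_not_le_blocks hF (by omega) (by omega) hD
  | subfieldOdd F₀ r P hr ho hc hs => exact suGL_not_le_subfieldSubgroup hF (by omega) (hne hr hc) P
  | subfieldOrth F₀ P hq hc hs => exact suGL_not_le_subfieldSubgroup hF (by omega) (hne Nat.prime_two hc) P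
  | subfieldSymp F₀ P ζ hn' hc hζ0 hζ hs halt =>
    exact suGL_not_le_subfieldSubgroup hF (by omega) (hne Nat.prime_two hc) P
  | sympType r R p e k hR ha hs hrp hmin hcase hk =>
    haveI := Fact.mk hR.prime
    haveI := Fact.mk hmin.1
    haveI := hmin.2.1
    refine suGL_not_le_sympType hF hn hR.pGroup (fun h => hrp ?_) ha
    exact ((Nat.prime_dvd_prime_iff_eq hmin.1 hR.prime).mp ((CharP.cast_eq_zero_iff F p r).mp h)).symm
  | field r K hr ho hrn hK hs => exact suGL_not_le_field' hF (by omega) hr.one_lt hK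
  | tensor n₁ n₂ e P f₁ f₂ h2 h12 hmul hf₁ hf₂ hs =>
    intro hle
    obtain ⟨k, ⟨a, b, hk⟩, hcc⟩ := exists_of_mem_conjReindex (K := kroneckerSubgroup n₁ n₂ F) e P _
      (hle (utv_mem hF hv hc))
    obtain ⟨φ, hφ⟩ := inCoords_utv_fix hF e P hv c
    rw [hcc, hk] at hφ
    exact inCoords_utv_ne hF e P hv hv0 hc0
      (hcc.trans (hk.trans (kron_fix_hyperplane h2 (by omega) (gl_det_ne_zero a) (gl_det_ne_zero b) φ hφ)))
  | wreath k t e P f₁ h3 ht hex hmul hf₁ hs =>
    intro hle
    obtain ⟨π, a, hcc⟩ := exists_isWreath_of_mem e P _ (hle (utv_mem hF hv hc))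
    obtain ⟨φ, hφ⟩ := inCoords_utv_fix hF e P hv c
    rw [hcc] at hφ
    rcases eq_or_lt_of_le ht with rfl | ht3
    · exact inCoords_utv_ne hF e P hv hv0 hc0 (hcc.trans (wreath_two_fix_hyperplane h3 φ hφ))
    · exact inCoords_utv_ne hF e P hv hv0 hc0 (hcc.trans (wreath_fix_hyperplane ht3 (by omega) φ hφ))

/-- A maximal subgroup is a member or residual. -/
theorem su_maximal_type (hF : Fintype.card F = q ^ 2) (hn : 4 ≤ n) {H : Subgroup (GL (Fin n) F)}
    (hH : IsMaximalIn (Cfsg.GU n F q ⊓ specialLinear (Fin n) F) H) :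
    (∃ M, UMember n F q M ∧ H = M ⊓ (Cfsg.GU n F q ⊓ specialLinear (Fin n) F)) ∨ InUnitaryResidualClass H :=
  (unitary_structure hF (by omega) (hH.1.le.trans inf_le_left)).imp_left fun ⟨M, hM, hle⟩ =>
    ⟨M, hM, eq_inf_of_maximal hH hle (hM.not_le hF hn)⟩

end Cfsg.Lib.Classical.Aschbacher
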