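import Cfsg.Agent.Classical.Aschbacher.FormField
import Cfsg.Agent.Classical.Aschbacher.FormComponents
import Cfsg.Agent.Classical.Aschbacher.FormTensor
import Cfsg.Agent.Classical.Aschbacher.LinearMembers
import Cfsg.Agent.Classical.PrimeDim.UnitaryMembers

/-! The geometric classes of the unitary groups, with parameters, and the structures that lead to them. -/

set_option autoImplicit false
set_option linter.unusedSimpArgs false
set_option linter.unusedSectionVars false
set_option linter.style.haveILetI false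

namespace Cfsg.Lib.Classical.Aschbacher

open Matrix Cfsg.Geo
open scoped MatrixGroups Kronecker
open Cfsg.Lib.Classical.PrimeDim (finrank_pi_card finrank_map_mulVec Invariant frob frob_apply frob_frob frob_ne_refl
  herm_isUnitary herm_isSesq mem_GU_iff IsSesq)

universe u

variable {n : ℕ} {F : Type u} [Field F] [Fintype F] {q : ℕ}

theorem frob_eq (hF : Fintype.card F = q ^ 2) : ⇑(frob hF) = fun x : F => x ^ q := funext (frob_apply hF)

theorem herm_refl (hF : Fintype.card F = q ^ 2) : ReflForm (frob hF) 1 (Cfsg.hermForm n F q) where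
  toIsSesq := herm_isSesq hF
  inv := frob_frob hF
  herm u v := by rw [one_mul]; exact (herm_isUnitary hF).herm v u

theorem gu_fixes {H : Subgroup (GL (Fin n) F)} (hH : H ≤ Cfsg.GU n F q) : Fixes (Cfsg.hermForm n F q) H :=
  fun _ hg => mem_GU_iff.mp (hH hg)

theorem unitaryFormPow_matForm (hF : Fintype.card F = q ^ 2) {κ : Type} [Fintype κ] [DecidableEq κ]
    {X : Matrix κ κ F} (hX : X.det ≠ 0) (hh : Xᵀ = X.map (frob hF)) : IsUnitaryFormPow q (matForm (frob hF) X) := by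
  have hinv := frob_frob hF
  have hh' : Xᵀ.map (frob hF) = X := by
    rw [hh, Matrix.map_map, show (⇑(frob hF) ∘ ⇑(frob hF)) = id from funext hinv, Matrix.map_id]
  have hu := matForm_unitary (frob_ne_refl hF) hinv hX hh'
  exact ⟨hu.add_left, hu.smul_left, fun v w => by rw [← frob_apply hF]; exact hu.herm v w, hu.nondegenerate⟩

theorem unitaryFormPow_refl (hF : Fintype.card F = q ^ 2) {κ : Type} [Fintype κ] [DecidableEq κ]
    {f : (κ → F) → (κ → F) → F} (h : IsUnitaryFormPow q f) : ReflForm (frob hF) 1 f where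
  toIsSesq := IsSesq.of_unitary (σ := frob hF)
    ⟨frob_ne_refl hF, frob_frob hF, h.add_left, h.smul_left, fun v w => (h.herm v w).trans (frob_apply hF _).symm,
      h.nondegenerate⟩
  inv := frob_frob hF
  herm u v := by rw [one_mul, frob_apply]; exact h.herm v u

/-- The members of the classes, before intersecting with the unitary group. -/
inductive UMember (n : ℕ) (F : Type u) [Field F] [Fintype F] (q : ℕ) : Subgroup (GL (Fin n) F) → Prop
  | singular (W : Submodule F (Fin n → F)) (h0 : W ≠ ⊥) (hs : IsTotallySingularFor (Cfsg.hermForm n F q) W) :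
      UMember n F q (subspaceStabilizer W)
  | nondeg (W : Submodule F (Fin n → F)) (h0 : W ≠ ⊥) (hn : IsNondegenerateOn (Cfsg.hermForm n F q) W)
      (hd : 2 * Module.finrank F W < n) : UMember n F q (subspaceStabilizer W)
  | decomp (t k : ℕ) (D : Fin t → Submodule F (Fin n → F)) (hmul : t * k = n)
      (hD : IsNondegenerateMDecomposition (Cfsg.hermForm n F q) k D) : UMember n F q (decompositionStabilizer D)
  | pair (k : ℕ) (D : Fin 2 → Submodule F (Fin n → F)) (hk : 2 * k = n) (hD : IsMDecomposition k D)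
      (hs : ∀ i, IsTotallySingularFor (Cfsg.hermForm n F q) (D i)) : UMember n F q (decompositionStabilizer D)
  | subfieldOdd (F₀ : Subfield F) (r : ℕ) (P : GL (Fin n) F) (hr : r.Prime) (ho : Odd r)
      (hc : Fintype.card F = Nat.card F₀ ^ r)
      (hs : IsFormRationalStructure (Cfsg.hermForm n F q) F₀ 1 P) : UMember n F q (subfieldSubgroup F₀ P)
  | subfieldOrth (F₀ : Subfield F) (P : GL (Fin n) F) (hq : Odd q) (hc : Fintype.card F = Nat.card F₀ ^ 2)
      (hs : IsFormRationalStructure (Cfsg.hermForm n F q) F₀ 1 P) : UMember n F q (subfieldSubgroup F₀ P)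
  | subfieldSymp (F₀ : Subfield F) (P : GL (Fin n) F) (ζ : F) (hn : Even n)
      (hc : Fintype.card F = Nat.card F₀ ^ 2) (hζ0 : ζ ≠ 0) (hζ : ζ + ζ ^ q = 0)
      (hs : IsFormRationalStructure (Cfsg.hermForm n F q) F₀ ζ P)
      (halt : ∀ u : Fin n → F, (∀ i, u i ∈ F₀) → Cfsg.hermForm n F q
        ((P : Matrix (Fin n) (Fin n) F) *ᵥ u) ((P : Matrix (Fin n) (Fin n) F) *ᵥ u) = 0) :
      UMember n F q (subfieldSubgroup F₀ P)
  | sympType (r : ℕ) (R : Subgroup (GL (Fin n) F)) (p e k : ℕ) (hR : IsSymplecticTypeGroup r R)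
      (ha : ActsAbsolutelyIrreducibly (matrixSet R)) (hs : R ≤ similarityGroup (Cfsg.hermForm n F q)) (hrp : r ≠ p)
      (hmin : IsMinimalFieldFor (Nat.card (Subgroup.center R)) p e F)
      (hcase : (Odd r ∧ Nat.card (Subgroup.center R) = r ∧ 1 ≤ k ∧ Nat.card R = r ^ (1 + 2 * k)) ∨
        (r = 2 ∧ e = 2 ∧ Nat.card (Subgroup.center R) = 4 ∧ Nat.card R = 2 ^ (2 + 2 * k)))
      (hk : n = r ^ k) : UMember n F q (subgroupNormalizer R)
  | field (r : ℕ) (K : Subalgebra F (Matrix (Fin n) (Fin n) F)) (hr : r.Prime) (ho : Odd r) (hrn : r ∣ n)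
      (hK : IsFieldSubalgebra r K) (hs : IsAdjointClosedFor (Cfsg.hermForm n F q) K) :
      UMember n F q (subalgebraNormalizer K)
  | tensor (n₁ n₂ : ℕ) (e : Fin n ≃ Fin n₁ × Fin n₂) (P : GL (Fin n) F) (f₁ : (Fin n₁ → F) → (Fin n₁ → F) → F)
      (f₂ : (Fin n₂ → F) → (Fin n₂ → F) → F) (h2 : 2 ≤ n₁) (h12 : n₁ < n₂) (hmul : n₁ * n₂ = n)
      (hf₁ : IsUnitaryFormPow q f₁) (hf₂ : IsUnitaryFormPow q f₂)
      (hs : IsTensorFormStructure (fun x : F => x ^ q) (Cfsg.hermForm n F q) f₁ f₂ e P) :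
      UMember n F q (tensorProductSubgroup n₁ n₂ e P)
  | wreath (k t : ℕ) (e : Fin n ≃ (Fin t → Fin k)) (P : GL (Fin n) F) (f₁ : (Fin k → F) → (Fin k → F) → F)
      (h3 : 3 ≤ k) (ht : 2 ≤ t) (hex : ¬ (q = 2 ∧ k = 3)) (hmul : k ^ t = n) (hf₁ : IsUnitaryFormPow q f₁)
      (hs : IsTensorPowerFormStructure (fun x : F => x ^ q) (Cfsg.hermForm n F q) f₁ e P) :
      UMember n F q (tensorWreathSubgroup k t e P)

theorem UMember.inClass {M : Subgroup (GL (Fin n) F)} (h : UMember n F q M) :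
    InUnitaryClass n F q (M ⊓ Cfsg.GU n F q) := by
  cases h with
  | singular W h0 hs => exact Or.inl (Or.inl ⟨W, h0, hs, rfl⟩)
  | nondeg W h0 hn hd => exact Or.inl (Or.inr (Or.inl ⟨W, h0, hn, hd, rfl⟩))
  | decomp t k D _ hD => exact Or.inl (Or.inr (Or.inr (Or.inl ⟨t, k, D, hD, rfl⟩)))
  | pair k D hk hD hs => exact Or.inl (Or.inr (Or.inr (Or.inr (Or.inl ⟨k, D, hk, hD, hs, rfl⟩))))
  | subfieldOdd F₀ r P hr ho hc hs =>
    exact Or.inl (Or.inr (Or.inr (Or.inr (Or.inr (Or.inl ⟨F₀, r, P, hr, ho, hc, hs, rfl⟩)))))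
  | subfieldOrth F₀ P hq hc hs =>
    exact Or.inl (Or.inr (Or.inr (Or.inr (Or.inr (Or.inr (Or.inl ⟨F₀, P, hq, hc, hs, rfl⟩))))))
  | subfieldSymp F₀ P ζ hn hc hζ0 hζ hs halt =>
    exact Or.inl (Or.inr (Or.inr (Or.inr (Or.inr (Or.inr (Or.inr (Or.inl
      ⟨F₀, P, ζ, hn, hc, hζ0, hζ, hs, halt, rfl⟩)))))))
  | sympType r R p e k hR ha hs hrp hmin hcase _ =>
    exact Or.inl (Or.inr (Or.inr (Or.inr (Or.inr (Or.inr (Or.inr (Or.inr
      ⟨r, R, p, e, k, hR, ha, hs, hrp, hmin, hcase, rfl⟩)))))))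
  | field r K hr ho _ hK hs => exact Or.inr (Or.inl ⟨r, K, hr, ho, hK, hs, rfl⟩)
  | tensor n₁ n₂ e P f₁ f₂ h2 h12 _ hf₁ hf₂ hs =>
    exact Or.inr (Or.inr (Or.inl ⟨n₁, n₂, e, P, f₁, f₂, h2, h12, hf₁, hf₂, hs, rfl⟩))
  | wreath k t e P f₁ h3 ht hex _ hf₁ hs =>
    exact Or.inr (Or.inr (Or.inr ⟨k, t, e, P, f₁, h3, ht, hex, hf₁, hs, rfl⟩))

/-- Some member of the classes contains `H`. -/
def InULE (q : ℕ) (H : Subgroup (GL (Fin n) F)) : Prop := ∃ M, UMember n F q M ∧ H ≤ M

theorem InULE.exists_class {H : Subgroup (GL (Fin n) F)} (hH : H ≤ Cfsg.GU n F q) (h : InULE q H) :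
    ∃ M, InUnitaryClass n F q M ∧ H ≤ M :=
  let ⟨_, hM, hle⟩ := h; ⟨_, hM.inClass, le_inf hle hH⟩

variable {H : Subgroup (GL (Fin n) F)}

/-- An invariant subspace gives one of the classes. -/
theorem inULE_of_invariant (hF : Fintype.card F = q ^ 2) (hH : H ≤ Cfsg.GU n F q) {W : Submodule F (Fin n → F)}
    (h0 : W ≠ ⊥) (h1 : W ≠ ⊤) (hW : Invariant H W) : InULE q H := by
  have hf := herm_refl (n := n) hF
  obtain ⟨U, hU0, hU1, hU, hs | ⟨hn, hle⟩⟩ := hf.reducible (gu_fixes hH) h0 h1 hW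
  · exact ⟨_, .singular U hU0 hs, hU.le_stabilizer⟩
  rw [Fintype.card_fin] at hle
  rcases eq_or_lt_of_le hle with he | hlt
  swap
  · exact ⟨_, .nondeg U hU0 (hf.nondegenerateOn hn) hlt, hU.le_stabilizer⟩
  have hperp := hf.perp_invariant (gu_fixes hH) hU
  set m := Module.finrank F U with hm
  have hm0 : 0 < m := Nat.pos_of_ne_zero fun e => hU0 (Submodule.finrank_eq_zero.mp e)
  have hdim := hf.finrank_perp U
  rw [Fintype.card_fin] at hdim
  have hc := hf.isCompl_perp hn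
  have hfix : ∀ h ∈ H, ∀ V : Submodule F (Fin n → F), Invariant H V →
      V.map (Matrix.toLin' (h : Matrix (Fin n) (Fin n) F)) = V := fun h hh V hV => by
    refine Submodule.eq_of_le_of_finrank_eq ?_ (finrank_map_mulVec _ _)
    rintro _ ⟨v, hv, rfl⟩
    rw [Matrix.toLin'_apply]; exact hV h hh v hv
  refine ⟨_, .decomp 2 m ![U, hf.perp U] he ⟨⟨le_rfl, hm0, fun i => ?_, ?_, ?_⟩, fun i => ?_, fun i j hij => ?_⟩,
    fun h hh => ⟨1, fun i => ?_⟩⟩
  · fin_cases i
    · exact hm.symm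
    · show Module.finrank F (hf.perp U) = m; omega
  · exact (iSupIndep_pair (i := (0 : Fin 2)) (j := 1) (by decide) (fun k => by fin_cases k <;> simp)).mpr hc.disjoint
  · exact top_le_iff.mp (hc.sup_eq_top ▸ sup_le (le_iSup (![U, hf.perp U]) 0) (le_iSup (![U, hf.perp U]) 1))
  · fin_cases i
    · exact hf.nondegenerateOn hn
    · exact hf.nondegenerateOn (hf.perp_inf_perp_perp hn)
  · fin_cases i <;> fin_cases j
    · exact absurd rfl hij
    · exact fun u hu v hv => hf.eq_zero_symm (hv u hu)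
    · exact fun u hu v hv => hu v hv
    · exact absurd rfl hij
  · fin_cases i
    · exact hfix h hh _ hU
    · exact hfix h hh _ hperp

/-- A system of imprimitivity gives one of the classes. -/
theorem inULE_of_formDecomp (h : FormDecomp H (Cfsg.hermForm n F q)) : InULE q H := by
  obtain ⟨t, m, D, hD, hle⟩ | ⟨m, D, hm, hD, hts, hle⟩ := h
  · exact ⟨_, .decomp t m D ((IsMDecomposition.mul_eq hD.decomp).trans (Fintype.card_fin n)) hD, hle⟩
  · exact ⟨_, .pair m D (hm.trans (Fintype.card_fin n)) hD hts, hle⟩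

/-- An adjoint-closed field of prime degree gives one of the classes. -/
theorem inULE_of_field [Nonempty (Fin n)] (hF : Fintype.card F = q ^ 2) {r : ℕ} (hr : r.Prime)
    {K : Subalgebra F (Matrix (Fin n) (Fin n) F)} (hK : IsFieldSubalgebra r K)
    (hadj : ∀ k ∈ K, (herm_refl (n := n) hF).adj k ∈ K) (hle : H ≤ subalgebraNormalizer K) : InULE q H := by
  rcases hr.eq_two_or_odd' with rfl | ho
  · exact absurd hadj (not_adjClosed_two (herm_refl hF) (frob_ne_refl hF) hK)
  · exact ⟨_, .field r K hr ho ((IsFieldSubalgebra.dvd_card hK).trans (Fintype.card_fin n).dvd) hK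
      (adjClosed_of (herm_refl hF) hadj), hle⟩

end Cfsg.Lib.Classical.Aschbacher
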