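import Cfsg.Agent.Classical.Aschbacher.UnitTypes
import Cfsg.Agent.Classical.Unitary.SympSubMatrix

/-! Over four elements the normaliser in `SU₆` of a cubic field lies in a subfield group of symplectic type. -/

set_option autoImplicit false
set_option linter.unusedSimpArgs false
set_option linter.unusedSectionVars false
set_option linter.style.haveILetI false

namespace Cfsg.Lib.Classical.Aschbacher

open Matrix Cfsg.Geo
open scoped MatrixGroups
open Cfsg.Lib.Classical.PrimeDim (frob frob_apply exists_char_card finrank_pi_card val_inv_mul val_mul_inv mem_GU_iff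
  inv_mulVec_mulVec gl_mulVec_ne_zero)

variable {F : Type*} [Field F] [Fintype F] {q : ℕ}

set_option maxHeartbeats 4000000 in
theorem subfield_of_field_six (hF : Fintype.card F = q ^ 2) (hq : q = 2) {H : Subgroup (GL (Fin 6) F)}
    (hH : H ≤ Cfsg.GU 6 F q ⊓ specialLinear (Fin 6) F) {K : Subalgebra F (Matrix (Fin 6) (Fin 6) F)}
    (hK : IsFieldSubalgebra 3 K) (hadj : IsAdjointClosedFor (Cfsg.hermForm 6 F q) K)
    (hle : H ≤ subalgebraNormalizer K) :
    ∃ (F₀ : Subfield F) (P : GL (Fin 6) F), Fintype.card F = Nat.card F₀ ^ 2 ∧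
      IsFormRationalStructure (Cfsg.hermForm 6 F q) F₀ 1 P ∧
      (∀ u : Fin 6 → F, (∀ i, u i ∈ F₀) → Cfsg.hermForm 6 F q
        ((P : Matrix (Fin 6) (Fin 6) F) *ᵥ u) ((P : Matrix (Fin 6) (Fin 6) F) *ᵥ u) = 0) ∧
      H ≤ subfieldSubgroup F₀ P := by
  classical
  subst hq
  have hf := herm_refl (n := 6) hF
  set h := Cfsg.hermForm 6 F 2 with hdef
  set σ := frob hF with hσ
  haveI hchar : CharP F 2 := by
    obtain ⟨p, f, hp, hc, -, hcard⟩ := exists_char_card F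
    rw [Nat.card_eq_fintype_card, hF] at hcard
    have : p ∣ 2 ^ 2 := hcard ▸ dvd_pow_self p (by rintro rfl; norm_num at hcard)
    rwa [(Nat.prime_dvd_prime_iff_eq hp Nat.prime_two).mp (hp.dvd_of_dvd_pow this)] at hc
  have h2 : ∀ x : F, x + x = 0 := fun x => CharTwo.add_self_eq_zero x
  have h3 : ∀ x : F, x ≠ 0 → x ^ 3 = 1 := fun x hx => by
    have := FiniteField.pow_card_sub_one_eq_one x hx
    rwa [hF] at this
  have hσ2 : ∀ x, σ x = x ^ 2 := fun x => frob_apply hF x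
  obtain ⟨om, hom0, hom1⟩ : ∃ x : F, x ≠ 0 ∧ x ≠ 1 := by
    by_contra hc
    push Not at hc
    have : (Finset.univ : Finset F) ⊆ {0, 1} := fun x _ => by
      rcases eq_or_ne x 0 with e | e
      · simp [e]
      · simp [hc x e]
    have := Finset.card_le_card this
    rw [Finset.card_univ, hF] at this
    have h4 : ({0, 1} : Finset F).card ≤ 2 := Finset.card_le_two
    omega
  have hw : om + om ^ 2 = 1 := by
    have h1 : (om - 1) * (om * om + om + 1) = 0 := by linear_combination h3 om hom0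
    linear_combination (mul_eq_zero.mp h1).resolve_left (sub_ne_zero.mpr hom1) - h2 (1 : F)
  -- the prime field
  let F₀ : Subfield F := (σ : F →+* F).eqLocusField (RingHom.id F)
  have hmem : ∀ x, x ∈ F₀ ↔ σ x = x := fun x => Iff.rfl
  have h01 : ∀ x, σ x = x → x = 0 ∨ x = 1 := fun x hx => by
    rw [hσ2] at hx
    rcases eq_or_ne x 0 with e | e
    · exact Or.inl e
    · exact Or.inr (mul_left_cancel₀ e (by rw [mul_one, ← pow_two]; exact hx))
  have hcard0 : Nat.card F₀ = 2 := by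
    rw [Nat.card_eq_two_iff]
    refine ⟨0, 1, zero_ne_one, Set.eq_univ_of_forall fun x => ?_⟩
    rcases h01 x ((hmem x).mp x.2) with e | e
    · exact Or.inl (Subtype.ext e)
    · exact Or.inr (Subtype.ext e)
  -- the field
  have hadjK : ∀ k ∈ K, hf.adj k ∈ K := fun k hk => by
    obtain ⟨k', hk', e⟩ := hadj k hk
    rwa [hf.adj_unique e]
  have hadjsmul : ∀ (c : F) (M : Matrix (Fin 6) (Fin 6) F), hf.adj (c • M) = σ c • hf.adj M := fun c M => by
    rw [show c • M = (c • (1 : Matrix (Fin 6) (Fin 6) F)) * M by rw [Matrix.smul_mul, Matrix.one_mul],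
      hf.adj_mul, hf.adj_smul_one, Matrix.mul_smul, Matrix.mul_one]
  have hzero : hf.adj 0 = 0 := by
    have := hf.adj_smul_one (0 : F)
    rwa [zero_smul, map_zero, zero_smul] at this
  have hM2 : ∀ M : Matrix (Fin 6) (Fin 6) F, M + M = 0 := fun M => by ext i j; exact h2 _
  have hMswap : ∀ {M N : Matrix (Fin 6) (Fin 6) F}, M + N = 0 → M = N := fun {M N} e => by
    calc M = M + (N + N) := by rw [hM2, add_zero]
      _ = N := by rw [← add_assoc, e, zero_add]
  have hdom : ∀ x ∈ K, ∀ y ∈ K, x * y = 0 → x = 0 ∨ y = 0 := fun x hx y hy e => by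
    by_contra hc
    push Not at hc
    obtain ⟨x', hx', hxx⟩ := hK.inv x hx hc.1
    refine hc.2 ?_
    rw [← one_mul y, ← hxx, hK.comm x hx x' hx', mul_assoc, e, mul_zero]
  have hcancel : ∀ x ∈ K, x ≠ 0 → ∀ y ∈ K, ∀ y' ∈ K, x * y = x * y' → y = y' := fun x hx hx0 y hy y' hy' e => by
    refine sub_eq_zero.mp ((hdom x hx (y - y') (K.sub_mem hy hy') ?_).resolve_left hx0)
    rw [mul_sub, e, sub_self]
  let Rl : Set (Matrix (Fin 6) (Fin 6) F) := {k | k ∈ K ∧ hf.adj k = k}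
  have hRadd : ∀ {x y}, x ∈ Rl → y ∈ Rl → x + y ∈ Rl := fun {x y} hx hy =>
    ⟨K.add_mem hx.1 hy.1, by rw [hf.adj_add, hx.2, hy.2]⟩
  have hRmul : ∀ {x y}, x ∈ Rl → y ∈ Rl → x * y ∈ Rl := fun {x y} hx hy =>
    ⟨K.mul_mem hx.1 hy.1, by rw [hf.adj_mul, hx.2, hy.2]; exact hK.comm _ hy.1 _ hx.1⟩
  have hsplit : ∀ k ∈ K, ∃ r₁ ∈ Rl, ∃ r₂ ∈ Rl, k = r₁ + om • r₂ := fun k hk => by
    have hd : k + hf.adj k ∈ Rl := ⟨K.add_mem hk (hadjK k hk), by rw [hf.adj_add, hf.adj_adj, add_comm]⟩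
    refine ⟨k + om • (k + hf.adj k), ⟨K.add_mem hk (K.smul_mem hd.1 _), hMswap ?_⟩, _, hd, by
      rw [add_assoc, hM2, add_zero]⟩
    rw [hf.adj_add, hadjsmul, hd.2, hσ2]
    calc hf.adj k + om ^ 2 • (k + hf.adj k) + (k + om • (k + hf.adj k))
        = ((1 : F) + (om + om ^ 2)) • (k + hf.adj k) := by module
      _ = 0 := by rw [hw, h2, zero_smul]
  have hKspan : Submodule.span F Rl = Subalgebra.toSubmodule K := le_antisymm
    (Submodule.span_le.mpr fun x hx => hx.1) fun k hk => by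
      obtain ⟨r₁, h1, r₂, h2', rfl⟩ := hsplit k hk
      exact add_mem (Submodule.subset_span h1) (Submodule.smul_mem _ _ (Submodule.subset_span h2'))
  have hdimK : Module.finrank F (Submodule.span F Rl) = 3 := by rw [hKspan]; exact hK.finrank_eq
  obtain ⟨z', hz'sub, hz'span, hz'li⟩ := Submodule.exists_fun_fin_finrank_span_eq F Rl
  let z : Fin 3 → Matrix (Fin 6) (Fin 6) F := z' ∘ Fin.cast hdimK.symm
  have hzR : ∀ i, z i ∈ Rl := fun i => hz'sub _
  have hzli : LinearIndependent F z := hz'li.comp _ (Fin.cast_injective _)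
  have hzspan : ∀ k ∈ K, ∃ c : Fin 3 → F, k = ∑ i, c i • z i := fun k hk => by
    have h1 : k ∈ Submodule.span F (Set.range z) := by
      rw [show Set.range z = Set.range z' from (finCongr hdimK.symm).surjective.range_comp z', hz'span, hKspan]
      exact hk
    obtain ⟨c, hc⟩ := (Submodule.mem_span_range_iff_exists_fun F).mp h1
    exact ⟨c, hc.symm⟩
  have hcomb : ∀ c : Fin 3 → F, (∑ i, c i • z i) ∈ K := fun c => K.sum_mem fun i _ => K.smul_mem (hzR i).1 _
  have hcombR : ∀ c : Fin 3 → F, (∀ i, c i ∈ F₀) → (∑ i, c i • z i) ∈ Rl := fun c hc => by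
    refine ⟨hcomb c, ?_⟩
    rw [Fin.sum_univ_three, hf.adj_add, hf.adj_add, hadjsmul, hadjsmul, hadjsmul, (hzR 0).2, (hzR 1).2, (hzR 2).2,
      (hmem _).mp (hc 0), (hmem _).mp (hc 1), (hmem _).mp (hc 2)]
  have hcoef : ∀ r ∈ Rl, ∃ c : Fin 3 → F, (∀ i, c i ∈ F₀) ∧ r = ∑ i, c i • z i := fun r hr => by
    obtain ⟨c, hc⟩ := hzspan r hr.1
    refine ⟨c, fun i => (hmem _).mpr ?_, hc⟩
    have h1 : ∑ i, (σ (c i) - c i) • z i = 0 := by
      have e : ∑ i, σ (c i) • z i = r := by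
        rw [← hr.2, hc, Fin.sum_univ_three, Fin.sum_univ_three, hf.adj_add, hf.adj_add, hadjsmul, hadjsmul, hadjsmul,
          (hzR 0).2, (hzR 1).2, (hzR 2).2]
      simp only [sub_smul, Finset.sum_sub_distrib, e, ← hc, sub_self]
    exact sub_eq_zero.mp (Fintype.linearIndependent_iff.mp hzli _ h1 i)
  -- functionals
  have hslot : ∀ (v w : Fin 6 → F) (c : Fin 3 → F),
      h ((∑ i, c i • z i) *ᵥ v) w = ∑ i, c i * h (z i *ᵥ v) w := fun v w c => by
    rw [Matrix.sum_mulVec, hf.sum_left]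
    exact Finset.sum_congr rfl fun i _ => by rw [Matrix.smul_mulVec, hf.smul_left]
  have hleft : ∀ (M : Matrix (Fin 6) (Fin 6) F) u v, h u (M *ᵥ v) = h (hf.adj M *ᵥ u) v := fun M u v => by
    rw [hf.adj_spec, hf.adj_adj]
  have hherm : ∀ u v, h u v = σ (h v u) := fun u v => by
    have := hf.herm v u; rwa [one_mul] at this
  have hreal : ∀ k ∈ Rl, ∀ v, h (k *ᵥ v) v ∈ F₀ := fun k hk v => by
    rw [hmem, ← hherm, hleft, hk.2]
  have hsubl : ∀ x y v, h (x - y) v = h x v - h y v := fun x y v =>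
    eq_sub_of_add_eq (by rw [← hf.add_left, sub_add_cancel])
  have hsurj : ∀ (v w : Fin 6 → F), (∀ k ∈ Rl, h (k *ᵥ v) w ∈ F₀) →
      (∀ r ∈ Rl, (∀ k ∈ K, h ((k * r) *ᵥ v) w = 0) → r = 0) → ∀ t : Fin 3 → F, (∀ i, t i ∈ F₀) →
      ∃ r ∈ Rl, ∀ i, h ((z i * r) *ᵥ v) w = t i := by
    intro v w hval hnd t ht
    let Φ : (Fin 3 → F₀) → (Fin 3 → F₀) := fun c i =>
      ⟨h ((z i * ∑ j, (c j : F) • z j) *ᵥ v) w, hval _ (hRmul (hzR i) (hcombR _ fun j => (c j).2))⟩
    have hΦ : Function.Injective Φ := fun c c' e => funext fun j => Subtype.ext ?_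
    · obtain ⟨c₀, hc₀⟩ := (Finite.injective_iff_surjective.mp hΦ) fun i => ⟨t i, ht i⟩
      exact ⟨_, hcombR _ fun j => (c₀ j).2, fun i => congrArg (fun x : F₀ => (x : F)) (congrFun hc₀ i)⟩
    · have hr : (∑ j, ((c j : F) - c' j) • z j) ∈ Rl := hcombR _ fun j => F₀.sub_mem (c j).2 (c' j).2
      have h0 := hnd _ hr fun k hk => by
        obtain ⟨a, rfl⟩ := hzspan k hk
        rw [Finset.sum_mul]
        simp only [Matrix.smul_mul]
        rw [Matrix.sum_mulVec, hf.sum_left]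
        refine Finset.sum_eq_zero fun i _ => ?_
        rw [Matrix.smul_mulVec, hf.smul_left]
        have e' := congrArg (fun x : F₀ => (x : F)) (congrFun e i)
        simp only [Φ] at e'
        simp only [sub_smul, Finset.sum_sub_distrib, mul_sub, Matrix.sub_mulVec]
        rw [hsubl, e', sub_self, mul_zero]
      exact sub_eq_zero.mp (Fintype.linearIndependent_iff.mp hzli _ h0 j)
  have hext : ∀ {v w v' w' : Fin 6 → F} {r : Matrix (Fin 6) (Fin 6) F},
      (∀ i, h ((z i * r) *ᵥ v) w = h (z i *ᵥ v') w') → ∀ k ∈ K, h ((k * r) *ᵥ v) w = h (k *ᵥ v') w' := by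
    intro v w v' w' r he k hk
    obtain ⟨a, rfl⟩ := hzspan k hk
    rw [hslot, Finset.sum_mul]
    simp only [Matrix.smul_mul]
    rw [Matrix.sum_mulVec, hf.sum_left]
    exact Finset.sum_congr rfl fun i _ => by rw [Matrix.smul_mulVec, hf.smul_left, he]
  -- a vector isotropic for the field
  obtain ⟨e, he0, hee⟩ : ∃ e : Fin 6 → F, e ≠ 0 ∧ ∀ k ∈ K, h (k *ᵥ e) e = 0 := by
    obtain ⟨v₀, hv₀⟩ := exists_ne (0 : Fin 6 → F)
    by_cases hψ : ∀ k ∈ K, h (k *ᵥ v₀) v₀ = 0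
    · exact ⟨v₀, hv₀, hψ⟩
    let L : (Fin 6 → F) →ₗ[F] (Fin 3 → F) :=
      { toFun := fun u i => h u (z i *ᵥ v₀)
        map_add' := fun x y => funext fun i => hf.add_left x y _
        map_smul' := fun c x => funext fun i => hf.smul_left c x _ }
    obtain ⟨u, hu, hu0⟩ := (Submodule.ne_bot_iff _).mp (LinearMap.ker_ne_bot_of_finrank_lt (f := L) (by
      rw [finrank_pi_card, finrank_pi_card, Fintype.card_fin, Fintype.card_fin]; norm_num))
    have huk : ∀ k ∈ K, h (k *ᵥ v₀) u = 0 := fun k hk => by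
      obtain ⟨a, rfl⟩ := hzspan k hk
      rw [hslot]
      exact Finset.sum_eq_zero fun i _ => by
        rw [show h (z i *ᵥ v₀) u = 0 from hf.eq_zero_symm (congrFun hu i), mul_zero]
    have hnd : ∀ r ∈ Rl, (∀ k ∈ K, h ((k * r) *ᵥ v₀) v₀ = 0) → r = 0 := fun r hr h0 => by
      by_contra hr0
      obtain ⟨r', hr', hrr⟩ := hK.inv r hr.1 hr0
      refine hψ fun k hk => ?_
      have := h0 (k * r') (K.mul_mem hk hr')
      rwa [mul_assoc, hK.comm r' hr' r hr.1, hrr, mul_one] at this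
    obtain ⟨r, hr, hrt⟩ := hsurj v₀ v₀ (fun k hk => hreal k hk v₀) hnd (fun i => h (z i *ᵥ u) u)
      (fun i => hreal _ (hzR i) u)
    -- every real element is a square
    obtain ⟨x, hx, hxr⟩ : ∃ x ∈ Rl, x * x = r := by
      let sq : Rl → Rl := fun x => ⟨(x : Matrix (Fin 6) (Fin 6) F) * x, hRmul x.2 x.2⟩
      have hsq : Function.Injective sq := by
        rintro ⟨x, hx⟩ ⟨y, hy⟩ e
        have e' : x * x = y * y := congrArg Subtype.val e
        refine Subtype.ext (hMswap ((hdom _ (K.add_mem hx.1 hy.1) _ (K.add_mem hx.1 hy.1) ?_).elim id id))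
        calc (x + y) * (x + y) = (x * x + y * y) + (x * y + y * x) := by rw [add_mul, mul_add, mul_add]; abel
          _ = 0 := by rw [e', hK.comm x hx.1 y hy.1, hM2, hM2, add_zero]
      obtain ⟨x, hx⟩ := Finite.injective_iff_surjective.mp hsq ⟨r, hr⟩
      exact ⟨x, x.2, congrArg Subtype.val hx⟩
    refine ⟨x *ᵥ v₀ + u, fun e0 => ?_, fun k hk => ?_⟩
    · have hx0 : x = 0 := hnd x hx fun k hk => by
        have hu' : u = -(x *ᵥ v₀) := eq_neg_of_add_eq_zero_right e0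
        have := huk k hk
        rw [hu', ← neg_one_smul F, hf.smul_right, hleft, hx.2, Matrix.mulVec_mulVec, hK.comm x hx.1 k hk] at this
        exact (mul_eq_zero.mp this).resolve_left (by simp)
      rw [hx0, Matrix.zero_mulVec, zero_add] at e0
      exact hu0 e0
    · have c1 : h (k *ᵥ (x *ᵥ v₀)) (x *ᵥ v₀) = h (k *ᵥ u) u := by
        rw [hleft, hx.2, Matrix.mulVec_mulVec, Matrix.mulVec_mulVec,
          show x * k * x = k * r by rw [hK.comm x hx.1 k hk, mul_assoc, hxr]]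
        exact hext (fun i => hrt i) k hk
      have c2 : h (k *ᵥ (x *ᵥ v₀)) u = 0 := by
        rw [Matrix.mulVec_mulVec]; exact huk _ (K.mul_mem hk hx.1)
      have c3 : h (k *ᵥ u) (x *ᵥ v₀) = 0 := by
        refine hf.eq_zero_symm ?_
        rw [hleft, Matrix.mulVec_mulVec]
        exact huk _ (K.mul_mem (hadjK k hk) hx.1)
      rw [Matrix.mulVec_add, hf.add_left, hf.add_right, hf.add_right, c1, c2, c3, add_zero, zero_add, h2]
  -- the partner
  have hKe : ∀ k ∈ K, k *ᵥ e = 0 → k = 0 := fun k hk h0 => by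
    by_contra hk0
    obtain ⟨k', hk', hkk⟩ := hK.inv k hk hk0
    refine he0 ?_
    rw [← Matrix.one_mulVec e, ← hkk, hK.comm k hk k' hk', ← Matrix.mulVec_mulVec, h0, Matrix.mulVec_zero]
  obtain ⟨w₀, hw₀⟩ : ∃ w₀, ∀ i, h (z i *ᵥ e) w₀ = if i = 0 then 1 else 0 := by
    let W : Submodule F (Fin 6 → F) := Submodule.span F (Set.range fun i => z i *ᵥ e)
    have hli : LinearIndependent F fun i => z i *ᵥ e := Fintype.linearIndependent_iff.mpr fun c hc => by
      refine Fintype.linearIndependent_iff.mp hzli c (hKe _ (hcomb c) ?_)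
      rw [Matrix.sum_mulVec, ← hc]
      exact Finset.sum_congr rfl fun i _ => Matrix.smul_mulVec _ _ _
    let L : (Fin 6 → F) →ₗ[F] (Fin 3 → F) :=
      { toFun := fun u i => h u (z i *ᵥ e)
        map_add' := fun x y => funext fun i => hf.add_left x y _
        map_smul' := fun c x => funext fun i => hf.smul_left c x _ }
    have hker : LinearMap.ker L ≤ hf.perp W := fun u hu x hx => by
      obtain ⟨c, rfl⟩ := (Submodule.mem_span_range_iff_exists_fun F).mp hx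
      rw [hf.sum_right]
      exact Finset.sum_eq_zero fun i _ => by
        rw [hf.smul_right, show h u (z i *ᵥ e) = 0 from congrFun hu i, mul_zero]
    have hdim := hf.finrank_perp W
    rw [show Module.finrank F W = 3 by rw [finrank_span_eq_card hli, Fintype.card_fin], Fintype.card_fin] at hdim
    have h1 := Submodule.finrank_mono hker
    have h1' := LinearMap.finrank_range_add_finrank_ker L
    rw [finrank_pi_card, Fintype.card_fin] at h1'
    have htop : LinearMap.range L = ⊤ := Submodule.eq_top_of_finrank_eq (by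
      have := (LinearMap.range L).finrank_le
      rw [finrank_pi_card, Fintype.card_fin] at this ⊢
      omega)
    obtain ⟨w₀, hw⟩ := LinearMap.range_eq_top.mp htop fun i => if i = 0 then 1 else 0
    refine ⟨w₀, fun i => ?_⟩
    rw [hherm, show h w₀ (z i *ᵥ e) = if i = 0 then (1 : F) else 0 from congrFun hw i]
    split_ifs <;> simp
  have hτnd : ∀ r ∈ K, (∀ k ∈ K, h ((k * r) *ᵥ e) w₀ = 0) → r = 0 := fun r hr h0 => by
    by_contra hr0
    obtain ⟨r', hr', hrr⟩ := hK.inv r hr hr0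
    have := h0 (z 0 * r') (K.mul_mem (hzR 0).1 hr')
    rw [mul_assoc, hK.comm r' hr' r hr, hrr, mul_one, hw₀, if_pos rfl] at this
    exact one_ne_zero this
  have hτreal : ∀ k ∈ Rl, h (k *ᵥ e) w₀ ∈ F₀ := fun k hk => by
    obtain ⟨c, hc, rfl⟩ := hcoef k hk
    rw [hslot]
    refine F₀.sum_mem fun i _ => F₀.mul_mem (hc i) ?_
    rw [hw₀]
    split_ifs
    · exact F₀.one_mem
    · exact F₀.zero_mem
  have hτσ : ∀ k ∈ K, σ (h (k *ᵥ e) w₀) = h (hf.adj k *ᵥ e) w₀ := fun k hk => by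
    obtain ⟨r₁, h1, r₂, h2', rfl⟩ := hsplit k hk
    rw [hf.adj_add, hadjsmul, h1.2, h2'.2, Matrix.add_mulVec, Matrix.add_mulVec, Matrix.smul_mulVec, Matrix.smul_mulVec,
      hf.add_left, hf.add_left, hf.smul_left, hf.smul_left, map_add, map_mul, (hmem _).mp (hτreal _ h1),
      (hmem _).mp (hτreal _ h2')]
  obtain ⟨r, hr, hrt⟩ := hsurj e w₀ hτreal (fun r hr => hτnd r hr.1) (fun i => h (z i *ᵥ w₀) w₀)
    (fun i => hreal _ (hzR i) w₀)
  set y := om • r with hy
  have hyK : y ∈ K := K.smul_mem hr.1 _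
  have hyy : y + hf.adj y = r := by
    rw [hy, hadjsmul, hr.2, hσ2, ← add_smul, hw, one_smul]
  set w := w₀ + y *ᵥ e with hwdef
  have hKey : ∀ k ∈ K, ∀ y ∈ K, h (k *ᵥ e) (y *ᵥ e) = 0 := fun k hk y hy => by
    rw [hleft, Matrix.mulVec_mulVec]; exact hee _ (K.mul_mem (hadjK y hy) hk)
  set τ := fun k : Matrix (Fin 6) (Fin 6) F => h (k *ᵥ e) w₀ with hτ
  have hew : ∀ k ∈ K, h (k *ᵥ e) w = τ k := fun k hk => by
    rw [hwdef, hf.add_right, hKey k hk y hyK, add_zero]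
  have hww : ∀ k ∈ K, h (k *ᵥ w) w = 0 := fun k hk => by
    have hky := K.mul_mem hk hyK
    have hky' := K.mul_mem (hadjK k hk) hyK
    have c1 : h (k *ᵥ w₀) (y *ᵥ e) = τ (k * hf.adj y) := by
      rw [hherm, hleft, Matrix.mulVec_mulVec, hτσ _ hky', hf.adj_mul, hf.adj_adj]
      show h _ _ = h _ _
      rw [hK.comm _ (hadjK y hyK) k hk]
    have c2 : h (k *ᵥ (y *ᵥ e)) w₀ = τ (k * y) := by rw [Matrix.mulVec_mulVec]
    have c3 : h (k *ᵥ (y *ᵥ e)) (y *ᵥ e) = 0 := by rw [Matrix.mulVec_mulVec]; exact hKey _ hky _ hyK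
    rw [hwdef, Matrix.mulVec_add, hf.add_left, hf.add_right, hf.add_right, c1, c2, c3, add_zero, add_assoc,
      show τ (k * hf.adj y) + τ (k * y) = τ (k * r) by
        rw [← hyy, mul_add, hτ]
        show _ = h _ _
        rw [Matrix.add_mulVec, hf.add_left, add_comm],
      show τ (k * r) = h (k *ᵥ w₀) w₀ from hext (fun i => hrt i) k hk, h2]
  clear_value w
  have hτadd : ∀ a b, τ (a + b) = τ a + τ b := fun a b => by
    show h _ _ = h _ _ + h _ _
    rw [Matrix.add_mulVec, hf.add_left]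
  have hτσ' : ∀ k ∈ K, σ (τ k) = τ (hf.adj k) := hτσ
  have hform : ∀ x ∈ K, ∀ y ∈ K, ∀ x' ∈ K, ∀ y' ∈ K,
      h (x *ᵥ e + y *ᵥ w) (x' *ᵥ e + y' *ᵥ w) = τ (x * hf.adj y' + hf.adj x' * y) := by
    intro x hx y hy x' hx' y' hy'
    have c1 : h (x *ᵥ e) (y' *ᵥ w) = τ (x * hf.adj y') := by
      rw [hleft, Matrix.mulVec_mulVec, hK.comm _ (hadjK _ hy') x hx]
      exact hew _ (K.mul_mem hx (hadjK _ hy'))
    have c2 : h (y *ᵥ w) (x' *ᵥ e) = τ (hf.adj x' * y) := by
      rw [hherm, hleft, Matrix.mulVec_mulVec, hew _ (K.mul_mem (hadjK _ hy) hx'), hτσ' _ (K.mul_mem (hadjK _ hy) hx'),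
        hf.adj_mul, hf.adj_adj]
    have c3 : h (y *ᵥ w) (y' *ᵥ w) = 0 := by
      rw [hleft, Matrix.mulVec_mulVec]; exact hww _ (K.mul_mem (hadjK _ hy') hy)
    rw [hf.add_left, hf.add_right, hf.add_right, hKey x hx x' hx', c1, c2, c3, zero_add, add_zero, hτadd]
  have huniq : ∀ x ∈ K, ∀ y ∈ K, x *ᵥ e + y *ᵥ w = 0 → x = 0 ∧ y = 0 := by
    intro x hx y hy h0
    have hy0 : y = 0 := hτnd y hy fun k hk => by
      have h1 := hform x hx y hy _ (hadjK k hk) 0 K.zero_mem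
      rw [h0, hf.zero_left, hzero, mul_zero, zero_add, hf.adj_adj] at h1
      exact h1.symm
    rw [hy0, Matrix.zero_mulVec, add_zero] at h0
    exact ⟨hKe x hx h0, hy0⟩
  -- the structure
  let φ : Fin 6 ≃ Fin 3 ⊕ Fin 3 := (finSumFinEquiv (m := 3) (n := 3)).symm
  let cx : (Fin 6 → F) → Matrix (Fin 6) (Fin 6) F := fun u => ∑ i, u (φ.symm (.inl i)) • z i
  let cy : (Fin 6 → F) → Matrix (Fin 6) (Fin 6) F := fun u => ∑ i, u (φ.symm (.inr i)) • z i
  let Φ : Matrix (Fin 6) (Fin 3 ⊕ Fin 3) F :=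
    Matrix.of fun v k => Sum.elim (fun i => z i *ᵥ e) (fun i => z i *ᵥ w) k v
  let Pm : Matrix (Fin 6) (Fin 6) F := Φ.submatrix id φ
  have hPu : ∀ u, Pm *ᵥ u = cx u *ᵥ e + cy u *ᵥ w := by
    intro u
    have e1 : Pm *ᵥ u = Φ *ᵥ (u ∘ φ.symm) := by
      simp only [Pm]
      rw [Matrix.submatrix_mulVec_equiv]; rfl
    rw [e1]
    funext v
    simp only [cx, cy, Matrix.sum_mulVec, Matrix.smul_mulVec]
    simp [Φ, Matrix.mulVec, dotProduct, Fintype.sum_sum_type, Fin.sum_univ_three]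
    ring
  have hPsurj : ∀ x ∈ K, ∀ y ∈ K, ∃ u, Pm *ᵥ u = x *ᵥ e + y *ᵥ w ∧
      (x ∈ Rl → y ∈ Rl → ∀ i, u i ∈ F₀) := by
    intro x hx y hy
    obtain ⟨a, ha⟩ := hzspan x hx
    obtain ⟨b, hb⟩ := hzspan y hy
    refine ⟨Sum.elim a b ∘ φ, by rw [hPu]; simp [cx, cy, ← ha, ← hb], fun hxR hyR i => ?_⟩
    obtain ⟨a', ha', hxa⟩ := hcoef x hxR
    obtain ⟨b', hb', hyb⟩ := hcoef y hyR
    have ea : a = a' := funext fun j => sub_eq_zero.mp (Fintype.linearIndependent_iff.mp hzli (fun j => a j - a' j) (by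
      simp only [sub_smul, Finset.sum_sub_distrib]; rw [← ha, ← hxa, sub_self]) j)
    have eb : b = b' := funext fun j => sub_eq_zero.mp (Fintype.linearIndependent_iff.mp hzli (fun j => b j - b' j) (by
      simp only [sub_smul, Finset.sum_sub_distrib]; rw [← hb, ← hyb, sub_self]) j)
    show Sum.elim a b (φ i) ∈ F₀
    rcases φ i with j | j
    · rw [ea]; exact ha' j
    · rw [eb]; exact hb' j
  have hdetP : Pm.det ≠ 0 := fun h0 => by
    obtain ⟨u, hu0, hu⟩ := Matrix.exists_mulVec_eq_zero_iff.mpr h0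
    rw [hPu] at hu
    obtain ⟨h1, h2'⟩ := huniq _ (hcomb _) _ (hcomb _) hu
    refine hu0 (funext fun i => ?_)
    rw [← φ.symm_apply_apply i]
    rcases φ i with j | j
    · exact Fintype.linearIndependent_iff.mp hzli _ h1 j
    · exact Fintype.linearIndependent_iff.mp hzli _ h2' j
  let P : GL (Fin 6) F := Matrix.GeneralLinearGroup.mkOfDetNeZero Pm hdetP
  have hPR : ∀ u : Fin 6 → F, (∀ i, u i ∈ F₀) → cx u ∈ Rl ∧ cy u ∈ Rl := fun u hu =>
    ⟨hcombR _ fun i => hu _, hcombR _ fun i => hu _⟩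
  refine ⟨F₀, P, by rw [hcard0, hF], fun u v hu hv => ?_, fun u hu => ?_, fun g hg => ?_⟩
  · show (1 : F) * h (Pm *ᵥ u) (Pm *ᵥ v) ∈ F₀
    obtain ⟨a, b⟩ := hPR u hu
    obtain ⟨a', b'⟩ := hPR v hv
    rw [one_mul, hPu, hPu, hform _ a.1 _ b.1 _ a'.1 _ b'.1, b'.2, a'.2]
    exact hτreal _ (hRadd (hRmul a b') (hRmul a' b))
  · show h (Pm *ᵥ u) (Pm *ᵥ u) = 0
    obtain ⟨a, b⟩ := hPR u hu
    rw [hPu, hform _ a.1 _ b.1 _ a.1 _ b.1, b.2, a.2, hM2]
    show h _ _ = 0
    rw [Matrix.zero_mulVec, hf.zero_left]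
  rw [Cfsg.Lib.Classical.mem_subfieldSubgroup_iff]
  set gm := (g : Matrix (Fin 6) (Fin 6) F)
  set gi := ((g⁻¹ : GL (Fin 6) F) : Matrix (Fin 6) (Fin 6) F)
  have hiso : ∀ u v, h (gm *ᵥ u) (gm *ᵥ v) = h u v := mem_GU_iff.mp (hH hg).1
  have hisoi : ∀ u v, h (gi *ᵥ u) (gi *ᵥ v) = h u v := mem_GU_iff.mp ((Cfsg.GU 6 F 2).inv_mem (hH hg).1)
  have hgg : ∀ u, gi *ᵥ (gm *ᵥ u) = u := fun u => by
    rw [Matrix.mulVec_mulVec, show gi * gm = 1 from val_inv_mul g, Matrix.one_mulVec]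
  have hgg' : ∀ u, gm *ᵥ (gi *ᵥ u) = u := fun u => by
    rw [Matrix.mulVec_mulVec, show gm * gi = 1 from val_mul_inv g, Matrix.one_mulVec]
  let θ : Matrix (Fin 6) (Fin 6) F → Matrix (Fin 6) (Fin 6) F := fun k => gm * k * gi
  have hθK : ∀ k ∈ K, θ k ∈ K := fun k hk => ((hle hg) k).mp hk
  have hθsurj : ∀ j ∈ K, ∃ k ∈ K, θ k = j := fun j hj => by
    refine ⟨gi * j * gm, ((hle hg) _).mpr ?_, ?_⟩ <;>
      simp only [θ, ← mul_assoc, gm, gi, val_mul_inv, one_mul] <;>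
      simp only [mul_assoc, val_mul_inv, mul_one]
    exact hj
  have hθact : ∀ k v, gm *ᵥ (k *ᵥ v) = θ k *ᵥ (gm *ᵥ v) := fun k v => by
    simp only [θ, Matrix.mulVec_mulVec, mul_assoc, gm, gi, val_inv_mul, mul_one]
  have hθadj : ∀ k, θ (hf.adj k) = hf.adj (θ k) := fun k => (hf.adj_unique fun u v => by
    simp only [θ, ← Matrix.mulVec_mulVec]
    rw [← hisoi, hgg, hf.adj_spec, ← hiso, hgg']).symm
  have hθR : ∀ k ∈ Rl, θ k ∈ Rl := fun k hk => ⟨hθK k hk.1, by rw [← hθadj, hk.2]⟩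
  -- images of the two vectors
  have hdec : ∀ v : Fin 6 → F, ∃ x ∈ K, ∃ y ∈ K, v = x *ᵥ e + y *ᵥ w := fun v => by
    refine ⟨cx (((P⁻¹ : GL (Fin 6) F) : Matrix (Fin 6) (Fin 6) F) *ᵥ v), hcomb _,
      cy (((P⁻¹ : GL (Fin 6) F) : Matrix (Fin 6) (Fin 6) F) *ᵥ v), hcomb _, ?_⟩
    rw [← hPu, Matrix.mulVec_mulVec, show Pm * _ = 1 from val_mul_inv P, Matrix.one_mulVec]
  obtain ⟨a, ha, c, hc, hge⟩ := hdec (gm *ᵥ e)
  obtain ⟨b, hb, d, hd, hgw⟩ := hdec (gm *ᵥ w)
  set a' := hf.adj a with ha'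
  set b' := hf.adj b with hb'
  set c' := hf.adj c with hc'
  set d' := hf.adj d with hd'
  have haK := hadjK a ha
  have hbK := hadjK b hb
  have hcK := hadjK c hc
  have hdK := hadjK d hd
  have hcond : ∀ (x y x' y' : Matrix (Fin 6) (Fin 6) F) (v v' : Fin 6 → F), x ∈ K → y ∈ K → x' ∈ K → y' ∈ K →
      gm *ᵥ v = x *ᵥ e + y *ᵥ w → gm *ᵥ v' = x' *ᵥ e + y' *ᵥ w →
      ∀ k ∈ K, τ (θ k * (x * hf.adj y' + hf.adj x' * y)) = h (k *ᵥ v) v' := by
    intro x y x' y' v v' hx hy hx' hy' e1 e2 k hk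
    rw [← hiso (k *ᵥ v) v', hθact, e1, e2, Matrix.mulVec_add, Matrix.mulVec_mulVec, Matrix.mulVec_mulVec,
      hform _ (K.mul_mem (hθK k hk) hx) _ (K.mul_mem (hθK k hk) hy) _ hx' _ hy']
    congr 1
    rw [mul_add, ← mul_assoc (θ k) x, ← mul_assoc (hf.adj x') (θ k), hK.comm _ (hadjK _ hx') _ (hθK k hk),
      mul_assoc (θ k) (hf.adj x') y]
  have hzeroOf : ∀ m ∈ K, (∀ k ∈ K, τ (θ k * m) = 0) → m = 0 := fun m hm h0 => hτnd m hm fun j hj => by
    obtain ⟨k, hk, rfl⟩ := hθsurj j hj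
    exact h0 k hk
  have hac : a' * c = a * c' := (hMswap (M := a * c') (N := a' * c) (hzeroOf _ (K.add_mem (K.mul_mem ha hcK) (K.mul_mem haK hc))
    fun k hk => (hcond a c a c e e ha hc ha hc hge hge k hk).trans (hee k hk))).symm
  have hbd : b * d' = b' * d := hMswap (hzeroOf _ (K.add_mem (K.mul_mem hb hdK) (K.mul_mem hbK hd))
    fun k hk => (hcond b d b d w w hb hd hb hd hgw hgw k hk).trans (hww k hk))
  set X := a * d' + b' * c with hX
  have hXK : X ∈ K := K.add_mem (K.mul_mem ha hdK) (K.mul_mem hbK hc)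
  have hXτ : ∀ k ∈ K, τ (θ k * X) = τ k := fun k hk =>
    (hcond a c b d e w ha hc hb hd hge hgw k hk).trans (hew k hk)
  have hX0 : X ≠ 0 := fun e0 => by
    have := hXτ (z 0) (hzR 0).1
    rw [e0, mul_zero, hτ] at this
    change h ((0 : Matrix (Fin 6) (Fin 6) F) *ᵥ e) w₀ = h (z 0 *ᵥ e) w₀ at this
    rw [Matrix.zero_mulVec, hf.zero_left, hw₀, if_pos rfl] at this
    exact zero_ne_one this
  have hXR : hf.adj X = X := by
    refine hMswap (hzeroOf _ (K.add_mem (hadjK X hXK) hXK) fun k hk => ?_)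
    obtain ⟨r₁, h1, r₂, h2', rfl⟩ := hsplit k hk
    have key : ∀ r ∈ Rl, τ (θ r * (hf.adj X + X)) = 0 := fun r hr => by
      rw [mul_add, hτadd, hXτ r hr.1, ← (hθR r hr).2, hK.comm _ (hadjK _ (hθK r hr.1)) _ (hadjK X hXK), ← hf.adj_mul,
        ← hτσ' _ (K.mul_mem (hθK r hr.1) hXK), hXτ r hr.1, (hmem _).mp (hτreal r hr), h2]
    show τ (gm * (r₁ + om • r₂) * gi * _) = 0
    rw [show gm * (r₁ + om • r₂) * gi = θ r₁ + om • θ r₂ by
      simp only [θ, mul_add, add_mul, Matrix.smul_mul, Matrix.mul_smul], add_mul, Matrix.smul_mul, hτadd, key r₁ h1, zero_add]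
    show h ((om • (θ r₂ * (hf.adj X + X))) *ᵥ e) w₀ = 0
    rw [Matrix.smul_mulVec, hf.smul_left, show h ((θ r₂ * (hf.adj X + X)) *ᵥ e) w₀ = 0 from key r₂ h2', mul_zero]
  obtain ⟨Xi, hXi, hXX⟩ := hK.inv X hXK hX0
  set δ := a * d + b * c with hδ
  -- the commutative field
  letI : CommRing K := { (inferInstance : Ring K) with mul_comm := fun x y => Subtype.ext (hK.comm _ x.2 _ y.2) }
  have hX' : a' * d + b * c' = X := by
    rw [← hXR, hX, hf.adj_add, hf.adj_mul, hf.adj_mul, hf.adj_adj, hf.adj_adj, hK.comm _ hd _ haK, hK.comm _ hcK _ hb]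
  set μ := δ * Xi with hμ
  have hμK : μ ∈ K := K.mul_mem (K.add_mem (K.mul_mem ha hd) (K.mul_mem hb hc)) hXi
  obtain ⟨ea, ec, eb, ed⟩ : μ * a' = a ∧ μ * c' = c ∧ μ * b' = b ∧ μ * d' = d := by
    let A : K := ⟨a, ha⟩
    let A' : K := ⟨a', haK⟩
    let B : K := ⟨b, hb⟩
    let B' : K := ⟨b', hbK⟩
    let C : K := ⟨c, hc⟩
    let C' : K := ⟨c', hcK⟩
    let D : K := ⟨d, hd⟩
    let D' : K := ⟨d', hdK⟩
    let I : K := ⟨Xi, hXi⟩
    have eX : (A * D' + B' * C) * I = 1 := Subtype.ext hXX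
    have eX' : A' * D + B * C' = A * D' + B' * C := Subtype.ext hX'
    have eac : A' * C = A * C' := Subtype.ext hac
    have ebd : B * D' = B' * D := Subtype.ext hbd
    refine ⟨congrArg Subtype.val (show (A * D + B * C) * I * A' = A from ?_),
      congrArg Subtype.val (show (A * D + B * C) * I * C' = C from ?_),
      congrArg Subtype.val (show (A * D + B * C) * I * B' = B from ?_),
      congrArg Subtype.val (show (A * D + B * C) * I * D' = D from ?_)⟩
    · linear_combination (B * I) * eac + (A * I) * eX' + A * eX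
    · linear_combination -(D * I) * eac + (C * I) * eX' + C * eX
    · linear_combination -(A * I) * ebd + B * eX
    · linear_combination (C * I) * ebd + D * eX
  clear_value μ
  obtain ⟨x, hxK, hx0, hxμ⟩ : ∃ x ∈ K, x ≠ 0 ∧ μ * hf.adj x = x := by
    by_cases ha0 : a = 0
    · refine ⟨c, hc, fun hc0 => ?_, ec⟩
      rw [ha0, hc0, Matrix.zero_mulVec, Matrix.zero_mulVec, add_zero] at hge
      exact gl_mulVec_ne_zero g he0 hge
    · exact ⟨a, ha, ha0, ea⟩
  have hμμ : μ * hf.adj μ = 1 := by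
    refine hcancel x hxK hx0 _ (K.mul_mem hμK (hadjK _ hμK)) _ K.one_mem ?_
    have h1 : hf.adj x = x * hf.adj μ := by
      conv_lhs => rw [← hxμ]
      rw [hf.adj_mul, hf.adj_adj]
    rw [mul_one]
    conv_rhs => rw [← hxμ, h1]
    rw [← mul_assoc, hK.comm x hxK μ hμK, mul_assoc]
  obtain ⟨s, hsK, hs0, hsμ⟩ : ∃ s ∈ K, s ≠ 0 ∧ μ * hf.adj s = s := by
    by_cases hμ1 : μ = 1
    · exact ⟨1, K.one_mem, one_ne_zero, by rw [hf.adj_one, hμ1, mul_one]⟩
    · refine ⟨1 + μ, K.add_mem K.one_mem hμK, fun e0 => hμ1 (hMswap e0).symm, ?_⟩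
      rw [hf.adj_add, hf.adj_one, mul_add, mul_one, hμμ, add_comm]
  obtain ⟨si, hsi, hssi⟩ := hK.inv s hsK hs0
  have hμ0 : μ ≠ 0 := fun e0 => by rw [e0, zero_mul] at hμμ; exact zero_ne_one hμμ
  have hreal' : ∀ x ∈ K, μ * hf.adj x = x → x * si ∈ Rl := fun x hx hxμ => by
    refine ⟨K.mul_mem hx hsi, ?_⟩
    refine hcancel s hsK hs0 _ (hadjK _ (K.mul_mem hx hsi)) _ (K.mul_mem hx hsi) ?_
    calc s * hf.adj (x * si) = μ * (hf.adj s * hf.adj (x * si)) := by rw [← mul_assoc, hsμ]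
      _ = μ * hf.adj (x * (si * s)) := by rw [← hf.adj_mul, mul_assoc x si s]
      _ = x := by rw [hK.comm si hsi s hsK, hssi, mul_one, hxμ]
      _ = s * (x * si) := by rw [← mul_assoc, hK.comm s hsK x hx, mul_assoc, hssi, mul_one]
  have hxsi : ∀ x ∈ K, x = s * (x * si) := fun x hx => by
    rw [← mul_assoc, hK.comm s hsK x hx, mul_assoc, hssi, mul_one]
  have hPimg : ∀ u : Fin 6 → F, (∀ i, u i ∈ F₀) →
      ∃ u' : Fin 6 → F, (∀ i, u' i ∈ F₀) ∧ gm *ᵥ (Pm *ᵥ u) = s *ᵥ (Pm *ᵥ u') := by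
    intro u hu
    obtain ⟨hx, hy⟩ := hPR u hu
    have r1 := hθR _ hx
    have r2 := hθR _ hy
    obtain ⟨u', hu', hu'R⟩ := hPsurj (θ (cx u) * (a * si) + θ (cy u) * (b * si))
      (K.add_mem (K.mul_mem r1.1 (K.mul_mem ha hsi)) (K.mul_mem r2.1 (K.mul_mem hb hsi)))
      (θ (cx u) * (c * si) + θ (cy u) * (d * si))
      (K.add_mem (K.mul_mem r1.1 (K.mul_mem hc hsi)) (K.mul_mem r2.1 (K.mul_mem hd hsi)))
    refine ⟨u', hu'R (hRadd (hRmul r1 (hreal' a ha ea)) (hRmul r2 (hreal' b hb eb)))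
      (hRadd (hRmul r1 (hreal' c hc ec)) (hRmul r2 (hreal' d hd ed))), ?_⟩
    have key : ∀ t ∈ K, ∀ x ∈ K, s * (t * (x * si)) = t * x := fun t ht x hx => by
      rw [← mul_assoc, hK.comm s hsK t ht, mul_assoc, ← hxsi x hx]
    rw [hPu, Matrix.mulVec_add, hθact, hθact, hge, hgw, hu', Matrix.mulVec_add, Matrix.mulVec_add, Matrix.mulVec_add]
    simp only [Matrix.mulVec_add, Matrix.mulVec_mulVec, mul_add, key _ r1.1 _ ha, key _ r1.1 _ hc, key _ r2.1 _ hb, key _ r2.1 _ hd,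
      Matrix.add_mulVec]
    abel
  -- determinants
  have hdet01 : ∀ (M N : Matrix (Fin 6) (Fin 6) F), (∀ u : Fin 6 → F, (∀ i, u i ∈ F₀) →
      ∃ u' : Fin 6 → F, (∀ i, u' i ∈ F₀) ∧ M *ᵥ (Pm *ᵥ u) = N *ᵥ (Pm *ᵥ u')) → M.det ≠ 0 → M.det = N.det := by
    intro M N hMN hM0
    have hcols : ∀ j, ∃ u' : Fin 6 → F, (∀ i, u' i ∈ F₀) ∧ M *ᵥ (Pm *ᵥ Pi.single j 1) = N *ᵥ (Pm *ᵥ u') := fun j =>
      hMN _ fun i => by
        rw [Pi.single_apply]; split_ifs
        · exact F₀.one_mem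
        · exact F₀.zero_mem
    choose U hU hUe using hcols
    let R₀ : Matrix (Fin 6) (Fin 6) F₀ := Matrix.of fun i j => ⟨U j i, hU j i⟩
    let R : Matrix (Fin 6) (Fin 6) F := R₀.map (F₀.subtype : F₀ →+* F)
    have e1 : M * Pm = N * Pm * R := Matrix.toLin'.injective ((Pi.basisFun F (Fin 6)).ext fun j => by
      simp only [Pi.basisFun_apply, Matrix.toLin'_apply, ← Matrix.mulVec_mulVec, hUe j]
      congr 2
      rw [Matrix.mulVec_single_one]
      rfl)
    have e2 := congrArg Matrix.det e1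
    rw [Matrix.det_mul, Matrix.det_mul, Matrix.det_mul] at e2
    have hR1 : R.det = 1 := by
      have h1 : R.det ∈ F₀ := by
        rw [show R.det = (F₀.subtype : F₀ →+* F) R₀.det from ((F₀.subtype : F₀ →+* F).map_det R₀).symm]
        exact Subtype.mem _
      refine (h01 _ ((hmem _).mp h1)).resolve_left fun e0 => ?_
      rw [e0, mul_zero] at e2
      exact mul_ne_zero hM0 hdetP e2
    rw [hR1, mul_one] at e2
    exact mul_right_cancel₀ hdetP e2
  have hg2 : Matrix.GeneralLinearGroup.det g = 1 := (hH hg).2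
  have hgdet : gm.det = 1 := by
    show (g : Matrix (Fin 6) (Fin 6) F).det = 1
    rw [← Matrix.GeneralLinearGroup.val_det_apply, hg2, Units.val_one]
  have hsdet : s.det = 1 := (hdet01 gm s hPimg (by rw [hgdet]; exact one_ne_zero)).symm.trans hgdet
  have hunit : ∀ k ∈ K, k ≠ 0 → k.det ≠ 0 := fun k hk hk0 => by
    obtain ⟨k', -, hkk⟩ := hK.inv k hk hk0
    intro e0
    have := congrArg Matrix.det hkk
    rw [Matrix.det_mul, e0, zero_mul, Matrix.det_one] at this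
    exact zero_ne_one this
  have hRdet : ∀ r ∈ Rl, r ≠ 0 → r.det = 1 := fun r hr hr0 => by
    refine (hdet01 r 1 (fun u hu => ?_) (hunit r hr.1 hr0)).trans Matrix.det_one
    obtain ⟨hx, hy⟩ := hPR u hu
    obtain ⟨u', hu', hu'R⟩ := hPsurj _ (K.mul_mem hr.1 hx.1) _ (K.mul_mem hr.1 hy.1)
    refine ⟨u', hu'R (hRmul hr hx) (hRmul hr hy), ?_⟩
    rw [Matrix.one_mulVec, hu', hPu, Matrix.mulVec_add, Matrix.mulVec_mulVec, Matrix.mulVec_mulVec]
  -- an element of order nine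
  have hcardK : Nat.card K = 64 := by
    rw [Module.natCard_eq_pow_finrank (K := F), hK.finrank_eq, Nat.card_eq_fintype_card, hF]
    norm_num
  obtain ⟨s₀, hs₀K, ω', hω0, hω1, hs₀3⟩ : ∃ s₀ ∈ K, ∃ ω' : F, ω' ≠ 0 ∧ ω' ≠ 1 ∧
      s₀ * (s₀ * s₀) = ω' • (1 : Matrix (Fin 6) (Fin 6) F) := by
    haveI : Nontrivial K := ⟨0, 1, fun e => zero_ne_one (congrArg Subtype.val e)⟩
    haveI : NoZeroDivisors K := ⟨fun {x y} e =>
      (hdom _ x.2 _ y.2 (congrArg Subtype.val e)).imp (fun h => Subtype.ext h) (fun h => Subtype.ext h)⟩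
    haveI : IsDomain K := NoZeroDivisors.to_isDomain K
    haveI : Finite Kˣ := Finite.of_injective _ Units.val_injective
    obtain ⟨γ, hγ⟩ := IsCyclic.exists_generator (α := Kˣ)
    have hcu : Nat.card Kˣ = 63 := by
      have e1 : Nat.card {k : K // k ≠ 0} = 63 := by
        haveI : Fintype K := Fintype.ofFinite K
        rw [Nat.card_eq_fintype_card, Fintype.card_subtype_compl, Fintype.card_subtype_eq, ← Nat.card_eq_fintype_card,
          hcardK]
      rw [← e1]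
      refine Nat.card_eq_of_bijective (fun u : Kˣ => (⟨(u : K), u.ne_zero⟩ : {k : K // k ≠ 0}))
        ⟨fun u v e => Units.ext (congrArg Subtype.val e), fun k => ?_⟩
      obtain ⟨k', hk', hkk⟩ := hK.inv _ (k : K).2 fun e => k.2 (Subtype.ext e)
      exact ⟨⟨k, ⟨k', hk'⟩, Subtype.ext hkk, Subtype.ext ((hK.comm _ hk' _ (k : K).2).trans hkk)⟩, rfl⟩
    have hord : orderOf γ = 63 := by rw [orderOf_eq_card_of_forall_mem_zpowers hγ, hcu]
    set sK : K := ((γ ^ 7 : Kˣ) : K)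
    set x := sK * (sK * sK)
    have hx1 : x ≠ 1 := fun e => by
      have : (γ ^ 7) ^ 3 = 1 := Units.ext (by
        rw [Units.val_pow_eq_pow_val, Units.val_one]
        calc sK ^ 3 = x := by ring
          _ = 1 := e)
      rw [← pow_mul] at this
      have := hord ▸ orderOf_dvd_of_pow_eq_one this
      norm_num at this
    have hx3 : x * x * x = 1 := by
      have e : (γ ^ 7) ^ 9 = 1 := by
        rw [← pow_mul, show 7 * 9 = orderOf γ by rw [hord], pow_orderOf_eq_one]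
      have e' := congrArg (fun u : Kˣ => (u : K)) e
      simp only [Units.val_pow_eq_pow_val, Units.val_one] at e'
      calc x * x * x = sK ^ 9 := by ring
        _ = 1 := e'
    let o : K := algebraMap F (↥K) om
    have ho : o + o ^ 2 = 1 := by simp only [o, ← map_pow, ← map_add, hw, map_one]
    have ho3 : o ^ 3 = 1 := by simp only [o, ← map_pow, h3 om hom0, map_one]
    have hk2 : ∀ k : K, k + k = 0 := fun k => Subtype.ext (hM2 _)
    have hprod : (x - 1) * ((x - o) * (x - o ^ 2)) = 0 := by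
      linear_combination hx3 - (x ^ 2 - x) * ho + (x - 1) * ho3 - hk2 (x ^ 2) + hk2 x
    have hval : ∀ c : F, ((algebraMap F (↥K) c : K) : Matrix (Fin 6) (Fin 6) F) = c • 1 := fun c =>
      Algebra.algebraMap_eq_smul_one c
    rcases mul_eq_zero.mp hprod with e | e
    · exact absurd (sub_eq_zero.mp e) hx1
    rcases mul_eq_zero.mp e with e | e
    · refine ⟨_, sK.2, om, hom0, hom1, ?_⟩
      exact (congrArg Subtype.val (sub_eq_zero.mp e)).trans (hval om)
    · refine ⟨_, sK.2, om ^ 2, pow_ne_zero _ hom0, fun e' => hom1 ?_, ?_⟩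
      · linear_combination -om * e' + h3 om hom0
      · refine (congrArg Subtype.val (sub_eq_zero.mp e)).trans ?_
        simp only [o, ← map_pow]
        exact hval _
  have hs₀2 := K.mul_mem hs₀K hs₀K
  have hind : ∀ p q t : F, p • (1 : Matrix (Fin 6) (Fin 6) F) + q • s₀ + t • (s₀ * s₀) = 0 →
      p = 0 ∧ q = 0 ∧ t = 0 := by
    intro p q t e0
    have e1 : (t * ω') • (1 : Matrix (Fin 6) (Fin 6) F) + p • s₀ + q • (s₀ * s₀) = 0 := by
      have := congrArg (s₀ * ·) e0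
      simp only [mul_add, Matrix.mul_smul, mul_one, hs₀3, mul_zero, smul_smul] at this
      rw [← this]; abel
    have e2 : (q * ω') • (1 : Matrix (Fin 6) (Fin 6) F) + (t * ω') • s₀ + p • (s₀ * s₀) = 0 := by
      have := congrArg (s₀ * ·) e1
      simp only [mul_add, Matrix.mul_smul, mul_one, hs₀3, mul_zero, smul_smul] at this
      rw [← this]; abel
    have eN : (p ^ 3 + q ^ 3 * ω' + t ^ 3 * ω' ^ 2 - 3 * p * q * t * ω') • (1 : Matrix (Fin 6) (Fin 6) F) = 0 :=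
      calc _ = (p ^ 2 - q * t * ω') • (p • (1 : Matrix (Fin 6) (Fin 6) F) + q • s₀ + t • (s₀ * s₀)) +
            (t ^ 2 * ω' - p * q) • ((t * ω') • (1 : Matrix (Fin 6) (Fin 6) F) + p • s₀ + q • (s₀ * s₀)) +
            (q ^ 2 - p * t) • ((q * ω') • (1 : Matrix (Fin 6) (Fin 6) F) + (t * ω') • s₀ + p • (s₀ * s₀)) := by module
        _ = 0 := by rw [e0, e1, e2, smul_zero, smul_zero, smul_zero, add_zero, add_zero]
    have hN := (smul_eq_zero.mp eN).resolve_right one_ne_zero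
    have hω : ω' ^ 2 + ω' + 1 = 0 :=
      (mul_eq_zero.mp (show (ω' - 1) * (ω' ^ 2 + ω' + 1) = 0 by linear_combination h3 ω' hω0)).resolve_left
        (sub_ne_zero.mpr hω1)
    rcases eq_or_ne p 0 with hp | hp <;> rcases eq_or_ne q 0 with hq | hq <;> rcases eq_or_ne t 0 with ht | ht
    · exact ⟨hp, hq, ht⟩
    · exfalso; rw [hp, hq, h3 t ht] at hN; exact pow_ne_zero 2 hω0 (by linear_combination hN)
    · exfalso; rw [hp, ht, h3 q hq] at hN; exact hω0 (by linear_combination hN)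
    · exfalso; rw [hp, h3 q hq, h3 t ht] at hN; exact one_ne_zero (α := F) (by linear_combination hω - hN)
    · exfalso; rw [hq, ht, h3 p hp] at hN; exact one_ne_zero (α := F) (by linear_combination hN)
    · exfalso; rw [hq, h3 p hp, h3 t ht] at hN; exact hω0 (by linear_combination hω - hN)
    · exfalso; rw [ht, h3 p hp, h3 q hq] at hN; exact pow_ne_zero 2 hω0 (by linear_combination hω - hN)
    · exfalso
      rw [h3 p hp, h3 q hq, h3 t ht] at hN
      refine mul_ne_zero (mul_ne_zero (mul_ne_zero hp hq) ht) hω0 ?_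
      linear_combination hN - hω + 2 * p * q * t * ω' * (h2 1)
  have hdet₀ : s₀.det = ω' * ω' := by
    let cf : Fin 3 → Matrix (Fin 6) (Fin 6) F := ![1, s₀, s₀ * s₀]
    let Θ : Matrix (Fin 6) (Fin 3 ⊕ Fin 3) F :=
      Matrix.of fun v k => Sum.elim (fun i => cf i *ᵥ e) (fun i => cf i *ᵥ w) k v
    let C : Matrix (Fin 3) (Fin 3) F := !![0, 0, ω'; 1, 0, 0; 0, 1, 0]
    have hcol : ∀ k, Θ *ᵥ Pi.single k 1 = Sum.elim (fun i => cf i *ᵥ e) (fun i => cf i *ᵥ w) k := fun k => by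
      rw [Matrix.mulVec_single_one]; rfl
    have hΘu : ∀ u : Fin 3 ⊕ Fin 3 → F, Θ *ᵥ u = (∑ i, u (.inl i) • cf i) *ᵥ e + (∑ i, u (.inr i) • cf i) *ᵥ w := by
      intro u
      funext v
      simp only [Matrix.sum_mulVec, Matrix.smul_mulVec]
      simp [Θ, Matrix.mulVec, dotProduct, Fintype.sum_sum_type, Fin.sum_univ_three]
      ring
    have hS : s₀ * Θ = Θ * Matrix.fromBlocks C 0 0 C := Matrix.toLin'.injective ((Pi.basisFun F _).ext fun k => by
      simp only [Pi.basisFun_apply, Matrix.toLin'_apply, ← Matrix.mulVec_mulVec, hcol, hΘu]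
      rcases k with k | k <;> fin_cases k <;>
        simp [cf, C, Fin.sum_univ_three, Matrix.fromBlocks, Matrix.mulVec, dotProduct, Fintype.sum_sum_type,
          Pi.single_apply] <;>
        simp [← hs₀3, Matrix.mulVec_mulVec])
    have hΘd : (Θ.submatrix id φ).det ≠ 0 := fun h0 => by
      obtain ⟨u, hu0, hu⟩ := Matrix.exists_mulVec_eq_zero_iff.mpr h0
      rw [Matrix.submatrix_mulVec_equiv] at hu
      change Θ *ᵥ (u ∘ φ.symm) = 0 at hu
      rw [hΘu] at hu
      have hcf : ∀ i, cf i ∈ K := fun i => by fin_cases i <;> [exact K.one_mem; exact hs₀K; exact hs₀2]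
      obtain ⟨h1, h2'⟩ := huniq _ (K.sum_mem fun i _ => K.smul_mem (hcf i) _) _
        (K.sum_mem fun i _ => K.smul_mem (hcf i) _) hu
      simp only [Fin.sum_univ_three, cf, Matrix.cons_val_zero, Matrix.cons_val_one, Matrix.cons_val_two] at h1 h2'
      obtain ⟨u0, u1, u2⟩ := hind _ _ _ h1
      obtain ⟨v0, v1, v2⟩ := hind _ _ _ h2'
      refine hu0 (funext fun i => ?_)
      rw [← φ.symm_apply_apply i]
      rcases φ i with j | j <;> fin_cases j <;> assumption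
    have e1 : s₀ * Θ.submatrix id φ = Θ.submatrix id φ * (Matrix.fromBlocks C 0 0 C).submatrix φ φ := by
      rw [Matrix.submatrix_mul_equiv, ← hS]; rfl
    have e2 := congrArg Matrix.det e1
    rw [Matrix.det_mul, Matrix.det_mul, Matrix.det_submatrix_equiv_self, Matrix.det_fromBlocks_zero₂₁,
      mul_comm _ (C.det * C.det)] at e2
    rw [mul_right_cancel₀ hΘd e2]
    simp [C, Matrix.det_fin_three]
  -- the kernel of the determinant
  haveI : Fintype K := Fintype.ofFinite K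
  obtain ⟨i, cs, r', hr', hs'⟩ : ∃ (i : Fin 3) (cs : F) (r' : Matrix (Fin 6) (Fin 6) F), r' ∈ Rl ∧
      s = ![1, s₀, s₀ * s₀] i * (cs • r') := by
    let T := Fin 3 × {c : F // c ≠ 0} × {c : Fin 3 → F₀ // c ≠ 0}
    have hrne : ∀ c : {c : Fin 3 → F₀ // c ≠ 0}, (∑ j, ((c : Fin 3 → F₀) j : F) • z j) ≠ 0 := fun c e0 => c.2
      (funext fun j => Subtype.ext (Fintype.linearIndependent_iff.mp hzli _ e0 j))
    have hcf : ∀ i, (![1, s₀, s₀ * s₀] : Fin 3 → Matrix (Fin 6) (Fin 6) F) i ∈ K := fun i => by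
      fin_cases i <;> [exact K.one_mem; exact hs₀K; exact hs₀2]
    have hs₀ne : s₀ ≠ 0 := fun e0 => by
      rw [e0, zero_mul] at hs₀3
      exact hω0 ((smul_eq_zero.mp hs₀3.symm).resolve_right one_ne_zero)
    have hcfne : ∀ i, (![1, s₀, s₀ * s₀] : Fin 3 → Matrix (Fin 6) (Fin 6) F) i ≠ 0 := fun i => by
      fin_cases i
      · exact one_ne_zero
      · exact hs₀ne
      · exact fun e0 => hs₀ne ((hdom _ hs₀K _ hs₀K e0).elim id id)
    let Ψ : T → {k : K // k ≠ 0} := fun x => ⟨⟨![1, s₀, s₀ * s₀] x.1 *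
      ((x.2.1 : F) • ∑ j, ((x.2.2 : Fin 3 → F₀) j : F) • z j), K.mul_mem (hcf _) (K.smul_mem (hcomb _) _)⟩, fun e0 => by
        rcases hdom _ (hcf _) _ (K.smul_mem (hcomb _) _) (congrArg Subtype.val e0) with h | h
        · exact hcfne _ h
        · exact (smul_eq_zero.mp h).elim x.2.1.2 (hrne x.2.2)⟩
    have hΨ : Function.Injective Ψ := by
      rintro ⟨i, ⟨c, hc⟩, ρ⟩ ⟨i', ⟨c', hc'⟩, ρ'⟩ e0
      have e := congrArg (fun k : {k : K // k ≠ 0} => ((k : K) : Matrix (Fin 6) (Fin 6) F)) e0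
      simp only [Ψ] at e
      have hd1 : ∀ (c : F) (ρ : {c : Fin 3 → F₀ // c ≠ 0}), c ≠ 0 →
          (c • ∑ j, ((ρ : Fin 3 → F₀) j : F) • z j).det = 1 := fun c ρ hc => by
        rw [Matrix.det_smul, hRdet _ (hcombR _ fun j => ((ρ : Fin 3 → F₀) j).2) (hrne ρ), mul_one, Fintype.card_fin,
          show c ^ 6 = 1 by rw [show c ^ 6 = (c ^ 3) ^ 2 by ring, h3 c hc, one_pow]]
      have hii : i = i' := by
        have ed := congrArg Matrix.det e
        rw [Matrix.det_mul, Matrix.det_mul, hd1 c ρ hc, hd1 c' ρ' hc', mul_one, mul_one] at ed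
        have hω4 : ω' * ω' ≠ 1 := fun e => hω1 (by linear_combination -ω' * e + h3 ω' hω0)
        have hω4' : ω' * ω' * (ω' * ω') = ω' := by linear_combination ω' * h3 ω' hω0
        have hω5 : ω' * ω' ≠ ω' := fun e => hω1 (mul_left_cancel₀ hω0 (e.trans (mul_one _).symm))
        fin_cases i <;> fin_cases i' <;>
          simp [Matrix.det_mul, hdet₀, hω4', hω4, hω1, hω5, Ne.symm hω4, Ne.symm hω1, Ne.symm hω5] at ed ⊢
      subst hii
      have e' := hcancel _ (hcf i) (hcfne i) _ (K.smul_mem (hcomb _) _) _ (K.smul_mem (hcomb _) _) e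
      have hc12 : c = c' := by
        have ea := congrArg hf.adj e'
        rw [hadjsmul, hadjsmul, (hcombR _ fun j => ((ρ : Fin 3 → F₀) j).2).2,
          (hcombR _ fun j => ((ρ' : Fin 3 → F₀) j).2).2] at ea
        obtain ⟨j, hj⟩ := Function.ne_iff.mp ρ.2
        have hj1 : ((ρ : Fin 3 → F₀) j : F) = 1 :=
          (h01 _ ((hmem _).mp ((ρ : Fin 3 → F₀) j).2)).resolve_left fun e => hj (Subtype.ext e)
        have coe : ∀ (u v : F), (u • ∑ j, ((ρ : Fin 3 → F₀) j : F) • z j) = v • ∑ j, ((ρ' : Fin 3 → F₀) j : F) • z j →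
            u = v * ((ρ' : Fin 3 → F₀) j : F) := fun u v e => by
          have := Fintype.linearIndependent_iff.mp hzli
            (fun l => u * ((ρ : Fin 3 → F₀) l : F) - v * ((ρ' : Fin 3 → F₀) l : F))
            (by simp [sub_smul, Finset.sum_sub_distrib, ← smul_smul, ← Finset.smul_sum, e]) j
          rw [hj1, mul_one] at this
          exact sub_eq_zero.mp this
        have e1 := coe c c' e'
        rcases h01 _ ((hmem _).mp ((ρ' : Fin 3 → F₀) j).2) with e2 | e2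
        · exact absurd (by rw [e1, e2, mul_zero]) hc
        · rw [e1, e2, mul_one]
      subst hc12
      have : ρ = ρ' := Subtype.ext (funext fun j => Subtype.ext (sub_eq_zero.mp
        (Fintype.linearIndependent_iff.mp hzli
          (fun l => ((ρ : Fin 3 → F₀) l : F) - ((ρ' : Fin 3 → F₀) l : F))
          (by simp [sub_smul, Finset.sum_sub_distrib, smul_right_injective _ hc e']) j)))
      rw [this]
    have hcT : Fintype.card T = Fintype.card {k : K // k ≠ 0} := by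
      rw [Fintype.card_prod, Fintype.card_prod, Fintype.card_subtype_compl, Fintype.card_subtype_compl,
        Fintype.card_subtype_compl, Fintype.card_subtype_eq, Fintype.card_subtype_eq, Fintype.card_subtype_eq,
        Fintype.card_fun, Fintype.card_fin, hF, ← Nat.card_eq_fintype_card (α := F₀), hcard0,
        ← Nat.card_eq_fintype_card (α := K), hcardK]
      norm_num
    obtain ⟨⟨i, c, ρ⟩, hx⟩ := ((Fintype.bijective_iff_injective_and_card Ψ).mpr ⟨hΨ, hcT⟩).2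
      ⟨⟨s, hsK⟩, fun e => hs0 (congrArg Subtype.val e)⟩
    exact ⟨i, c, _, hcombR _ fun j => ((ρ : Fin 3 → F₀) j).2,
      (congrArg (fun k : {k : K // k ≠ 0} => ((k : K) : Matrix (Fin 6) (Fin 6) F)) hx).symm⟩
  have hcs : cs ≠ 0 ∧ r' ≠ 0 := ⟨fun e0 => hs0 (by rw [hs', e0, zero_smul, mul_zero]),
    fun e0 => hs0 (by rw [hs', e0, smul_zero, mul_zero])⟩
  have hi : i = 0 := by
    have e1 := hsdet
    rw [hs', Matrix.det_mul, Matrix.det_smul, hRdet r' hr' hcs.2, mul_one, Fintype.card_fin,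
      show cs ^ 6 = 1 by rw [show cs ^ 6 = (cs ^ 3) ^ 2 by ring, h3 cs hcs.1, one_pow], mul_one] at e1
    have hω4 : ω' * ω' ≠ 1 := fun e => hω1 (by linear_combination -ω' * e + h3 ω' hω0)
    have hω4' : ω' * ω' * (ω' * ω') = ω' := by linear_combination ω' * h3 ω' hω0
    fin_cases i <;> simp [Matrix.det_mul, hdet₀, hω4', hω4, hω1] at e1 ⊢
  subst hi
  rw [Matrix.cons_val_zero, one_mul] at hs'
  refine ⟨cs, hcs.1, fun u hu => ?_⟩
  obtain ⟨u', hu', hgu⟩ := hPimg u hu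
  obtain ⟨hx, hy⟩ := hPR u' hu'
  obtain ⟨u'', hu'', hu''R⟩ := hPsurj _ (K.mul_mem hr'.1 hx.1) _ (K.mul_mem hr'.1 hy.1)
  refine ⟨u'', hu''R (hRmul hr' hx) (hRmul hr' hy), ?_⟩
  show gm *ᵥ (Pm *ᵥ u) = cs • (Pm *ᵥ u'')
  rw [hgu, hu'', hPu, hs', Matrix.smul_mulVec, Matrix.mulVec_add, Matrix.mulVec_mulVec, Matrix.mulVec_mulVec]

end Cfsg.Lib.Classical.Aschbacher
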