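import Cfsg.Agent.Classical.Aschbacher.UnitTypes

/-! Over four elements the frame stabiliser of `SU₆` is not maximal: it stabilises a set of 126 isotropic points. -/

set_option autoImplicit false
set_option linter.unusedSimpArgs false
set_option linter.unusedSectionVars false
set_option linter.style.haveILetI false

namespace Cfsg.Lib.Classical.Aschbacher

open Matrix Cfsg.Geo
open scoped MatrixGroups
open Cfsg.Lib.Classical.PrimeDim (frob frob_apply suGL utv utv_mulVec utv_mem exists_char_card finrank_pi_card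
  gl_mulVec_ne_zero inv_mulVec_mulVec val_inv_mul val_mul_inv mem_GU_iff)

namespace SixFrame

/-- The `k`-th digit. -/
def dig (n k : ℕ) : ℕ := n / 4 ^ k % 4

/-- The product of two elements of the field with four elements. -/
def mulc (a b : ℕ) : ℕ :=
  if a = 0 then 0 else if b = 0 then 0 else (a - 1 + (b - 1)) % 3 + 1

/-- The sum of two elements of the field with four elements. -/
def addc (a b : ℕ) : ℕ :=
  ([[0, 1, 2, 3], [1, 0, 3, 2], [2, 3, 0, 1], [3, 2, 1, 0]].getD a []).getD b 0

def inS (f : ℕ → ℕ) : Bool :=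
  (List.countP (fun k => f k != 0) (List.range 6) == 2) ||
    (List.all (List.range 6) (fun k => f k != 0) &&
      mulc (f 0) (mulc (f 1) (mulc (f 2) (mulc (f 3) (mulc (f 4) (f 5))))) == 1)

def tot (f : ℕ → ℕ) : ℕ := addc (f 0) (addc (f 1) (addc (f 2) (addc (f 3) (addc (f 4) (f 5)))))

theorem table : (List.range 4096).all (fun n =>
    !inS (dig n) || inS (fun k => addc (dig n k) (tot (dig n)))) = true := by decide +kernel

end SixFrame

variable {F : Type*} [Field F] [Fintype F] {q : ℕ}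

open SixFrame in
set_option maxHeartbeats 2000000 in
/-- The frame stabiliser of `SU₆` over four elements is not maximal. -/
theorem frame_six_not_maximal (hF : Fintype.card F = q ^ 2) (hq : q = 2) {H : Subgroup (GL (Fin 6) F)}
    (hH : IsMaximalIn (Cfsg.GU 6 F q ⊓ specialLinear (Fin 6) F) H) {D : Fin 6 → Submodule F (Fin 6 → F)}
    (hD : IsNondegenerateMDecomposition (Cfsg.hermForm 6 F q) 1 D)
    (hle : H ≤ decompositionStabilizer D) : False := by
  classical
  subst hq
  have hf := herm_refl (n := 6) hF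
  have hchar : CharP F 2 := by
    obtain ⟨p, f, hp, hc, -, hcard⟩ := exists_char_card F
    rw [Nat.card_eq_fintype_card, hF] at hcard
    have : p ∣ 2 ^ 2 := hcard ▸ dvd_pow_self p (by rintro rfl; norm_num at hcard)
    rwa [(Nat.prime_dvd_prime_iff_eq hp Nat.prime_two).mp (hp.dvd_of_dvd_pow this)] at hc
  have h2 : ∀ x : F, x + x = 0 := fun x => CharTwo.add_self_eq_zero x
  have h3 : ∀ x : F, x ≠ 0 → x ^ 3 = 1 := fun x hx => by
    have := FiniteField.pow_card_sub_one_eq_one x hx
    rwa [hF] at this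
  obtain ⟨om, hom0, hom1⟩ : ∃ x : F, x ≠ 0 ∧ x ≠ 1 := by
    by_contra hc
    push Not at hc
    have : (Finset.univ : Finset F) ⊆ {0, 1} := fun x _ => by
      rcases eq_or_ne x 0 with e | e
      · simp [e]
      · simp [hc x e]
    have := Finset.card_le_card this
    rw [Finset.card_univ, hF] at this
    have h4 : ({0, 1} : Finset F).card ≤ 2 := Finset.card_le_two
    omega
  have hw : om * om = om + 1 := by
    have h1 : (om - 1) * (om * om + om + 1) = 0 := by linear_combination h3 om hom0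
    have h1' := (mul_eq_zero.mp h1).resolve_left (sub_ne_zero.mpr hom1)
    linear_combination h1' - h2 (om + 1)
  let dec : ℕ → F := fun a => if a = 0 then 0 else if a = 1 then 1 else if a = 2 then om else om + 1
  have hom2 : om + 1 ≠ 0 := by rw [← hw]; exact mul_ne_zero hom0 hom0
  have hom3 : om + 1 ≠ 1 := fun e => hom0 (by linear_combination e)
  have hom4 : om + 1 ≠ om := fun e => one_ne_zero (α := F) (by linear_combination e)
  have hsurj : ∀ x : F, ∃ a, a < 4 ∧ dec a = x := by
    intro x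
    have hsub : (Finset.univ : Finset F) = {0, 1, om, om + 1} := by
      symm
      apply Finset.eq_univ_of_card
      rw [hF, Finset.card_insert_of_notMem (by simp [Ne.symm hom0, Ne.symm hom2]),
        Finset.card_insert_of_notMem (by simp [Ne.symm hom1, Ne.symm hom3]),
        Finset.card_insert_of_notMem (by simp [Ne.symm hom4]), Finset.card_singleton]
      norm_num
    have hx := Finset.mem_univ x
    rw [hsub] at hx
    simp only [Finset.mem_insert, Finset.mem_singleton] at hx
    rcases hx with e | e | e | e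
    · exact ⟨0, by norm_num, by simp [dec, e]⟩
    · exact ⟨1, by norm_num, by simp [dec, e]⟩
    · exact ⟨2, by norm_num, by simp [dec, e]⟩
    · exact ⟨3, by norm_num, by simp [dec, e]⟩
  have hadd : ∀ a b, a < 4 → b < 4 → addc a b < 4 ∧ dec (addc a b) = dec a + dec b := by
    intro a b ha hb
    interval_cases a <;> interval_cases b <;> refine ⟨by decide, ?_⟩ <;>
      simp [addc, dec] <;>
      (first
        | rfl
        | linear_combination -h2 om
        | linear_combination -h2 (1 : F)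
        | linear_combination -h2 (om + 1)
        | linear_combination h2 (1 : F)
        | linear_combination h2 om
        | linear_combination h2 (om + 1)
        | linear_combination (0 : F))
  have hmul : ∀ a b, a < 4 → b < 4 → mulc a b < 4 ∧ dec (mulc a b) = dec a * dec b := by
    intro a b ha hb
    interval_cases a <;> interval_cases b <;> refine ⟨by decide, ?_⟩ <;>
      simp [mulc, dec] <;>
      (first
        | linear_combination -hw
        | linear_combination -hw - h2 om
        | linear_combination -hw + h2 om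
        | linear_combination -(om + 1) * hw
        | linear_combination -hw - h2 (om + 1)
        | linear_combination -hw - h2 om - h2 (1 : F))
  have hdec : ∀ a, a < 4 → (dec a = 0 ↔ a = 0) ∧ (dec a = 1 ↔ a = 1) := by
    intro a ha
    interval_cases a <;> simp [dec, hom0, hom1, hom2, hom3]
  -- the set
  let S : Set (Fin 6 → F) :=
    {v | (Finset.univ.filter fun k => v k ≠ 0).card = 2 ∨ ((∀ k, v k ≠ 0) ∧ ∏ k, v k = 1)}
  -- membership through codes
  have hcode : ∀ (f : ℕ → ℕ), (∀ k, f k < 4) → ((inS f = true) ↔ (fun k : Fin 6 => dec (f k)) ∈ S) := by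
    intro f hf'
    have hp : dec (mulc (f 0) (mulc (f 1) (mulc (f 2) (mulc (f 3) (mulc (f 4) (f 5)))))) =
        ∏ k : Fin 6, dec (f k) ∧ mulc (f 0) (mulc (f 1) (mulc (f 2) (mulc (f 3) (mulc (f 4) (f 5))))) < 4 := by
      have e4 := hmul _ _ (hf' 4) (hf' 5)
      have e3 := hmul _ _ (hf' 3) e4.1
      have e2 := hmul _ _ (hf' 2) e3.1
      have e1 := hmul _ _ (hf' 1) e2.1
      have e0 := hmul _ _ (hf' 0) e1.1
      refine ⟨?_, e0.1⟩
      rw [e0.2, e1.2, e2.2, e3.2, e4.2, Fin.prod_univ_six]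
      simp only [Fin.val_zero, Fin.val_one]
      simp [mul_assoc]
    have hcnt : List.countP (fun k => f k != 0) (List.range 6) =
        (Finset.univ.filter fun k : Fin 6 => dec (f k) ≠ 0).card := by
      simp only [show List.range 6 = [0, 1, 2, 3, 4, 5] from rfl, Finset.card_filter, Fin.sum_univ_six,
        List.countP_cons, List.countP_nil, ne_eq, (hdec _ (hf' _)).1]
      simp [add_comm, add_left_comm, add_assoc, ite_not]
    simp only [inS, Bool.or_eq_true, Bool.and_eq_true, beq_iff_eq, List.all_eq_true, List.mem_range, bne_iff_ne, S,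
      Set.mem_setOf_eq, hcnt]
    refine or_congr Iff.rfl (and_congr ⟨fun h k => ?_, fun h k hk => ?_⟩ ?_)
    · exact fun e => h k k.2 ((hdec _ (hf' _)).1.mp e)
    · exact fun e => h ⟨k, hk⟩ ((hdec _ (hf' _)).1.mpr e)
    · rw [← hp.1]; exact ((hdec _ hp.2).2).symm
  have htr : ∀ v : Fin 6 → F, v ∈ S → (fun k => v k + ∑ j, v j) ∈ S := by
    intro v hv
    choose c hc4 hcv using fun k => hsurj (v k)
    set n := c 0 + 4 * (c 1) + 4 ^ 2 * (c 2) + 4 ^ 3 * (c 3) + 4 ^ 4 * (c 4) + 4 ^ 5 * (c 5) with hn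
    have hlt : n < 4096 := by
      have := hc4 0; have := hc4 1; have := hc4 2; have := hc4 3; have := hc4 4; have := hc4 5
      omega
    have hdig : ∀ k : Fin 6, dig n k = c k := by
      have := hc4 0; have := hc4 1; have := hc4 2; have := hc4 3; have := hc4 4; have := hc4 5
      intro k
      fin_cases k <;> simp [dig] <;> omega
    have hdl : ∀ k, dig n k < 4 := fun k => Nat.mod_lt _ (by norm_num)
    have hv' : (fun k : Fin 6 => dec (dig n k)) = v := funext fun k => by rw [hdig, hcv]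
    have ht := List.all_eq_true.mp table n (List.mem_range.mpr hlt)
    rw [(hcode _ hdl).mpr (hv'.symm ▸ hv)] at ht
    simp only [Bool.not_true, Bool.false_or] at ht
    have e4 := hadd _ _ (hdl 4) (hdl 5)
    have e3 := hadd _ _ (hdl 3) e4.1
    have e2 := hadd _ _ (hdl 2) e3.1
    have e1 := hadd _ _ (hdl 1) e2.1
    have e0 := hadd _ _ (hdl 0) e1.1
    have htl : tot (dig n) < 4 := e0.1
    have htot : dec (tot (dig n)) = ∑ j, v j := by
      show dec (addc _ _) = _
      rw [e0.2, e1.2, e2.2, e3.2, e4.2, Fin.sum_univ_six, ← hv']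
      simp [add_assoc]
    have h1 := (hcode _ fun k => (hadd _ _ (hdl k) htl).1).mp ht
    rwa [show (fun k : Fin 6 => dec (addc (dig n k) (tot (dig n)))) = fun k => v k + ∑ j, v j from funext fun k => by
      rw [(hadd _ _ (hdl k) htl).2, htot, ← congrFun hv' k]] at h1
  -- an orthonormal basis on the lines
  have hbase : ∀ i, ∃ b ∈ D i, Cfsg.hermForm 6 F 2 b b = 1 ∧ ∀ w ∈ D i, ∃ c : F, w = c • b := by
    intro i
    obtain ⟨⟨v, hv⟩, hv0, hline⟩ := finrank_eq_one_iff'.mp (hD.decomp.finrank_eq i)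
    have hline' : ∀ w ∈ D i, ∃ c : F, w = c • v := fun w hw => by
      obtain ⟨c, hc⟩ := hline ⟨w, hw⟩
      exact ⟨c, (congrArg Subtype.val hc).symm⟩
    set a := Cfsg.hermForm 6 F 2 v v with ha
    have ha0 : a ≠ 0 := fun e => by
      obtain ⟨-, x, hx, hne⟩ := hD.nondegenerate i v hv fun e0 => hv0 (Subtype.ext e0)
      obtain ⟨c, rfl⟩ := hline' x hx
      rw [hf.smul_right, ← ha, e, mul_zero] at hne
      exact hne rfl
    have ha1 : a = 1 := by
      have h := hf.herm v v
      rw [one_mul, frob_apply, ← ha] at h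
      exact (mul_eq_left₀ ha0).mp (by rw [← pow_two]; exact h.symm)
    exact ⟨v, hv, ha1, hline'⟩
  choose b hbD hb1 hbl using hbase
  have hgr : ∀ i j, Cfsg.hermForm 6 F 2 (b i) (b j) = if i = j then 1 else 0 := fun i j => by
    split_ifs with e
    · subst e; exact hb1 i
    · exact hD.orthogonal i j e _ (hbD i) _ (hbD j)
  let Bm : Matrix (Fin 6) (Fin 6) F := Matrix.of fun x i => b i x
  have hBu : ∀ w, Bm *ᵥ w = ∑ i, w i • b i := fun w => by
    funext x; simp [Bm, Matrix.mulVec, dotProduct, mul_comm]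
  have hBf : ∀ u v, Cfsg.hermForm 6 F 2 (Bm *ᵥ u) (Bm *ᵥ v) = Cfsg.hermForm 6 F 2 u v := by
    intro u v
    rw [hBu, hBu, hf.sum_left]
    simp only [hf.smul_left, hf.sum_right, hf.smul_right, hgr, mul_ite, mul_one, mul_zero, Finset.sum_ite_eq,
      Finset.mem_univ, if_true]
    rw [Cfsg.hermForm]
    exact Finset.sum_congr rfl fun i _ => by rw [frob_apply]
  have hdetB : Bm.det ≠ 0 := fun h => by
    obtain ⟨u, hu0, hu⟩ := Matrix.exists_mulVec_eq_zero_iff.mpr h
    obtain ⟨v, hv⟩ := (hf.nondegenerate u hu0).2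
    exact hv (by rw [← hBf, hu, hf.zero_left])
  let B : GL (Fin 6) F := Matrix.GeneralLinearGroup.mkOfDetNeZero Bm hdetB
  let Bi : Matrix (Fin 6) (Fin 6) F := ((B⁻¹ : GL (Fin 6) F) : Matrix (Fin 6) (Fin 6) F)
  have hBi : ∀ w, Bi *ᵥ (Bm *ᵥ w) = w := fun w => inv_mulVec_mulVec B w
  have hBi' : ∀ w, Bm *ᵥ (Bi *ᵥ w) = w := fun w => by
    rw [Matrix.mulVec_mulVec, show Bm * Bi = 1 from val_mul_inv B, Matrix.one_mulVec]
  let S' : Set (Fin 6 → F) := {v | Bi *ᵥ v ∈ S}
  -- the group stabilises the set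
  have hHS : H ≤ stabilizing (glToMat (Fin 6) F) S' := by
    have key : ∀ g ∈ H, ∀ v, v ∈ S' → (g : Matrix (Fin 6) (Fin 6) F) *ᵥ v ∈ S' := by
      intro g hg v hv
      obtain ⟨π, hπ⟩ := hle hg
      have hd : ∀ i, ∃ d : F, (g : Matrix (Fin 6) (Fin 6) F) *ᵥ b i = d • b (π i) := fun i =>
        hbl (π i) _ (by rw [← hπ i]; exact ⟨b i, hbD i, Matrix.toLin'_apply _ _⟩)
      choose d hd using hd
      have hd0 : ∀ i, d i ≠ 0 := fun i e => by
        have h1 := hd i
        rw [e, zero_smul] at h1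
        have := hb1 i
        rw [← inv_mulVec_mulVec g (b i), h1, Matrix.mulVec_zero, hf.zero_left] at this
        exact zero_ne_one this
      set M : Matrix (Fin 6) (Fin 6) F := (Matrix.diagonal d).submatrix π.symm id
      have hMu : ∀ (w : Fin 6 → F) k, (M *ᵥ w) k = d (π.symm k) * w (π.symm k) := fun w k => by
        simp [M, Matrix.mulVec, dotProduct, Matrix.diagonal_apply, ite_mul]
      have hgB : (g : Matrix (Fin 6) (Fin 6) F) * Bm = Bm * M := by
        refine Matrix.toLin'.injective ((Pi.basisFun F (Fin 6)).ext fun i => ?_)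
        simp only [Pi.basisFun_apply, Matrix.toLin'_apply, ← Matrix.mulVec_mulVec, hBu, Matrix.mulVec_sum,
          Matrix.mulVec_smul, hd, hMu, Pi.single_apply, ite_smul, one_smul, zero_smul, Finset.sum_ite_eq',
          Finset.mem_univ, if_true, mul_ite, mul_one, mul_zero, Equiv.symm_apply_eq, Equiv.symm_apply_apply]
      have hprod : ∏ i, d i = 1 := by
        have e := congrArg Matrix.det hgB
        rw [Matrix.det_mul, Matrix.det_mul, show M.det = (Equiv.Perm.sign π.symm : ℤ) * ∏ i, d i from (Matrix.det_permute _ _).trans (by rw [Matrix.det_diagonal (d := d)])] at e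
        have hg2 : Matrix.GeneralLinearGroup.det g = 1 := (hH.1.le hg).2
        have hg1 : (g : Matrix (Fin 6) (Fin 6) F).det = 1 := by
          rw [← Matrix.GeneralLinearGroup.val_det_apply, hg2, Units.val_one]
        rw [hg1, one_mul] at e
        have e' := (mul_eq_left₀ hdetB).mp e.symm
        have hsgn : ((Equiv.Perm.sign π.symm : ℤ) : F) = 1 := by
          rcases Int.units_eq_one_or (Equiv.Perm.sign π.symm) with h | h <;> rw [h] <;> simp [CharTwo.neg_eq]
        rwa [hsgn, one_mul] at e'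
      show Bi *ᵥ ((g : Matrix (Fin 6) (Fin 6) F) *ᵥ v) ∈ S
      rw [← hBi' v, Matrix.mulVec_mulVec _ (g : Matrix (Fin 6) (Fin 6) F), hgB, ← Matrix.mulVec_mulVec, hBi]
      set w := Bi *ᵥ v
      rcases (show w ∈ S from hv) with h | ⟨h, hp⟩
      · left
        rw [← h]
        refine Finset.card_equiv π.symm fun k => ?_
        simp [hMu, hd0]
      · right
        refine ⟨fun k => by rw [hMu]; exact mul_ne_zero (hd0 _) (h _), ?_⟩
        simp only [hMu]
        rw [Equiv.prod_comp π.symm (fun k => d k * w k), Finset.prod_mul_distrib, hprod, hp, one_mul]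
    intro g hg v
    refine ⟨key g hg v, fun h => ?_⟩
    have := key g⁻¹ (H.inv_mem hg) _ h
    rwa [show glToMat (Fin 6) F g = (g : Matrix (Fin 6) (Fin 6) F) from rfl, inv_mulVec_mulVec] at this
  -- the transvection at the sum of the basis
  let r : Fin 6 → F := fun _ => 1
  have hr : Cfsg.hermForm 6 F 2 (Bm *ᵥ r) (Bm *ᵥ r) = 0 := by
    rw [hBf]
    simp only [Cfsg.hermForm, r, one_pow, mul_one, Fin.sum_univ_six]
    linear_combination h2 (1 : F) + h2 (1 : F) + h2 (1 : F)
  have hc1 : (1 : F) + frob hF 1 = 0 := by rw [map_one]; exact h2 1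
  set t := utv 2 hr (1 : F)
  have htG : t ∈ Cfsg.GU 6 F 2 ⊓ specialLinear (Fin 6) F := utv_mem hF hr hc1
  have htS : t ∈ stabilizing (glToMat (Fin 6) F) S' := by
    have key : ∀ v, v ∈ S' → (t : Matrix (Fin 6) (Fin 6) F) *ᵥ v ∈ S' := by
      intro v hv
      show Bi *ᵥ ((t : Matrix (Fin 6) (Fin 6) F) *ᵥ v) ∈ S
      have h1 : Cfsg.hermForm 6 F 2 v (Bm *ᵥ r) = ∑ j, (Bi *ᵥ v) j := by
        conv_lhs => rw [← hBi' v, hBf]
        simp [Cfsg.hermForm, r]
      rw [utv_mulVec, h1, one_mul, Matrix.mulVec_add, Matrix.mulVec_smul, hBi]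
      have := htr _ hv
      simpa [r, Pi.add_def, Pi.smul_def] using this
    intro v
    refine ⟨key v, fun h => ?_⟩
    have h1 := key _ h
    have e : (t : Matrix (Fin 6) (Fin 6) F) *ᵥ (glToMat (Fin 6) F t *ᵥ v) = v := by
      show (t : Matrix (Fin 6) (Fin 6) F) *ᵥ ((t : Matrix (Fin 6) (Fin 6) F) *ᵥ v) = v
      rw [utv_mulVec, utv_mulVec, hf.add_left, hf.smul_left, hr, mul_zero, add_zero, add_assoc, ← add_smul, h2,
        zero_smul, add_zero]
    rwa [e] at h1
  have htH : t ∉ H := by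
    intro ht
    obtain ⟨π, hπ⟩ := hle ht
    obtain ⟨c, hc⟩ := hbl (π 0) _ (show (t : Matrix (Fin 6) (Fin 6) F) *ᵥ b 0 ∈ D (π 0) by
      rw [← hπ 0]; exact ⟨b 0, hbD 0, Matrix.toLin'_apply _ _⟩)
    have hb0 : ∀ i, Bm *ᵥ Pi.single i 1 = b i := fun i => by rw [Matrix.mulVec_single_one]; rfl
    rw [← hb0 0, ← hb0 (π 0), utv_mulVec, hBf, ← Matrix.mulVec_smul, ← Matrix.mulVec_add, ← Matrix.mulVec_smul] at hc
    have hc' := congrArg (fun v => Bi *ᵥ v) hc
    simp only [hBi, one_mul] at hc'
    have hh : Cfsg.hermForm 6 F 2 (Pi.single 0 1) r = 1 := by simp [Cfsg.hermForm, r]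
    rw [hh] at hc'
    obtain ⟨k, hk0, hkπ⟩ : ∃ k : Fin 6, k ≠ 0 ∧ k ≠ π 0 :=
      (show ∀ a : Fin 6, ∃ k : Fin 6, k ≠ 0 ∧ k ≠ a by decide) (π 0)
    have := congrFun hc' k
    simp [r, hk0, hkπ] at this
  -- the stabiliser of the set is everything
  have htop : Cfsg.GU 6 F 2 ⊓ specialLinear (Fin 6) F ≤ stabilizing (glToMat (Fin 6) F) S' := by
    by_contra hne
    have hlt : stabilizing (glToMat (Fin 6) F) S' ⊓ (Cfsg.GU 6 F 2 ⊓ specialLinear (Fin 6) F) <
        Cfsg.GU 6 F 2 ⊓ specialLinear (Fin 6) F := lt_of_le_of_ne inf_le_right fun e => hne (e ▸ inf_le_left)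
    have := Cfsg.Lib.Classical.PrimeDim.eq_inf_of_maximal hH hHS hne
    exact htH (this ▸ ⟨htS, htG⟩)
  -- a transvection moving a point out of the set
  let a : Fin 6 → F := ![1, 1, 1, 1, 0, 0]
  have ha : Cfsg.hermForm 6 F 2 (Bm *ᵥ a) (Bm *ᵥ a) = 0 := by
    rw [hBf]
    simp [Cfsg.hermForm, a, Fin.sum_univ_six]
    linear_combination h2 (1 : F) + h2 (1 : F)
  let v : Fin 6 → F := ![0, 0, 1, 0, 1, 0]
  have hv : Bm *ᵥ v ∈ S' := by
    show Bi *ᵥ (Bm *ᵥ v) ∈ S
    rw [hBi]
    left
    simp [v, Finset.card_filter, Fin.sum_univ_six]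
  have h1 := (htop (utv_mem hF ha hc1) (Bm *ᵥ v)).mp hv
  change Bi *ᵥ ((utv 2 ha (1 : F) : Matrix (Fin 6) (Fin 6) F) *ᵥ (Bm *ᵥ v)) ∈ S at h1
  rw [utv_mulVec, hBf, Matrix.mulVec_add, Matrix.mulVec_smul, hBi, hBi] at h1
  have he : Cfsg.hermForm 6 F 2 v a = 1 := by simp [Cfsg.hermForm, v, a, Fin.sum_univ_six]
  rw [he, one_mul, one_smul] at h1
  have hva : v + a = ![1, 1, 0, 1, 1, 0] := by
    funext k
    fin_cases k <;> simp [v, a, h2]
  rw [hva] at h1
  rcases h1 with h | ⟨h, -⟩
  · simp [Finset.card_filter, Fin.sum_univ_six] at h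
  · exact h 2 (by simp)

end Cfsg.Lib.Classical.Aschbacher
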