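import Cfsg.Agent.Classical.Aschbacher.UnitMembers
import Cfsg.Agent.Classical.Aschbacher.FormSubfield

/-! Subfield structures in the unitary groups. -/

set_option autoImplicit false
set_option linter.unusedSimpArgs false
set_option linter.unusedSectionVars false
set_option linter.style.haveILetI false

namespace Cfsg.Lib.Classical.Aschbacher

open Matrix Cfsg.Geo
open scoped MatrixGroups Kronecker
open Cfsg.Lib.Classical.PrimeDim (Normalises Invariant irreducible_iff finrank_pi_card frob frob_apply frob_frob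
  frob_ne_refl le_subfield_of_realisable mem_scalars_of_val_eq scalar_commute no_alternating
  exists_char_card powField mem_powField card_powField val_mul_inv val_inv_mul)

universe u

variable {n : ℕ} {F : Type u} [Field F] [Fintype F] {q : ℕ} {H : Subgroup (GL (Fin n) F)}

/-- A scalar may be absorbed in the change of basis of a subfield group. -/
theorem subfieldSubgroup_mul_scalar {ι : Type} [Fintype ι] [DecidableEq ι] {K : Type u} [Field K] (F₀ : Subfield K)
    (B : GL ι K) {z : GL ι K} (hz : z ∈ scalars ι K) : subfieldSubgroup F₀ (B * z) = subfieldSubgroup F₀ B := by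
  have e : (MulAut.conj (B * z)).toMonoidHom = (MulAut.conj B).toMonoidHom := MonoidHom.ext fun g => by
    show B * z * g * (B * z)⁻¹ = B * g * B⁻¹
    rw [mul_assoc B z g, scalar_commute hz g, ← mul_assoc, _root_.mul_inv_rev, mul_assoc, mul_inv_cancel_left]
  rw [subfieldSubgroup, subfieldSubgroup, e]

/-- A form rational up to a fixed scalar is rational in a scaled basis. -/
theorem exists_rescale (hF : Fintype.card F = q ^ 2) [Nonempty (Fin n)] {F₁ : Subfield F} {B : GL (Fin n) F} {c : F}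
    (hc : c ≠ 0) (hσ : frob hF c = c) (hs : IsFormRationalStructure (Cfsg.hermForm n F q) F₁ c B) :
    ∃ B' : GL (Fin n) F, subfieldSubgroup F₁ B' = subfieldSubgroup F₁ B ∧
      IsFormRationalStructure (Cfsg.hermForm n F q) F₁ 1 B' := by
  obtain ⟨x, hx⟩ := Cfsg.Lib.Classical.PrimeDim.exists_norm_eq hF hσ
  have hx0 : x ≠ 0 := fun e => hc (by rw [← hx, e, zero_mul])
  let z : GL (Fin n) F := Matrix.GeneralLinearGroup.mkOfDetNeZero (x • (1 : Matrix (Fin n) (Fin n) F))
    (by rw [Matrix.det_smul, Matrix.det_one, mul_one]; exact pow_ne_zero _ hx0)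
  refine ⟨B * z, subfieldSubgroup_mul_scalar F₁ B (mem_scalars_of_val_eq (c := x) rfl), fun u v hu hv => ?_⟩
  have hf := herm_refl (n := n) hF
  have e : ∀ w, ((B * z : GL (Fin n) F) : Matrix (Fin n) (Fin n) F) *ᵥ w = x • ((B : Matrix (Fin n) (Fin n) F) *ᵥ w) :=
    fun w => by
      rw [Units.val_mul, ← Matrix.mulVec_mulVec, ← Matrix.mulVec_smul]
      congr 1
      show (x • (1 : Matrix (Fin n) (Fin n) F)) *ᵥ w = _
      rw [Matrix.smul_mulVec, Matrix.one_mulVec]
  rw [e, e, hf.smul_left, hf.smul_right, one_mul, ← mul_assoc, hx]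
  exact hs u v hu hv

theorem inULE_orth (hF : Fintype.card F = q ^ 2) [Nonempty (Fin n)] (hq : Odd q) {F₁ : Subfield F}
    {B : GL (Fin n) F} {c : F} (hcard : Fintype.card F = Nat.card F₁ ^ 2) (hc : c ≠ 0) (hσ : frob hF c = c)
    (hle : H ≤ subfieldSubgroup F₁ B) (hs : IsFormRationalStructure (Cfsg.hermForm n F q) F₁ c B) : InULE q H := by
  obtain ⟨B', hB', hs'⟩ := exists_rescale hF hc hσ hs
  exact ⟨_, .subfieldOrth F₁ B' hq hcard hs', hB'.symm ▸ hle⟩

theorem inULE_symp (hF : Fintype.card F = q ^ 2) {F₁ : Subfield F} {B : GL (Fin n) F} {c : F}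
    (hcard : Fintype.card F = Nat.card F₁ ^ 2) (hc : c ≠ 0) (hσ : c + frob hF c = 0)
    (hle : H ≤ subfieldSubgroup F₁ B) (hs : IsFormRationalStructure (Cfsg.hermForm n F q) F₁ c B)
    (hskew : ((herm_refl (n := n) hF).gramIn (B : Matrix (Fin n) (Fin n) F))ᵀ =
      -(herm_refl (n := n) hF).gramIn (B : Matrix (Fin n) (Fin n) F))
    (hdiag : ∀ i, (herm_refl (n := n) hF).gramIn (B : Matrix (Fin n) (Fin n) F) i i = 0)
    (hfix : ∀ x ∈ F₁, frob hF x = x) : InULE q H := by
  have hf := herm_refl (n := n) hF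
  have hb := matForm_symplectic (hf.gramIn_det_ne_zero ⟨val_mul_inv B, val_inv_mul B⟩) hskew hdiag
  have hn : Even n := (Nat.even_or_odd n).resolve_right fun ho =>
    no_alternating (Fintype.card_fin n) ho hb.bilinear hb.alternating hb.nondegenerate
  refine ⟨_, .subfieldSymp F₁ B c hn hcard hc (by rwa [← frob_apply hF]) hs (fun u hu => ?_), hle⟩
  rw [hf.apply_coords, show ⇑(frob hF) ∘ u = u from funext fun i => hfix _ (hu i)]
  have h := hb.alternating u
  rwa [matForm, RingEquiv.coe_refl, Function.id_comp] at h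

/-- The subfields of index `r` in the field of order `q²`. -/
theorem subfield_fix_iff (hF : Fintype.card F = q ^ 2) {F₁ : Subfield F} {r : ℕ} (hr : r.Prime)
    (hcard : Fintype.card F = Nat.card F₁ ^ r) :
    (r = 2 → ∀ x ∈ F₁, frob hF x = x) ∧ ((∀ x ∈ F₁, frob hF x = x) → r = 2) := by
  obtain ⟨p, f, hp, hchar, hf0, hf⟩ := exists_char_card F
  haveI := Fact.mk hp
  haveI : Finite F₁ := Finite.of_injective _ Subtype.val_injective
  letI := Fintype.ofFinite F₁
  refine ⟨?_, fun hnt => ?_⟩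
  · rintro rfl x hx
    have hcq : Nat.card F₁ = q := Nat.pow_left_injective two_ne_zero (hcard.symm.trans hF)
    have h1 := congrArg Subtype.val (FiniteField.pow_card (⟨x, hx⟩ : F₁))
    rw [Fintype.card_eq_nat_card, hcq] at h1
    rw [frob_apply]; exact h1
  · rw [Nat.card_eq_fintype_card, hF] at hf
    obtain ⟨m, -, hm⟩ := (Nat.dvd_prime_pow hp).mp (hf ▸ dvd_pow_self q two_ne_zero : q ∣ p ^ f)
    have hmle : F₁ ≤ powField F p m := fun x hx => mem_powField.mpr (by rw [← hm, ← frob_apply hF]; exact hnt x hx)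
    have hf2 : f = 2 * m := (Nat.pow_right_injective hp.two_le (by
      show p ^ (2 * m) = p ^ f
      rw [mul_comm, pow_mul, ← hm, hf])).symm
    letI : Algebra F₁ (powField F p m) := (Subfield.inclusion hmle).toAlgebra
    have hk := Module.natCard_eq_pow_finrank (K := F₁) (V := powField F p m)
    rw [card_powField (F := F) (f := f) (by omega) (by rw [Nat.card_eq_fintype_card, hF, hf]) ⟨2, by omega⟩, ← hm] at hk
    have h1 : 1 < Nat.card F₁ := Finite.one_lt_card
    have h3 : r = Module.finrank F₁ (powField F p m) * 2 := Nat.pow_right_injective h1 (by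
      show Nat.card F₁ ^ r = Nat.card F₁ ^ (Module.finrank F₁ (powField F p m) * 2)
      rw [pow_mul, ← hk, ← hF, ← hcard])
    exact ((Nat.prime_dvd_prime_iff_eq Nat.prime_two hr).mp ⟨_, h3.trans (mul_comm _ _)⟩).symm

/-- The normaliser of an absolutely irreducible group of isometries, realisable over a proper subfield. -/
theorem inULE_of_realisable (hF : Fintype.card F = q ^ 2) (hn : 2 ≤ n) {P : Subgroup (GL (Fin n) F)}
    (hnorm : Normalises H P) (hP : P ≤ Cfsg.GU n F q) (hai : ActsAbsolutelyIrreducibly (matrixSet P))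
    {F₀ : Subfield F} (hne : F₀ ≠ ⊤) (hreal : RealisableOver F₀ (matrixSet P)) : InULE q H := by
  classical
  haveI : Nonempty (Fin n) := ⟨⟨0, by omega⟩⟩
  have hf := herm_refl (n := n) hF
  set σ := frob hF with hσdef
  obtain ⟨F₁, r, B, hr, hcard, hle, hent⟩ := le_subfield_of_realisable hnorm hai hne hreal
  rw [Nat.card_eq_fintype_card] at hcard
  have hσ₁ : ∀ x ∈ F₁, σ x ∈ F₁ := fun x hx => by rw [hσdef, frob_apply]; exact pow_mem hx q
  obtain ⟨c, hc, hs, hG⟩ := hf.exists_scale (gu_fixes hP) hai hσ₁ hent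
  have hcd : Coords (B : Matrix (Fin n) (Fin n) F) ((B⁻¹ : GL (Fin n) F) : Matrix (Fin n) (Fin n) F) :=
    ⟨val_mul_inv B, val_inv_mul B⟩
  have hherm : ∀ i j, hf.gramIn (B : Matrix (Fin n) (Fin n) F) j i =
      σ (hf.gramIn (B : Matrix (Fin n) (Fin n) F) i j) := fun i j => by
    have := congrFun (congrFun (hf.gramIn_transpose (B : Matrix (Fin n) (Fin n) F)) i) j
    rwa [one_smul] at this
  obtain ⟨ε, hε⟩ : ∃ ε : F, ε = σ c / c := ⟨_, rfl⟩
  have hσc : σ c = ε * c := by rw [hε, div_mul_cancel₀ _ hc]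
  have hεσ : ∀ i j, σ (c * hf.gramIn (B : Matrix (Fin n) (Fin n) F) i j) =
      ε * (c * hf.gramIn (B : Matrix (Fin n) (Fin n) F) j i) := fun i j => by
    rw [map_mul, hσc, ← hherm, mul_assoc]
  have hεε : ε * σ ε = 1 := by
    rw [hε, map_div₀, frob_frob, div_mul_div_cancel₀ hc, div_self ((map_ne_zero σ).mpr hc)]
  have hεmem : ε ∈ F₁ := by
    obtain ⟨i, j, hij⟩ : ∃ i j, hf.gramIn (B : Matrix (Fin n) (Fin n) F) i j ≠ 0 := by
      by_contra h
      push Not at h
      exact hf.gramIn_ne_zero hcd (Matrix.ext h)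
    have h1 := hεσ j i
    have h2 : ε = σ (c * hf.gramIn (B : Matrix (Fin n) (Fin n) F) j i) / (c * hf.gramIn (B : Matrix (Fin n) (Fin n) F) i j) := by
      rw [h1, mul_div_assoc, div_self (mul_ne_zero hc hij), mul_one]
    rw [h2]
    exact div_mem (hσ₁ _ (hG j i)) (hG i j)
  by_cases hnt : ∀ x ∈ F₁, σ x = x
  swap
  · -- odd index
    push Not at hnt
    obtain ⟨z, hz, hzne⟩ := hnt
    have ho : Odd r := (hr.eq_two_or_odd').resolve_left fun e =>
      hzne ((subfield_fix_iff hF hr hcard).1 e z hz)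
    obtain ⟨d, hdmem, hd0, hd⟩ : ∃ d ∈ F₁, d ≠ 0 ∧ σ d = ε * d := by
      by_cases h1 : 1 + σ ε = 0
      · refine ⟨z + σ z * σ ε, add_mem hz (mul_mem (hσ₁ _ hz) (hσ₁ _ hεmem)), fun e => hzne ?_, ?_⟩
        · have : σ ε = -1 := by linear_combination h1
          rw [this] at e
          linear_combination -e
        · rw [map_add, map_mul, hσdef, frob_frob, frob_frob, mul_add, ← mul_assoc, mul_comm ε (frob hF z), mul_assoc,
            hεε]
          ring
      · exact ⟨1 + σ ε, add_mem (one_mem _) (hσ₁ _ hεmem), h1, by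
          rw [map_add, map_one, hσdef, frob_frob, mul_add, hεε]; ring⟩
    have hε0 : ε ≠ 0 := left_ne_zero_of_mul_eq_one hεε
    obtain ⟨B', hB', hs'⟩ := exists_rescale hF (div_ne_zero hc hd0)
      (by rw [map_div₀, ← hσdef, hd, hσc, mul_div_mul_left _ _ hε0]) (fun u v hu hv => by
        rw [div_mul_eq_mul_div]; exact div_mem (hs u v hu hv) hdmem)
    exact ⟨_, .subfieldOdd F₁ r B' hr ho hcard hs', hB'.symm ▸ hle⟩
  -- index two
  obtain rfl : r = 2 := (subfield_fix_iff hF hr hcard).2 hnt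
  have hsq : ε * ε = 1 := by
    have e := hεε
    rwa [hnt ε hεmem] at e
  have hsym : ∀ i j, hf.gramIn (B : Matrix (Fin n) (Fin n) F) j i =
      ε * hf.gramIn (B : Matrix (Fin n) (Fin n) F) i j := fun i j => by
    have e := hεσ j i
    rw [hnt _ (hG j i)] at e
    refine mul_left_cancel₀ hc ?_
    linear_combination e
  have hε' : ε = 1 ∨ (ε = -1 ∧ (2 : F) ≠ 0) := by
    by_cases h2 : (2 : F) = 0
    · rcases mul_self_eq_one_iff.mp hsq with e | e
      · exact Or.inl e
      · exact Or.inl (by rw [e, neg_eq_iff_add_eq_zero, one_add_one_eq_two, h2])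
    · exact (mul_self_eq_one_iff.mp hsq).imp_right fun e => ⟨e, h2⟩
  rcases hε' with rfl | ⟨rfl, h2⟩
  · rw [one_mul] at hσc
    rcases Nat.even_or_odd q with he | ho
    swap
    · exact inULE_orth hF ho hcard hc hσc hle hs
    -- even order
    obtain ⟨p, f, hp, hchar, hf0, hf'⟩ := exists_char_card F
    rw [Nat.card_eq_fintype_card, hF] at hf'
    have h2d : 2 ∣ p ^ f := hf' ▸ dvd_pow (even_iff_two_dvd.mp he) two_ne_zero
    obtain rfl := (Nat.prime_dvd_prime_iff_eq Nat.prime_two hp).mp (Nat.prime_two.dvd_of_dvd_pow h2d)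
    have h2 : (2 : F) = 0 := CharP.cast_eq_zero F 2
    have hneg : ∀ a : F, -a = a := fun a => by rw [neg_eq_iff_add_eq_zero, ← two_mul, h2, zero_mul]
    have hT : (hf.gramIn (B : Matrix (Fin n) (Fin n) F))ᵀ = hf.gramIn (B : Matrix (Fin n) (Fin n) F) :=
      Matrix.ext fun i j => by rw [Matrix.transpose_apply, hsym, one_mul]
    have hdiag : ∀ i, hf.gramIn (B : Matrix (Fin n) (Fin n) F) i i = 0 := by
      by_contra hd
      push Not at hd
      obtain ⟨W, hW0, hW1, hW⟩ := exists_singular_subspace (by rw [Fintype.card_fin]; exact hn) h2 hT hd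
      let L : (Fin n → F) →ₗ[F] (Fin n → F) := Matrix.toLin' ((B⁻¹ : GL (Fin n) F) : Matrix (Fin n) (Fin n) F)
      rcases (irreducible_iff P).mp hai.1 (W.comap L) (fun g hg v hv => by
        rw [Submodule.mem_comap, Matrix.toLin'_apply, Matrix.mulVec_mulVec,
          show ((B⁻¹ : GL (Fin n) F) : Matrix (Fin n) (Fin n) F) * (g : Matrix (Fin n) (Fin n) F) =
            ((B⁻¹ * g * B : GL (Fin n) F) : Matrix (Fin n) (Fin n) F) * ((B⁻¹ : GL (Fin n) F) : Matrix (Fin n) (Fin n) F) by
            rw [← Units.val_mul, ← Units.val_mul, mul_inv_cancel_right], ← Matrix.mulVec_mulVec]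
        refine hW _ 1 ?_ _ hv
        rw [one_smul]
        have h := hf.gramIn_fix (gu_fixes hP) hg
          (Φ := (B : Matrix (Fin n) (Fin n) F)) (T := ((B⁻¹ * g * B : GL (Fin n) F) : Matrix (Fin n) (Fin n) F))
          (by rw [← Units.val_mul, ← Units.val_mul]; congr 1; simp [mul_assoc])
        rwa [show ((B⁻¹ * g * B : GL (Fin n) F) : Matrix (Fin n) (Fin n) F).map σ =
          ((B⁻¹ * g * B : GL (Fin n) F) : Matrix (Fin n) (Fin n) F) from Matrix.ext fun i j => hnt _ (hent g hg i j)] at h) with e | e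
      · refine hW0 ((Submodule.eq_bot_iff _).mpr fun w hw => ?_)
        have hm : (B : Matrix (Fin n) (Fin n) F) *ᵥ w ∈ W.comap L := by
          rw [Submodule.mem_comap, Matrix.toLin'_apply, Matrix.mulVec_mulVec, val_inv_mul, Matrix.one_mulVec]; exact hw
        rw [e, Submodule.mem_bot] at hm
        rw [← Matrix.one_mulVec w, ← val_inv_mul B, ← Matrix.mulVec_mulVec, hm, Matrix.mulVec_zero]
      · refine hW1 (Submodule.eq_top_iff'.mpr fun w => ?_)
        have hm : (B : Matrix (Fin n) (Fin n) F) *ᵥ w ∈ W.comap L := e ▸ Submodule.mem_top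
        rwa [Submodule.mem_comap, Matrix.toLin'_apply, Matrix.mulVec_mulVec, val_inv_mul, Matrix.one_mulVec] at hm
    exact inULE_symp hF hcard hc (by rw [← hσdef, hσc, ← two_mul, h2, zero_mul]) hle hs
      (hT.trans (Matrix.ext fun i j => (hneg _).symm)) hdiag hnt
  · have hskew : c + σ c = 0 := by rw [hσc]; ring
    refine inULE_symp hF hcard hc hskew hle hs (Matrix.ext fun i j => by
      rw [Matrix.transpose_apply, hsym, Matrix.neg_apply, neg_one_mul]) (fun i => ?_) hnt
    have h := hsym i i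
    rw [neg_one_mul, eq_neg_iff_add_eq_zero, ← two_mul] at h
    exact (mul_eq_zero.mp h).resolve_left h2

end Cfsg.Lib.Classical.Aschbacher
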