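import Cfsg.Agent.Classical.Aschbacher.UnitSubfield
import Cfsg.Agent.Classical.Aschbacher.Symplectic
import Cfsg.Agent.Classical.PrimeDim.Linear

/-! Normalisers of groups of symplectic type in the unitary groups. -/

set_option autoImplicit false
set_option linter.unusedSimpArgs false
set_option linter.unusedSectionVars false
set_option linter.style.haveILetI false

namespace Cfsg.Lib.Classical.Aschbacher

open Matrix Cfsg.Geo
open scoped MatrixGroups commutatorElement
open Cfsg.Lib.Classical.PrimeDim (Normalises forall_matrixSet mem_matrixSet scalar_commute exists_char_card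
  mem_scalars_of_val_eq powField card_powField orderOf_natCast_facts frob frob_apply frob_frob)

universe u

variable {ι : Type} [Fintype ι] [DecidableEq ι] {F : Type u} [Field F]

namespace SympN

variable [Finite F] [Nonempty ι] {r : ℕ} {G R : Subgroup (GL ι F)}

theorem eq_of_sval {x y : GL ι F} (hx : x ∈ scalars ι F) (hy : y ∈ scalars ι F) (h : sval x = sval y) : x = y :=
  Units.ext (((val_eq_sval hx).trans (by rw [h])).trans (val_eq_sval hy).symm)

theorem scalar_pow (hN : SympN r R) {g : GL ι F} (hg : g ∈ R) {E : ℕ} (hE : r ∣ E) : g ^ E ∈ scalars ι F := by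
  obtain ⟨j, rfl⟩ := hE
  rw [pow_mul]
  exact _root_.pow_mem (hN.pow_mem g hg) j

/-- In a minimal group of symplectic type a power map that is multiplicative is trivial. -/
theorem pow_eq_one_of_minimal (hN : SympN r R) (hn : Normalises G R) (hmin : Minimal G R) {E : ℕ} (hrE : r ∣ E)
    (hE : r ∣ E.choose 2) : ∀ g ∈ R, g ^ E = 1 := by
  let K : Subgroup (GL ι F) :=
    { carrier := {g | g ∈ R ∧ g ^ E = 1}
      one_mem' := ⟨one_mem R, one_pow E⟩
      inv_mem' := fun {g} hg => ⟨inv_mem hg.1, by rw [inv_pow, hg.2, inv_one]⟩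
      mul_mem' := fun {x y} hx hy => ⟨mul_mem hx.1 hy.1, by
        rw [pow_mul_of_central (z := ⁅y⁻¹, x⁻¹⁆) (fun z => scalar_commute (hN.comm _ (inv_mem hy.1) _ (inv_mem hx.1)) z)
          (by simp only [commutatorElement_def, inv_inv]; group) E, hx.2, hy.2, one_mul, one_mul]
        obtain ⟨j, hj⟩ := hE
        rw [hj, pow_mul, hN.comm_pow_r (inv_mem hy.1) (inv_mem hx.1), one_pow]⟩ }
  have hKn : Normalises G K := fun h hh g hg => ⟨hn h hh g hg.1, by rw [conj_pow, hg.2, mul_one, mul_inv_cancel]⟩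
  by_cases hKs : K ≤ scalars ι F
  swap
  · intro g hg
    have hgK : g ∈ K := (hmin K (fun x hx => hx.1) hKn hKs).symm ▸ hg
    exact hgK.2
  exfalso
  -- the quotient by `K` embeds in the field, so two elements generate commuting classes
  have hmul : ∀ x y, x ∈ R → y ∈ R → (x * y) ^ E = x ^ E * y ^ E := fun x y hx hy => by
    rw [pow_mul_of_central (z := ⁅y⁻¹, x⁻¹⁆) (fun z => scalar_commute (hN.comm _ (inv_mem hy) _ (inv_mem hx)) z)
      (by simp only [commutatorElement_def, inv_inv]; group) E]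
    obtain ⟨j, hj⟩ := hE
    rw [hj, pow_mul, hN.comm_pow_r (inv_mem hy) (inv_mem hx), one_pow, mul_one]
  let Im : Subgroup (GL ι F) :=
    { carrier := {z | ∃ g ∈ R, g ^ E = z}
      one_mem' := ⟨1, one_mem R, one_pow E⟩
      inv_mem' := fun {z} ⟨g, hg, e⟩ => ⟨g⁻¹, inv_mem hg, by rw [inv_pow, e]⟩
      mul_mem' := fun {z w} ⟨g, hg, e⟩ ⟨g', hg', e'⟩ => ⟨g * g', mul_mem hg hg', by rw [hmul g g' hg hg', e, e']⟩ }
  have hIm : Im ≤ scalars ι F := fun z ⟨g, hg, e⟩ => e ▸ hN.scalar_pow hg hrE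
  haveI : IsCyclic Im := isCyclic_of_subgroup_isDomain
    (⟨⟨fun x => sval (x : GL ι F), sval_one⟩, fun x y => sval_mul (hIm x.2) (hIm y.2)⟩ : Im →* F)
    (fun x y h => Subtype.ext (eq_of_sval (hIm x.2) (hIm y.2) h))
  obtain ⟨⟨_, g₀, hg₀, rfl⟩, hgen⟩ := IsCyclic.exists_generator (α := Im)
  have key : ∀ x ∈ R, ∃ (j : ℤ) (z : GL ι F), z ∈ scalars ι F ∧ x = g₀ ^ j * z := fun x hx => by
    obtain ⟨j, hj⟩ := Subgroup.mem_zpowers_iff.mp (hgen ⟨x ^ E, x, hx, rfl⟩)
    refine ⟨j, (g₀ ^ j)⁻¹ * x, hKs ⟨R.mul_mem (R.inv_mem (R.zpow_mem hg₀ j)) hx, ?_⟩, by group⟩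
    have h1 : (g₀ ^ E) ^ j = x ^ E := congrArg Subtype.val hj
    rw [hmul _ _ (R.inv_mem (R.zpow_mem hg₀ j)) hx, inv_pow, ← h1, ← zpow_natCast (g₀ ^ j) E, ← _root_.zpow_mul,
      mul_comm, _root_.zpow_mul, zpow_natCast, inv_mul_cancel]
  obtain ⟨a, ha, b, hb, hab⟩ := hN.exists_comm_ne
  refine hab (commutatorElement_eq_one_iff_mul_comm.mpr ?_)
  obtain ⟨i, s, hs, rfl⟩ := key a ha
  obtain ⟨j, t, ht, rfl⟩ := key b hb
  calc g₀ ^ i * s * (g₀ ^ j * t) = g₀ ^ i * (s * g₀ ^ j) * t := by simp only [mul_assoc]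
    _ = (g₀ ^ i * g₀ ^ j) * (s * t) := by rw [scalar_commute hs]; simp only [mul_assoc]
    _ = (g₀ ^ j * g₀ ^ i) * (t * s) := by rw [← _root_.zpow_add, ← _root_.zpow_add, add_comm, scalar_commute hs t]
    _ = g₀ ^ j * (g₀ ^ i * t) * s := by simp only [mul_assoc]
    _ = _ := by rw [← scalar_commute ht]; simp only [mul_assoc]

/-- Normal abelian subgroups of a minimal normalised group of symplectic type are cyclic. -/
theorem cyclic_of_minimal' (hN : SympN r R) (hmin : Minimal G R) :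
    ∀ A : Subgroup R, Normalises G (A.map R.subtype) → IsMulCommutative A → IsCyclic A := by
  intro A hA hAc
  by_cases hs : A.map R.subtype ≤ scalars ι F
  · haveI : Finite A := Finite.of_injective (fun x : A => ((x : R) : GL ι F))
      (fun x y h => Subtype.ext (Subtype.ext h))
    exact isCyclic_of_subgroup_isDomain
      (⟨⟨fun x => sval ((x : R) : GL ι F), sval_one⟩,
        fun x y => sval_mul (hs ⟨_, x.2, rfl⟩) (hs ⟨_, y.2, rfl⟩)⟩ : A →* F)
      (fun x y h => Subtype.ext (Subtype.ext (eq_of_sval (hs ⟨_, x.2, rfl⟩) (hs ⟨_, y.2, rfl⟩) h)))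
  · exfalso
    have hK := hmin (A.map R.subtype) (Subgroup.map_subtype_le A) hA hs
    obtain ⟨a, ha, b, hb, hab⟩ := hN.exists_comm_ne
    rw [← hK] at ha hb
    obtain ⟨⟨a', ha'⟩, hA1, rfl⟩ := ha
    obtain ⟨⟨b', hb'⟩, hB1, rfl⟩ := hb
    exact hab (commutatorElement_eq_one_iff_mul_comm.mpr
      (congrArg (fun w : A => ((w : R) : GL ι F)) (hAc.is_comm.comm ⟨_, hA1⟩ ⟨_, hB1⟩)))

theorem center_eq (hN : SympN r R) : Subgroup.center R = (scalars ι F).subgroupOf R := by
  ext x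
  refine ⟨fun h => hN.eq_one_all fun y hy => ?_, fun h => Subgroup.mem_center_iff.mpr fun y =>
    Subtype.ext (scalar_commute h (y : GL ι F)).symm⟩
  exact commutatorElement_eq_one_iff_mul_comm.mpr
    (congrArg Subtype.val (Subgroup.mem_center_iff.mp h ⟨y, hy⟩))

theorem card_eq_center_mul (hN : SympN r R) :
    Nat.card R = Nat.card (Subgroup.center R) * Fintype.card ι ^ 2 := by
  haveI : Finite R := Finite.of_injective _ Subtype.val_injective
  rw [hN.center_eq, ← (hN.card_classes).1,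
    Subgroup.card_eq_card_quotient_mul_card_subgroup ((scalars ι F).subgroupOf R), mul_comm]

end SympN

variable [Fintype F]

/-- A group of symplectic type whose scalars lie in a subfield is realisable over it. -/
theorem SympN.realisable_of_center [Nonempty ι] {r : ℕ} {R : Subgroup (GL ι F)} (hN : SympN r R) {p e s : ℕ}
    [Fact p.Prime] [CharP F p] (he : 0 < e) (hs : 0 < s) (hcard : Fintype.card F = p ^ (e * s))
    (hne : (Nat.card (Subgroup.center R) : F) ≠ 0) (hn0 : (Fintype.card ι : F) ≠ 0)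
    (hfix : ∀ z ∈ R, z ∈ scalars ι F → sval z ^ p ^ e = sval z) :
    RealisableOver (powField F p e) (matrixSet R) := by
  classical
  haveI : Fintype R := Fintype.ofFinite _
  refine realisable_of_sum (p := p) (e := e) (s := s) he hs hcard hN.absIrred ?_
  have hp : p.Prime := Fact.out
  rw [← Finset.sum_filter_add_sum_filter_not Finset.univ (fun g : R => (g : GL ι F) ∈ scalars ι F),
    Finset.sum_eq_zero (s := Finset.univ.filter (fun g : R => (g : GL ι F) ∉ scalars ι F)) (fun g hg => by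
      rw [hN.trace_zero (Subgroup.mem_sup_left g.2) (Finset.mem_filter.mp hg).2,
        zero_pow (pow_ne_zero _ hp.ne_zero), zero_mul]), add_zero,
    Finset.sum_congr rfl (g := fun _ => (Fintype.card ι : F) ^ 2) (fun g hg => ?_), Finset.sum_const, nsmul_eq_mul,
    ← Fintype.card_subtype, ← Nat.card_eq_fintype_card]
  · refine mul_ne_zero ?_ (pow_ne_zero _ hn0)
    rw [hN.center_eq] at hne
    exact hne
  · have hgs : (g : GL ι F) ∈ scalars ι F := (Finset.mem_filter.mp hg).2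
    rw [val_eq_sval hgs, val_eq_sval (inv_mem hgs), Matrix.trace_smul, Matrix.trace_smul, Matrix.trace_one,
      smul_eq_mul, smul_eq_mul, mul_pow, ← iterateFrobenius_def, ← iterateFrobenius_def, map_natCast]
    have h3 : sval (g : GL ι F) * sval ((g : GL ι F)⁻¹) = 1 := by
      rw [← sval_mul hgs (inv_mem hgs), mul_inv_cancel, sval_one]
    rw [iterateFrobenius_def, hfix _ g.2 hgs]
    linear_combination ((Fintype.card ι : F) ^ 2) * h3

variable {n : ℕ} {q : ℕ} {H G R : Subgroup (GL (Fin n) F)}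

/-- A minimal group of symplectic type in the unitary group gives a subfield or a normaliser of symplectic type. -/
theorem inULE_of_sympN (hF : Fintype.card F = q ^ 2) (hn2 : 2 ≤ n) {r : ℕ} (hN : SympN r R) (hU : R ≤ Cfsg.GU n F q)
    (hnorm : Normalises G R) (hmin : SympN.Minimal G R) (hle : H ≤ G) : InULE q H := by
  classical
  haveI : Nonempty (Fin n) := ⟨⟨0, by omega⟩⟩
  haveI : Finite R := Finite.of_injective _ Subtype.val_injective
  have hf := herm_refl (n := n) hF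
  obtain ⟨p, f, hp, hchar, hf0, hcF⟩ := exists_char_card F
  haveI := Fact.mk hp
  have hF' : Fintype.card F = p ^ f := by rw [← Nat.card_eq_fintype_card, hcF]
  obtain ⟨m, -, hm⟩ := (Nat.dvd_prime_pow hp).mp
    (by rw [← hF', hF]; exact dvd_pow_self q two_ne_zero : q ∣ p ^ f)
  have hf2 : f = 2 * m := (Nat.pow_right_injective hp.two_le (by
    show p ^ (2 * m) = p ^ f
    rw [← hF', hF, hm, ← pow_mul, mul_comm])).symm
  have hr := hN.prime
  haveI := Fact.mk hr
  obtain ⟨k, hk, -⟩ := (hN.card_classes).2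
  rw [Fintype.card_fin] at hk
  have hk1 : 1 ≤ k := Nat.one_le_iff_ne_zero.mpr fun e => by rw [e, pow_zero] at hk; omega
  have hrF := hN.natCast_ne_zero
  have hn0 : (Fintype.card (Fin n) : F) ≠ 0 := by
    rw [Fintype.card_fin, hk, Nat.cast_pow]; exact pow_ne_zero _ hrF
  have hrp : r ≠ p := fun e => hrF (e ▸ CharP.cast_eq_zero F p)
  have hnorm1 : ∀ z ∈ R, z ∈ scalars (Fin n) F → sval z ^ (q + 1) = 1 := fun z hz hzs => by
    obtain ⟨u, hu⟩ : ∃ u : Fin n → F, u ≠ 0 := exists_ne 0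
    obtain ⟨w, hw⟩ := (hf.nondegenerate u hu).2
    have h := gu_fixes hU z hz u w
    rw [val_eq_sval hzs, Matrix.smul_mulVec, Matrix.smul_mulVec, Matrix.one_mulVec, Matrix.one_mulVec,
      hf.smul_left, hf.smul_right, ← mul_assoc, frob_apply, ← pow_succ'] at h
    exact (mul_eq_right₀ hw).mp h
  obtain ⟨a, ha, b, hb, hab⟩ := hN.exists_comm_ne
  have hcR : ⁅a, b⁆ ∈ R := R.mul_mem (R.mul_mem (R.mul_mem ha hb) (R.inv_mem ha)) (R.inv_mem hb)
  have hcs := hN.comm a ha b hb
  have hcord : orderOf ⁅a, b⁆ = r := orderOf_eq_prime (hN.comm_pow_r ha hb) hab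
  -- the power map
  have hchoose : r ∣ (r * Nat.gcd 2 r).choose 2 := by
    rcases hr.eq_two_or_odd' with rfl | ho
    · exact ⟨3, rfl⟩
    · have hg : Nat.gcd 2 r = 1 := Nat.coprime_two_left.mpr ho
      rw [hg, mul_one]
      exact hr.dvd_choose_self two_ne_zero (hr.two_le.lt_of_ne fun e => (Nat.not_even_iff_odd.mpr ho) (e ▸ even_two))
  have hpowE : ∀ g ∈ R, g ^ (r * Nat.gcd 2 r) = 1 :=
    hN.pow_eq_one_of_minimal hnorm hmin (dvd_mul_right _ _) hchoose
  set Z := Subgroup.center R with hZ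
  have hZmem : ∀ z : R, z ∈ Z ↔ (z : GL (Fin n) F) ∈ scalars (Fin n) F := fun z => by
    rw [hZ, hN.center_eq]; rfl
  let ψ : Z →* F := ⟨⟨fun z => sval ((z : R) : GL (Fin n) F), sval_one⟩,
    fun x y => sval_mul ((hZmem _).mp x.2) ((hZmem _).mp y.2)⟩
  have hψ : Function.Injective ψ := fun x y h => Subtype.ext (Subtype.ext
    (SympN.eq_of_sval ((hZmem _).mp x.2) ((hZmem _).mp y.2) h))
  haveI : IsCyclic Z := isCyclic_of_subgroup_isDomain ψ hψ
  have hZdvd : Nat.card Z ∣ r * Nat.gcd 2 r := by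
    rw [← IsCyclic.exponent_eq_card (α := Z)]
    exact Monoid.exponent_dvd_of_forall_pow_eq_one fun z => Subtype.ext (Subtype.ext (hpowE _ (z : R).2))
  have hZr : r ∣ Nat.card Z := by
    have h : (⟨⟨_, hcR⟩, (hZmem _).mpr hcs⟩ : Z) ^ Nat.card Z = 1 := pow_card_eq_one'
    rw [← hcord]
    exact orderOf_dvd_of_pow_eq_one (congrArg (fun w : Z => ((w : R) : GL (Fin n) F)) h)
  have hcard : Nat.card R = Nat.card Z * (r ^ k) ^ 2 := by
    rw [hN.card_eq_center_mul, Fintype.card_fin, ← hk]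
  have hsim : R ≤ similarityGroup (Cfsg.hermForm n F q) := fun g hg => ⟨1, fun u v => by
    rw [Units.val_one, one_mul]; exact gu_fixes hU g hg u v⟩
  have hleN : H ≤ subgroupNormalizer R := fun h hh => by
    rw [subgroupNormalizer, Subgroup.mem_normalizer_iff]
    exact fun x => ⟨fun hx => hnorm h (hle hh) x hx, fun hx => by simpa [mul_assoc] using hnorm.inv (hle hh) hx⟩
  have hcyc := hN.cyclic_of_minimal' hmin
  have hsz : ∀ z ∈ R, z ∈ scalars (Fin n) F → sval z ^ Nat.card Z = 1 := fun z hz hzs => by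
    have h : ψ (⟨⟨z, hz⟩, (hZmem _).mpr hzs⟩ : Z) ^ Nat.card Z = 1 := by
      rw [← map_pow, pow_card_eq_one', map_one]
    exact h
  have hsub : ∀ e : ℕ, 0 < e → e ∣ f → e < f → Nat.card Z ∣ p ^ e - 1 → InULE q H := fun e he hef hlt hdvd => by
    obtain ⟨s, hs⟩ := hef
    have hs0 : 0 < s := Nat.pos_of_ne_zero fun h => by rw [h, mul_zero] at hs; omega
    have hZ0 : (Nat.card Z : F) ≠ 0 := by
      obtain ⟨j, hj⟩ := hdvd
      intro h0
      have h1 : ((p ^ e - 1 : ℕ) : F) = 0 := by rw [hj, Nat.cast_mul, h0, zero_mul]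
      rw [Nat.cast_sub (Nat.one_le_pow _ _ hp.pos), Nat.cast_pow, CharP.cast_eq_zero, zero_pow he.ne', zero_sub,
        Nat.cast_one, neg_eq_zero] at h1
      exact one_ne_zero h1
    have hreal := hN.realisable_of_center (p := p) (e := e) (s := s) he hs0 (by rw [hF', hs]) hZ0 hn0
      (fun z hz hzs => by
        obtain ⟨j, hj⟩ := hdvd
        rw [show p ^ e = Nat.card Z * j + 1 by have := Nat.one_le_pow e p hp.pos; omega, pow_succ, pow_mul,
          hsz z hz hzs, one_pow, one_mul])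
    refine inULE_of_realisable hF hn2 (fun h hh => hnorm h (hle hh)) hU hN.absIrred (fun h => ?_) hreal
    have h1 := card_powField (F := F) (p := p) he hcF ⟨s, hs⟩
    rw [h, Nat.card_congr Subfield.topEquiv.toEquiv, hcF] at h1
    have := Nat.pow_right_injective hp.two_le h1
    omega
  have htype : ∀ j, Nat.card R = r ^ j → (∃ x ∈ R, orderOf x = r * Nat.gcd 2 r) → IsSymplecticTypeGroup r R :=
    fun j hj hord => by
      refine ⟨hr, IsPGroup.of_card hj, fun A hA hAc => hcyc A (Cfsg.Lib.Classical.PrimeDim.char_normalises hnorm A hA) hAc,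
        Nat.dvd_antisymm (Monoid.exponent_dvd_of_forall_pow_eq_one fun x => Subtype.ext (hpowE _ x.2)) ?_⟩
      obtain ⟨x, hx, hxo⟩ := hord
      rw [← hxo, ← Subgroup.orderOf_mk (a := x) (ha := hx)]
      exact Monoid.order_dvd_exponent _
  rcases hr.eq_two_or_odd' with hr2 | ho
  swap
  · -- odd prime
    have hg : Nat.gcd 2 r = 1 := Nat.coprime_two_left.mpr ho
    rw [hg, mul_one] at hZdvd
    have hZeq : Nat.card Z = r := Nat.dvd_antisymm hZdvd hZr
    obtain ⟨he0, -, he⟩ := orderOf_natCast_facts (p := p) hr (fun h => hrp ((Nat.prime_dvd_prime_iff_eq hr hp).mp h))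
    set e := orderOf (p : ZMod r)
    have hef : e ∣ f := (he f).mp (by
      rw [← hcF, ← Nat.card_units]
      obtain ⟨ζ, hζ⟩ := hN.exists_primitiveRoot
      have hu := hζ.isUnit hr.ne_zero
      rw [hζ.eq_orderOf, ← hu.unit_spec, orderOf_units]
      exact orderOf_dvd_natCard hu.unit)
    rcases (Nat.le_of_dvd hf0 hef).lt_or_eq with hlt | heq
    · exact hsub e he0 hef hlt (by rw [hZeq]; exact (he e).mpr dvd_rfl)
    have hcardR : Nat.card R = r ^ (1 + 2 * k) := by rw [hcard, hZeq, ← pow_mul, mul_comm k 2, pow_add, pow_one]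
    refine ⟨_, .sympType r R p e k (htype _ hcardR ⟨_, hcR, by rw [hg, mul_one, hcord]⟩) hN.absIrred hsim hrp
      ⟨hp, hchar, heq ▸ hF', by rw [← hZ, hZeq]; exact (he e).mpr dvd_rfl, fun d hd hde h => ?_⟩
      (Or.inl ⟨ho, hZeq, hk1, hcardR⟩) hk, hleN⟩
    rw [← hZ, hZeq] at h
    have := Nat.le_of_dvd hd ((he d).mp h)
    omega
  subst hr2
  have hp2 : p ≠ 2 := hrp.symm
  have hpo : Odd p := hp.odd_of_ne_two hp2
  have hp1 : 2 ∣ p ^ 1 - 1 := by obtain ⟨j, hj⟩ := hpo; exact ⟨j, by rw [pow_one]; omega⟩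
  rw [show (2 : ℕ) * Nat.gcd 2 2 = 4 from rfl] at hZdvd hpowE
  have h24 : Nat.card Z = 2 ∨ Nat.card Z = 4 := by
    obtain ⟨i, hi, hi'⟩ := (Nat.dvd_prime_pow Nat.prime_two).mp (show Nat.card Z ∣ 2 ^ 2 from hZdvd)
    rw [hi'] at hZr
    interval_cases i
    · simp at hZr
    · exact Or.inl hi'
    · exact Or.inr hi'
  rcases h24 with h2 | h4
  · exact hsub 1 one_pos (one_dvd f) (by omega) (h2 ▸ hp1)
  -- four scalars, all of norm one
  have hq4 : 4 ∣ q + 1 := by
    obtain ⟨z, hz⟩ := IsCyclic.exists_generator (α := Z)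
    have hoz : orderOf z = 4 := by rw [orderOf_eq_card_of_forall_mem_zpowers hz, h4]
    rw [← hoz, ← orderOf_injective ψ hψ z]
    exact orderOf_dvd_of_pow_eq_one (hnorm1 _ (z : R).2 ((hZmem _).mp z.2))
  have hp14 : ¬ 4 ∣ p ^ 1 - 1 := fun h => by
    rw [pow_one] at h
    have hq1 : 4 ∣ q - 1 := h.trans (hm ▸ Nat.sub_one_dvd_pow_sub_one p m)
    have := Cfsg.Lib.Classical.PrimeDim.two_le_q hF
    omega
  have h4p2 : 4 ∣ p ^ 2 - 1 := by
    obtain ⟨j, hj⟩ := hpo
    refine ⟨j * j + j, ?_⟩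
    subst hj
    have : (2 * j + 1) ^ 2 = 4 * (j * j + j) + 1 := by ring
    omega
  rcases Nat.lt_or_ge 2 f with hlt | hge
  · exact hsub 2 two_pos ⟨m, hf2⟩ hlt (h4 ▸ h4p2)
  have hf2' : f = 2 := by omega
  have hcardR : Nat.card R = 2 ^ (2 + 2 * k) := by rw [hcard, h4, ← pow_mul, mul_comm k 2, pow_add]; rfl
  refine ⟨_, .sympType 2 R p 2 k (htype _ hcardR ?_) hN.absIrred hsim hrp
    ⟨hp, hchar, hf2' ▸ hF', by rw [← hZ, h4]; exact h4p2, fun d hd hde h => ?_⟩
    (Or.inr ⟨rfl, rfl, h4, hcardR⟩) hk, hleN⟩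
  · obtain ⟨z, hz⟩ := IsCyclic.exists_generator (α := Z)
    refine ⟨((z : R) : GL (Fin n) F), (z : R).2, ?_⟩
    rw [show (2 : ℕ) * Nat.gcd 2 2 = 4 from rfl, ← h4, ← orderOf_eq_card_of_forall_mem_zpowers hz, Subgroup.orderOf_coe,
      Subgroup.orderOf_coe]
  · obtain rfl : d = 1 := by omega
    exact hp14 (by rw [← hZ, h4] at h; exact h)

end Cfsg.Lib.Classical.Aschbacher
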